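import Cfsg.Agent.Lib.AutPOmega.FieldBase

/-!
The minus forms over a fixed field and its extension, and transport of centralisers and split counts.
-/

set_option autoImplicit false

namespace Cfsg.Agent.AutPOmega

open Matrix QuadraticMap
open Cfsg.Agent.Orth (qMinus sqc)
open Cfsg.Agent.Transvec (mv mv_mul mv_inj ext_mv)

universe u v

variable {m : ℕ} {F : Type u} [Field F] [Fintype F] {F₀ : Type v} [Field F₀] [Fintype F₀] (φ : F₀ →+* F)
  {a₀ b₀ : F₀}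

theorem par_minus {a b : F} (hab : ∀ z₁ z₂ : F, z₁ ^ 2 + a * z₁ * z₂ + b * z₂ ^ 2 = 0 → z₁ = 0 ∧ z₂ = 0)
    (hm : 3 ≤ m) : Par (qMinus F m a b) (fun g : GL ((Fin m ⊕ Fin m) ⊕ Fin 2) F =>
      Cfsg.PreservesSingularClassesMinus m a b (g : Matrix ((Fin m ⊕ Fin m) ⊕ Fin 2) ((Fin m ⊕ Fin m) ⊕ Fin 2) F)) where
  nondeg := Cfsg.Agent.Orth.qMinus_nondeg hab m
  seven := by simp; omega
  p_one := presM_one hab
  p_mul g h hg hh := by
    rw [Cfsg.Agent.Orth.coe_qMinus] at hg hh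
    exact presM_mul hab hg hh
  p_scal t := presM_scal hab t
  p_refl v r hv hr := by
    rw [Cfsg.Agent.Orth.coe_qMinus] at hr hv
    exact (presM_refl hab hv hr).2

theorem base_minus (hab₀ : ∀ z₁ z₂ : F₀, z₁ ^ 2 + a₀ * z₁ * z₂ + b₀ * z₂ ^ 2 = 0 → z₁ = 0 ∧ z₂ = 0)
    (hab : ∀ z₁ z₂ : F, z₁ ^ 2 + φ a₀ * z₁ * z₂ + φ b₀ * z₂ ^ 2 = 0 → z₁ = 0 ∧ z₂ = 0) (hm : 3 ≤ m) :
    Base (qMinus F m (φ a₀) (φ b₀))
      (fun g : GL ((Fin m ⊕ Fin m) ⊕ Fin 2) F => Cfsg.PreservesSingularClassesMinus m (φ a₀) (φ b₀)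
        (g : Matrix ((Fin m ⊕ Fin m) ⊕ Fin 2) ((Fin m ⊕ Fin m) ⊕ Fin 2) F))
      (qMinus F₀ m a₀ b₀)
      (fun g : GL ((Fin m ⊕ Fin m) ⊕ Fin 2) F₀ => Cfsg.PreservesSingularClassesMinus m a₀ b₀
        (g : Matrix ((Fin m ⊕ Fin m) ⊕ Fin 2) ((Fin m ⊕ Fin m) ⊕ Fin 2) F₀)) φ where
  par := par_minus hab hm
  par₀ := par_minus hab₀ hm
  compat := minus_compat φ
  mult c := by
    obtain ⟨z₀, z₁, g₀, hz, h1, h2, hv⟩ := exists_minus_mult (m := m) hab₀ c
    obtain ⟨g, -, hg, hgv⟩ := minus_mult_of (m := m) hab (Units.map φ.toMonoidHom c) (φ z₀) (φ z₁) (by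
      show _ = φ (c : F₀)
      rw [← hz]; simp)
    refine ⟨g₀, h1, h2, ?_⟩
    have e : Matrix.GeneralLinearGroup.map φ g₀ = g := Units.ext (Matrix.ext fun x y => by
      show φ ((g₀ : Matrix _ _ F₀) x y) = _
      have e₀ : (g₀ : Matrix ((Fin m ⊕ Fin m) ⊕ Fin 2) ((Fin m ⊕ Fin m) ⊕ Fin 2) F₀) x y =
          mv g₀ (Pi.single y 1) x := by simp [mv]
      have e₁ : (g : Matrix ((Fin m ⊕ Fin m) ⊕ Fin 2) ((Fin m ⊕ Fin m) ⊕ Fin 2) F) x y =
          mv g (Pi.single y 1) x := by simp [mv]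
      rw [e₀, e₁, hv, hgv]
      rcases x with (i | i) | i
      · simp [ext2, Pi.single_apply, apply_ite φ]
      · simp [ext2, Pi.single_apply, apply_ite φ]
      · fin_cases i <;> simp [ext2, Pi.single_apply, apply_ite φ])
    rw [e]
    exact hg

/-- In an odd-degree extension every square class comes from the fixed field. -/
theorem exists_sq_class {σ : F ≃+* F} (hfix : ∀ a, a ∈ φ.range ↔ σ a = a) (hodd : Odd (orderOf σ)) :
    ∀ x : F, x ≠ 0 → ∃ c : F₀ˣ, IsSquare (x * φ c) := by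
  intro x hx
  by_cases h2 : (2 : F) = 0
  · haveI : CharP F 2 := CharTwo.of_one_ne_zero_of_two_eq_zero one_ne_zero h2
    exact ⟨1, FiniteField.isSquare_of_char_two (ringChar.eq F 2) _⟩
  by_cases hsx : IsSquare x
  · exact ⟨1, by simpa using hsx⟩
  have h20 : (2 : F₀) ≠ 0 := fun e => h2 (by rw [← map_ofNat φ, e, map_zero])
  obtain ⟨c, hc⟩ : ∃ c : F₀, ¬ IsSquare c :=
    FiniteField.exists_nonsquare (fun h => h20 (by haveI := ringChar.of_eq h; exact CharTwo.two_eq_zero))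
  have hc0 : c ≠ 0 := fun e => hc (e ▸ IsSquare.zero)
  have hnsq : ¬ IsSquare (φ c) := by
    rintro ⟨t, ht⟩
    have ht2 : σ t * σ t = t * t := by rw [← map_mul, ← ht]; exact (hfix _).1 ⟨c, rfl⟩
    rcases mul_self_eq_mul_self_iff.1 ht2 with e | e
    · obtain ⟨b, rfl⟩ := (hfix t).2 e
      exact hc ⟨b, φ.injective (by rw [ht, map_mul])⟩
    · have hk : ∀ k : ℕ, (σ ^ k) t = (-1) ^ k * t := fun k => by
        induction k with
        | zero => simp
        | succ k ih => rw [pow_succ', RingAut.mul_apply, ih, map_mul, map_pow, map_neg, map_one, e]; ring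
      have h1 := hk (orderOf σ)
      rw [pow_orderOf_eq_one, hodd.neg_one_pow, RingAut.one_apply] at h1
      have ht0 : t = 0 := mul_left_cancel₀ h2 (by linear_combination h1)
      exact hc0 (φ.injective (by rw [ht, ht0, mul_zero, map_zero]))
  refine ⟨Units.mk0 c hc0, ?_⟩
  exact (Cfsg.Agent.Orth.isSquare_mul_nonsquare h2 hx ((map_ne_zero φ).2 hc0) hnsq).2 hsx

omit [Fintype F] [Fintype F₀] φ in
theorem centralizer_transport {X Y : Type*} [Group X] [Group Y] (E : X ≃* Y) (H : Subgroup X) (H' : Subgroup Y)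
    (h : ∀ y, E y ∈ H' ↔ y ∈ H) (x : X) :
    Nonempty (↥(H ⊓ Subgroup.centralizer {x}) ≃* ↥(H' ⊓ Subgroup.centralizer {E x})) := by
  have e : (H ⊓ Subgroup.centralizer {x}).map E.toMonoidHom = H' ⊓ Subgroup.centralizer {E x} := by
    ext y
    obtain ⟨z, rfl⟩ := E.surjective y
    simp only [Subgroup.mem_map, Subgroup.mem_inf, Subgroup.mem_centralizer_singleton_iff,
      MulEquiv.coe_toMonoidHom, h, EmbeddingLike.apply_eq_iff_eq, exists_eq_right]
    refine and_congr_right fun _ => ⟨fun e => by rw [← map_mul, e, map_mul], fun e => E.injective ?_⟩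
    rw [map_mul, map_mul, e]
  exact ⟨((H ⊓ Subgroup.centralizer {x}).equivMapOfInjective _ E.injective).trans (MulEquiv.subgroupCongr e)⟩

omit [Fintype F] [Fintype F₀] φ in
theorem splitClassCount_transport {X Y : Type*} [Group X] [Group Y] (E : X ≃* Y) (H K : Subgroup X)
    (H' K' : Subgroup Y) (h : ∀ y, E y ∈ H' ↔ y ∈ H) (k : ∀ y, E y ∈ K' ↔ y ∈ K) (x : X) :
    Cfsg.splitClassCount H K x = Cfsg.splitClassCount H' K' (E x) := by
  have hc : ∀ {S : Subgroup X} {S' : Subgroup Y}, (∀ y, E y ∈ S' ↔ y ∈ S) → ∀ a b,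
      Cfsg.IsConjUnder S a b ↔ Cfsg.IsConjUnder S' (E a) (E b) := by
    intro S S' hS a b
    constructor
    · rintro ⟨g, hg, rfl⟩
      exact ⟨E g, (hS g).2 hg, by simp⟩
    · rintro ⟨g, hg, e⟩
      obtain ⟨g, rfl⟩ := E.surjective g
      exact ⟨g, (hS g).1 hg, E.injective (by simpa using e)⟩
  exact Nat.card_congr (Quot.congr (E.toEquiv.subtypeEquiv fun y => hc h x y) fun a b => hc k a.1 b.1)

omit [Fintype F] [Fintype F₀] φ in
theorem congr_mem_inn {G G' : Type*} [Group G] [Group G'] (Ψ : G ≃* G') (y : MulAut G) :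
    MulAut.congr Ψ y ∈ Cfsg.Inn G' ↔ y ∈ Cfsg.Inn G := by
  have key : ∀ z : G, MulAut.congr Ψ (MulAut.conj z) = MulAut.conj (Ψ z) := fun z => MulEquiv.ext fun w => by
    show Ψ (z * Ψ.symm w * z⁻¹) = Ψ z * w * (Ψ z)⁻¹
    rw [map_mul, map_mul, map_inv, Ψ.apply_symm_apply]
  constructor
  · rintro ⟨z, hz⟩
    refine ⟨Ψ.symm z, (MulAut.congr Ψ).injective ?_⟩
    rw [key, Ψ.apply_symm_apply]
    exact hz
  · rintro ⟨z, rfl⟩
    exact ⟨Ψ z, (key z).symm⟩

end Cfsg.Agent.AutPOmega
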