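import Cfsg.Agent.Lib.AutPOmega.Involution
import Cfsg.Agent.Lib.AutPSL.Centralizer

/-!
Splitting of the classes of involutory similarity automorphisms outside the inner-diagonal group.
-/

set_option autoImplicit false

namespace Cfsg.Agent.AutPOmega

open Matrix Module QuadraticMap
open Cfsg.Agent.Orth (SpinVal SqCls sqc reflVal sgn)
open Cfsg.Agent.Transvec (mv mv_mul mv_inj mv_inv_mv mv_mv_inv ext_mv)
open Cfsg.Agent.Transvec.Orth (mem_isometry)

/-- The split count read in an abelian quotient. -/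
theorem split_index {X : Type*} [Group X] (H K : Subgroup X) [K.Normal] (hK : K ≤ H) (x : X)
    {A : Type*} [CommGroup A] (φ : H →* A) (hφ : Function.Surjective φ) (hker : φ.ker = K.subgroupOf H) :
    Cfsg.splitClassCount H K x = (((Subgroup.centralizer {x}).subgroupOf H).map φ).index := by
  obtain ⟨Z, hZ⟩ : ∃ Z, Z = ((Subgroup.centralizer {x}).subgroupOf H).map φ := ⟨_, rfl⟩
  rw [← hZ]
  have h := AutPSL.splitClassCount_eq (Q := A ⧸ Z) H.subtype K (by rw [Subgroup.range_subtype]; exact hK) x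
    ((QuotientGroup.mk' Z).comp φ) ((QuotientGroup.mk'_surjective Z).comp hφ) fun g => by
      rw [MonoidHom.comp_apply, QuotientGroup.mk'_apply, QuotientGroup.eq_one_iff, hZ, Subgroup.mem_map]
      constructor
      · rintro ⟨c, hc, e⟩
        refine ⟨g * c⁻¹, c, ?_, Subgroup.mem_centralizer_singleton_iff.1 hc, (inv_mul_cancel_right g c).symm⟩
        have : g * c⁻¹ ∈ φ.ker := by rw [MonoidHom.mem_ker, map_mul, map_inv, e, mul_inv_cancel]
        rwa [hker] at this
      · rintro ⟨s, c, hs, hc, rfl⟩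
        refine ⟨c, Subgroup.mem_centralizer_singleton_iff.2 hc, ?_⟩
        rw [map_mul, show φ s = 1 from MonoidHom.mem_ker.1 (hker.symm.le hs), one_mul]
  rw [Subgroup.range_subtype] at h
  rw [h]
  rfl

/-- Reflections in eigenvectors commute. -/
theorem refl_comm {ι : Type} [Fintype ι] [DecidableEq ι] {F : Type*} [Field F] (q : QuadraticForm F (ι → F))
    {g : GL ι F} {μ : F} (hμ : μ ≠ 0) (hg : ∀ v, q (mv g v) = μ * q v) (r r' : Cfsg.isometryGroup F (⇑q))
    (v : ι → F) (hr : ((r : GL ι F) : Matrix ι ι F) = Cfsg.reflectionMatrix (⇑q) v)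
    (hr' : ((r' : GL ι F) : Matrix ι ι F) = Cfsg.reflectionMatrix (⇑q) (mv g v)) :
    g * (r : GL ι F) * g⁻¹ = (r' : GL ι F) := by
  have hrv : ∀ (r : Cfsg.isometryGroup F (⇑q)) (v : ι → F),
      ((r : GL ι F) : Matrix ι ι F) = Cfsg.reflectionMatrix (⇑q) v →
      ∀ x, mv (r : GL ι F) x = x - (polar q x v / q v) • v := fun r v hr x => by
    show ((r : GL ι F) : Matrix ι ι F) *ᵥ x = _
    rw [hr, Cfsg.Agent.Orth.reflectionMatrix_mulVec]
  refine ext_mv fun x => ?_
  rw [mv_mul, mv_mul, hrv r v hr, hrv r' _ hr']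
  have hpol : polar q x (mv g v) = μ * polar q (mv g⁻¹ x) v := by
    conv_lhs => rw [← mv_mv_inv g x]
    simp only [polar, ← Cfsg.Agent.Transvec.mv_add, hg]
    ring
  rw [Cfsg.Agent.Transvec.mv_sub, Cfsg.Agent.Transvec.mv_smul, mv_mv_inv, hpol, hg, mul_div_mul_left _ _ hμ]

variable {ι : Type} [Fintype ι] [DecidableEq ι] {F : Type*} [Field F] [Fintype F]
  {q : QuadraticForm F (ι → F)} {P : GL ι F → Prop}

set_option quotPrecheck false in
local notation "POm" => Cfsg.POmega F (⇑q)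
set_option quotPrecheck false in
local notation "GOg" => Cfsg.Geo.quadSimilarityGroup (F := F) (⇑q)
set_option quotPrecheck false in
local notation "NegOmega" => (∃ g : Cfsg.isometryGroup F (⇑q),
  g ∈ Cfsg.Omega F (⇑q) ∧ ((g : GL ι F) : Matrix ι ι F) = -1)
set_option quotPrecheck false in
local notation "HDet" k:arg => (∀ c : Fˣ, ∃ g₀ : GL ι F, (∀ v, q (mv g₀ v) = (c : F) * q v) ∧ P g₀ ∧
  (g₀ : Matrix ι ι F).det = (c : F) ^ k)

variable (hE : EvenType q P)
include hE

/-- The determinant of an improper similarity. -/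
theorem EvenType.det_not_pres {k : ℕ} (hdet : HDet k) {g : GL ι F} {μ : Fˣ}
    (hg : ∀ v, q (mv g v) = (μ : F) * q v) (hP : ¬ P g) : (g : Matrix ι ι F).det = -((μ : F) ^ k) := by
  obtain ⟨χ, -, -, hrefl, hPar, -⟩ := hE.exists_spin
  obtain ⟨g₀, hg₀, hP₀, hd₀⟩ := hdet μ
  have hiso : g₀⁻¹ * g ∈ Cfsg.isometryGroup F (⇑q) := mem_isometry.2 fun z => by
    refine mul_left_cancel₀ μ.ne_zero ?_
    rw [← hg₀, ← mv_mul, mul_inv_cancel_left, hg]
  obtain ⟨u, hu⟩ : ∃ u : Cfsg.isometryGroup F (⇑q), (u : GL ι F) = g₀⁻¹ * g := ⟨⟨_, hiso⟩, rfl⟩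
  have e : g = g₀ * (u : GL ι F) := by rw [hu, mul_inv_cancel_left]
  have hPu : ¬ P (u : GL ι F) := fun h => hP (by
    rw [e, hE.p_mul _ _ (⟨μ, fun v => hg₀ v⟩) (isPair_iso u.2)]
    exact iff_of_true hP₀ h)
  have h1 := Cfsg.Agent.Orth.det_eq_sgn q hE.nondeg (Or.inr (by have := hE.seven; omega)) χ hrefl u
  rcases zmod2_cases (Multiplicative.toAdd (χ u).1) with h | h
  · exact absurd ((hPar u).1 (toAdd_eq_zero.1 h)) hPu
  · rw [h, sgn, if_neg one_ne_zero] at h1
    rw [e, Units.val_mul, Matrix.det_mul, hd₀, h1, mul_neg_one]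

omit hE in
theorem exists_l {γg : GL ι F} {μ : Fˣ} {l : Fˣ} (hg : ∀ v, q (mv γg v) = (μ : F) * q v)
    (hgg : γg * γg = scal l) (hne : ∃ v, q v ≠ 0) : (μ : F) = l ∨ (μ : F) = -l := by
  obtain ⟨v, hv⟩ := hne
  refine mul_self_eq_mul_self_iff.1 (mul_right_cancel₀ hv ?_)
  have h : q (mv γg (mv γg v)) = (μ : F) * ((μ : F) * q v) := by rw [hg, hg]
  rw [← mv_mul, hgg, scal_mv, QuadraticMap.map_smul, smul_eq_mul] at h
  linear_combination -h

/-- The two shapes of an improper similarity with scalar square. -/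
theorem EvenType.improper_shape {k : ℕ} (hn : Fintype.card ι = 2 * k) (hdet : HDet k) {g : GL ι F} {μ l : Fˣ}
    (hg : ∀ v, q (mv g v) = (μ : F) * q v) (hP : ¬ P g) (hgg : g * g = scal l) :
    (∃ (s : Fˣ) (g' : GL ι F), g = scal s * g' ∧ g' * g' = 1 ∧ (∀ v, q (mv g' v) = q v) ∧
      Odd (finrank F (eig g' 1)) ∧ Odd (finrank F (eig g' (-1)))) ∨
    (¬ IsSquare (l : F) ∧ μ = l ∧ Odd k) := by
  obtain ⟨v, hv⟩ := hE.exists_value_one
  have hμl := exists_l hg hgg ⟨v, by rw [hv]; exact one_ne_zero⟩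
  have hdg := hE.det_not_pres hdet hg hP
  by_cases hl : IsSquare (l : F)
  · left
    obtain ⟨s₀, hs⟩ := hl
    obtain ⟨s, rfl⟩ : ∃ s : Fˣ, (s : F) = s₀ :=
      ⟨Units.mk0 s₀ (fun e => l.ne_zero (by rw [hs, e, mul_zero])), rfl⟩
    have hls : l = s * s := Units.ext hs
    obtain ⟨g', hg'⟩ : ∃ g', g' = scal s⁻¹ * g := ⟨_, rfl⟩
    have hgs : g = scal s * g' := by rw [hg', ← mul_assoc, ← map_mul, mul_inv_cancel, map_one, one_mul]
    have hsq : g' * g' = 1 := by
      rw [hg', mul_assoc, ← mul_assoc g, ← scal_mul_comm, mul_assoc (scal s⁻¹), hgg, ← mul_assoc, ← map_mul, ← map_mul,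
        hls, show s⁻¹ * s⁻¹ * (s * s) = 1 by rw [mul_mul_mul_comm, inv_mul_cancel, one_mul], map_one]
    obtain ⟨hc, hd, hsum⟩ := eig_data hE.two hsq
    rw [hn] at hsum
    have hdet' : (g : Matrix ι ι F).det = (l : F) ^ k * (-1) ^ finrank F (eig g' (-1)) := by
      rw [hgs, Units.val_mul, Matrix.det_mul, hd]
      congr 1
      have := congrArg Units.val (det_scal (ι := ι) s)
      rw [hn, Units.val_pow_eq_pow_val] at this
      rw [hs, ← pow_two, ← pow_mul]
      exact this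
    have hval : ∀ v, q (mv g' v) = ((s : F) * s)⁻¹ * μ * q v := fun v => by
      rw [hg', mv_mul, scal_mv, QuadraticMap.map_smul, smul_eq_mul, hg, Units.val_inv_eq_inv_val, mul_inv]
      ring
    rw [hdg] at hdet'
    have hk0 : (l : F) ^ k ≠ 0 := pow_ne_zero _ l.ne_zero
    rcases hμl with e | e
    · rw [e] at hdet' hval
      have hiso : ∀ v, q (mv g' v) = q v := fun v => by
        rw [hval, ← hs, inv_mul_cancel₀ l.ne_zero, one_mul]
      have hbo : Odd (finrank F (eig g' (-1))) := by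
        by_contra h
        rw [(Nat.not_odd_iff_even.1 h).neg_one_pow, mul_one] at hdet'
        exact hE.two (mul_left_cancel₀ hk0 (by linear_combination -hdet'))
      refine ⟨s, g', hgs, hsq, hiso, ?_, hbo⟩
      obtain ⟨j, hj⟩ := hbo
      exact Nat.odd_iff.2 (by omega)
    · exfalso
      rw [e] at hdet' hval
      have hneg : ∀ v, q (mv g' v) = -q v := fun v => by
        rw [hval, ← hs, mul_neg, inv_mul_cancel₀ l.ne_zero, neg_one_mul]
      have hsing : ∀ ε : F, (ε = 1 ∨ ε = -1) → 2 * finrank F (eig g' ε) ≤ 2 * k := fun ε hε => by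
        rw [← hn, ← Module.finrank_fintype_fun_eq_card F]
        refine Cfsg.Agent.Orth.finrank_singular_le hE.nondeg fun w hw => ?_
        have h := hneg w
        rw [mem_eig.1 hw, QuadraticMap.map_smul, smul_eq_mul] at h
        exact (mul_eq_zero.1 (show (2 : F) * q w = 0 by rcases hε with rfl | rfl <;> linear_combination h)).resolve_left hE.two
      have h1 := hsing 1 (Or.inl rfl)
      have h2 := hsing (-1) (Or.inr rfl)
      have hb : finrank F (eig g' (-1)) = k := by omega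
      rw [hb, ← mul_pow, mul_neg_one] at hdet'
      have hk1 : (-(l : F)) ^ k ≠ 0 := pow_ne_zero _ (neg_ne_zero.2 l.ne_zero)
      exact hE.two (mul_left_cancel₀ hk1 (by linear_combination -hdet'))
  · right
    have hd := det_of_sq_eq hl (M := (g : Matrix ι ι F)) (by
      rw [← Units.val_mul, hgg]
      show Matrix.scalar ι (l : F) = _
      rw [Matrix.scalar_apply, Matrix.smul_one_eq_diagonal]) hn
    rw [hdg] at hd
    rcases hμl with e | e
    · refine ⟨hl, Units.ext e, ?_⟩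
      by_contra h
      rw [e, (Nat.not_odd_iff_even.1 h).neg_pow] at hd
      exact hE.two (mul_left_cancel₀ (pow_ne_zero k l.ne_zero) (by linear_combination -hd))
    · exfalso
      rw [e] at hd
      exact hE.two (mul_left_cancel₀ (pow_ne_zero k (neg_ne_zero.2 l.ne_zero)) (by linear_combination -hd))

/-- An element of the special isometries of non-trivial spinor norm commuting with the involution. -/
theorem EvenType.exists_commuting {k : ℕ} (hn : Fintype.card ι = 2 * k) (hdet : HDet k) {g : GL ι F} {μ l : Fˣ}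
    (hg : ∀ v, q (mv g v) = (μ : F) * q v) (hP : ¬ P g) (hgg : g * g = scal l)
    {χ : Cfsg.isometryGroup F (⇑q) →* SpinVal F}
    (hrefl : ∀ (g : Cfsg.isometryGroup F (⇑q)) (v : ι → F), q v ≠ 0 →
      ((g : GL ι F) : Matrix ι ι F) = Cfsg.reflectionMatrix (⇑q) v → χ g = reflVal q v) :
    ∃ h : Cfsg.isometryGroup F (⇑q), P (h : GL ι F) ∧ χ h ≠ 1 ∧ g * (h : GL ι F) = (h : GL ι F) * g := by
  have h7 := hE.seven
  have hP2 : ∀ (r r' : Cfsg.isometryGroup F (⇑q)) (v v' : ι → F), q v ≠ 0 → q v' ≠ 0 →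
      ((r : GL ι F) : Matrix ι ι F) = Cfsg.reflectionMatrix (⇑q) v →
      ((r' : GL ι F) : Matrix ι ι F) = Cfsg.reflectionMatrix (⇑q) v' → P ((r * r' : Cfsg.isometryGroup F (⇑q)) : GL ι F) :=
    fun r r' v v' hv hv' hr hr' => by
      rw [Subgroup.coe_mul, hE.p_mul _ _ (isPair_iso r.2) (isPair_iso r'.2)]
      exact iff_of_false (hE.p_refl v _ hv hr) (hE.p_refl v' _ hv' hr')
  rcases hE.improper_shape hn hdet hg hP hgg with ⟨s, g', hgs, hsq, hiso, hao, hbo⟩ | ⟨hl, rfl, -⟩
  · obtain ⟨-, -, hsum⟩ := eig_data hE.two hsq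
    obtain ⟨ε, hε, hdim⟩ : ∃ ε : F, (ε = 1 ∨ ε = -1) ∧ 2 ≤ finrank F (eig g' ε) := by
      by_contra hcon
      push Not at hcon
      have h1 := hcon 1 (Or.inl rfl)
      have h2 := hcon (-1) (Or.inr rfl)
      omega
    obtain ⟨-, hnd⟩ := eig_nondeg hE.nondeg hE.two hsq hiso hε
    obtain ⟨c₀, hc₀⟩ := FiniteField.exists_nonsquare (F := F) (fun h => hE.two (by
      haveI := ringChar.of_eq h; exact CharTwo.two_eq_zero))
    have hc0 : c₀ ≠ 0 := fun e => hc₀ (e ▸ IsSquare.zero)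
    obtain ⟨v, hv⟩ := Cfsg.Agent.Orth.exists_value hnd hdim 1
    obtain ⟨w, hw⟩ := Cfsg.Agent.Orth.exists_value hnd hdim c₀
    change q (v : ι → F) = 1 at hv
    change q (w : ι → F) = c₀ at hw
    obtain ⟨r, hr, -⟩ := Cfsg.Agent.Orth.exists_reflection q (v := (v : ι → F)) (by rw [hv]; exact one_ne_zero)
    obtain ⟨r', hr', -⟩ := Cfsg.Agent.Orth.exists_reflection q (v := (w : ι → F)) (by rw [hw]; exact hc0)
    refine ⟨r * r', hP2 r r' _ _ (by rw [hv]; exact one_ne_zero) (by rw [hw]; exact hc0) hr hr', ?_, ?_⟩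
    · rw [map_mul, hrefl r _ (by rw [hv]; exact one_ne_zero) hr, hrefl r' _ (by rw [hw]; exact hc0) hr']
      intro e
      have e2 : sqc F (q (v : ι → F)) * sqc F (q (w : ι → F)) = 1 := congrArg Prod.snd e
      rw [hv, hw, Cfsg.Agent.Orth.sqc_one, one_mul, Cfsg.Agent.Orth.sqc_eq_one_iff hc0] at e2
      exact hc₀ e2
    · have hcomm : ∀ (x : eig g' ε) (r : Cfsg.isometryGroup F (⇑q)),
          ((r : GL ι F) : Matrix ι ι F) = Cfsg.reflectionMatrix (⇑q) (x : ι → F) →
          g' * (r : GL ι F) = (r : GL ι F) * g' := fun x r hr => by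
        have hr2 : ((r : GL ι F) : Matrix ι ι F) = Cfsg.reflectionMatrix (⇑q) (mv g' (x : ι → F)) := by
          rw [mem_eig.1 x.2, hr]
          refine Matrix.ext_iff_mulVec.2 fun z => ?_
          rw [Cfsg.Agent.Orth.reflectionMatrix_mulVec, Cfsg.Agent.Orth.reflectionMatrix_mulVec,
            polar_smul_right, QuadraticMap.map_smul, smul_smul]
          rcases hε with rfl | rfl <;> simp [neg_div]
        exact mul_inv_eq_iff_eq_mul.1 (refl_comm q one_ne_zero (fun u => by rw [hiso, one_mul]) r r _ hr hr2)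
      rw [hgs, mul_assoc, Subgroup.coe_mul, ← mul_assoc g', hcomm v r hr, mul_assoc (r : GL ι F) g', hcomm w r' hr',
        ← mul_assoc, ← mul_assoc, scal_mul_comm, mul_assoc (r : GL ι F), scal_mul_comm, ← mul_assoc, ← mul_assoc]
  · obtain ⟨w, hw, hwg⟩ := exists_orth_image hE.nondeg hE.two h7 hl hgg hg
    have hwg0 : q (mv g w) ≠ 0 := by rw [hg]; exact mul_ne_zero μ.ne_zero hw
    obtain ⟨r, hr, -⟩ := Cfsg.Agent.Orth.exists_reflection q hw
    obtain ⟨r', hr', -⟩ := Cfsg.Agent.Orth.exists_reflection q hwg0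
    refine ⟨r * r', hP2 r r' _ _ hw hwg0 hr hr', ?_, ?_⟩
    · rw [map_mul, hrefl r _ hw hr, hrefl r' _ hwg0 hr']
      intro e
      have e2 : sqc F (q w) * sqc F (q (mv g w)) = 1 := congrArg Prod.snd e
      rw [hg, Cfsg.Agent.Orth.sqc_mul μ.ne_zero hw, ← mul_assoc, mul_comm (sqc F (q w)), mul_assoc,
        Cfsg.Agent.Orth.sqc_mul_self hw, mul_one, Cfsg.Agent.Orth.sqc_eq_one_iff μ.ne_zero] at e2
      exact hl e2
    · have hrv : ∀ (r : Cfsg.isometryGroup F (⇑q)) (v : ι → F),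
          ((r : GL ι F) : Matrix ι ι F) = Cfsg.reflectionMatrix (⇑q) v →
          ∀ x, mv (r : GL ι F) x = x - (polar q x v / q v) • v := fun r v hr x => by
        show ((r : GL ι F) : Matrix ι ι F) *ᵥ x = _
        rw [hr, Cfsg.Agent.Orth.reflectionMatrix_mulVec]
      have hr2 : ((r : GL ι F) : Matrix ι ι F) = Cfsg.reflectionMatrix (⇑q) (mv g (mv g w)) := by
        rw [hr, ← mv_mul, hgg, scal_mv]
        refine Matrix.ext_iff_mulVec.2 fun z => ?_
        rw [Cfsg.Agent.Orth.reflectionMatrix_mulVec, Cfsg.Agent.Orth.reflectionMatrix_mulVec,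
          polar_smul_right, QuadraticMap.map_smul, smul_smul, smul_eq_mul, smul_eq_mul]
        congr 2
        have := μ.ne_zero
        field_simp
      have c1 := mul_inv_eq_iff_eq_mul.1 (refl_comm q μ.ne_zero hg r r' _ hr hr')
      have c2 := mul_inv_eq_iff_eq_mul.1 (refl_comm q μ.ne_zero hg r' r _ hr' hr2)
      have c3 : (r' : GL ι F) * (r : GL ι F) = (r : GL ι F) * (r' : GL ι F) := ext_mv fun x => by
        have hp : polar q (mv g w) w = 0 := by rw [polar_comm]; exact hwg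
        rw [mv_mul, mv_mul, hrv r w hr, hrv r' _ hr', hrv r' _ hr', hrv r w hr, polar_sub_left, polar_sub_left,
          polar_smul_left, polar_smul_left, hp, hwg, smul_eq_mul, smul_eq_mul, mul_zero, mul_zero, sub_zero, sub_zero]
        abel
      rw [Subgroup.coe_mul, ← mul_assoc, c1, mul_assoc (r' : GL ι F), c2, ← mul_assoc, c3]

/-- Centralising elements of the inner-diagonal group have square multiplier. -/
theorem EvenType.sq_mult_of_comm {k : ℕ} (hn : Fintype.card ι = 2 * k) (hke : Even k) (hdet : HDet k)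
    {g : GL ι F} {μ l : Fˣ} (hg : ∀ v, q (mv g v) = (μ : F) * q v) (hP : ¬ P g) (hgg : g * g = scal l)
    {h : GL ι F} {c t : Fˣ} (hh : ∀ v, q (mv h v) = (c : F) * q v) (hc : h * g = scal t * (g * h)) :
    IsSquare (c : F) := by
  rcases hE.improper_shape hn hdet hg hP hgg with ⟨s, g', hgs, hsq, hiso, hao, hbo⟩ | ⟨-, -, hko⟩
  swap
  · exact absurd hke (Nat.not_even_iff_odd.2 hko)
  have hc' : ∀ x, mv h (mv g' x) = (t : F) • mv g' (mv h x) := fun x => by
    have e := congrArg (fun G => mv G x) hc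
    simp only [mv_mul, hgs, scal_mv, Cfsg.Agent.Transvec.mv_smul] at e
    exact smul_right_injective _ s.ne_zero e
  obtain ⟨v₀, hv₀⟩ := hE.exists_value_one
  have ht : (t : F) = 1 ∨ (t : F) = -1 := by
    refine mul_self_eq_one_iff.1 ?_
    have e := congrArg q (hc' v₀)
    rw [hh, hiso, QuadraticMap.map_smul, smul_eq_mul, hiso, hh, hv₀, mul_one] at e
    exact mul_right_cancel₀ c.ne_zero (by linear_combination -e)
  have hmap : ∀ ε : F, ∀ x ∈ eig g' ε, mv h x ∈ eig g' ((t : F) * ε) := fun ε x hx => by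
    rw [mem_eig]
    have e := hc' x
    rw [mem_eig.1 hx, Cfsg.Agent.Transvec.mv_smul] at e
    rw [mul_smul, e, smul_smul, show (t : F) * t = 1 by rcases ht with h | h <;> rw [h] <;> ring, one_smul]
  obtain ⟨-, -, hsum⟩ := eig_data hE.two hsq
  rcases ht with e | e
  · rw [e] at hmap
    simp only [one_mul] at hmap
    obtain ⟨-, hnd⟩ := eig_nondeg hE.nondeg hE.two hsq hiso (Or.inl rfl : (1 : F) = 1 ∨ (1 : F) = -1)
    let L : eig g' 1 →ₗ[F] eig g' 1 :=
      { toFun := fun x => ⟨mv h x, hmap 1 x x.2⟩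
        map_add' := fun x y => Subtype.ext (Cfsg.Agent.Transvec.mv_add h x y)
        map_smul' := fun a x => Subtype.ext (Cfsg.Agent.Transvec.mv_smul h a x) }
    have hsqp := isSquare_mult_pow hnd L (c := (c : F)) fun x y => by
      show polar (⇑(q.comp (eig g' 1).subtype)) (L x) (L y) = (c : F) * polar (⇑(q.comp (eig g' 1).subtype)) x y
      simp only [polar, QuadraticMap.comp_apply, map_add, Submodule.coe_subtype]
      show q (mv h x + mv h y) - q (mv h x) - q (mv h y) = _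
      rw [← Cfsg.Agent.Transvec.mv_add, hh, hh, hh]
      ring
    obtain ⟨j, hj⟩ := hao
    obtain ⟨d, hd⟩ := hsqp
    refine ⟨d / (c : F) ^ j, ?_⟩
    rw [hj, pow_succ, pow_mul', pow_two] at hd
    have := pow_ne_zero j c.ne_zero
    field_simp
    linear_combination hd
  · exfalso
    have hle : ∀ ε : F, finrank F (eig g' ε) ≤ finrank F (eig g' ((t : F) * ε)) := fun ε => by
      refine LinearMap.finrank_le_finrank_of_injective (f :=
        ({ toFun := fun x => ⟨mv h x, hmap ε x x.2⟩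
           map_add' := fun x y => Subtype.ext (Cfsg.Agent.Transvec.mv_add h x y)
           map_smul' := fun a x => Subtype.ext (Cfsg.Agent.Transvec.mv_smul h a x) } :
          eig g' ε →ₗ[F] eig g' ((t : F) * ε))) fun x y e => Subtype.ext (mv_inj h (congrArg Subtype.val e))
    have h1 := hle 1
    have h2 := hle (-1)
    rw [e] at h1 h2
    rw [mul_one] at h1
    rw [neg_mul_neg, one_mul] at h2
    obtain ⟨j, hj⟩ := hbo
    obtain ⟨i, hi⟩ := hke
    omega

end Cfsg.Agent.AutPOmega
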