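import Cfsg.Agent.Lib.AutPOmega.CosetEven
import Cfsg.Agent.Lib.AutPSL.Centralizer

/-!
Field and graph-field automorphisms of the even-dimensional orthogonal groups in semilinear form.
-/

set_option autoImplicit false

namespace Cfsg.Agent.AutPOmega

open Matrix QuadraticMap
open Cfsg.Agent.Orth (qPlus qMinus qBin qPad)
open Cfsg.Agent.Transvec (mv mv_mul mv_inj mv_inv_mv mv_mv_inv)

section General

variable {ι : Type} [Fintype ι] [DecidableEq ι] {F : Type*} [Field F] [Finite F] {Q : (ι → F) → F}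
  (hQ : Geo.IsNondegenerateQuadraticForm Q) (h7 : 7 ≤ Fintype.card ι)
include hQ h7

/-- The field component is a conjugation invariant. -/
theorem field_component {g u : GL ι F} {τ σ σ' : F ≃+* F} {h : GL ι F}
    (hh : Cfsg.IsSemisimilarityPair Q h τ) (hg : Cfsg.IsSemisimilarityPair Q g σ)
    (hu : Cfsg.IsSemisimilarityPair Q u σ')
    (e : semi h τ hh * semi g σ hg * (semi h τ hh)⁻¹ = semi u σ' hu) : σ = σ' := by
  letI := Fintype.ofFinite F
  rw [mul_inv_eq_iff_eq_mul, semi_mul, semi_mul] at e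
  have h1 := (semi_eq_semi hQ h7 _ _ e).1
  rw [AutPSL.ringAut_comm σ' τ] at h1
  exact mul_left_cancel h1

theorem orderOf_field {g : GL ι F} {σ : F ≃+* F} (hg : Cfsg.IsSemisimilarityPair Q g σ) {r : ℕ}
    (hr : r.Prime) (hxr : orderOf (semi g σ hg) = r) (hσ : σ ≠ 1) : orderOf σ = r := by
  obtain ⟨p, hp⟩ := CharP.exists F
  haveI : Fact p.Prime := ⟨CharP.char_is_prime F p⟩
  haveI : Fact r.Prime := ⟨hr⟩
  obtain ⟨hG, e⟩ := semi_pow hg r
  have h1 : semi g σ hg ^ r = 1 := by rw [← hxr, pow_orderOf_eq_one]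
  exact orderOf_eq_prime (semi_eq_one_imp hQ h7 p hG (e.symm.trans h1)).1 hσ

omit hQ h7

/-- The linear part of a semisimilarity is a similarity when the form is defined over the fixed field. -/
theorem pair_linear {g : GL ι F} {σ : F ≃+* F} (hg : Cfsg.IsSemisimilarityPair Q g σ)
    (h : Cfsg.IsSemisimilarityPair Q (1 : GL ι F) σ⁻¹) : Cfsg.IsSemisimilarityPair Q g 1 := by
  simpa using isPair_comp hg h

omit [Finite F] in
/-- The matrix of a linear bijection. -/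
theorem exists_mv_of_equiv (E : (ι → F) ≃ₗ[F] (ι → F)) : ∃ R : GL ι F, ∀ v, mv R v = E v :=
  ⟨⟨LinearMap.toMatrix' (E : (ι → F) →ₗ[F] (ι → F)), LinearMap.toMatrix' (E.symm : (ι → F) →ₗ[F] (ι → F)),
    by rw [← LinearMap.toMatrix'_comp]; simp, by rw [← LinearMap.toMatrix'_comp]; simp⟩,
   fun v => LinearMap.toMatrix'_mulVec _ v⟩

end General

section Plus

variable {m : ℕ} {F : Type*} [Field F] [Fintype F]

local notation "Qp" => Cfsg.quadFormPlus m F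
local notation "POm" => Cfsg.POmega F (Cfsg.quadFormPlus m F)

/-- Both kinds of automorphisms in semilinear form. -/
theorem exists_semi_of_class (hm : 5 ≤ m) {x : MulAut POm}
    (hx : Cfsg.IsFieldAutClassPOmega Qp x ∨ Cfsg.IsGraphFieldAutClassPOmegaPlus m x) {r : ℕ} (hr : r.Prime)
    (hxr : orderOf x = r) :
    ∃ (g : GL (Fin m ⊕ Fin m) F) (σ : F ≃+* F) (hg : Cfsg.IsSemisimilarityPair Qp g σ),
      x = semi g σ hg ∧ orderOf σ = r ∧ Cfsg.IsSemisimilarityPair Qp g 1 := by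
  have h7 : 7 ≤ Fintype.card (Fin m ⊕ Fin m) := by simp; omega
  obtain ⟨p, hp⟩ := CharP.exists F
  haveI : Fact p.Prime := ⟨CharP.char_is_prime F p⟩
  obtain ⟨u, σ', hu, α, hσ', hαx⟩ : ∃ (u : GL (Fin m ⊕ Fin m) F) (σ' : F ≃+* F)
      (hu : Cfsg.IsSemisimilarityPair Qp u σ') (α : MulAut POm), σ' ≠ 1 ∧ α * x * α⁻¹ = semi u σ' hu := by
    rcases hx with ⟨α, φ, σ', hσ', hφ, e⟩ | ⟨α, γ, φ, σ', v, ρ, hσ', hv, -, hρ, hγ, hφ, e⟩
    · refine ⟨1, σ', isPair_field_plus σ', α, hσ', ?_⟩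
      rw [e]
      exact semi_eq_of_induced _ fun s s' hs => hφ s s' (by simpa using hs)
    · obtain ⟨hρp, -⟩ := presP_refl hv hρ
      refine ⟨ρ * mapGL 1 1, 1 * σ', isPair_comp hρp (isPair_field_plus σ'), α, by rw [one_mul]; exact hσ', ?_⟩
      rw [e, ← semi_mul hρp (isPair_field_plus σ'), semi_eq_of_induced hρp hγ,
        semi_eq_of_induced (isPair_field_plus σ') fun s s' hs => hφ s s' (by simpa using hs)]
  have hD : 9 ≤ Fintype.card (Fin m ⊕ Fin m) ∨ ∀ U : Submodule F (Fin m ⊕ Fin m → F),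
      (∀ x ∈ U, Qp x = 0) → Module.finrank F U ≤ 3 := Or.inl (by simp; omega)
  obtain ⟨g, σ, hg, rfl⟩ := exists_semi (geo_plus m) h7 p hD x
  obtain ⟨h, τ, hh, rfl⟩ := exists_semi (geo_plus m) h7 p hD α
  obtain rfl := field_component (geo_plus m) h7 hh hg hu hαx
  exact ⟨g, σ, hg, rfl, orderOf_field (geo_plus m) h7 hg hr hxr hσ',
    pair_linear hg (isPair_field_plus σ⁻¹)⟩

/-- Elements of the coset of the given order are conjugate to the automorphism. -/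
theorem plus_coset_conj (hm : 4 ≤ m) {g g' : GL (Fin m ⊕ Fin m) F} {σ : F ≃+* F}
    (hg : Cfsg.IsSemisimilarityPair Qp g σ) (hg' : Cfsg.IsSemisimilarityPair Qp g' σ)
    (h : semi g σ hg ^ orderOf σ = 1) (h' : semi g' σ hg' ^ orderOf σ = 1)
    (hpar : Cfsg.PreservesSingularClasses Qp (g : Matrix (Fin m ⊕ Fin m) (Fin m ⊕ Fin m) F) ↔
      Cfsg.PreservesSingularClasses Qp (g' : Matrix (Fin m ⊕ Fin m) (Fin m ⊕ Fin m) F)) :
    Cfsg.IsConjUnder (Cfsg.inndiagPOmegaPlus m F) (semi g σ hg) (semi g' σ hg') := by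
  have h7 : 7 ≤ Fintype.card (Fin m ⊕ Fin m) := by simp; omega
  obtain ⟨c, hc⟩ := tw_scalar (geo_plus m) h7 hg h
  obtain ⟨c', hc'⟩ := tw_scalar (geo_plus m) h7 hg' h'
  obtain ⟨K, hK, -⟩ := AutPSL.exists_fixed_field σ
  obtain ⟨N, s, hN, hNp, e⟩ := plus_twisted (by omega) hK (pair_linear hg (isPair_field_plus σ⁻¹))
    (pair_linear hg' (isPair_field_plus σ⁻¹)) hc hc' hpar
  refine ⟨semi N 1 hN, mem_inndiag_plus.2 ⟨N, hN, hNp, rfl⟩, ?_⟩
  exact semi_conj_of_twisted hg hg' hN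
    (by rw [← Cfsg.Agent.Orth.coe_qPlus]; exact isPair_scal s) e

end Plus

section Minus

universe u

variable {m : ℕ} {F : Type u} [Field F] [Fintype F] {a b a' b' : F}

local notation "Jv" => (Fin m ⊕ Fin m) ⊕ Fin 2
local notation "Qm" => Cfsg.quadFormMinus m F a b
local notation "Qm'" => Cfsg.quadFormMinus m F a' b'

variable (hab : ∀ z₁ z₂ : F, z₁ ^ 2 + a * z₁ * z₂ + b * z₂ ^ 2 = 0 → z₁ = 0 ∧ z₂ = 0)
  (hab' : ∀ z₁ z₂ : F, z₁ ^ 2 + a' * z₁ * z₂ + b' * z₂ ^ 2 = 0 → z₁ = 0 ∧ z₂ = 0)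
include hab hab'

/-- Two minus forms give isomorphic groups with corresponding inner-diagonal groups. -/
theorem exists_minus_transport :
    ∃ Ψ : Cfsg.POmega F Qm ≃* Cfsg.POmega F Qm',
      ∀ y, MulAut.congr Ψ y ∈ Cfsg.inndiagPOmegaMinus m F a' b' ↔ y ∈ Cfsg.inndiagPOmegaMinus m F a b := by
  obtain ⟨e₂, he₂⟩ := exists_bin_equiv hab hab'
  obtain ⟨E, hE⟩ := Cfsg.Agent.LBQuad.exists_padCongr (k := m) e₂ he₂
  obtain ⟨R, hR⟩ := exists_mv_of_equiv E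
  have hRQ : ∀ v, Qm' (mv R v) = 1 * Qm v := fun v => by
    rw [one_mul, hR, ← Cfsg.Agent.Orth.coe_qMinus, ← Cfsg.Agent.Orth.coe_qMinus, qMinus, qMinus]
    exact (hE v).symm
  obtain ⟨Ψ, hΨ⟩ := exists_transport one_ne_zero hRQ
  refine ⟨Ψ, fun y => ?_⟩
  have hsim : ∀ g : GL Jv F, Cfsg.IsSemisimilarityPair Qm g 1 →
      Cfsg.IsSemisimilarityPair Qm' (R * g * R⁻¹) 1 := fun g hg => by
    obtain ⟨c, hc⟩ := hg
    refine ⟨c, fun v => ?_⟩
    show Qm' (mv (R * g * R⁻¹) v) = (c : F) * Qm' v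
    rw [mv_mul, mv_mul, hRQ, one_mul, show Qm (mv g (mv R⁻¹ v)) = c * Qm (mv R⁻¹ v) from hc _]
    conv_rhs => rw [← mv_mv_inv R v, hRQ, one_mul]
  have hpres : ∀ (g : GL Jv F) (hg : Cfsg.IsSemisimilarityPair Qm g 1),
      Cfsg.PreservesSingularClassesMinus m a' b' ((R * g * R⁻¹ : GL Jv F) : Matrix Jv Jv F) ↔
        Cfsg.PreservesSingularClassesMinus m a b (g : Matrix Jv Jv F) := fun g hg => by
    have := presM_conj hab hab' (h := R) (g := g) (τ := 1) (c := 1)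
      (fun v => by show Qm' (mv R v) = _; exact hRQ v) hg (by rw [mapGL_one]; exact hsim g hg)
    rwa [mapGL_one] at this
  have hC : ∀ (g : GL Jv F) (hg : Cfsg.IsSemisimilarityPair Qm g 1),
      MulAut.congr Ψ (semi g 1 hg) = semi (R * g * R⁻¹) 1 (hsim g hg) := fun g hg => MulEquiv.ext fun z => by
    show Ψ (semi g 1 hg (Ψ.symm z)) = _
    rw [hΨ g (R * g * R⁻¹) 1 hg (hsim g hg) (by rw [mapGL_one, inv_mul_cancel_right]), Ψ.apply_symm_apply]
  constructor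
  · intro h
    obtain ⟨g', hg', hP, e⟩ := (mem_inndiag_minus hab').1 h
    obtain ⟨g, rfl⟩ : ∃ g, R * g * R⁻¹ = g' := ⟨R⁻¹ * g' * R, by group⟩
    have hg : Cfsg.IsSemisimilarityPair Qm g 1 := by
      obtain ⟨c, hc⟩ := hg'
      refine ⟨c, fun v => ?_⟩
      have := hc (mv R v)
      change Qm' (mv (R * g * R⁻¹) (mv R v)) = (c : F) * Qm' (mv R v) at this
      rw [← mv_mul, inv_mul_cancel_right, mv_mul, hRQ, hRQ, one_mul, one_mul] at this
      exact this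
    exact (mem_inndiag_minus hab).2 ⟨g, hg, (hpres g hg).1 hP,
      (MulAut.congr Ψ).injective (e.trans (hC g hg).symm)⟩
  · intro h
    obtain ⟨g, hg, hP, rfl⟩ := (mem_inndiag_minus hab).1 h
    exact (mem_inndiag_minus hab').2 ⟨_, hsim g hg, (hpres g hg).2 hP, hC g hg⟩

omit hab hab'

/-- A field automorphism is semilinear on a transported copy of the group. -/
theorem exists_semi_of_classMinus (hm : 3 ≤ m)
    (hab : ∀ z₁ z₂ : F, z₁ ^ 2 + a * z₁ * z₂ + b * z₂ ^ 2 = 0 → z₁ = 0 ∧ z₂ = 0)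
    {x : MulAut (Cfsg.POmega F Qm)} (hx : Cfsg.IsFieldAutClassPOmegaMinus m x) {r : ℕ} (hr : r.Prime)
    (hxr : orderOf x = r) :
    ∃ (a' b' : F) (_ : ∀ z₁ z₂ : F, z₁ ^ 2 + a' * z₁ * z₂ + b' * z₂ ^ 2 = 0 → z₁ = 0 ∧ z₂ = 0)
      (σ : F ≃+* F) (_ : σ a' = a') (_ : σ b' = b')
      (Ψ : Cfsg.POmega F Qm ≃* Cfsg.POmega F (Cfsg.quadFormMinus m F a' b')) (g : GL Jv F)
      (hg : Cfsg.IsSemisimilarityPair (Cfsg.quadFormMinus m F a' b') g σ),
      orderOf σ = r ∧ Odd r ∧ MulAut.congr Ψ x = semi g σ hg ∧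
      ∀ y, MulAut.congr Ψ y ∈ Cfsg.inndiagPOmegaMinus m F a' b' ↔ y ∈ Cfsg.inndiagPOmegaMinus m F a b := by
  obtain ⟨a', b', ψ, σ, hab', hσ, ha, hb, hφ⟩ := hx
  have h7 : 7 ≤ Fintype.card Jv := by simp; omega
  obtain ⟨p, hp⟩ := CharP.exists F
  haveI : Fact p.Prime := ⟨CharP.char_is_prime F p⟩
  obtain ⟨Ψ, hΨ⟩ := exists_minus_transport (m := m) hab hab'
  have hs1 : Cfsg.IsSemisimilarityPair (Cfsg.quadFormMinus m F a' b') (1 : GL Jv F) σ := ⟨1, fun v => by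
    rw [Units.val_one, Matrix.one_mulVec, Units.val_one, one_mul]
    have := minus_quad_map (m := m) (a := a') (b := b') σ.toRingHom v
    simpa [ha, hb, Function.comp_def] using this⟩
  have hθ := semi_eq_of_induced hs1 (β := (ψ.symm.trans x).trans ψ) fun s s' hs => hφ s s' (by simpa using hs)
  obtain ⟨θ, hθdef⟩ : ∃ θ : MulAut (Cfsg.POmega F (Cfsg.quadFormMinus m F a' b')), θ = ψ.symm.trans Ψ := ⟨_, rfl⟩
  have hconj : MulAut.congr Ψ x = θ * semi 1 σ hs1 * θ⁻¹ := by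
    rw [← hθ, hθdef]
    refine MulEquiv.ext fun z => ?_
    show Ψ (x (Ψ.symm z)) = Ψ (ψ.symm (ψ (x (ψ.symm (ψ (Ψ.symm z))))))
    rw [ψ.symm_apply_apply, ψ.symm_apply_apply]
  have hord : orderOf (MulAut.congr Ψ x) = r := by rw [MulEquiv.orderOf_eq, hxr]
  obtain ⟨g, σ₁, hg, hgx⟩ := exists_semi (geo_minus hab' m) h7 p (hD_minus hab' hm) (MulAut.congr Ψ x)
  obtain ⟨h, τ, hh, hθ'⟩ := exists_semi (geo_minus hab' m) h7 p (hD_minus hab' hm) θ⁻¹
  have e : semi h τ hh * semi g σ₁ hg * (semi h τ hh)⁻¹ = semi 1 σ hs1 := by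
    rw [← hgx, hconj, ← hθ']; group
  obtain rfl := field_component (geo_minus hab' m) h7 hh hg hs1 e
  have ho := orderOf_field (geo_minus hab' m) h7 hg hr (hgx ▸ hord) hσ
  exact ⟨a', b', hab', σ₁, ha, hb, Ψ, g, hg, ho, ho ▸ odd_of_fixed hab' ha hb, hgx, hΨ⟩

/-- Elements of the coset of the given order are conjugate to the automorphism. -/
theorem minus_coset_conj (hm : 3 ≤ m)
    (hab : ∀ z₁ z₂ : F, z₁ ^ 2 + a * z₁ * z₂ + b * z₂ ^ 2 = 0 → z₁ = 0 ∧ z₂ = 0)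
    {g g' : GL Jv F} {σ : F ≃+* F} (ha : σ a = a) (hb : σ b = b)
    (hg : Cfsg.IsSemisimilarityPair Qm g σ) (hg' : Cfsg.IsSemisimilarityPair Qm g' σ)
    (h : semi g σ hg ^ orderOf σ = 1) (h' : semi g' σ hg' ^ orderOf σ = 1) :
    Cfsg.IsConjUnder (Cfsg.inndiagPOmegaMinus m F a b) (semi g σ hg) (semi g' σ hg') := by
  have h7 : 7 ≤ Fintype.card Jv := by simp; omega
  obtain ⟨c, hc⟩ := tw_scalar (geo_minus hab m) h7 hg h
  obtain ⟨c', hc'⟩ := tw_scalar (geo_minus hab m) h7 hg' h'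
  obtain ⟨K, hK, -⟩ := AutPSL.exists_fixed_field σ
  have hfix : Cfsg.IsSemisimilarityPair Qm (1 : GL Jv F) σ⁻¹ := ⟨1, fun v => by
    rw [Units.val_one, Matrix.one_mulVec, Units.val_one, one_mul]
    have := minus_quad_map (m := m) (a := a) (b := b) (σ⁻¹ : F ≃+* F).toRingHom v
    have ha' : (σ⁻¹ : F ≃+* F) a = a := σ.symm_apply_eq.2 ha.symm
    have hb' : (σ⁻¹ : F ≃+* F) b = b := σ.symm_apply_eq.2 hb.symm
    simpa [ha', hb', Function.comp_def] using this⟩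
  obtain ⟨N, s, hN, hNp, e⟩ := minus_twisted hK hab ha hb (pair_linear hg hfix) (pair_linear hg' hfix) hc hc'
  refine ⟨semi N 1 hN, (mem_inndiag_minus hab).2 ⟨N, hN, hNp, rfl⟩, ?_⟩
  exact semi_conj_of_twisted hg hg' hN
    (by rw [← Cfsg.Agent.Orth.coe_qMinus]; exact isPair_scal s) e

end Minus

end Cfsg.Agent.AutPOmega
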