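import Cfsg.Agent.Lib.AutPOmega.OutEven

/-!
The outer automorphism group of the minus type groups in odd characteristic.
-/

set_option autoImplicit false

namespace Cfsg.Agent.AutPOmega

open Matrix QuadraticMap
open Cfsg.Agent.Orth (qMinus)
open Cfsg.Agent.Transvec (mv mv_mul mv_inj mv_inv_mv mv_mv_inv ext_mv)

variable {F : Type*} [Field F] [Fintype F] {j : ℕ} {a b : F}
  (hab : ∀ z₁ z₂ : F, z₁ ^ 2 + a * z₁ * z₂ + b * z₂ ^ 2 = 0 → z₁ = 0 ∧ z₂ = 0)

local notation "Jv" => (Fin j ⊕ Fin j) ⊕ Fin 2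

include hab

/-- A semisimilarity over the Frobenius whose `f`-th power is a reflection, for even `f`. -/
theorem exists_frob_refl {p f : ℕ} [Fact p.Prime] (hp : p ≠ 2) (hF : Fintype.card F = p ^ f) (hfe : Even f) :
    ∃ (g : GL Jv F) (φ : F ≃+* F) (hg : Cfsg.IsSemisimilarityPair (⇑(qMinus F j a b)) g φ) (v : Jv → F)
      (G : GL Jv F) (hG : Cfsg.IsSemisimilarityPair (⇑(qMinus F j a b)) G 1),
      (∀ τ : F ≃+* F, ∃ k : ℕ, φ ^ k = τ) ∧ qMinus F j a b v ≠ 0 ∧
      (G : Matrix Jv Jv F) = Cfsg.reflectionMatrix (⇑(qMinus F j a b)) v ∧ semi g φ hg ^ f = semi G 1 hG := by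
  obtain ⟨hpr⟩ := ‹Fact p.Prime›
  have hpodd : Odd p := hpr.odd_of_ne_two hp
  have hodd : Odd (Fintype.card F) := hF ▸ hpodd.pow
  have h2 : (2 : F) ≠ 0 := Cfsg.Agent.Orth.two_ne_zero_of_odd hodd
  haveI : CharP F p := charP_of_card_eq_prime_pow (R := F) hF
  have hch : ringChar F ≠ 2 := fun h => h2 (by haveI := ringChar.of_eq h; exact CharTwo.two_eq_zero)
  obtain ⟨φ, hφ, hord, hgen⟩ := exists_frob (F := F) p f hF
  obtain ⟨d, hd⟩ : ∃ d, d = 4 * b - a ^ 2 := ⟨_, rfl⟩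
  have hd0 : d ≠ 0 := fun e => Cfsg.Agent.Orth.disc_ne hab (by linear_combination hd - e)
  obtain ⟨e, he⟩ : ∃ e, p = 2 * e + 1 := id hpodd
  obtain ⟨s, hs⟩ : ∃ s, s = d ^ e := ⟨_, rfl⟩
  have hs2 : s * s * d = φ d := by rw [hs, hφ, he]; ring
  have h4 : (4 : F) ≠ 0 := fun e => h2 (mul_self_eq_zero.1 (by linear_combination e))
  obtain ⟨r, hr⟩ : ∃ r, r = (φ a - a * s) / 2 := ⟨_, rfl⟩
  have hr2 : 2 * r = φ a - a * s := by rw [hr, mul_div_cancel₀ _ h2]
  have hφd : φ d = 4 * φ b - φ a ^ 2 := by rw [hd, map_sub, map_mul, map_pow, map_ofNat]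
  obtain ⟨g, hg, hgv⟩ := exists_pair_of_binary (j := j) hab φ one_ne_zero 1 r 0 s fun X Y => by
    refine mul_left_cancel₀ h4 ?_
    linear_combination (4 * X * Y + Y ^ 2 * (2 * r + φ a + a * s)) * hr2 +
      Y ^ 2 * hs2 + Y ^ 2 * hφd - Y ^ 2 * s ^ 2 * hd
  obtain ⟨G, hG, e1, e2⟩ := semi_iterate hg f
  have hφf : φ ^ f = 1 := hord ▸ pow_orderOf_eq_one φ
  have hiter : ∀ (k : ℕ) (w : Jv → F),
      (∀ i, (sm g φ)^[k] w (.inl i) = (φ ^ k) (w (.inl i))) ∧
      (sm g φ)^[k] w (.inr 1) = d ^ ((p ^ k - 1) / 2) * (φ ^ k) (w (.inr 1)) ∧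
      2 * (sm g φ)^[k] w (.inr 0) + a * (sm g φ)^[k] w (.inr 1) =
        (φ ^ k) (2 * w (.inr 0) + a * w (.inr 1)) := by
    intro k w
    induction k with
    | zero => simp
    | succ k ih =>
      obtain ⟨i1, i2, i3⟩ := ih
      rw [Function.iterate_succ_apply']
      obtain ⟨u, hu⟩ : ∃ u, u = (sm g φ)^[k] w := ⟨_, rfl⟩
      rw [← hu] at i1 i2 i3 ⊢
      obtain ⟨-, hv⟩ := hgv u
      have hexp : (p ^ (k + 1) - 1) / 2 = e + p * ((p ^ k - 1) / 2) := by
        obtain ⟨t, ht⟩ : ∃ t, p ^ k = 2 * t + 1 := ⟨p ^ k / 2, by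
          have := (hpodd.pow (n := k)); obtain ⟨t, ht⟩ := this; omega⟩
        rw [pow_succ, ht, show (2 * t + 1) * p = 2 * (e + p * t) + 1 by rw [he]; ring,
          Nat.add_sub_cancel, Nat.add_sub_cancel, Nat.mul_div_cancel_left _ two_pos,
          Nat.mul_div_cancel_left _ two_pos]
      refine ⟨fun i => ?_, ?_, ?_⟩
      · rw [hv, pow_succ', RingAut.mul_apply, ← i1]
        rcases i with i | i <;> simp [ext2]
      · rw [hv, hexp, pow_succ' φ, RingAut.mul_apply]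
        simp only [ext2, show ((1 : Fin 2) = 0) = False by simp, if_false]
        rw [i2, map_mul, map_pow, hs, hφ d, ← pow_mul, pow_add]
        ring
      · rw [hv, pow_succ', RingAut.mul_apply, ← i3]
        simp only [ext2, show ((1 : Fin 2) = 0) = False by simp, if_false, if_true, map_add, map_mul, map_ofNat]
        linear_combination φ (u (.inr 1)) * hr2
  have hN : d ^ ((p ^ f - 1) / 2) = -1 := by
    have hns : ¬ IsSquare d := by
      obtain ⟨i, hi⟩ : IsSquare (-1 : F) := FiniteField.isSquare_neg_one_iff.2 (by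
        rw [hF]
        obtain ⟨c, rfl⟩ := hfe
        rw [← two_mul, pow_mul, he, show (2 * e + 1) ^ 2 = 4 * (e * e + e) + 1 by ring, Nat.pow_mod,
          Nat.mul_add_mod, Nat.one_mod, one_pow]
        norm_num)
      rintro ⟨t, ht⟩
      refine one_ne_zero (hab ((-a + i * t) / 2) 1 ?_).2
      field_simp
      linear_combination (-(t ^ 2)) * hi - hd + ht
    have hdiv : (p ^ f - 1) / 2 = Fintype.card F / 2 := by
      rw [hF]; obtain ⟨t, ht⟩ : Odd (p ^ f) := hpodd.pow; omega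
    rcases FiniteField.pow_dichotomy hch hd0 with h | h
    · exact absurd ((FiniteField.isSquare_iff hch hd0).2 h) hns
    · rw [hdiv, h]
  obtain ⟨v, hv⟩ : ∃ v : Jv → F, v = Sum.elim (0 : Fin j ⊕ Fin j → F) ![-(a / 2), 1] := ⟨_, rfl⟩
  have hqv : qMinus F j a b v = d / 4 := by
    rw [Cfsg.Agent.Orth.coe_qMinus, hv, hd]
    simp [Cfsg.quadFormMinus]
    field_simp
    ring
  have hv0 : qMinus F j a b v ≠ 0 := by rw [hqv]; exact div_ne_zero hd0 h4
  have hG1 : Cfsg.IsSemisimilarityPair (⇑(qMinus F j a b)) G 1 := by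
    rw [Cfsg.Agent.Orth.coe_qMinus]; exact hφf ▸ hG
  have hg' : Cfsg.IsSemisimilarityPair (⇑(qMinus F j a b)) g φ := by rw [Cfsg.Agent.Orth.coe_qMinus]; exact hg
  refine ⟨g, φ, hg', v, G, hG1, hgen, hv0, Matrix.ext_iff_mulVec.2 fun w => ?_, ?_⟩
  · rw [Cfsg.Agent.Orth.reflectionMatrix_mulVec]
    have hw := e2 w
    rw [hφf] at hw
    have hGw : (G : Matrix Jv Jv F) *ᵥ w = (sm g φ)^[f] w := hw
    obtain ⟨i1, i2, i3⟩ := hiter f w
    rw [hN, hφf] at i2
    rw [hφf] at i1 i3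
    simp only [RingAut.one_apply] at i1 i2 i3
    have hpol : polar (qMinus F j a b) w v = d / 2 * w (.inr 1) := by
      simp only [polar, Cfsg.Agent.Orth.coe_qMinus, hv, hd]
      simp [Cfsg.quadFormMinus]
      field_simp
      ring
    rw [hGw, hpol, hqv, hv]
    funext i
    rcases i with i | i
    · simp [i1]
    · fin_cases i
      · have h0 : (sm g φ)^[f] w (.inr 0) = w (.inr 0) + a * w (.inr 1) := by
          refine mul_left_cancel₀ h2 ?_
          linear_combination i3 - a * i2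
        simp [h0]
        field_simp
        ring
      · simp [i2]
        field_simp
        ring
  · revert hg' hG1
    rw [Cfsg.Agent.Orth.coe_qMinus]
    intro hG1 hg'
    exact e1.trans (semi_congr _ _ rfl hφf)

/-- Out of the minus type group in odd characteristic. -/
theorem out_minus_odd {p f : ℕ} [Fact p.Prime] (hp : p ≠ 2) (hF : Fintype.card F = p ^ f) (hj : 3 ≤ j) :
    (Even j ∧ p ^ f % 4 = 3 → Nonempty (Cfsg.Out (Cfsg.POmega F (Cfsg.quadFormMinus j F a b)) ≃*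
      DihedralGroup 4 × Multiplicative (ZMod f))) ∧
    (¬ (Even j ∧ p ^ f % 4 = 3) → Nonempty (Cfsg.Out (Cfsg.POmega F (Cfsg.quadFormMinus j F a b)) ≃*
      Multiplicative (ZMod 2 × ZMod (2 * f)))) := by
  have hodd : Odd (Fintype.card F) := hF ▸ ((Fact.out : p.Prime).odd_of_ne_two hp).pow
  have hE := evenType_minus hab (Cfsg.Agent.Orth.two_ne_zero_of_odd hodd) hj
  rw [← Cfsg.Agent.Orth.coe_qMinus]
  have hD : 9 ≤ Fintype.card Jv ∨ ∀ U : Submodule F (Jv → F), (∀ x ∈ U, qMinus F j a b x = 0) →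
      Module.finrank F U ≤ 3 := by
    rw [Cfsg.Agent.Orth.coe_qMinus]; exact hD_minus hab hj
  have hfield : ∀ τ : F ≃+* F, ∃ g, Cfsg.IsSemisimilarityPair (⇑(qMinus F j a b)) g τ := by
    rw [Cfsg.Agent.Orth.coe_qMinus]; exact exists_field_minus hab p f hF
  have hP : ∀ (h g : GL Jv F) (τ : F ≃+* F), Cfsg.IsSemisimilarityPair (⇑(qMinus F j a b)) h τ →
      Cfsg.IsSemisimilarityPair (⇑(qMinus F j a b)) g 1 →
      Cfsg.IsSemisimilarityPair (⇑(qMinus F j a b)) (h * mapGL τ g * h⁻¹) 1 →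
      ((fun g : GL Jv F => Cfsg.PreservesSingularClassesMinus j a b (g : Matrix Jv Jv F)) (h * mapGL τ g * h⁻¹) ↔
        (fun g : GL Jv F => Cfsg.PreservesSingularClassesMinus j a b (g : Matrix Jv Jv F)) g) := by
    rw [Cfsg.Agent.Orth.coe_qMinus]
    intro h g τ hh hg hg'
    obtain ⟨c, hc⟩ := hh
    exact presM_conj hab hab hc hg hg'
  have hq := pow_mod_four_iff hodd (j + 1)
  have hN := (Cfsg.Agent.Orth.neg_one_minus hodd j hab).trans hq.2
  rw [hF, Nat.odd_add_one, Nat.not_odd_iff_even] at hN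
  refine ⟨fun h => hE.out_neg hD hfield hP (hN.2 h) hF ?_, fun h => hE.out_not_neg hD hfield hP
    (fun e => h (hN.1 e)) hF ?_⟩
  · by_contra hf
    have h4 := (pow_mod_four_iff ((Fact.out : p.Prime).odd_of_ne_two hp) f).1.2 fun e => hf e.1
    omega
  · rcases Nat.even_or_odd f with hfe | hfo
    · obtain ⟨g, φ, hg, v, G, hG, hgen, hv0, hGv, e⟩ := exists_frob_refl hab (j := j) hp hF hfe
      refine Or.inr ⟨g, φ, hg, hgen, fun hi => ?_⟩
      have h1 := hE.inn_le_pso hi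
      rw [e, show semi G 1 hG = conjGO ⟨G, go_of_pair hG⟩ from rfl, hE.conj_mem_pso] at h1
      exact hE.p_refl v G hv0 hGv h1.2
    · exact Or.inl hfo

end Cfsg.Agent.AutPOmega
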