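import Cfsg.Agent.Lib.AutPOmega.GraphSplit
import Cfsg.Agent.Lib.AutPOmega.OutMinusOdd

/-!
The split counts of the involutory graph automorphisms.
-/

set_option autoImplicit false

namespace Cfsg.Agent.AutPOmega

open Matrix Module QuadraticMap
open Cfsg.Agent.Orth (SpinVal SqCls sqc reflVal sgn qPlus qMinus)
open Cfsg.Agent.Transvec (mv mv_mul mv_inj mv_inv_mv mv_mv_inv ext_mv)

section General

variable {ι : Type} [Fintype ι] [DecidableEq ι] {F : Type*} [Field F] [Fintype F]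
  {q : QuadraticForm F (ι → F)} {P : GL ι F → Prop}

set_option quotPrecheck false in
local notation "POm" => Cfsg.POmega F (⇑q)
set_option quotPrecheck false in
local notation "GOg" => Cfsg.Geo.quadSimilarityGroup (F := F) (⇑q)
set_option quotPrecheck false in
local notation "NegOmega" => (∃ g : Cfsg.isometryGroup F (⇑q),
  g ∈ Cfsg.Omega F (⇑q) ∧ ((g : GL ι F) : Matrix ι ι F) = -1)
set_option quotPrecheck false in
local notation "HDet" k:arg => (∀ c : Fˣ, ∃ g₀ : GL ι F, (∀ v, q (mv g₀ v) = (c : F) * q v) ∧ P g₀ ∧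
  (g₀ : Matrix ι ι F).det = (c : F) ^ k)

/-- The split count of an involutory similarity automorphism outside the inner-diagonal group. -/
theorem EvenType.graph_split (hE : EvenType q P) {k : ℕ} (hn : Fintype.card ι = 2 * k) (hdet : HDet k)
    {I : Subgroup (MulAut POm)}
    (hI : ∀ β, β ∈ I ↔ ∃ (g : GL ι F) (hg : Cfsg.IsSemisimilarityPair (⇑q) g 1), P g ∧ β = semi g 1 hg)
    {g : GL ι F} (hg : Cfsg.IsSemisimilarityPair (⇑q) g 1) (hP : ¬ P g) (hinv : semi g 1 hg * semi g 1 hg = 1) :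
    (Cfsg.splitClassCount I (Cfsg.Inn POm) (semi g 1 hg) = 1 ∨
      Cfsg.splitClassCount I (Cfsg.Inn POm) (semi g 1 hg) = 2) ∧
    ((NegOmega ∨ Even k) → Cfsg.splitClassCount I (Cfsg.Inn POm) (semi g 1 hg) = 2) := by
  classical
  obtain ⟨l, hgg⟩ : ∃ l : Fˣ, g * g = scal l := by
    have e : semi g 1 hg * semi g 1 hg = semi (1 : GL ι F) 1 ⟨1, fun v => by simp⟩ :=
      hinv.trans (semi_one' _).symm
    rw [semi_mul] at e
    obtain ⟨-, a, ha⟩ := semi_eq_semi hE.geo hE.seven _ _ e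
    exact ⟨a, by rw [mapGL_one, mul_one] at ha; exact ha⟩
  obtain ⟨μ, hμ⟩ := id hg
  have hμ' : ∀ v, q (mv g v) = (μ : F) * q v := hμ
  obtain ⟨γ, hγ⟩ : ∃ γ, γ = semi g 1 hg := ⟨_, rfl⟩
  rw [← hγ]
  have hle : Cfsg.Inn POm ≤ I := fun x hx => by
    obtain ⟨u, rfl⟩ := hE.pgo_range.le (show x ∈ Cfsg.pgoAut F (⇑q) by
      obtain ⟨y, rfl⟩ := hx
      obtain ⟨A, rfl, e⟩ := inn_eq y
      rw [e]
      exact Subgroup.subset_closure ⟨gl A, go_of_pair (isPair_iso A.1.2), induced_semi _⟩)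
    exact (hI _).2 ⟨(u : GL ι F), pair_go u, ((hE.conj_mem_pso u).1 (hE.inn_le_pso hx)).2, rfl⟩
  by_cases hneg : NegOmega
  · obtain ⟨c₀, hc₀⟩ := FiniteField.exists_nonsquare (F := F) (fun h => hE.two (by
      haveI := ringChar.of_eq h; exact CharTwo.two_eq_zero))
    obtain ⟨c, hcdef⟩ : ∃ c : Fˣ, (c : F) = c₀ := ⟨Units.mk0 c₀ fun e => hc₀ (e ▸ IsSquare.zero), rfl⟩
    rw [← hcdef] at hc₀
    obtain ⟨g₀, hg₀, hP₀⟩ := hE.p_mult c
    obtain ⟨χ, hker, -, hrefl, -, -⟩ := hE.exists_spin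
    have hk : scal c⁻¹ * (g₀ * g₀) ∈ Cfsg.isometryGroup F (⇑q) := Transvec.Orth.mem_isometry.2 fun z => by
      rw [mv_mul, scal_mv, QuadraticMap.map_smul, smul_eq_mul, mv_mul, hg₀, hg₀, Units.val_inv_eq_inv_val]
      field_simp
    have hkk : g₀ * g₀ = scal c * ((⟨_, hk⟩ : Cfsg.isometryGroup F (⇑q)) : GL ι F) := by
      rw [← mul_assoc, ← map_mul, mul_inv_cancel, map_one, one_mul]
    obtain ⟨f₀, A, R, Z, -, -, hA, hR, -, hZ, -, hcomm, -, -, hpar⟩ :=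
      hE.pgo_data hneg hc₀ hg₀ hP₀ (k := ⟨_, hk⟩) hkk hker hrefl
    have key : ∀ {T : Type} [CommGroup T] (φ : ↥I →* T), Nat.card T = 4 → Function.Surjective φ →
        φ.ker = (Cfsg.Inn POm).subgroupOf I → Cfsg.splitClassCount I (Cfsg.Inn POm) γ = 2 := by
      intro T _ φ hT hφ hφk
      rw [split_index I _ hle γ φ hφ hφk]
      obtain ⟨M, hM⟩ : ∃ M, M = ((Subgroup.centralizer {γ}).subgroupOf I).map φ := ⟨_, rfl⟩
      rw [← hM]
      have h4 := M.card_mul_index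
      rw [hT] at h4
      haveI : Finite T := Nat.finite_of_card_ne_zero (by omega)
      have hne : M.index ≠ 1 := fun e => by
        rw [Subgroup.index_eq_one] at e
        have haI : conjGO A ∈ I := (hI _).2 ⟨_, pair_go A, (hpar A).1 (by rw [hA]; rfl), rfl⟩
        obtain ⟨cc, hcc, hceq⟩ := (hM ▸ e.symm.le) (Subgroup.mem_top (φ ⟨_, haI⟩))
        obtain ⟨t, ht, hat⟩ : ∃ t ∈ Cfsg.Inn POm, conjGO A = t * (cc : MulAut POm) := by
          refine ⟨conjGO A * (cc : MulAut POm)⁻¹, ?_, (inv_mul_cancel_right _ _).symm⟩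
          have : (⟨_, haI⟩ : ↥I) * cc⁻¹ ∈ φ.ker := by
            rw [MonoidHom.mem_ker, map_mul, map_inv, hceq, mul_inv_cancel]
          rwa [hφk] at this
        have hcg : (cc : MulAut POm) * γ = γ * cc := Subgroup.mem_centralizer_singleton_iff.1 hcc
        have hn : (Cfsg.Inn POm).Normal := inferInstance
        have hu : γ * conjGO A * γ⁻¹ * (conjGO A)⁻¹ ∈ Cfsg.Inn POm := by
          rw [hat]
          have : γ * (t * ↑cc) * γ⁻¹ * (t * ↑cc)⁻¹ = (γ * t * γ⁻¹) * t⁻¹ := by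
            calc γ * (t * ↑cc) * γ⁻¹ * (t * ↑cc)⁻¹ = γ * t * ((cc : MulAut POm) * γ⁻¹ * (↑cc)⁻¹) * t⁻¹ := by group
              _ = γ * t * γ⁻¹ * t⁻¹ := by
                rw [show (cc : MulAut POm) * γ⁻¹ * (↑cc)⁻¹ = γ⁻¹ by
                  rw [mul_inv_eq_iff_eq_mul, eq_inv_mul_iff_mul_eq, ← mul_assoc, ← hcg, mul_inv_cancel_right]]
          rw [this]
          exact mul_mem (hn.conj_mem t ht γ) (inv_mem ht)
        obtain ⟨G, hG⟩ : ∃ G : GOg, (G : GL ι F) = g := ⟨⟨g, go_of_pair hg⟩, rfl⟩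
        have hGγ : conjGO G = γ := hγ ▸ semi_congr _ _ hG rfl
        have hRP : ¬ P (R : GL ι F) := fun h => by
          have := (hpar R).2 h
          rw [hR] at this
          exact one_ne_zero this
        have hiI : conjGO (R * G⁻¹) ∈ I := (hI _).2 ⟨_, pair_go _, by
          rw [Subgroup.coe_mul, hE.p_mul _ _ (pair_go R) (pair_go G⁻¹)]
          refine iff_of_false hRP fun h => hP ?_
          have h1 := hE.p_mul (G : GL ι F) ((G⁻¹ : GOg) : GL ι F) (pair_go G) (pair_go G⁻¹)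
          rw [show (G : GL ι F) * ((G⁻¹ : GOg) : GL ι F) = 1 from mul_inv_cancel _, iff_true_left hE.p_one] at h1
          exact hG ▸ h1.2 h, rfl⟩
        obtain ⟨i, hidef⟩ : ∃ i, i = conjGO (R * G⁻¹) := ⟨_, rfl⟩
        rw [← hidef] at hiI
        have hia : i * conjGO A * i⁻¹ * (conjGO A)⁻¹ ∈ Cfsg.Inn POm := by
          have : (⟨i, hiI⟩ : ↥I) * ⟨_, haI⟩ * (⟨i, hiI⟩ : ↥I)⁻¹ * (⟨_, haI⟩ : ↥I)⁻¹ ∈ φ.ker := by
            rw [MonoidHom.mem_ker, map_mul, map_mul, map_mul, map_inv, map_inv, mul_inv_cancel_comm, mul_inv_cancel]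
          rwa [hφk] at this
        refine hZ ?_
        have hR' : conjGO R = i * γ := by rw [hidef, ← hGγ, ← map_mul, inv_mul_cancel_right]
        rw [← hcomm, map_mul, map_mul, map_mul, map_inv, map_inv, hR']
        have : i * γ * conjGO A * (i * γ)⁻¹ * (conjGO A)⁻¹ =
            (i * (γ * conjGO A * γ⁻¹ * (conjGO A)⁻¹) * i⁻¹) * (i * conjGO A * i⁻¹ * (conjGO A)⁻¹) := by group
        rw [this]
        exact mul_mem (hn.conj_mem _ hu i) hia
      have hne' : Nat.card M ≠ 1 := fun e => by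
        obtain ⟨h, hPh, hχh, hcg⟩ := hE.exists_commuting hn hdet hμ' hP hgg hrefl
        have hhI : semi (h : GL ι F) 1 (isPair_iso h.2) ∈ I := (hI _).2 ⟨_, _, hPh, rfl⟩
        have hmem : φ ⟨_, hhI⟩ ∈ M := by
          rw [hM]
          refine ⟨⟨_, hhI⟩, Subgroup.mem_centralizer_singleton_iff.2 ?_, rfl⟩
          show semi (h : GL ι F) 1 _ * γ = γ * semi (h : GL ι F) 1 _
          rw [hγ, semi_mul, semi_mul]
          exact semi_congr _ _ (by rw [mapGL_one, mapGL_one, hcg]) rfl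
        rw [Subgroup.card_eq_one] at e
        rw [e, Subgroup.mem_bot, ← MonoidHom.mem_ker, hφk, Subgroup.mem_subgroupOf] at hmem
        exact hχh ((hE.mem_inn_of_neg hneg hker h).1 hmem)
      have hdvd : M.index ∈ Nat.divisors 4 := Nat.mem_divisors.2 ⟨⟨_, by rw [mul_comm]; exact h4.symm⟩, by norm_num⟩
      rw [show Nat.divisors 4 = {1, 2, 4} by decide] at hdvd
      simp only [Finset.mem_insert, Finset.mem_singleton] at hdvd
      rcases hdvd with e | e | e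
      · exact absurd e hne
      · exact e
      · rw [e] at h4; omega
    obtain ⟨h4, h22⟩ := hE.inndiag_quot_two hneg hI hc₀ hg₀ hP₀ (k := ⟨_, hk⟩) hkk hker hrefl
    have h2 : Cfsg.splitClassCount I (Cfsg.Inn POm) γ = 2 := by
      by_cases hχ : χ ⟨_, hk⟩ = 1
      · obtain ⟨φ, h1, h2⟩ := h22 hχ
        exact key φ (by simp) h1 h2
      · obtain ⟨φ, h1, h2⟩ := h4 hχ
        exact key φ (by simp) h1 h2
    exact ⟨Or.inr h2, fun _ => h2⟩
  · obtain ⟨φ, hφ, hφk⟩ := hE.inndiag_quot_one hneg hI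
    rw [split_index I _ hle γ φ hφ hφk]
    obtain ⟨M, hM⟩ : ∃ M, M = ((Subgroup.centralizer {γ}).subgroupOf I).map φ := ⟨_, rfl⟩
    rw [← hM]
    refine ⟨?_, fun h => ?_⟩
    · have h2 := M.card_mul_index
      rw [show Nat.card (Multiplicative (ZMod 2)) = 2 by simp] at h2
      exact (Nat.dvd_prime Nat.prime_two).1 ⟨_, by rw [mul_comm]; exact h2.symm⟩
    · have hke : Even k := h.resolve_left hneg
      have hbot : M = ⊥ := by
        rw [hM, Subgroup.map_eq_bot_iff]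
        rintro ⟨x, hx⟩ hxc
        obtain ⟨h', hh', hPh, rfl⟩ := (hI x).1 hx
        have hcg : semi h' 1 hh' * γ = γ * semi h' 1 hh' := Subgroup.mem_centralizer_singleton_iff.1 hxc
        rw [hγ, semi_mul, semi_mul] at hcg
        obtain ⟨-, t, ht⟩ := semi_eq_semi hE.geo hE.seven _ _ hcg
        rw [mapGL_one, mapGL_one] at ht
        obtain ⟨c, hc⟩ := id hh'
        have hsq := hE.sq_mult_of_comm hn hke hdet hμ' hP hgg (h := h') (c := c) hc ht
        obtain ⟨s, hs⟩ := hsq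
        have hs0 : s ≠ 0 := fun e => c.ne_zero (by rw [hs, e, mul_zero])
        rw [MonoidHom.mem_ker, ← MonoidHom.mem_ker, hφk, Subgroup.mem_subgroupOf, ← hE.pso_eq_inn hneg]
        show semi h' 1 hh' ∈ Cfsg.psoAut F (⇑q)
        exact (hE.conj_mem_pso ⟨h', go_of_pair hh'⟩).2 ⟨⟨Units.mk0 s hs0, fun v => by
          rw [Units.val_mk0, ← hs]; exact hc v⟩, hPh⟩
      rw [hbot, Subgroup.index_bot]
      simp

/-- The split count for a form presented as a function. -/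
theorem EvenType.graph_split_of (hE : EvenType q P) {k : ℕ} (hn : Fintype.card ι = 2 * k) (hdet : HDet k)
    {Q : (ι → F) → F} (hQ : ⇑q = Q) {I : Subgroup (MulAut (Cfsg.POmega F Q))}
    (hI : ∀ β, β ∈ I ↔ ∃ (g : GL ι F) (hg : Cfsg.IsSemisimilarityPair Q g 1), P g ∧ β = semi g 1 hg)
    {g : GL ι F} (hg : Cfsg.IsSemisimilarityPair Q g 1) (hP : ¬ P g) (hinv : semi g 1 hg * semi g 1 hg = 1)
    {N : Prop} (hN : NegOmega ↔ N) :
    (Cfsg.splitClassCount I (Cfsg.Inn (Cfsg.POmega F Q)) (semi g 1 hg) = 1 ∨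
      Cfsg.splitClassCount I (Cfsg.Inn (Cfsg.POmega F Q)) (semi g 1 hg) = 2) ∧
    ((N ∨ Even k) → Cfsg.splitClassCount I (Cfsg.Inn (Cfsg.POmega F Q)) (semi g 1 hg) = 2) := by
  subst hQ
  obtain ⟨h1, h2⟩ := hE.graph_split hn hdet hI hg hP hinv
  exact ⟨h1, fun h => h2 (h.imp_left hN.2)⟩

end General

variable {F : Type*} [Field F] [Fintype F] {m : ℕ}

theorem det_plus (hm : 4 ≤ m) (c : Fˣ) : ∃ g₀ : GL (Fin m ⊕ Fin m) F,
    (∀ v, qPlus F m (mv g₀ v) = (c : F) * qPlus F m v) ∧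
    (fun g : GL (Fin m ⊕ Fin m) F => Cfsg.PreservesSingularClasses (Cfsg.quadFormPlus m F)
      (g : Matrix (Fin m ⊕ Fin m) (Fin m ⊕ Fin m) F)) g₀ ∧
    (g₀ : Matrix (Fin m ⊕ Fin m) (Fin m ⊕ Fin m) F).det = (c : F) ^ m := by
  obtain ⟨g, h1, h2, hv⟩ := exists_plus_mult hm c
  refine ⟨g, h1, h2, ?_⟩
  have e : (g : Matrix (Fin m ⊕ Fin m) (Fin m ⊕ Fin m) F) =
      Matrix.diagonal (Sum.elim (fun _ => (1 : F)) (fun _ => (c : F))) :=
    Matrix.ext_iff_mulVec.2 fun v => by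
      show mv g v = _
      rw [hv]
      funext i
      rw [Matrix.mulVec_diagonal]
      rcases i with i | i <;> simp
  rw [e, Matrix.det_diagonal, Fintype.prod_sum_type]
  simp

theorem det_minus {a b : F} (hab : ∀ z₁ z₂ : F, z₁ ^ 2 + a * z₁ * z₂ + b * z₂ ^ 2 = 0 → z₁ = 0 ∧ z₂ = 0)
    (c : Fˣ) : ∃ g₀ : GL ((Fin m ⊕ Fin m) ⊕ Fin 2) F,
    (∀ v, qMinus F m a b (mv g₀ v) = (c : F) * qMinus F m a b v) ∧
    (fun g : GL ((Fin m ⊕ Fin m) ⊕ Fin 2) F => Cfsg.PreservesSingularClassesMinus m a b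
      (g : Matrix ((Fin m ⊕ Fin m) ⊕ Fin 2) ((Fin m ⊕ Fin m) ⊕ Fin 2) F)) g₀ ∧
    (g₀ : Matrix ((Fin m ⊕ Fin m) ⊕ Fin 2) ((Fin m ⊕ Fin m) ⊕ Fin 2) F).det = (c : F) ^ (m + 1) := by
  obtain ⟨z₀, z₁, g, hz, h1, h2, hv⟩ := exists_minus_mult (m := m) hab c
  refine ⟨g, h1, h2, ?_⟩
  have e : (g : Matrix ((Fin m ⊕ Fin m) ⊕ Fin 2) ((Fin m ⊕ Fin m) ⊕ Fin 2) F) =
      Matrix.fromBlocks (Matrix.diagonal (Sum.elim (fun _ => (1 : F)) (fun _ => (c : F)))) 0 0
        !![z₀, -(b * z₁); z₁, z₀ + a * z₁] :=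
    Matrix.ext_iff_mulVec.2 fun v => by
      show mv g v = _
      rw [hv, Matrix.fromBlocks_mulVec]
      funext i
      rcases i with (i | i) | i
      · simp [ext2, Matrix.mulVec_diagonal]
      · simp [ext2, Matrix.mulVec_diagonal]
      · fin_cases i <;> simp [ext2, Matrix.mulVec, dotProduct, Fin.sum_univ_two]
  rw [e, Matrix.det_fromBlocks_zero₂₁, Matrix.det_diagonal, Fintype.prod_sum_type, Matrix.det_fin_two_of]
  simp [pow_succ]
  linear_combination hz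

/-- An involution of the semisimilarity image of the minus type group is induced by a similarity. -/
theorem minus_involution_linear (hodd : Odd (Fintype.card F)) (hm : 3 ≤ m) {a b : F}
    (hab : ∀ z₁ z₂ : F, z₁ ^ 2 + a * z₁ * z₂ + b * z₂ ^ 2 = 0 → z₁ = 0 ∧ z₂ = 0)
    {x : MulAut (Cfsg.POmega F (⇑(qMinus F m a b)))} (hx : x * x = 1) :
    ∃ (g : GL ((Fin m ⊕ Fin m) ⊕ Fin 2) F) (hg : Cfsg.IsSemisimilarityPair (⇑(qMinus F m a b)) g 1),
      x = semi g 1 hg := by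
  have hE := evenType_minus hab (Cfsg.Agent.Orth.two_ne_zero_of_odd hodd) hm
  obtain ⟨p, hp⟩ := CharP.exists F
  haveI : Fact p.Prime := ⟨CharP.char_is_prime F p⟩
  obtain ⟨f, -, hF⟩ := FiniteField.card F p
  have hp2 : p ≠ 2 := by
    rintro rfl
    rw [hF] at hodd
    exact absurd hodd (Nat.not_odd_iff_even.2 (Nat.even_pow.2 ⟨even_two, f.ne_zero⟩))
  have hD : 9 ≤ Fintype.card ((Fin m ⊕ Fin m) ⊕ Fin 2) ∨ ∀ U : Submodule F ((Fin m ⊕ Fin m) ⊕ Fin 2 → F),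
      (∀ x ∈ U, qMinus F m a b x = 0) → Module.finrank F U ≤ 3 := by
    rw [Cfsg.Agent.Orth.coe_qMinus]; exact hD_minus hab hm
  obtain ⟨g, τ, hg, rfl⟩ := exists_semi hE.geo hE.seven p hD x
  suffices h : τ = 1 by subst h; exact ⟨g, hg, rfl⟩
  have hfield : ∀ τ : F ≃+* F, ∃ g, Cfsg.IsSemisimilarityPair (⇑(qMinus F m a b)) g τ := by
    rw [Cfsg.Agent.Orth.coe_qMinus]; exact exists_field_minus hab p f hF
  have hP : ∀ (h g : GL ((Fin m ⊕ Fin m) ⊕ Fin 2) F) (τ : F ≃+* F),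
      Cfsg.IsSemisimilarityPair (⇑(qMinus F m a b)) h τ →
      Cfsg.IsSemisimilarityPair (⇑(qMinus F m a b)) g 1 →
      Cfsg.IsSemisimilarityPair (⇑(qMinus F m a b)) (h * mapGL τ g * h⁻¹) 1 →
      ((fun g : GL ((Fin m ⊕ Fin m) ⊕ Fin 2) F => Cfsg.PreservesSingularClassesMinus m a b
        (g : Matrix _ _ F)) (h * mapGL τ g * h⁻¹) ↔
        (fun g : GL ((Fin m ⊕ Fin m) ⊕ Fin 2) F => Cfsg.PreservesSingularClassesMinus m a b
        (g : Matrix _ _ F)) g) := by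
    rw [Cfsg.Agent.Orth.coe_qMinus]
    intro h g τ hh hg hg'
    obtain ⟨c, hc⟩ := hh
    exact presM_conj hab hab hc hg hg'
  obtain ⟨π, z, -, hval, hK, -, -, hcomm, hone⟩ := hE.out_data hD hfield hP
  obtain ⟨cls, hcls⟩ : ∃ cls : MulAut (Cfsg.POmega F (⇑(qMinus F m a b))) →* Cfsg.Out _,
      cls = QuotientGroup.mk' _ := ⟨_, rfl⟩
  have hval' : ∀ g τ (hg : Cfsg.IsSemisimilarityPair (⇑(qMinus F m a b)) g τ), π (cls (semi g τ hg)) = τ :=
    fun g τ hg => by rw [hcls]; exact hval g τ hg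
  have hττ : τ * τ = 1 := by
    have := congrArg π (congrArg cls hx)
    rwa [map_mul, map_mul, hval', map_one, map_one] at this
  by_contra hτ
  obtain ⟨φ, hφ, hord, hgen⟩ := exists_frob (F := F) p f hF
  obtain ⟨j, hj⟩ := hgen τ
  have hjf : ¬ (f : ℕ) ∣ j := fun h => hτ (hj ▸ orderOf_dvd_iff_pow_eq_one.1 (hord.symm ▸ h))
  have h2j : (f : ℕ) ∣ 2 * j := by
    rw [← hord]
    refine orderOf_dvd_of_pow_eq_one ?_
    rw [mul_comm, pow_mul, hj, pow_two, hττ]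
  have hfe : Even (f : ℕ) := by
    by_contra h
    exact hjf ((Nat.not_even_iff_odd.1 h).coprime_two_right.dvd_of_dvd_mul_left h2j)
  obtain ⟨G₀, φ', hG₀, v, G, hG, hgen', hv0, hGv, e⟩ := exists_frob_refl hab (j := m) hp2 hF hfe
  obtain ⟨i, hi⟩ := hgen' τ
  have hord' : orderOf φ' = (f : ℕ) := by
    obtain ⟨E⟩ := AutPSL.exists_ringAut_equiv (F := F) p f hF
    rw [orderOf_eq_card_of_forall_mem_zpowers fun y => ?_, Nat.card_congr E.toEquiv]
    · simp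
    · obtain ⟨n, rfl⟩ := hgen' y
      exact ⟨n, zpow_natCast _ _⟩
  obtain ⟨i', hi'⟩ : ∃ i', i = i' * (f / 2) ∧ Odd i' := by
    have h1 : (f : ℕ) ∣ 2 * i := by
      rw [← hord']
      exact orderOf_dvd_of_pow_eq_one (by rw [mul_comm, pow_mul, hi, pow_two, hττ])
    have h2 : ¬ (f : ℕ) ∣ i := fun h => hτ (hi ▸ orderOf_dvd_iff_pow_eq_one.1 (hord'.symm ▸ h))
    obtain ⟨d, hd⟩ := h1
    obtain ⟨w, hw⟩ := hfe
    refine ⟨d, ?_, ?_⟩
    · rw [hw, show (w + w) / 2 = w by omega]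
      rw [hw] at hd
      linarith
    · by_contra hev
      obtain ⟨d', rfl⟩ := Nat.not_odd_iff_even.1 hev
      exact h2 ⟨d', by linarith⟩
  obtain ⟨hi', hi'o⟩ := hi'
  have hneg : ¬ ∃ g : Cfsg.isometryGroup F (⇑(qMinus F m a b)), g ∈ Cfsg.Omega F (⇑(qMinus F m a b)) ∧
      ((g : GL ((Fin m ⊕ Fin m) ⊕ Fin 2) F) : Matrix ((Fin m ⊕ Fin m) ⊕ Fin 2) ((Fin m ⊕ Fin m) ⊕ Fin 2) F) = -1 := fun h => by
    have h3 := (Cfsg.Agent.Orth.neg_one_minus hodd m hab).1 h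
    rw [hF, ← pow_mul] at h3
    have := (pow_mod_four_iff ((Fact.out : p.Prime).odd_of_ne_two hp2) ((f : ℕ) * (m + 1))).2.1 h3
    exact absurd (Nat.odd_mul.1 this.1).1 (Nat.not_odd_iff_even.2 hfe)
  obtain ⟨t, ht⟩ : ∃ t, t = cls (semi G₀ φ' hG₀) := ⟨_, rfl⟩
  obtain ⟨φq, h1, h2⟩ := hE.pgo_quot_one hneg
  obtain ⟨eK⟩ := hK φq h1 h2
  obtain ⟨u, hu⟩ : ∃ u, u = cls (semi g τ hg) * (t ^ i)⁻¹ := ⟨_, rfl⟩
  have huk : u ∈ π.ker := by
    rw [MonoidHom.mem_ker, hu, map_mul, map_inv, map_pow, ht, hval', hval', hi, mul_inv_cancel]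
  have huu : u * u = 1 := by
    have := congrArg Subtype.val (eK.injective (show eK (⟨u, huk⟩ * ⟨u, huk⟩) = eK 1 by
      rw [map_mul, map_one]; generalize eK ⟨u, huk⟩ = y; revert y; decide))
    exact this
  have hcom : t ^ i * u = u * t ^ i := by
    have := hone hneg _ (hcomm (t ^ i) u huk)
    rwa [mul_inv_eq_one, mul_inv_eq_iff_eq_mul] at this
  have hxx : cls (semi g τ hg) * cls (semi g τ hg) = 1 := by rw [← map_mul, hx, map_one]
  have hux : cls (semi g τ hg) = u * t ^ i := by rw [hu, inv_mul_cancel_right]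
  rw [hux, mul_assoc, ← mul_assoc (t ^ i), hcom, mul_assoc u, ← mul_assoc, huu, one_mul, ← pow_add] at hxx
  have htf : t ^ ((f : ℕ)) = cls (semi G 1 hG) := by rw [ht, ← map_pow, e]
  have hff : i + i = f * i' := by
    obtain ⟨w, hw⟩ := hfe
    rw [hi', hw, show (w + w) / 2 = w by omega]; ring
  have hG1 : cls (semi G 1 hG) ∉ (⊥ : Subgroup _) := fun h => by
    rw [Subgroup.mem_bot, hcls] at h
    have h' := hE.inn_le_pso ((QuotientGroup.eq_one_iff _).1 h)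
    rw [show semi G 1 hG = conjGO ⟨G, go_of_pair hG⟩ from rfl, hE.conj_mem_pso] at h'
    exact hE.p_refl v G hv0 hGv h'.2
  have hsq : cls (semi G 1 hG) * cls (semi G 1 hG) = 1 := by
    have hk : cls (semi G 1 hG) ∈ π.ker := by rw [MonoidHom.mem_ker, hval']
    exact congrArg Subtype.val (eK.injective (show eK (⟨_, hk⟩ * ⟨_, hk⟩) = eK 1 by
      rw [map_mul, map_one]; generalize eK ⟨_, hk⟩ = y; revert y; decide))
  obtain ⟨w, rfl⟩ := hi'o
  rw [hff, pow_mul, htf, pow_succ, pow_mul, pow_two, hsq, one_pow, one_mul] at hxx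
  exact hG1 hxx

/-- The same, for the form presented as a function. -/
theorem minus_involution_linear' (hodd : Odd (Fintype.card F)) (hm : 3 ≤ m) {a b : F}
    (hab : ∀ z₁ z₂ : F, z₁ ^ 2 + a * z₁ * z₂ + b * z₂ ^ 2 = 0 → z₁ = 0 ∧ z₂ = 0)
    {x : MulAut (Cfsg.POmega F (Cfsg.quadFormMinus m F a b))} (hx : x * x = 1) :
    ∃ (g : GL ((Fin m ⊕ Fin m) ⊕ Fin 2) F) (hg : Cfsg.IsSemisimilarityPair (Cfsg.quadFormMinus m F a b) g 1),
      x = semi g 1 hg := by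
  revert x
  rw [← Cfsg.Agent.Orth.coe_qMinus]
  intro x hx
  exact minus_involution_linear hodd hm hab hx

end Cfsg.Agent.AutPOmega
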