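import Cfsg.Agent.Lib.AutPOmega.Semigroup

/-!
Isomorphisms of orthogonal groups induced by similarities between forms.
-/

set_option autoImplicit false

namespace Cfsg.Agent.AutPOmega

open Matrix Cfsg.Agent.Transvec Cfsg.Agent.Transvec.Orth

variable {ι : Type} [Fintype ι] [DecidableEq ι] {F : Type*} [Field F] {Q Q' : (ι → F) → F}

/-- The isometry groups of similar forms. -/
def isoTransport {R : GL ι F} {c : F} (hc : c ≠ 0) (hR : ∀ v, Q' (mv R v) = c * Q v) :
    Cfsg.isometryGroup F Q ≃* Cfsg.isometryGroup F Q' where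
  toFun M := ⟨R * M * R⁻¹, mem_isometry.2 fun z => by
    obtain ⟨y, rfl⟩ : ∃ y, mv R y = z := ⟨mv R⁻¹ z, mv_mv_inv R z⟩
    rw [← mv_mul, inv_mul_cancel_right, mv_mul, hR, hR, mem_isometry.1 M.2]⟩
  invFun M := ⟨R⁻¹ * M * R, mem_isometry.2 fun z => mul_left_cancel₀ hc (by
    rw [← hR, ← mv_mul, ← mul_assoc, ← mul_assoc, mul_inv_cancel, one_mul, mv_mul, mem_isometry.1 M.2, hR])⟩
  left_inv M := Subtype.ext (by
    show R⁻¹ * (R * (M : GL ι F) * R⁻¹) * R = M
    group)
  right_inv M := Subtype.ext (by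
    show R * (R⁻¹ * (M : GL ι F) * R) * R⁻¹ = M
    group)
  map_mul' M N := Subtype.ext (by
    show R * ((M : GL ι F) * N) * R⁻¹ = R * M * R⁻¹ * (R * N * R⁻¹)
    group)

/-- Similar forms have isomorphic groups, compatibly with the semisimilarities. -/
theorem exists_transport [Finite F] {R : GL ι F} {c : F} (hc : c ≠ 0)
    (hR : ∀ v, Q' (mv R v) = c * Q v) :
    ∃ Ψ : Cfsg.POmega F Q ≃* Cfsg.POmega F Q', ∀ (g g' : GL ι F) (τ : F ≃+* F)
      (hg : Cfsg.IsSemisimilarityPair Q g τ) (hg' : Cfsg.IsSemisimilarityPair Q' g' τ),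
      g' * mapGL τ R = R * g → ∀ x, Ψ (semi g τ hg x) = semi g' τ hg' (Ψ x) := by
  let I := isoTransport hc hR
  have hmap : (Cfsg.Omega F Q).map I.toMonoidHom = Cfsg.Omega F Q' := by
    show (commutator _).map _ = commutator _
    rw [commutator_def, Subgroup.map_commutator, Subgroup.map_top_of_surjective _ I.surjective, ← commutator_def]
  let J : Cfsg.Omega F Q ≃* Cfsg.Omega F Q' :=
    ((Cfsg.Omega F Q).equivMapOfInjective I.toMonoidHom I.injective).trans (MulEquiv.subgroupCongr hmap)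
  have hJ : ∀ s, ((J s : Cfsg.isometryGroup F Q') : GL ι F) = R * gl s * R⁻¹ := fun s => rfl
  have hcen : (Subgroup.center (Cfsg.Omega F Q)).map J.toMonoidHom = Subgroup.center (Cfsg.Omega F Q') := by
    ext y
    simp only [Subgroup.mem_map, Subgroup.mem_center_iff]
    constructor
    · rintro ⟨x, hx, rfl⟩ z
      obtain ⟨w, rfl⟩ := J.surjective z
      show J w * J x = J x * J w
      rw [← map_mul, ← map_mul, hx]
    · intro h
      obtain ⟨x, rfl⟩ := J.surjective y
      exact ⟨x, fun z => J.injective (by rw [map_mul, map_mul]; exact h _), rfl⟩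
  refine ⟨QuotientGroup.congr _ _ J hcen, fun g g' τ hg hg' e x => ?_⟩
  induction x using QuotientGroup.induction_on with
  | _ s =>
    show QuotientGroup.mk' _ (J (conjOm g τ hg s)) = QuotientGroup.mk' _ (conjOm g' τ hg' (J s))
    refine congrArg _ (Subtype.ext (Subtype.ext ?_))
    show R * (g * mapGL τ (gl s) * g⁻¹) * R⁻¹ = g' * mapGL τ (gl (J s)) * g'⁻¹
    rw [show gl (J s) = R * gl s * R⁻¹ from hJ s, map_mul, map_mul, map_inv]
    rw [eq_mul_inv_of_mul_eq e]
    group

end Cfsg.Agent.AutPOmega
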