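import Cfsg.Agent.Lib.AutPOmega.Inndiag
import Cfsg.Agent.Lib.AutPOmega.Transport

/-!
Elements of the order of the field automorphism in its coset: the descended forms decide conjugacy.
-/

set_option autoImplicit false

namespace Cfsg.Agent.AutPOmega

open Matrix QuadraticMap
open Cfsg.Agent.Orth (qPlus qMinus qBin qPad)
open Cfsg.Agent.Transvec (mv mv_mul mv_inj mv_add mv_smul mv_zero mv_sub mv_one mv_mv_inv mv_inv_mv)

variable {ι : Type} [Fintype ι] [DecidableEq ι] {F : Type*} [Field F] {K : Subfield F}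

/-- A descent datum of the semilinear map `v ↦ g σ(v)`: the form over the fixed field. -/
structure Descended (q : QuadraticForm F (ι → F)) (σ : F ≃+* F) (K : Subfield F) (g : GL ι F)
    (q' : QuadraticForm K (ι → K)) (P : GL ι F) (t : Fˣ) (b : F) : Prop where
  fix : g * mapGL σ P = scal t * P
  b_ne : b ≠ 0
  nondeg : (polarBilin q').Nondegenerate
  val : ∀ u, q (mv P (incK K u)) = b * (q' u : F)

theorem exists_descended [Fintype F] [Nonempty ι] {σ : F ≃+* F} (hK : ∀ a, a ∈ K ↔ σ a = a)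
    {q : QuadraticForm F (ι → F)} (hq : (polarBilin q).Nondegenerate)
    (hqσ : ∀ v : ι → F, q (σ ∘ v) = σ (q v)) {g : GL ι F} (hg : Cfsg.IsSemisimilarityPair (⇑q) g 1) {c : Fˣ}
    (h : tw σ g (orderOf σ) = scal c) :
    ∃ q' P t b, Descended q σ K g q' P t b := by
  obtain ⟨P, t, hP⟩ := exists_descent_scal σ g h
  obtain ⟨μ, hμ⟩ := hg
  obtain ⟨b, q', hb, hnd, hval⟩ := exists_form_descent hK hq hqσ μ.ne_zero (fun v => hμ v) hP
  exact ⟨q', P, t, b, hP, hb, hnd, hval⟩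

/-- Isometric descended forms give twisted conjugate similarities. -/
theorem Descended.compare {q : QuadraticForm F (ι → F)} {σ : F ≃+* F} (hK : ∀ a, a ∈ K ↔ σ a = a)
    {g g' P P' : GL ι F} {q' q'' : QuadraticForm K (ι → K)} {t t' : Fˣ} {b b' : F}
    (h : Descended q σ K g q' P t b) (h' : Descended q σ K g' q'' P' t' b')
    {e : (ι → K) ≃ₗ[K] (ι → K)} (he : ∀ u, q'' (e u) = q' u) :
    ∃ (N : GL ι F) (s : Fˣ), Cfsg.IsSemisimilarityPair (⇑q) N 1 ∧ g' * mapGL σ N = scal s * N * g := by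
  obtain ⟨N', hN', hNq⟩ := exists_sim_of_descent (q₀ := q.comp (Matrix.toLin' (P : Matrix ι ι F))) hK
    h'.fix h'.val e b⁻¹ fun u => by
      show ((q'' (e u) : F)) = b⁻¹ * q (mv P (incK K u))
      rw [he, h.val, inv_mul_cancel_left₀ h.b_ne]
  refine ⟨N' * P⁻¹, t' * t⁻¹, ⟨Units.mk0 _ (mul_ne_zero h'.b_ne (inv_ne_zero h.b_ne)), fun v => ?_⟩, ?_⟩
  · show q (mv (N' * P⁻¹) v) = b' * b⁻¹ * q v
    rw [mv_mul, hNq]
    show b' * b⁻¹ * q (mv P (mv P⁻¹ v)) = _
    rw [mv_mv_inv]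
  · have e2 : mapGL σ P = g⁻¹ * (scal t * P) := eq_inv_mul_of_mul_eq h.fix
    have e3 : (scal (t' * t⁻¹) : GL ι F) = scal t' * (scal t)⁻¹ :=
      (map_mul _ _ _).trans (congrArg _ (map_inv _ _))
    have e4 : ∀ x : GL ι F, (scal t : GL ι F)⁻¹ * x = x * (scal t)⁻¹ := fun x =>
      ((show Commute (scal t : GL ι F) x from scal_mul_comm t x).inv_left).eq
    rw [map_mul, map_inv, ← mul_assoc, hN', e2, e3, _root_.mul_inv_rev, _root_.mul_inv_rev, inv_inv,
      mul_assoc (scal t' : GL ι F) (scal t)⁻¹, e4]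
    simp only [mul_assoc]

/-- A twisted centralising reflection. -/
theorem Descended.exists_refl {q : QuadraticForm F (ι → F)} {σ : F ≃+* F} (hK : ∀ a, a ∈ K ↔ σ a = a)
    (hqσ : ∀ v : ι → F, q (σ ∘ v) = σ (q v)) {g P : GL ι F} (hg : Cfsg.IsSemisimilarityPair (⇑q) g 1)
    {q' : QuadraticForm K (ι → K)} {t : Fˣ} {b : F} [Nonempty ι]
    (h : Descended q σ K g q' P t b) :
    ∃ (r : GL ι F) (w : ι → F), q w ≠ 0 ∧ (r : Matrix ι ι F) = Cfsg.reflectionMatrix (⇑q) w ∧
      g * mapGL σ r = r * g := by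
  obtain ⟨u, hu⟩ : ∃ u, q' u ≠ 0 := by
    by_contra! hall
    obtain ⟨i⟩ := ‹Nonempty ι›
    have := h.nondeg.1 (Pi.single i 1) fun y => by simp [polar, hall]
    exact one_ne_zero ((Pi.single_eq_same (M := fun _ => K) i 1).symm.trans (congrFun this i))
  obtain ⟨w, hw⟩ : ∃ w, w = mv P (incK K u) := ⟨_, rfl⟩
  have hqw : q w ≠ 0 := by
    rw [hw, h.val]
    exact mul_ne_zero h.b_ne fun e => hu (Subtype.ext e)
  obtain ⟨r', hr', -⟩ := Cfsg.Agent.Orth.exists_reflection q hqw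
  refine ⟨(r' : GL ι F), w, hqw, hr', ?_⟩
  obtain ⟨μ, hμ⟩ := hg
  have hfw : sm g σ w = (t : F) • w := by
    rw [sm, hw, ← mv_mapGL, ← mv_mul, h.fix, mv_mul, scal_mv,
      show (σ : F → F) ∘ incK K u = incK K u from funext fun i => (hK _).1 (u i).2]
  have hqf : ∀ y, q (sm g σ y) = (μ : F) * σ (q y) := fun y => by rw [← hqσ]; exact hμ _
  have hpf : ∀ x y, polar q (sm g σ x) (sm g σ y) = (μ : F) * σ (polar q x y) := fun x y => by
    simp only [polar, ← sm_add, hqf, map_sub]; ring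
  have hr : ∀ x, mv (r' : GL ι F) x = x - (polar q x w / q w) • w := fun x => by
    show ((r' : GL ι F) : Matrix ι ι F) *ᵥ x = _
    rw [hr', Cfsg.Agent.Orth.reflectionMatrix_mulVec]
  refine Cfsg.Agent.Transvec.ext_mv fun z => ?_
  obtain ⟨y, rfl⟩ : ∃ y : ι → F, (σ : F → F) ∘ y = z :=
    ⟨σ.symm ∘ z, funext fun i => σ.apply_symm_apply _⟩
  rw [mv_mul, mv_mul, mv_mapGL]
  show sm g σ (mv (r' : GL ι F) y) = mv (r' : GL ι F) (sm g σ y)
  rw [hr, hr, sub_eq_add_neg, sm_add, ← neg_smul, sm_smul, map_neg, neg_smul, ← sub_eq_add_neg, hfw, smul_smul]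
  congr 2
  have e1 := hpf y w
  have e2 := hqf w
  rw [hfw, polar_smul_right, smul_eq_mul] at e1
  rw [hfw, QuadraticMap.map_smul, smul_eq_mul] at e2
  have h1 : σ (q w) ≠ 0 := (map_ne_zero σ).2 hqw
  rw [map_div₀, div_mul_eq_mul_div, div_eq_div_iff h1 hqw]
  refine mul_left_cancel₀ (mul_ne_zero t.ne_zero μ.ne_zero) ?_
  linear_combination (t : F) * σ (polar q y w) * (μ : F) * 0 - (t : F) * σ (q w) * (μ : F) * 0 +
    σ (polar q y w) * (μ : F) * e2 - (μ : F) * σ (q w) * e1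

section Field

variable [Fintype F] {σ : F ≃+* F}

/-- The degree of the fixed field. -/
theorem finrank_fixed (hK : ∀ a, a ∈ K ↔ σ a = a) : Module.finrank K F = orderOf σ := by
  obtain ⟨K', hK', hcard⟩ := AutPSL.exists_fixed_field σ
  obtain rfl : K = K' := SetLike.ext fun a => (hK a).trans (hK' a).symm
  haveI : Finite K := Subtype.finite
  haveI : Module.Finite K F := Module.Finite.of_finite
  have h := Module.natCard_eq_pow_finrank (K := K) (V := F)
  rw [Nat.card_eq_fintype_card, hcard] at h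
  exact (Nat.pow_right_injective Finite.one_lt_card h).symm

/-- A field automorphism fixing an anisotropic binary form has odd order. -/
theorem odd_of_fixed {a b : F} (hab : ∀ z₁ z₂ : F, z₁ ^ 2 + a * z₁ * z₂ + b * z₂ ^ 2 = 0 → z₁ = 0 ∧ z₂ = 0)
    (ha : σ a = a) (hb : σ b = b) : Odd (orderOf σ) := by
  obtain ⟨K, hK, -⟩ := AutPSL.exists_fixed_field σ
  haveI : Finite K := Subtype.finite
  rcases Nat.even_or_odd (orderOf σ) with he | ho
  · exfalso
    obtain ⟨z, hz⟩ := exists_root_ext (F := K) (K := F) (a := ⟨a, (hK a).2 ha⟩) (b := ⟨b, (hK b).2 hb⟩)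
      (fun z₁ z₂ h => by
        have := congrArg Subtype.val h
        push_cast at this
        obtain ⟨h1, h2⟩ := hab _ _ this
        exact ⟨Subtype.ext h1, Subtype.ext h2⟩)
      (by rw [finrank_fixed hK]; exact he.two_dvd)
    refine one_ne_zero (hab z 1 ?_).2
    change z ^ 2 + a * z + b = 0 at hz
    linear_combination hz
  · exact ho

end Field

end Cfsg.Agent.AutPOmega
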