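import Cfsg.Agent.Lib.AutPOmega.Odd
import Cfsg.Agent.Lib.AutPSL.Centralizer

/-!
Centralisers and split classes of the field automorphisms of the odd-dimensional orthogonal groups.
-/

set_option autoImplicit false

namespace Cfsg.Agent.AutPOmega

open Matrix Cfsg.Agent.Transvec Cfsg.Agent.Transvec.Orth
open Cfsg.Agent.Orth (SpinVal SqCls sqc)

variable {m : ℕ} {F : Type*} [Field F] {F₀ : Type*} [Field F₀]

local notation "Iv" => Unit ⊕ (Fin m ⊕ Fin m)
local notation "Qo" => Cfsg.quadFormOdd m F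
local notation "Q₀" => Cfsg.quadFormOdd m F₀
local notation "SOg" => Cfsg.specialIsometryGL F (Cfsg.quadFormOdd m F)
local notation "SO₀" => Cfsg.specialIsometryGL F₀ (Cfsg.quadFormOdd m F₀)
local notation "POm" => Cfsg.POmega F (Cfsg.quadFormOdd m F)

theorem mapSO_one (h : SOg) : mapSO 1 h = h := Subtype.ext (mapGL_one _)

theorem isoPol (φ : F₀ →+* F) (x y : Iv → F₀) :
    QuadraticMap.polar Qo (fun i => φ (x i)) (fun i => φ (y i)) = φ (QuadraticMap.polar Q₀ x y) := by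
  simp only [QuadraticMap.polar, map_sub, ← quad_map, Pi.add_apply, map_add]
  rfl

theorem reflectionMatrix_map (φ : F₀ →+* F) (v : Iv → F₀) :
    Cfsg.reflectionMatrix Qo (fun i => φ (v i)) = (Cfsg.reflectionMatrix Q₀ v).map φ := by
  have hone : ∀ j : Iv, (Pi.single j (1 : F) : Iv → F) = fun i => φ ((Pi.single j 1 : Iv → F₀) i) :=
    fun j => funext fun i => by rcases eq_or_ne i j with rfl | h <;> simp [*]
  ext i j
  simp only [Cfsg.reflectionMatrix, Matrix.sub_apply, Matrix.smul_apply, Matrix.vecMulVec_apply,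
    Cfsg.polarVec, Matrix.map_apply, quad_map, hone, isoPol, map_sub, map_mul, map_inv₀, smul_eq_mul]
  rcases eq_or_ne i j with rfl | h <;> simp [*]

section BaseChange

variable [Fintype F] (h2 : (2 : F) ≠ 0) (φ : F₀ →+* F)
include h2

theorem map_isometry {g : GL Iv F₀} (hg : g ∈ Cfsg.isometryGroup F₀ Q₀) :
    Matrix.GeneralLinearGroup.map φ g ∈ Cfsg.isometryGroup F Qo := by
  obtain ⟨M, hM⟩ : ∃ M : Matrix Iv Iv F, M = (g : Matrix Iv Iv F₀).map φ := ⟨_, rfl⟩
  have hone : ∀ j : Iv, (Pi.single j (1 : F) : Iv → F) = fun i => φ ((Pi.single j 1 : Iv → F₀) i) :=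
    fun j => funext fun i => by rcases eq_or_ne i j with rfl | h <;> simp [*]
  have hmv : ∀ u : Iv → F₀, M *ᵥ (fun i => φ (u i)) = fun i => φ (((g : Matrix Iv Iv F₀) *ᵥ u) i) :=
    fun u => hM ▸ funext fun i => (RingHom.map_mulVec φ (g : Matrix Iv Iv F₀) u i).symm
  have hcomp : (QuadraticMap.polarBilin (Cfsg.Agent.Orth.qOdd F m)).compl₁₂ (Matrix.toLin' M)
      (Matrix.toLin' M) = QuadraticMap.polarBilin (Cfsg.Agent.Orth.qOdd F m) := by
    refine LinearMap.ext_basis (Pi.basisFun F Iv) (Pi.basisFun F Iv) fun i j => ?_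
    simp only [Pi.basisFun_apply, LinearMap.compl₁₂_apply, Matrix.toLin'_apply,
      QuadraticMap.polarBilin_apply_apply, Cfsg.Agent.Orth.coe_qOdd, hone, hmv, isoPol]
    refine congrArg φ ?_
    have hiso : ∀ v, Q₀ ((g : Matrix Iv Iv F₀) *ᵥ v) = Q₀ v := fun v => mem_isometry.1 hg v
    simp only [QuadraticMap.polar, ← Matrix.mulVec_add, hiso]
  refine mem_isometry.2 fun z => mul_left_cancel₀ h2 ?_
  rw [← pol_self (geo_odd h2 m), ← pol_self (geo_odd h2 m)]
  have e := LinearMap.congr_fun (LinearMap.congr_fun hcomp z) z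
  simp only [LinearMap.compl₁₂_apply, Matrix.toLin'_apply, QuadraticMap.polarBilin_apply_apply,
    Cfsg.Agent.Orth.coe_qOdd] at e
  rw [hM] at e
  exact e

/-- Base change of the special orthogonal group. -/
def baseSO : SO₀ →* SOg :=
  ((Matrix.GeneralLinearGroup.map φ).comp (Subgroup.subtype SO₀)).codRestrict _ fun g => mem_so
    (map_isometry h2 φ g.2.1)
    (Units.ext (by
      show (((g : GL Iv F₀) : Matrix Iv Iv F₀).map φ).det = 1
      rw [show (((g : GL Iv F₀) : Matrix Iv Iv F₀).map φ).det = φ ((g : GL Iv F₀) : Matrix Iv Iv F₀).det from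
        (RingHom.map_det φ _).symm,
        show ((g : GL Iv F₀) : Matrix Iv Iv F₀).det = 1 from congrArg Units.val (so_det g), map_one]))

theorem baseSO_coe (g : SO₀) :
    ((baseSO h2 φ g : GL Iv F) : Matrix Iv Iv F) = ((g : GL Iv F₀) : Matrix Iv Iv F₀).map φ := rfl

theorem baseSO_injective : Function.Injective (baseSO h2 φ : SO₀ →* SOg) := fun a b e => by
  refine Subtype.ext (Units.ext (Matrix.ext fun i j => φ.injective ?_))
  exact congrArg (fun u : SOg => ((u : GL Iv F) : Matrix Iv Iv F) i j) e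

omit [Fintype F] h2 in
theorem baseSO_descend [Fintype F] (h2 : (2 : F) ≠ 0) {h : SOg}
    (hh : ∀ i j, ((h : GL Iv F) : Matrix Iv Iv F) i j ∈ φ.range) : ∃ g : SO₀, baseSO h2 φ g = h := by
  choose A hA using hh
  obtain ⟨M, hM⟩ : ∃ M : Matrix Iv Iv F₀, M = Matrix.of A := ⟨_, rfl⟩
  have hmap : M.map φ = ((h : GL Iv F) : Matrix Iv Iv F) := hM ▸ Matrix.ext hA
  have hdet : M.det = 1 := φ.injective (by
    rw [RingHom.map_det, RingHom.mapMatrix_apply, hmap, map_one]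
    exact congrArg Units.val (so_det h))
  have hu : IsUnit M := (Matrix.isUnit_iff_isUnit_det M).2 (by rw [hdet]; exact isUnit_one)
  have hiso : hu.unit ∈ Cfsg.isometryGroup F₀ Q₀ := mem_isometry.2 fun z => φ.injective (by
    rw [← quad_map, ← quad_map]
    have e : (fun i => φ (mv hu.unit z i)) = mv (h : GL Iv F) (fun i => φ (z i)) := by
      funext i
      show φ ((M *ᵥ z) i) = (((h : GL Iv F) : Matrix Iv Iv F) *ᵥ fun i => φ (z i)) i
      rw [← hmap]
      exact RingHom.map_mulVec φ M z i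
    rw [e]
    exact mem_isometry.1 (so_le h.2) _)
  refine ⟨⟨hu.unit, mem_so hiso (Units.ext hdet)⟩, Subtype.ext (Units.ext ?_)⟩
  exact hmap

variable (hm : 3 ≤ m) {σ : F ≃+* F} (hφ : ∀ a, a ∈ φ.range ↔ σ a = a)
include hm

omit φ in
theorem commute_iff (h : SOg) (σ : F ≃+* F) :
    Commute (conjHom SOg so_le h) (sa 1 σ) ↔ mapSO σ h = h := by
  rw [Commute, SemiconjBy, conjSO_apply, sa_mul, sa_mul, map_one, mul_one, one_mul, mul_one, one_mul]
  exact ⟨fun e => (sa_inj h2 hm e).1.symm, fun e => by rw [e]⟩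

include hφ

theorem fixed_iff_range (h : SOg) : mapSO σ h = h ↔ ∃ g : SO₀, baseSO h2 φ g = h := by
  constructor
  · intro e
    exact baseSO_descend φ h2 fun i j =>
      (hφ _).2 (congrArg (fun u : SOg => ((u : GL Iv F) : Matrix Iv Iv F) i j) e)
  · rintro ⟨g, rfl⟩
    exact Subtype.ext (Units.ext (Matrix.ext fun i j => (hφ _).1 ⟨_, rfl⟩))

/-- The centraliser of a field automorphism is the group over the fixed field. -/
theorem centralizer_field [Fintype F₀] :
    Nonempty (↥(Cfsg.inndiagPOmegaOdd m F ⊓ Subgroup.centralizer {(sa 1 σ : MulAut POm)}) ≃*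
      ↥(Cfsg.inndiagPOmegaOdd m F₀)) := by
  have h20 : (2 : F₀) ≠ 0 := fun e => h2 (by rw [← map_ofNat φ, e, map_zero])
  let Θ : SO₀ →* MulAut POm := (conjHom SOg so_le).comp (baseSO h2 φ)
  have hinj : Function.Injective Θ := (conjSO_injective h2 hm).comp (baseSO_injective h2 φ)
  have hrange : Θ.range = Cfsg.inndiagPOmegaOdd m F ⊓ Subgroup.centralizer {(sa 1 σ : MulAut POm)} := by
    rw [← range_conjSO h2 hm]
    apply le_antisymm
    · rintro _ ⟨g, rfl⟩
      exact ⟨⟨_, rfl⟩, Subgroup.mem_centralizer_singleton_iff.2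
        ((commute_iff h2 hm _ σ).2 ((fixed_iff_range h2 φ hm hφ _).2 ⟨g, rfl⟩)).eq⟩
    · rintro _ ⟨⟨h, rfl⟩, hc⟩
      obtain ⟨g, rfl⟩ := (fixed_iff_range h2 φ hm hφ h).1
        ((commute_iff h2 hm h σ).1 (Subgroup.mem_centralizer_singleton_iff.1 hc))
      exact ⟨g, rfl⟩
  exact ⟨(MulEquiv.subgroupCongr hrange.symm).trans ((MonoidHom.ofInjective hinj).symm.trans
    ((MonoidHom.ofInjective (conjSO_injective h20 hm)).trans
      (MulEquiv.subgroupCongr (range_conjSO h20 hm))))⟩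

/-- Square classes of the elements over the fixed field. -/
theorem base_value [Fintype F₀] (D : SOg →* SqCls F)
    (hin : ∀ h : SOg, D h = 1 ↔ conjHom SOg so_le h ∈ Cfsg.Inn POm)
    (hD : ∀ (h : SOg) (r₁ r₂ : Cfsg.isometryGroup F Qo) (v₁ v₂ : Iv → F), Qo v₁ ≠ 0 → Qo v₂ ≠ 0 →
      ((r₁ : GL Iv F) : Matrix Iv Iv F) = Cfsg.reflectionMatrix Qo v₁ →
      ((r₂ : GL Iv F) : Matrix Iv Iv F) = Cfsg.reflectionMatrix Qo v₂ →
      (h : GL Iv F) = (r₁ : GL Iv F) * (r₂ : GL Iv F) → D h = sqc F (Qo v₁) * sqc F (Qo v₂)) :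
    ∀ c : F₀ˣ, ∃ g : SO₀, D (baseSO h2 φ g) = sqc F (φ (c : F₀)) ∧
      ((∀ a : F₀, IsSquare (φ a)) → ∀ g' : SO₀, D (baseSO h2 φ g') = 1) := by
  intro c
  have h20 : (2 : F₀) ≠ 0 := fun e => h2 (by rw [← map_ofNat φ, e, map_zero])
  obtain ⟨D₀, hin₀, hD₀, -⟩ := exists_char h20 hm (m := m)
  have hval : ∀ c : F₀ˣ, ∃ g : SO₀, D₀ g = sqc F₀ (c : F₀) ∧ D (baseSO h2 φ g) = sqc F (φ (c : F₀)) := by
    intro c
    obtain ⟨j, -⟩ : ∃ j : Fin m, True := ⟨⟨0, by omega⟩, trivial⟩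
    obtain ⟨g, hg, hgm⟩ := exists_so_value h20 hm c hD₀ j
    obtain ⟨h, hh, hhm⟩ := exists_so_value h2 hm (Units.map φ.toMonoidHom c) hD j
    refine ⟨g, hg, ?_⟩
    have e : baseSO h2 φ g = h := by
      refine Subtype.ext (Units.ext ?_)
      rw [baseSO_coe, hgm, hhm, Matrix.map_mul, ← reflectionMatrix_map, ← reflectionMatrix_map]
      congr 1 <;> congr 1 <;> funext i
      · rcases eq_or_ne i (Sum.inl ()) with rfl | h' <;> simp [*]
      · simp only [Pi.add_apply, map_add]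
        congr 1
        · rcases eq_or_ne i (Sum.inr (Sum.inl j)) with rfl | h' <;> simp [*]
        · rcases eq_or_ne i (Sum.inr (Sum.inr j)) with rfl | h' <;> simp [*]
    rw [e]
    exact hh
  obtain ⟨g, -, hg⟩ := hval c
  refine ⟨g, hg, fun hsq g' => ?_⟩
  -- every class over the fixed field becomes trivial
  obtain ⟨u, hu⟩ := QuotientGroup.mk_surjective (D₀ g')
  obtain ⟨g₁, hg₁, hg₁'⟩ := hval u
  obtain ⟨x, hx⟩ : D₀ (g' * g₁⁻¹) = 1 ∧ True := by
    rw [map_mul, map_inv, hg₁, Cfsg.Agent.Orth.sqc_unit, hu, mul_inv_cancel]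
    exact ⟨rfl, trivial⟩
  obtain ⟨χ, hker, -, -⟩ := exists_chi h2 hm
  obtain ⟨y, hy⟩ := (hin₀ _).1 x
  obtain ⟨A, -, eA⟩ := inn_eq y
  rw [eA, conjSO_apply] at hy
  have hA : (gl A : GL Iv F₀) = ((g' * g₁⁻¹ : SO₀) : GL Iv F₀) := by
    obtain ⟨-, a, ha⟩ := semi_eq_semi (geo_odd h20 m) (card_iv7 h20 hm) _ _ hy
    have hAd : gl A ∈ SO₀ := by
      obtain ⟨χ₀, hk₀, hd₀, -⟩ := exists_chi h20 hm
      refine mem_so (A : Cfsg.isometryGroup F₀ Q₀).2 (Units.ext ?_)
      have e := hd₀ A.1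
      rw [show χ₀ A.1 = 1 from hk₀.symm.le A.2] at e
      simpa [Cfsg.Agent.Orth.sgn] using e
    have hmem : scal a ∈ SO₀ := by
      have := mul_mem hAd (inv_mem (g' * g₁⁻¹).2)
      rwa [ha, mul_inv_cancel_right] at this
    rw [ha, scal_mem_so hmem, scal, map_one, one_mul]
  let ψ : Cfsg.isometryGroup F₀ Q₀ →* Cfsg.isometryGroup F Qo :=
    ((Matrix.GeneralLinearGroup.map φ).comp (Cfsg.isometryGroup F₀ Q₀).subtype).codRestrict _ fun g =>
      map_isometry h2 φ g.2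
  have hψ : ψ A.1 ∈ Cfsg.Omega F Qo := by
    have hle : (commutator (Cfsg.isometryGroup F₀ Q₀)).map ψ ≤ commutator (Cfsg.isometryGroup F Qo) := by
      rw [commutator, Subgroup.map_commutator]
      exact Subgroup.commutator_mono le_top le_top
    exact hle (Subgroup.mem_map_of_mem _ A.2)
  have h1 : D (baseSO h2 φ (g' * g₁⁻¹)) = 1 := by
    refine (hin _).2 ⟨QuotientGroup.mk' _ ⟨_, hψ⟩, ?_⟩
    rw [inner_eq_semi, conjSO_apply]
    refine semi_congr _ _ ?_ rfl
    show Matrix.GeneralLinearGroup.map φ (gl A) = Matrix.GeneralLinearGroup.map φ _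
    rw [hA]
    rfl
  rw [map_mul, map_inv, map_mul, map_inv, hg₁', (Cfsg.Agent.Orth.sqc_eq_one_iff
    ((map_ne_zero φ).2 u.ne_zero)).2 (hsq _), inv_one, mul_one] at h1
  exact h1

end BaseChange

section Classes

variable [Fintype F] (h2 : (2 : F) ≠ 0) (hm : 3 ≤ m)
include h2 hm

theorem sa_one_one : (sa 1 1 : MulAut POm) = 1 := semi_one' _

theorem orderOf_sa_one (σ : F ≃+* F) : orderOf (sa 1 σ : MulAut POm) = orderOf σ := by
  let Φ : (F ≃+* F) →* MulAut POm := MonoidHom.mk' (fun τ => sa 1 τ) fun τ τ' => by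
    rw [sa_mul, map_one, one_mul]
  exact orderOf_injective Φ (fun a b e => (sa_inj h2 hm e).2) σ

/-- A field automorphism is conjugate to a standard one by an inner-diagonal element. -/
theorem exists_conj_field {x : MulAut POm} (hx : Cfsg.IsFieldAutClassPOmega Qo x) :
    ∃ (σ : F ≃+* F) (P : SOg), σ ≠ 1 ∧ orderOf x = orderOf σ ∧
      x = sa P 1 * sa 1 σ * (sa P 1)⁻¹ := by
  obtain ⟨α, _, σ, hσ, hφ, rfl⟩ := hx
  have e0 : α * x * α⁻¹ = sa 1 σ := by
    refine semi_eq_of_induced (semi_so 1 σ) ?_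
    intro s s' hs
    refine hφ s s' ?_
    simpa using hs
  obtain ⟨h, τ, rfl⟩ := exists_sa h2 hm α
  obtain ⟨h', hh'⟩ : ∃ h', h' = mapSO τ⁻¹ h := ⟨_, rfl⟩
  have hsplit : (sa h τ : MulAut POm) = sa 1 τ * sa h' 1 := by
    rw [sa_mul, one_mul, mul_one, hh']
    congr 1
    refine Subtype.ext ?_
    rw [mapSO_coe, mapSO_coe, ← mapGL_comp, mul_inv_cancel, mapGL_one]
  have hcomm : (sa 1 τ : MulAut POm) * sa 1 σ = sa 1 σ * sa 1 τ := by
    rw [sa_mul, sa_mul, map_one, map_one, one_mul, AutPSL.ringAut_comm τ σ]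
  have hP : (sa h'⁻¹ 1 : MulAut POm) = (sa h' 1)⁻¹ := by
    rw [← conjSO_apply, ← conjSO_apply, map_inv]
  have hx' : x = sa h'⁻¹ 1 * sa 1 σ * (sa h'⁻¹ 1)⁻¹ := by
    have e1 : x = (sa h τ)⁻¹ * sa 1 σ * sa h τ := by rw [← e0]; group
    rw [e1, hsplit, hP, inv_inv, _root_.mul_inv_rev]
    calc (sa h' 1)⁻¹ * (sa 1 τ)⁻¹ * sa 1 σ * (sa 1 τ * sa h' 1)
        = (sa h' 1)⁻¹ * (sa 1 τ)⁻¹ * (sa 1 σ * sa 1 τ) * sa h' 1 := by group
      _ = (sa h' 1)⁻¹ * (sa 1 τ)⁻¹ * (sa 1 τ * sa 1 σ) * sa h' 1 := by rw [hcomm]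
      _ = _ := by group
  refine ⟨σ, h'⁻¹, hσ, ?_, hx'⟩
  have e2 : x = MulAut.conj (sa h'⁻¹ 1) (sa 1 σ) := hx'
  rw [e2, MulEquiv.orderOf_eq, orderOf_sa_one h2 hm]

theorem split_field {σ : F ≃+* F} [Fintype F₀] (φ : F₀ →+* F)
    (hφ : ∀ a, a ∈ φ.range ↔ σ a = a) (hcard : Fintype.card F = Fintype.card F₀ ^ orderOf σ) :
    (Odd (orderOf σ) → Cfsg.splitClassCount (Cfsg.inndiagPOmegaOdd m F) (Cfsg.Inn POm) (sa 1 σ) = 1) ∧
    (orderOf σ = 2 → Cfsg.splitClassCount (Cfsg.inndiagPOmegaOdd m F) (Cfsg.Inn POm) (sa 1 σ) = 2) := by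
  classical
  obtain ⟨D, hin, hD, hle⟩ := exists_char h2 hm
  have hcard2 : Nat.card (SqCls F) = 2 := Cfsg.Agent.Orth.card_sqCls_le.2.1 h2
  have hcomm : ∀ h : SOg, Commute (conjHom SOg so_le h) (sa 1 σ) ↔ ∃ g : SO₀, baseSO h2 φ g = h :=
    fun h => (commute_iff h2 hm h σ).trans (fixed_iff_range h2 φ hm hφ h)
  rw [← range_conjSO h2 hm]
  constructor
  · intro hodd
    have h20 : (2 : F₀) ≠ 0 := fun e => h2 (by rw [← map_ofNat φ, e, map_zero])
    obtain ⟨c, hc⟩ : ∃ c : F₀, ¬ IsSquare c :=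
      FiniteField.exists_nonsquare (fun h => h20 (by
        haveI := ringChar.of_eq h; exact CharTwo.two_eq_zero))
    have hc0 : c ≠ 0 := fun e => hc (e ▸ IsSquare.zero)
    have hnsq : ¬ IsSquare (φ c) := by
      rintro ⟨t, ht⟩
      have ht2 : σ t * σ t = t * t := by rw [← map_mul, ← ht]; exact (hφ _).1 ⟨c, rfl⟩
      rcases mul_self_eq_mul_self_iff.1 ht2 with e | e
      · obtain ⟨b, rfl⟩ := (hφ t).2 e
        exact hc ⟨b, φ.injective (by rw [ht, map_mul])⟩
      · have hk : ∀ k : ℕ, (σ ^ k) t = (-1) ^ k * t := fun k => by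
          induction k with
          | zero => simp
          | succ k ih => rw [pow_succ', RingAut.mul_apply, ih, map_mul, map_pow, map_neg, map_one, e]; ring
        have h1 := hk (orderOf σ)
        rw [pow_orderOf_eq_one, hodd.neg_one_pow, RingAut.one_apply] at h1
        have ht0 : t = 0 := mul_left_cancel₀ h2 (by linear_combination h1)
        exact hc0 (φ.injective (by rw [ht, ht0, mul_zero, map_zero]))
    obtain ⟨g, hg, -⟩ := base_value h2 φ hm hφ D hin hD (Units.mk0 c hc0)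
    have hg1 : D (baseSO h2 φ g) ≠ 1 := by
      rw [hg, Units.val_mk0, ne_eq, Cfsg.Agent.Orth.sqc_eq_one_iff ((map_ne_zero φ).2 hc0)]
      exact hnsq
    rw [AutPSL.splitClassCount_eq (conjHom SOg so_le) (Cfsg.Inn POm) hle (sa 1 σ)
      (1 : SOg →* PUnit.{1}) (fun _ => ⟨1, rfl⟩) fun h => iff_of_true rfl ?_]
    · exact Nat.card_unique
    by_cases hh : D h = 1
    · exact ⟨h, 1, (hin h).1 hh, by rw [map_one]; exact Commute.one_left _, (mul_one h).symm⟩
    · refine ⟨h * (baseSO h2 φ g)⁻¹, baseSO h2 φ g, (hin _).1 ?_, (hcomm _).2 ⟨g, rfl⟩,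
        (inv_mul_cancel_right _ _).symm⟩
      rw [map_mul, map_inv, mul_inv_eq_one]
      exact eq_of_card_two hcard2 (iff_of_false hh hg1)
  · intro h2r
    have hsq : ∀ a : F₀, IsSquare (φ a) := by
      intro a
      rcases eq_or_ne a 0 with rfl | ha
      · rw [map_zero]; exact IsSquare.zero
      have hch : ringChar F ≠ 2 := fun h => h2 (by
        haveI := ringChar.of_eq h; exact CharTwo.two_eq_zero)
      rw [FiniteField.isSquare_iff hch ((map_ne_zero φ).2 ha), ← map_pow]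
      have h20 : (2 : F₀) ≠ 0 := fun e => h2 (by rw [← map_ofNat φ, e, map_zero])
      have hodd₀ : Odd (Fintype.card F₀) := Nat.odd_iff.2 (FiniteField.odd_card_of_char_ne_two fun h => h20 (by
        haveI := ringChar.of_eq h; exact CharTwo.two_eq_zero))
      obtain ⟨k, hk⟩ := hodd₀
      have he : Fintype.card F / 2 = (Fintype.card F₀ - 1) * (k + 1) := by
        rw [hcard, h2r, hk]
        have : (2 * k + 1) ^ 2 = 2 * (2 * k * (k + 1)) + 1 := by ring
        rw [this, Nat.add_sub_cancel]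
        omega
      rw [he, pow_mul, FiniteField.pow_card_sub_one_eq_one a ha, one_pow, map_one]
    have hsurj : Function.Surjective D := fun y => by
      obtain ⟨c, rfl⟩ := QuotientGroup.mk_surjective y
      obtain ⟨h, hh, -⟩ := exists_so_value h2 hm c hD ⟨0, by omega⟩
      exact ⟨h, hh.trans (Cfsg.Agent.Orth.sqc_unit c)⟩
    rw [AutPSL.splitClassCount_eq (Q := SqCls F) (conjHom SOg so_le) (Cfsg.Inn POm) hle (sa 1 σ) D hsurj
      fun h => ?_, hcard2]
    constructor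
    · intro hh
      exact ⟨h, 1, (hin h).1 hh, by rw [map_one]; exact Commute.one_left _, (mul_one h).symm⟩
    · rintro ⟨s, c, hs, hc, rfl⟩
      obtain ⟨g, rfl⟩ := (hcomm c).1 hc
      obtain ⟨-, -, hall⟩ := base_value h2 φ hm hφ D hin hD 1
      rw [map_mul, (hin s).2 hs, hall hsq g, one_mul]

end Classes

end Cfsg.Agent.AutPOmega
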