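import Cfsg.Agent.Lib.AutPOmega.MinusTwo
import Cfsg.Agent.Lib.AutPSL.Centralizer
import Cfsg.Agent.Lib.AutPSL.Descent

/-!
Descent of similarities: a semisimilarity of twisted norm a scalar comes from a quadratic form over the
fixed field.
-/

set_option autoImplicit false

namespace Cfsg.Agent.AutPOmega

open Matrix Cfsg.Agent.Transvec Cfsg.Agent.Transvec.Orth

variable {ι : Type} [Fintype ι] [DecidableEq ι] {F : Type*} [Field F]

/-- The twisted product `g τ(g) ⋯ τ^(k-1)(g)`. -/
def tw (τ : F ≃+* F) (g : GL ι F) : ℕ → GL ι F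
  | 0 => 1
  | k + 1 => g * mapGL τ (tw τ g k)

section

variable [Finite F] {Q : (ι → F) → F}

theorem semi_pow {g : GL ι F} {τ : F ≃+* F} (hg : Cfsg.IsSemisimilarityPair Q g τ) (k : ℕ) :
    ∃ hG : Cfsg.IsSemisimilarityPair Q (tw τ g k) (τ ^ k),
      semi g τ hg ^ k = semi (tw τ g k) (τ ^ k) hG := by
  induction k with
  | zero =>
    refine ⟨⟨1, fun v => by simp [tw]⟩, ?_⟩
    rw [pow_zero]
    exact ((semi_congr _ ⟨1, fun v => by simp⟩ rfl (pow_zero τ)).trans (semi_one' _)).symm
  | succ k ih =>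
    obtain ⟨hG, e⟩ := ih
    refine ⟨by rw [tw, pow_succ']; exact isPair_comp hg hG, ?_⟩
    rw [pow_succ', e, semi_mul]
    exact semi_congr _ _ rfl (pow_succ' τ k).symm

/-- An element of the coset of order `orderOf τ` has scalar twisted norm. -/
theorem tw_scalar (hQ : Geo.IsNondegenerateQuadraticForm Q) (h7 : 7 ≤ Fintype.card ι) {g : GL ι F}
    {τ : F ≃+* F} (hg : Cfsg.IsSemisimilarityPair Q g τ) (h : semi g τ hg ^ orderOf τ = 1) :
    ∃ a : Fˣ, tw τ g (orderOf τ) = scal a := by
  obtain ⟨p, hp⟩ := CharP.exists F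
  haveI : Fact p.Prime := ⟨CharP.char_is_prime F p⟩
  obtain ⟨hG, e⟩ := semi_pow hg (orderOf τ)
  obtain ⟨-, a, ha0, ha⟩ := semi_eq_one_imp hQ h7 p hG (e.symm.trans h)
  exact ⟨Units.mk0 a ha0, eq_scal ha⟩

end

/-- Descent up to scalars. -/
theorem exists_descent_scal [Fintype F] [Nonempty ι] (σ : F ≃+* F) (g : GL ι F) {c : Fˣ}
    (h : tw σ g (orderOf σ) = scal c) :
    ∃ (P : GL ι F) (t : Fˣ), g * mapGL σ P = scal t * P := by
  let e := Fintype.equivFin ι
  let E : GL ι F ≃* GL (Fin (Fintype.card ι)) F :=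
    Units.mapEquiv (Matrix.reindexAlgEquiv F F e).toMulEquiv
  have hmap : ∀ (τ : F ≃+* F) (u : GL ι F), E (mapGL τ u) = AutPSL.mapGL τ (E u) := fun τ u =>
    Units.ext rfl
  have hscal : ∀ a : Fˣ, E (scal a) = Matrix.GeneralLinearGroup.scalar _ a := fun a =>
    Units.ext (Matrix.ext fun i j => by
      show (scal a : GL ι F).1 (e.symm i) (e.symm j) = Matrix.scalar _ (a : F) i j
      rcases eq_or_ne i j with rfl | hij
      · simp [scal]
      · simp [scal, Matrix.scalar_apply, hij, e.symm.injective.ne hij])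
  have htw : ∀ k, E (tw σ g k) = AutPSL.twist σ (E g) k := by
    intro k
    induction k with
    | zero => exact map_one E
    | succ k ih => rw [tw, AutPSL.twist, map_mul, hmap, ih]
  obtain ⟨P', t, hP⟩ := AutPSL.exists_descent_scalar σ Fintype.card_pos (E g) c
    (by rw [← htw, h, hscal])
  obtain ⟨P, rfl⟩ := E.surjective P'
  refine ⟨P, t, E.injective ?_⟩
  rw [map_mul, map_mul, hmap, hscal, hP, inv_mul_cancel_right]

variable {K : Subfield F}

/-- Vectors over a subfield. -/
def incK (K : Subfield F) : (ι → K) →ₗ[K] (ι → F) where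
  toFun u i := (u i : F)
  map_add' u v := funext fun i => rfl
  map_smul' c u := funext fun i => rfl

theorem incK_apply (u : ι → K) (i : ι) : incK K u i = (u i : F) := rfl

theorem incK_single (i : ι) : incK K (Pi.single i 1) = Pi.single i (1 : F) := funext fun j => by
  rcases eq_or_ne j i with rfl | h <;> simp [incK_apply, *]

/-- Quadratic forms that agree on the vectors over a subfield are equal. -/
theorem quad_ext_sub {q₁ q₂ : QuadraticForm F (ι → F)} (h : ∀ u : ι → K, q₁ (incK K u) = q₂ (incK K u)) :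
    q₁ = q₂ := by
  have hp : QuadraticMap.polarBilin q₁ = QuadraticMap.polarBilin q₂ :=
    LinearMap.ext_basis (Pi.basisFun F ι) (Pi.basisFun F ι) fun i j => by
      simp only [Pi.basisFun_apply, QuadraticMap.polarBilin_apply_apply, QuadraticMap.polar,
        ← incK_single (K := K), ← map_add, h]
  have hadd : ∀ (q : QuadraticForm F (ι → F)) (x y : ι → F),
      q (x + y) = q x + q y + QuadraticMap.polarBilin q x y := fun q x y => by
    simp [QuadraticMap.polar]
  refine QuadraticMap.ext fun v => ?_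
  rw [pi_eq_sum_univ' v]
  refine Finset.induction_on (motive := fun s => q₁ (∑ i ∈ s, v i • Pi.single i 1) =
    q₂ (∑ i ∈ s, v i • Pi.single i 1)) (Finset.univ : Finset ι) (by simp) fun i s hi ih => ?_
  rw [Finset.sum_insert hi, hadd, hadd, ih, hp, QuadraticMap.map_smul, QuadraticMap.map_smul,
    ← incK_single (K := K), h]

/-- The descended form. -/
theorem exists_form_descent {σ : F ≃+* F} (hK : ∀ a, a ∈ K ↔ σ a = a) {q : QuadraticForm F (ι → F)}
    (hq : (QuadraticMap.polarBilin q).Nondegenerate) (hqσ : ∀ v : ι → F, q (σ ∘ v) = σ (q v))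
    {g P : GL ι F} {t : Fˣ} {μ : F} (hμ0 : μ ≠ 0) (hg : ∀ v, q (mv g v) = μ * q v)
    (hP : g * mapGL σ P = scal t * P) :
    ∃ (b : F) (q' : QuadraticForm K (ι → K)), b ≠ 0 ∧ (QuadraticMap.polarBilin q').Nondegenerate ∧
      ∀ u, q (mv P (incK K u)) = b * (q' u : F) := by
  obtain ⟨val, hval⟩ : ∃ val : (ι → K) → F, ∀ u, val u = q (mv P (incK K u)) := ⟨_, fun _ => rfl⟩
  have hσ : ∀ u, μ * σ (val u) = (t : F) * t * val u := fun u => by
    rw [hval, ← hqσ, ← hg, ← mv_mapGL, show (σ : F → F) ∘ incK K u = incK K u from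
      funext fun i => (hK _).1 (u i).2, ← mv_mul, hP, mv_mul, scal_mv, QuadraticMap.map_smul, smul_eq_mul]
  obtain ⟨b, hb0, hb⟩ : ∃ b : F, b ≠ 0 ∧ ∀ u, b⁻¹ * val u ∈ K := by
    by_cases h : ∃ u, val u ≠ 0
    · obtain ⟨u₀, hu₀⟩ := h
      refine ⟨val u₀, hu₀, fun u => (hK _).2 ?_⟩
      have h0 : σ (val u₀) ≠ 0 := (map_ne_zero σ).2 hu₀
      rw [map_mul, map_inv₀, inv_mul_eq_iff_eq_mul₀ h0, ← mul_assoc, eq_comm, mul_comm (σ _), mul_assoc,
        inv_mul_eq_iff_eq_mul₀ hu₀]
      refine mul_left_cancel₀ hμ0 ?_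
      linear_combination val u * hσ u₀ - val u₀ * hσ u
    · push Not at h
      exact ⟨1, one_ne_zero, fun u => by rw [h, mul_zero]; exact zero_mem _⟩
  obtain ⟨π, hπ⟩ := (Algebra.linearMap K F).exists_leftInverse_of_injective
    (LinearMap.ker_eq_bot.2 (FaithfulSMul.algebraMap_injective K F))
  let q' : QuadraticForm K (ι → K) :=
    π.compQuadraticMap ((((b⁻¹ • q.comp (Matrix.toLin' (P : Matrix ι ι F))).restrictScalars (S := K))).comp
      (incK K))
  have hq' : ∀ u, (q' u : F) = b⁻¹ * val u := fun u => by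
    have h1 := congrArg Subtype.val (LinearMap.congr_fun hπ ⟨_, hb u⟩)
    change (π (b⁻¹ * val u) : F) = b⁻¹ * val u at h1
    show (π (b⁻¹ * q (mv P (incK K u))) : F) = _
    rw [← hval]
    exact h1
  have hval' : ∀ u, q (mv P (incK K u)) = b * (q' u : F) := fun u => by
    rw [hq', mul_inv_cancel_left₀ hb0, hval]
  refine ⟨b, q', hb0, ?_, hval'⟩
  have key : ∀ u, (∀ v, QuadraticMap.polar q' u v = 0) → u = 0 := fun u hu => by
    have hl : ∀ x, QuadraticMap.polarBilin q (mv P (incK K u)) (mv P x) = 0 := by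
      have : (QuadraticMap.polarBilin q (mv P (incK K u))).comp (Matrix.toLin' (P : Matrix ι ι F)) = 0 :=
        (Pi.basisFun F ι).ext fun j => by
          show QuadraticMap.polarBilin q (mv P (incK K u)) (mv P (Pi.basisFun F ι j)) = 0
          rw [Pi.basisFun_apply, ← incK_single (K := K), QuadraticMap.polarBilin_apply_apply,
            QuadraticMap.polar, ← mv_add, ← map_add, hval', hval', hval', ← mul_sub, ← mul_sub]
          have e := congrArg Subtype.val (hu (Pi.single j 1))
          simp only [QuadraticMap.polar, AddSubgroupClass.coe_sub, ZeroMemClass.coe_zero] at e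
          rw [e, mul_zero]
      exact fun x => LinearMap.congr_fun this x
    have h0 := hq.1 (mv P (incK K u)) fun y => by
      have := hl (mv P⁻¹ y)
      rwa [mv_mv_inv] at this
    have h1 := mv_inj P (h0.trans (mv_zero P).symm)
    exact funext fun i => Subtype.ext (congrFun h1 i)
  exact ⟨key, fun v h => key v fun u => by rw [QuadraticMap.polar_comm]; exact h u⟩

/-- If the descended form is similar to another form, so are the two forms. -/
theorem exists_sim_of_descent {σ : F ≃+* F} (hK : ∀ a, a ∈ K ↔ σ a = a) {q q₀ : QuadraticForm F (ι → F)}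
    {q' : QuadraticForm K (ι → K)} {g P : GL ι F} {t : Fˣ} {b : F}
    (hP : g * mapGL σ P = scal t * P) (hb : ∀ u, q (mv P (incK K u)) = b * (q' u : F))
    (e : (ι → K) ≃ₗ[K] (ι → K)) (c : F) (he : ∀ u, (q' (e u) : F) = c * q₀ (incK K u)) :
    ∃ N : GL ι F, g * mapGL σ N = scal t * N ∧ ∀ v, q (mv N v) = b * c * q₀ v := by
  obtain ⟨M₀, hM₀⟩ : ∃ M₀ : GL ι K, ∀ u, mv M₀ u = e u :=
    ⟨⟨LinearMap.toMatrix' (e : (ι → K) →ₗ[K] (ι → K)), LinearMap.toMatrix' (e.symm : (ι → K) →ₗ[K] (ι → K)),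
      by rw [← LinearMap.toMatrix'_comp]; simp, by rw [← LinearMap.toMatrix'_comp]; simp⟩,
     fun u => LinearMap.toMatrix'_mulVec _ u⟩
  let M : GL ι F := Matrix.GeneralLinearGroup.map K.subtype M₀
  have hMσ : mapGL σ M = M := Units.ext (Matrix.ext fun i j => (hK _).1 ((M₀ : Matrix ι ι K) i j).2)
  have hMu : ∀ u, mv M (incK K u) = incK K (e u) := fun u => funext fun i => by
    rw [incK_apply, ← hM₀]
    exact (RingHom.map_mulVec K.subtype (M₀ : Matrix ι ι K) u i).symm
  refine ⟨P * M, by rw [map_mul, hMσ, ← mul_assoc, hP, mul_assoc], fun v => ?_⟩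
  have h := quad_ext_sub (K := K) (q₁ := q.comp (Matrix.toLin' ((P * M : GL ι F) : Matrix ι ι F)))
    (q₂ := (b * c) • q₀) fun u => by
    show q (mv (P * M) (incK K u)) = (b * c) * q₀ (incK K u)
    rw [mv_mul, hMu, hb, he, mul_assoc]
  exact congrArg (fun q : QuadraticForm F (ι → F) => q v) h

end Cfsg.Agent.AutPOmega
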