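import Cfsg.Agent.Lib.Transvec.QuadGen
import Cfsg.Prelude.Def_StandardType
import Cfsg.Prelude.Def_LieTypeDatum
import Cfsg.Prelude.Def_KGroupFacts
import Mathlib.GroupTheory.Sylow

/-!
Hyperbolic pairs, transitivity by Siegel transformations and their membership in `Ω`.
-/

set_option autoImplicit false

namespace Cfsg.Agent.AutPOmega

open Matrix Cfsg.Agent.Transvec Cfsg.Agent.Transvec.Orth
open scoped commutatorElement

variable {ι : Type} [Fintype ι] [DecidableEq ι] {F : Type*} [Field F] {Q : (ι → F) → F}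

local notation "Vι" => ι → F
local notation "Om" => Cfsg.Omega F Q

/-- The matrix of an element of `Ω`. -/
abbrev gl (s : Om) : GL ι F := ((s : Cfsg.isometryGroup F Q) : GL ι F)

/-- The action of `Ω` on vectors. -/
def act (s : Om) (x : Vι) : Vι := mv (gl s) x

theorem act_mul (s t : Om) (x : Vι) : act (s * t) x = act s (act t x) := mv_mul _ _ x

theorem act_one (x : Vι) : act (1 : Om) x = x := mv_one x

theorem act_inv_act (s : Om) (x : Vι) : act s⁻¹ (act s x) = x := mv_inv_mv _ x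

theorem act_act_inv (s : Om) (x : Vι) : act s (act s⁻¹ x) = x := mv_mv_inv _ x

theorem act_add (s : Om) (x y : Vι) : act s (x + y) = act s x + act s y := mv_add _ _ _

theorem act_sub (s : Om) (x y : Vι) : act s (x - y) = act s x - act s y := mv_sub _ _ _

theorem act_smul (s : Om) (c : F) (x : Vι) : act s (c • x) = c • act s x := mv_smul _ _ _

theorem act_zero (s : Om) : act s (0 : Vι) = 0 := mv_zero _

theorem act_inj (s : Om) {x y : Vι} (e : act s x = act s y) : x = y := mv_inj _ e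

theorem act_ne_zero (s : Om) {x : Vι} (hx : x ≠ 0) : act s x ≠ 0 := fun e =>
  hx (act_inj s (e.trans (act_zero s).symm))

theorem ext_act {s t : Om} (H : ∀ x, act s x = act t x) : s = t :=
  Subtype.ext (Subtype.ext (ext_mv H))

theorem act_q (s : Om) (x : Vι) : Q (act s x) = Q x :=
  mem_isometry.1 (s : Cfsg.isometryGroup F Q).2 x

theorem act_pol (s : Om) (x y : Vι) : pol Q (act s x) (act s y) = pol Q x y := by
  simp only [pol, QuadraticMap.polar, ← act_add, act_q]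

/-- A hyperbolic pair. -/
def Pair (Q : (ι → F) → F) (a b : Vι) : Prop := Q a = 0 ∧ Q b = 0 ∧ pol Q a b = 1

theorem Pair.symm {a b : Vι} (h : Pair Q a b) : Pair Q b a :=
  ⟨h.2.1, h.1, by rw [Orth.pol_comm]; exact h.2.2⟩

/-- The projection onto the orthogonal of a pair. -/
def proj (Q : (ι → F) → F) (a b x : Vι) : Vι := x - pol Q x b • a - pol Q x a • b

variable (hQ : Geo.IsNondegenerateQuadraticForm Q)
include hQ

/-- The orthogonal of a pair of vectors. -/
def perp (a b : Vι) : Submodule F Vι where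
  carrier := {x | pol Q x a = 0 ∧ pol Q x b = 0}
  add_mem' := fun {x y} hx hy => ⟨by rw [pol_add_left hQ, hx.1, hy.1, add_zero],
    by rw [pol_add_left hQ, hx.2, hy.2, add_zero]⟩
  zero_mem' := ⟨pol_zero_left hQ _, pol_zero_left hQ _⟩
  smul_mem' c x hx := ⟨by rw [pol_smul_left hQ, hx.1, mul_zero],
    by rw [pol_smul_left hQ, hx.2, mul_zero]⟩

theorem mem_perp {a b x : Vι} : x ∈ perp hQ a b ↔ pol Q x a = 0 ∧ pol Q x b = 0 := Iff.rfl

theorem pol_self_sing {a : Vι} (ha : Q a = 0) : pol Q a a = 0 := by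
  rw [pol_self hQ, ha, mul_zero]

theorem q_smul_sing {a : Vι} (ha : Q a = 0) (c : F) : Q (c • a) = 0 := by
  rw [Orth.q_smul hQ, ha, mul_zero]

theorem proj_mem {a b : Vι} (h : Pair Q a b) (x : Vι) : proj Q a b x ∈ perp hQ a b := by
  obtain ⟨ha, hb, hab⟩ := h
  constructor <;>
    simp only [proj, pol_sub_left hQ, pol_smul_left hQ, pol_self_sing hQ ha, pol_self_sing hQ hb, hab,
      Orth.pol_comm b a] <;> ring

theorem decomp (a b x : Vι) : x = pol Q x b • a + pol Q x a • b + proj Q a b x := by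
  rw [proj]; abel

theorem q_decomp {a b : Vι} (h : Pair Q a b) (x : Vι) :
    Q x = pol Q x b * pol Q x a + Q (proj Q a b x) := by
  obtain ⟨hp1, hp2⟩ := proj_mem hQ h x
  obtain ⟨ha, hb, hab⟩ := h
  conv_lhs => rw [decomp hQ a b x]
  simp only [Orth.q_add hQ, Orth.q_smul hQ, pol_add_left hQ, pol_smul_left hQ, pol_smul_right hQ, ha,
    hb, hab, Orth.pol_comm a (proj Q a b x), Orth.pol_comm b (proj Q a b x), hp1, hp2]
  ring

theorem pol_decomp {a b : Vι} (h : Pair Q a b) (x y : Vι) :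
    pol Q x y = pol Q x b * pol Q y a + pol Q x a * pol Q y b +
      pol Q (proj Q a b x) (proj Q a b y) := by
  obtain ⟨hp1, hp2⟩ := proj_mem hQ h x
  obtain ⟨hq1, hq2⟩ := proj_mem hQ h y
  obtain ⟨ha, hb, hab⟩ := h
  conv_lhs => rw [decomp hQ a b x, decomp hQ a b y]
  simp only [pol_add_left hQ, pol_add_right hQ, pol_smul_left hQ, pol_smul_right hQ,
    pol_self_sing hQ ha, pol_self_sing hQ hb, hab, Orth.pol_comm b a, hp1, hp2,
    Orth.pol_comm a (proj Q a b y), Orth.pol_comm b (proj Q a b y), hq1, hq2]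
  ring

theorem perp_nondeg {a b : Vι} (h : Pair Q a b) {v : Vι} (hv : v ∈ perp hQ a b)
    (H : ∀ w ∈ perp hQ a b, pol Q v w = 0) : v = 0 :=
  nondeg_top hQ v Submodule.mem_top fun w _ => by
    rw [Orth.pol_comm, pol_decomp hQ h v w, hv.1, hv.2,
      show proj Q a b v = v by simp [proj, hv.1, hv.2], H _ (proj_mem hQ h w)]
    ring

theorem perp_nondeg' {a b : Vι} (h : Pair Q a b) : Nondeg Q (perp hQ a b) :=
  fun u hu H => perp_nondeg hQ h hu fun w hw => by rw [Orth.pol_comm]; exact H w hw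

theorem perp_eq {a b : Vι} :
    perp hQ a b = orth hQ (Submodule.span F ({a, b} : Set Vι)) := by
  ext x
  rw [mem_perp, mem_orth_span hQ]
  simp only [Set.mem_insert_iff, Set.mem_singleton_iff, forall_eq_or_imp, forall_eq]
  rw [Orth.pol_comm a x, Orth.pol_comm b x]

theorem finrank_perp {a b : Vι} (h : Pair Q a b) :
    Module.finrank F (perp hQ a b) + 2 = Fintype.card ι := by
  obtain ⟨hn, h2⟩ := nondeg_pair hQ h.1 h.2.1 h.2.2
  have h3 := finrank_inf_orth_add hQ hn (le_top : Submodule.span F ({a, b} : Set Vι) ≤ ⊤)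
  rw [h2, finrank_top, Module.finrank_pi, top_inf_eq, ← perp_eq hQ] at h3
  omega

theorem top_five (h5 : 5 ≤ Fintype.card ι) : 5 ≤ Module.finrank F (⊤ : Submodule F Vι) := by
  rw [finrank_top, Module.finrank_pi]; exact h5

variable [Finite F]

/-- Two independent singular vectors have a common singular partner. -/
theorem exists_sing_pol {X : Submodule F Vι} (hX : Nondeg Q X) (h5 : 5 ≤ Module.finrank F X) {u w : Vι}
    (huX : u ∈ X) (hwX : w ∈ X) (hu0 : u ≠ 0) (hu : Q u = 0) (hw : Q w = 0)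
    (hind : ∀ k : F, w ≠ k • u) : ∃ v ∈ X, Q v = 0 ∧ pol Q u v = 1 ∧ pol Q w v = 1 := by
  obtain ⟨φ, hφ, hφ'⟩ := exists_dual (W := Submodule.span F {u}) (u := w) fun hm => by
    obtain ⟨k, hk⟩ := Submodule.mem_span_singleton.1 hm
    exact hind k hk.symm
  obtain ⟨ψ, -, hψ⟩ := exists_dual (W := (⊥ : Submodule F Vι)) (u := u) (by simpa using hu0)
  obtain ⟨z, hzX, hz⟩ := Orth.exists_rep hQ hX (ψ + (1 - ψ w) • φ)
  have a1 : pol Q u z = 1 := by
    rw [← hz u huX]; simp [hψ, hφ u (Submodule.mem_span_singleton_self u)]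
  have a2 : pol Q w z = 1 := by rw [← hz w hwX]; simp [hφ']
  by_cases h0 : pol Q u w = 0
  · refine ⟨z - Q z • u, X.sub_mem hzX (X.smul_mem _ huX), ?_, ?_, ?_⟩
    · rw [Orth.q_sub hQ, Orth.q_smul hQ, hu, pol_smul_right hQ, Orth.pol_comm z u, a1]; ring
    · rw [pol_sub_right hQ, pol_smul_right hQ, pol_self_sing hQ hu, a1]; ring
    · rw [pol_sub_right hQ, pol_smul_right hQ, Orth.pol_comm w u, h0, a2]; ring
  obtain ⟨μ, hμ⟩ : ∃ μ, μ = pol Q u w := ⟨_, rfl⟩
  rw [← hμ] at h0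
  have hp : Pair Q u (μ⁻¹ • w) :=
    ⟨hu, q_smul_sing hQ hw _, by rw [pol_smul_right hQ, ← hμ, inv_mul_cancel₀ h0]⟩
  obtain ⟨hn2, hr2⟩ := nondeg_pair hQ hp.1 hp.2.1 hp.2.2
  have hsub : Submodule.span F ({u, μ⁻¹ • w} : Set Vι) ≤ X :=
    Submodule.span_le.2 (by rintro _ (rfl | rfl); exacts [huX, X.smul_mem _ hwX])
  have hY : Nondeg Q (X ⊓ perp hQ u (μ⁻¹ • w)) := by
    rw [perp_eq hQ]; exact nondeg_inf_orth hQ hn2 hX hsub
  have hY3 : 3 ≤ Module.finrank F ↥(X ⊓ perp hQ u (μ⁻¹ • w)) := by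
    have := finrank_inf_orth_add hQ hn2 hsub
    rw [hr2, ← perp_eq hQ] at this
    omega
  obtain ⟨y, hy, hy0, hys⟩ := exists_singular hQ hY3
  obtain ⟨w', hw', hyw⟩ : ∃ w' ∈ X ⊓ perp hQ u (μ⁻¹ • w), pol Q y w' ≠ 0 := by
    by_contra! hall
    exact hy0 (hY y hy fun x hx => by rw [Orth.pol_comm]; exact hall x hx)
  obtain ⟨t, htdef⟩ : ∃ t, t = ((-μ⁻¹ - Q w') / pol Q y w') • y + w' := ⟨_, rfl⟩
  have ht : t ∈ X ⊓ perp hQ u (μ⁻¹ • w) := htdef ▸ add_mem (Submodule.smul_mem _ _ hy) hw'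
  have htq : Q t = -μ⁻¹ := by
    rw [htdef, Orth.q_add hQ, q_smul_sing hQ hys, pol_smul_left hQ, div_mul_cancel₀ _ hyw]
    ring
  have ht2 : pol Q t w = 0 := by
    have := ht.2.2
    rwa [pol_smul_right hQ, mul_eq_zero, or_iff_right (inv_ne_zero h0)] at this
  refine ⟨μ⁻¹ • (u + w) + t, X.add_mem (X.smul_mem _ (X.add_mem huX hwX)) ht.1, ?_, ?_, ?_⟩
  · rw [Orth.q_add hQ, Orth.q_smul hQ, Orth.q_add hQ u w, hu, hw, pol_smul_left hQ, pol_add_left hQ,
      Orth.pol_comm u t, Orth.pol_comm w t, ht.2.1, ht2, htq, ← hμ]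
    field_simp
    ring
  · rw [pol_add_right hQ, pol_smul_right hQ, pol_add_right hQ, pol_self_sing hQ hu, Orth.pol_comm u t,
      ht.2.1, ← hμ, zero_add, add_zero, inv_mul_cancel₀ h0]
  · rw [pol_add_right hQ, pol_smul_right hQ, pol_add_right hQ, pol_self_sing hQ hw, Orth.pol_comm w t,
      ht2, Orth.pol_comm w u, ← hμ, add_zero, add_zero, inv_mul_cancel₀ h0]

/-- Siegel transformations lie in `Ω`. -/
theorem exists_om (h5 : 5 ≤ Fintype.card ι) {u y : Vι} (hu : Q u = 0) (hy : pol Q u y = 0) :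
    ∃ s : Om, IsSiegel Q (gl s) u y := by
  obtain ⟨g, hg, hgs⟩ := exists_siegel hQ hu hy
  suffices hmem : (⟨g, hg⟩ : Cfsg.isometryGroup F Q) ∈ Om from ⟨⟨_, hmem⟩, hgs⟩
  rcases eq_or_ne u 0 with rfl | hu0
  · have : g = 1 := ext_mv fun z => by rw [hgs, mv_one, pol_zero_right hQ]; simp
    subst this
    exact one_mem _
  obtain ⟨v, -, hv, huv⟩ := Orth.exists_partner hQ (nondeg_top hQ) Submodule.mem_top hu0 hu
  have hp : Pair Q u v := ⟨hu, hv, huv⟩
  -- the set of admissible vectors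
  let S : AddSubgroup Vι :=
    { carrier := {w | pol Q u w = 0 ∧ ∃ s : Om, IsSiegel Q (gl s) u w}
      zero_mem' := ⟨pol_zero_right hQ _, 1, isSiegel_zero hQ u⟩
      add_mem' := by
        rintro w w' ⟨hw, s, hs⟩ ⟨hw', t, ht⟩
        exact ⟨by rw [pol_add_right hQ, hw, hw', add_zero], s * t, isSiegel_mul hQ hu hw hw' hs ht⟩
      neg_mem' := by
        rintro w ⟨hw, s, hs⟩
        have hw' : pol Q u (-w) = 0 := by rw [pol_neg_right hQ, hw, neg_zero]
        refine ⟨hw', s⁻¹, ?_⟩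
        obtain ⟨e, -, he⟩ := exists_siegel hQ hu hw'
        have e1 : e * gl s = 1 := isSiegel_unique (isSiegel_mul hQ hu hw' hw he hs)
          (by rw [neg_add_cancel]; exact isSiegel_zero hQ u)
        show IsSiegel Q (gl s)⁻¹ u (-w)
        rwa [← eq_inv_of_mul_eq_one_left e1] }
  have hns : ∀ a ∈ perp hQ u v, Q a ≠ 0 → ∀ c : F, c • a ∈ S := by
    intro a ha hqa c
    have hua : pol Q u a = 0 := by rw [Orth.pol_comm]; exact ha.1
    obtain ⟨x, hx, hxa⟩ : ∃ x ∈ perp hQ u v, pol Q x a = 1 := by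
      obtain ⟨x, hx, hxa⟩ : ∃ x ∈ perp hQ u v, pol Q a x ≠ 0 := by
        by_contra! hall
        exact hqa (by rw [perp_nondeg hQ hp ha hall, q_zero hQ])
      exact ⟨(pol Q a x)⁻¹ • x, Submodule.smul_mem _ _ hx, by
        rw [pol_smul_left hQ, Orth.pol_comm x a, inv_mul_cancel₀ hxa]⟩
    obtain ⟨y', hy'⟩ : ∃ y', y' = (-(c * Q a)) • x := ⟨_, rfl⟩
    have hy'u : pol Q u y' = 0 := by rw [hy', pol_smul_right hQ, Orth.pol_comm, hx.1, mul_zero]
    obtain ⟨r, hrI, hr⟩ := exists_refl hQ hqa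
    have hru : mv r u = u := isRefl_fix hr hua
    have hry : mv r y' = y' + c • a := by
      rw [hr.2, hy', pol_smul_left hQ, hxa, mul_one, neg_div, mul_div_cancel_right₀ _ hqa, neg_smul,
        neg_smul, sub_neg_eq_add]
    obtain ⟨e, heI, he⟩ := exists_siegel hQ hu hy'u
    have hc := isSiegel_conj hQ hrI he
    rw [hru, hry] at hc
    have hny : pol Q u (-y') = 0 := by rw [pol_neg_right hQ, hy'u, neg_zero]
    obtain ⟨e₂, -, he₂⟩ := exists_siegel hQ hu hny
    have e1 : e₂ = e⁻¹ := eq_inv_of_mul_eq_one_left (isSiegel_unique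
      (isSiegel_mul hQ hu hny hy'u he₂ he) (by rw [neg_add_cancel]; exact isSiegel_zero hQ u))
    have hcu : pol Q u (y' + c • a) = 0 := by
      rw [pol_add_right hQ, hy'u, pol_smul_right hQ, hua, mul_zero, add_zero]
    have h3 := isSiegel_mul hQ hu hcu hny hc he₂
    rw [add_neg_cancel_comm, e1] at h3
    refine ⟨by rw [pol_smul_right hQ, hua, mul_zero],
      ⟨⁅(⟨r, hrI⟩ : Cfsg.isometryGroup F Q), ⟨e, heI⟩⁆, Subgroup.commutator_mem_commutator
        (Subgroup.mem_top _) (Subgroup.mem_top _)⟩, h3⟩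
  have hW : ∀ a ∈ perp hQ u v, a ∈ S := by
    intro a ha
    by_cases hqa : Q a = 0
    swap
    · simpa using hns a ha hqa 1
    rcases eq_or_ne a 0 with rfl | ha0
    · exact S.zero_mem
    obtain ⟨b, hb, hbab⟩ : ∃ b ∈ perp hQ u v, Q b ≠ 0 ∧ Q (a + b) ≠ 0 := by
      obtain ⟨x, hx, hxq, hax⟩ := Orth.exists_partner hQ (perp_nondeg' hQ hp) ha ha0 hqa
      have hX : Pair Q a x := ⟨hqa, hxq, hax⟩
      obtain ⟨hn2, hr2⟩ := nondeg_pair hQ hqa hxq hax
      have hsub : Submodule.span F ({a, x} : Set Vι) ≤ perp hQ u v :=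
        Submodule.span_le.2 (by rintro _ (rfl | rfl); exacts [ha, hx])
      have hY := nondeg_inf_orth hQ hn2 (perp_nondeg' hQ hp) hsub
      have hd := finrank_inf_orth_add hQ hn2 hsub
      rw [hr2] at hd
      have := finrank_perp hQ hp
      rw [← perp_eq hQ] at hY hd
      obtain ⟨b, hb, hb0⟩ := exists_anisotropic hQ hY (fun e => by
        rw [e, finrank_bot] at hd; omega)
      refine ⟨b, hb.1, hb0, ?_⟩
      rw [Orth.q_add hQ, hqa, Orth.pol_comm, hb.2.1, zero_add, add_zero]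
      exact hb0
    have e : a = (a + b) - b := by abel
    rw [e]
    exact S.sub_mem (by simpa using hns (a + b) (add_mem ha hb) hbab.2 1) (by simpa using hns b hb hbab.1 1)
  obtain ⟨-, s, hs⟩ := hW _ (proj_mem hQ hp y)
  have hpu : pol Q u (proj Q u v y) = 0 := by rw [Orth.pol_comm]; exact (proj_mem hQ hp y).1
  have hs' := isSiegel_add_self hQ hu hpu (pol Q y v) hs
  rw [show proj Q u v y + pol Q y v • u = y by
    rw [proj, Orth.pol_comm y u, hy, zero_smul]; abel] at hs'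
  have e : gl s = g := isSiegel_unique hs' hgs
  have e2 : (s : Cfsg.isometryGroup F Q) = ⟨g, hg⟩ := Subtype.ext e
  exact e2 ▸ s.2

end Cfsg.Agent.AutPOmega
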