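import Cfsg.Agent.Lib.AutPOmega.Coset

/-!
Conjugacy in the cosets of field automorphisms of the even-dimensional orthogonal groups.
-/

set_option autoImplicit false

namespace Cfsg.Agent.AutPOmega

open Matrix QuadraticMap
open Cfsg.Agent.Orth (qPlus qMinus qBin qPad)
open Cfsg.Agent.Transvec (mv mv_mul mv_inj mv_add mv_smul mv_inv_mv mv_mv_inv)

section General

variable {ι : Type} [Fintype ι] [DecidableEq ι] {F : Type*} [Field F] [Finite F] {Q : (ι → F) → F}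

/-- Twisted conjugate similarities give conjugate automorphisms. -/
theorem semi_conj_of_twisted {σ : F ≃+* F} {g g' N : GL ι F} {s : Fˣ}
    (hg : Cfsg.IsSemisimilarityPair Q g σ) (hg' : Cfsg.IsSemisimilarityPair Q g' σ)
    (hN : Cfsg.IsSemisimilarityPair Q N 1) (hs : Cfsg.IsSemisimilarityPair Q (scal s : GL ι F) 1)
    (e : g' * mapGL σ N = scal s * N * g) :
    semi g' σ hg' = semi N 1 hN * semi g σ hg * (semi N 1 hN)⁻¹ := by
  rw [eq_mul_inv_iff_mul_eq, semi_mul, semi_mul]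
  obtain ⟨X, hX⟩ : ∃ X, X = N * mapGL 1 g := ⟨_, rfl⟩
  have hX' : Cfsg.IsSemisimilarityPair Q X (1 * σ) := hX ▸ isPair_comp hN hg
  calc semi (g' * mapGL σ N) (σ * 1) _ = semi (scal s * mapGL 1 X) (1 * (1 * σ)) (isPair_comp hs hX') :=
        semi_congr _ _ (by rw [e, hX, mapGL_one, mapGL_one, mul_assoc]) (by simp)
    _ = semi (scal s) 1 hs * semi X (1 * σ) hX' := (semi_mul hs hX').symm
    _ = semi (N * mapGL 1 g) (1 * σ) (isPair_comp hN hg) := by
        rw [semi_scal, one_mul]; exact semi_congr _ _ hX rfl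

theorem isPair_scal {q : QuadraticForm F (ι → F)} (s : Fˣ) :
    Cfsg.IsSemisimilarityPair (⇑q) (scal s : GL ι F) 1 := ⟨s ^ 2, fun v => by
  show q (mv (scal s) v) = _
  rw [scal_mv, QuadraticMap.map_smul, smul_eq_mul, Units.val_pow_eq_pow_val, _root_.sq, RingAut.one_apply]⟩

end General

section Plus

variable {m : ℕ} {F : Type*} [Field F] [Fintype F] {σ : F ≃+* F} {K : Subfield F}

local notation "Ip" => Fin m ⊕ Fin m
local notation "Jw" => (Fin (m - 1) ⊕ Fin (m - 1)) ⊕ Fin 2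
local notation "Qp" => Cfsg.quadFormPlus m F
local notation "Pres" g => Cfsg.PreservesSingularClasses (Cfsg.quadFormPlus m F) ((g : GL (Fin m ⊕ Fin m) F) : Matrix (Fin m ⊕ Fin m) (Fin m ⊕ Fin m) F)

omit [Fintype F] in
theorem qPlus_field (v : Ip → F) : qPlus F m (σ ∘ v) = σ (qPlus F m v) := by
  rw [Cfsg.Agent.Orth.coe_qPlus]; exact plus_quad_map σ.toRingHom v

variable (hm : 2 ≤ m) (hK : ∀ a, a ∈ K ↔ σ a = a)
include hm hK

omit hm in
theorem presP_map {N : GL Ip F} (hN : Cfsg.IsSemisimilarityPair Qp N 1) :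
    Cfsg.IsSemisimilarityPair Qp (mapGL σ N) 1 ∧ ((Pres (mapGL σ N)) ↔ (Pres N)) := by
  have hp : Cfsg.IsSemisimilarityPair Qp (mapGL σ N) 1 := by
    obtain ⟨c, hc⟩ := hN
    refine ⟨Units.map σ.toMonoidHom c, fun v => ?_⟩
    obtain ⟨y, rfl⟩ : ∃ y : Ip → F, (σ : F → F) ∘ y = v :=
      ⟨σ.symm ∘ v, funext fun i => σ.apply_symm_apply _⟩
    show Qp (mv (mapGL σ N) (σ ∘ y)) = σ c * Qp (σ ∘ y)
    rw [mv_mapGL, show Qp (σ ∘ mv N y) = σ (Qp (mv N y)) from plus_quad_map σ.toRingHom _,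
      show Qp (σ ∘ y) = σ (Qp y) from plus_quad_map σ.toRingHom _, ← map_mul]
    exact congrArg σ (hc y)
  refine ⟨hp, ?_⟩
  have := presP_conj (h := 1) (g := N) (τ := σ) (isPair_field_plus σ) hN (by simpa using hp)
  simpa using this

omit hm in
/-- A descended plus form comes from a class-preserving similarity. -/
theorem pres_of_plus {g P : GL Ip F} (hg : Cfsg.IsSemisimilarityPair Qp g 1)
    {q' : QuadraticForm K (Ip → K)} {t : Fˣ} {b : F} (h : Descended (qPlus F m) σ K g q' P t b)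
    {φ : (Ip → K) ≃ₗ[K] (Ip → K)} (hφ : ∀ u, q' u = qPlus K m (φ u)) : Pres g := by
  obtain ⟨N, hN, hNq⟩ := exists_sim_of_descent (q₀ := qPlus F m) hK h.fix h.val φ.symm 1 fun u => by
    rw [one_mul, hφ, LinearEquiv.apply_symm_apply, Cfsg.Agent.Orth.coe_qPlus, Cfsg.Agent.Orth.coe_qPlus]
    exact (plus_quad_map K.subtype u).symm
  have hNp : Cfsg.IsSemisimilarityPair Qp N 1 := ⟨Units.mk0 b h.b_ne, fun v => by
    have := hNq v
    rw [mul_one, Cfsg.Agent.Orth.coe_qPlus] at this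
    exact this⟩
  obtain ⟨hσN, hiff⟩ := presP_map hK (σ := σ) hNp
  have hst : Cfsg.IsSemisimilarityPair Qp (scal t : GL Ip F) 1 := by
    rw [← Cfsg.Agent.Orth.coe_qPlus]; exact isPair_scal t
  have h1 := presP_mul hg hσN
  rw [hN, presP_mul hst hNp, hiff] at h1
  have h2 := presP_scal (m := m) t
  tauto

/-- Comparing two descended minus forms. -/
theorem exists_iso_minus [Finite K] {q' q'' : QuadraticForm K (Ip → K)} {ζ ζ' : K}
    (hζ : ∀ t : K, t ^ 2 + t + ζ ≠ 0) (hζ' : ∀ t : K, t ^ 2 + t + ζ' ≠ 0)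
    {φ : (Ip → K) ≃ₗ[K] (Jw → K)} (hφ : ∀ u, q' u = qMinus K (m - 1) 1 ζ (φ u))
    {φ' : (Ip → K) ≃ₗ[K] (Jw → K)} (hφ' : ∀ u, q'' u = qMinus K (m - 1) 1 ζ' (φ' u)) :
    ∃ e : (Ip → K) ≃ₗ[K] (Ip → K), ∀ u, q'' (e u) = q' u := by
  obtain ⟨e₂, he₂⟩ := exists_bin_equiv (Cfsg.Agent.LBQuad.bin_aniso hζ) (Cfsg.Agent.LBQuad.bin_aniso hζ')
  obtain ⟨E, hE⟩ := Cfsg.Agent.LBQuad.exists_padCongr (k := m - 1) e₂ he₂
  exact ⟨(φ.trans E).trans φ'.symm, fun u => by
    rw [hφ', hφ, LinearEquiv.trans_apply, LinearEquiv.apply_symm_apply, LinearEquiv.trans_apply, qMinus, qMinus]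
    exact (hE _).symm⟩

/-- A descended minus form needs an even order and interchanges the classes. -/
theorem not_pres_of_minus [Finite K] {g P : GL Ip F} (hg : Cfsg.IsSemisimilarityPair Qp g 1)
    {q' : QuadraticForm K (Ip → K)} {t : Fˣ} {b : F} (h : Descended (qPlus F m) σ K g q' P t b)
    {ζ : K} (hζ : ∀ t : K, t ^ 2 + t + ζ ≠ 0) {φ : (Ip → K) ≃ₗ[K] (Jw → K)}
    (hφ : ∀ u, q' u = qMinus K (m - 1) 1 ζ (φ u)) : ¬ (Pres g) ∧ Even (orderOf σ) := by
  rcases Nat.even_or_odd (orderOf σ) with he | hodd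
  swap
  · exfalso
    have haF := aniso_of_odd hK hodd (Cfsg.Agent.LBQuad.bin_aniso hζ)
    obtain ⟨ε⟩ : Nonempty (Jw ≃ Ip) :=
      Fintype.card_eq.1 (by simp only [Fintype.card_sum, Fintype.card_fin]; omega)
    obtain ⟨N, -, hNq⟩ := exists_sim_of_descent
      (q₀ := (qMinus F (m - 1) ((1 : K) : F) (ζ : F)).comp (LinearMap.funLeft F F ε)) hK h.fix h.val
      ((LinearEquiv.funCongrLeft K K ε).trans φ.symm) 1 fun u => by
        rw [one_mul, hφ, LinearEquiv.trans_apply, LinearEquiv.apply_symm_apply]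
        show ((qMinus K (m - 1) 1 ζ (u ∘ ε) : K) : F) = qMinus F (m - 1) _ _ (K.subtype ∘ (u ∘ ε))
        exact (minus_compat K.subtype (u ∘ ε)).symm
    obtain ⟨D, hD⟩ : ∃ D : (Ip → F) ≃ₗ[F] (Ip → F), ∀ v, qPlus F m (D v) = b * qPlus F m v :=
      ⟨LinearEquiv.piCongrRight fun i => LinearEquiv.smulOfNeZero F F
          (Sum.elim (fun _ => b) (fun _ => (1 : F)) i) (by rcases i with i | i <;> simp [h.b_ne]),
        fun v => by
          rw [Cfsg.Agent.Orth.coe_qPlus]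
          simp [Cfsg.quadFormPlus, Finset.mul_sum, mul_assoc]⟩
    let T : (Ip → F) →ₗ[F] (Jw → F) :=
      ((LinearMap.funLeft F F ε).comp (Matrix.toLin' ((N⁻¹ : GL Ip F) : Matrix Ip Ip F))).comp D.toLinearMap
    have hinj : Function.Injective T := fun x y e => D.injective (mv_inj N⁻¹ (funext fun i => by
      have := congrFun e (ε.symm i)
      simpa [T, LinearMap.funLeft_apply, mv, Matrix.toLin'_apply] using this))
    refine Cfsg.Agent.LBQuad.plus_ne_minus haF (show 1 ≤ m by omega) (LinearMap.linearEquivOfInjective T hinj (by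
      rw [Module.finrank_fintype_fun_eq_card, Module.finrank_fintype_fun_eq_card, Fintype.card_congr ε]))
      fun v => ?_
    show qMinus F (m - 1) ((1 : K) : F) (ζ : F) (LinearMap.funLeft F F ε (mv N⁻¹ (D v))) = qPlus F m v
    have h1 := hNq (mv N⁻¹ (D v))
    rw [mv_mv_inv, hD, mul_one] at h1
    exact (mul_left_cancel₀ h.b_ne h1).symm
  refine ⟨?_, he⟩
  obtain ⟨i₀⟩ : Nonempty (Fin m) := ⟨⟨0, by omega⟩⟩
  obtain ⟨v, hv⟩ : ∃ v : Ip → F, v = Pi.single (Sum.inl i₀) 1 + Pi.single (Sum.inr i₀) 1 := ⟨_, rfl⟩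
  have hvq : qPlus F m v = 1 := by
    rw [Cfsg.Agent.Orth.coe_qPlus, Cfsg.quadFormPlus, Finset.sum_eq_single i₀
      (fun j _ hj => by simp [hv, hj]) (by simp)]
    simp [hv]
  have hvσ : (σ : F → F) ∘ v = v := funext fun i => by
    rcases i with i | i <;> rcases eq_or_ne i i₀ with rfl | hi <;> simp [hv, *]
  obtain ⟨ρ', hρ', -⟩ := Cfsg.Agent.Orth.exists_reflection (qPlus F m) (v := v) (by rw [hvq]; exact one_ne_zero)
  obtain ⟨ρ, hρ⟩ : ∃ ρ : GL Ip F, ρ = (ρ' : GL Ip F) := ⟨_, rfl⟩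
  rw [← hρ] at hρ'
  have hρσ : mapGL σ ρ = ρ := Units.ext (by
    show (ρ : Matrix Ip Ip F).map σ.toRingHom = _
    rw [hρ', reflectionMatrix_baseChange σ.toRingHom (fun w => qPlus_field w) v]
    exact congrArg _ hvσ)
  have hρ2 : ρ * ρ = 1 := Cfsg.Agent.Transvec.ext_mv fun x => by
    have hr : ∀ x, mv ρ x = x - (polar (qPlus F m) x v / qPlus F m v) • v := fun x => by
      show (ρ : Matrix Ip Ip F) *ᵥ x = _
      rw [hρ', Cfsg.Agent.Orth.reflectionMatrix_mulVec]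
    rw [mv_mul, hr, hr, Cfsg.Agent.Transvec.mv_one, hvq, div_one, div_one, sub_eq_add_neg x, ← neg_smul,
      polar_add_left, polar_smul_left, polar_self, hvq]
    ext i
    simp
    ring
  have htw : tw σ ρ (orderOf σ) = scal 1 := by
    have hk : ∀ k, tw σ ρ k = ρ ^ k := fun k => by
      induction k with
      | zero => rfl
      | succ k ih => rw [tw, ih, map_pow, hρσ, pow_succ']
    obtain ⟨k, hk'⟩ := he
    rw [hk, hk', ← two_mul, pow_mul, pow_two, hρ2, one_pow]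
    exact (map_one _).symm
  have hρp : Cfsg.IsSemisimilarityPair (⇑(qPlus F m)) ρ 1 := hρ ▸ isPair_iso ρ'.2
  haveI : Nonempty Ip := ⟨Sum.inl i₀⟩
  obtain ⟨q'', P', t', b', h'⟩ :=
    exists_descended hK (Cfsg.Agent.Orth.qPlus_nondeg m) qPlus_field hρp htw
  rw [Cfsg.Agent.Orth.coe_qPlus] at hρ' hρp
  obtain ⟨hρp', hρn⟩ := presP_refl (m := m) (by rw [← Cfsg.Agent.Orth.coe_qPlus, hvq]; exact one_ne_zero) hρ'
  rcases Cfsg.Agent.LBQuad.classify_even h'.nondeg (m := m)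
      (by rw [Module.finrank_fintype_fun_eq_card]; simp; ring) with ⟨ψ, hψ⟩ | ⟨ζ', hζ', ψ, hψ⟩
  · exact absurd (pres_of_plus hK hρp' h' hψ) hρn
  · obtain ⟨e, he'⟩ := exists_iso_minus hm hK hζ' hζ hψ hφ
    obtain ⟨N, s, hN, e1⟩ := h'.compare hK h he'
    rw [Cfsg.Agent.Orth.coe_qPlus] at hN
    obtain ⟨hσN, hiff⟩ := presP_map hK (σ := σ) hN
    have h1 := presP_mul hg hσN
    have hs : Cfsg.IsSemisimilarityPair Qp (scal s : GL Ip F) 1 := by
      rw [← Cfsg.Agent.Orth.coe_qPlus]; exact isPair_scal s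
    rw [e1, presP_mul (pair_mul hs hN) hρp', presP_mul hs hN, hiff] at h1
    have h2 := presP_scal (m := m) s
    tauto

/-- Two elements of the coset with the same parity are twisted conjugate. -/
theorem plus_twisted {g g' : GL Ip F} (hg : Cfsg.IsSemisimilarityPair Qp g 1)
    (hg' : Cfsg.IsSemisimilarityPair Qp g' 1) {c c' : Fˣ} (h : tw σ g (orderOf σ) = scal c)
    (h' : tw σ g' (orderOf σ) = scal c') (hpar : (Pres g) ↔ (Pres g')) :
    ∃ (N : GL Ip F) (s : Fˣ), Cfsg.IsSemisimilarityPair Qp N 1 ∧ (Pres N) ∧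
      g' * mapGL σ N = scal s * N * g := by
  haveI : Finite K := Subtype.finite
  haveI : Nonempty Ip := ⟨Sum.inl ⟨0, by omega⟩⟩
  have hg0 := hg
  rw [← Cfsg.Agent.Orth.coe_qPlus] at hg0
  have hg0' := hg'
  rw [← Cfsg.Agent.Orth.coe_qPlus] at hg0'
  obtain ⟨q', P, t, b, D⟩ := exists_descended hK (Cfsg.Agent.Orth.qPlus_nondeg m) qPlus_field hg0 h
  obtain ⟨q'', P', t', b', D'⟩ := exists_descended hK (Cfsg.Agent.Orth.qPlus_nondeg m) qPlus_field hg0' h'
  have hV : Module.finrank K (Ip → K) = 2 * m := by rw [Module.finrank_fintype_fun_eq_card]; simp; ring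
  obtain ⟨e, he⟩ : ∃ e : (Ip → K) ≃ₗ[K] (Ip → K), ∀ u, q'' (e u) = q' u := by
    rcases Cfsg.Agent.LBQuad.classify_even D.nondeg hV with ⟨φ, hφ⟩ | ⟨ζ, hζ, φ, hφ⟩ <;>
      rcases Cfsg.Agent.LBQuad.classify_even D'.nondeg hV with ⟨φ', hφ'⟩ | ⟨ζ', hζ', φ', hφ'⟩
    · exact ⟨φ.trans φ'.symm, fun u => by rw [hφ', hφ, LinearEquiv.trans_apply, LinearEquiv.apply_symm_apply]⟩
    · exact absurd (hpar.1 (pres_of_plus hK hg D hφ)) (not_pres_of_minus hm hK hg' D' hζ' hφ').1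
    · exact absurd (hpar.2 (pres_of_plus hK hg' D' hφ')) (not_pres_of_minus hm hK hg D hζ hφ).1
    · exact exists_iso_minus hm hK hζ hζ' hφ hφ'
  obtain ⟨N, s, hN, e1⟩ := D.compare hK D' he
  rw [Cfsg.Agent.Orth.coe_qPlus] at hN
  by_cases hp : Pres N
  · exact ⟨N, s, hN, hp, e1⟩
  · obtain ⟨r, w, hw, hr, hcomm⟩ := D.exists_refl hK qPlus_field hg0
    rw [Cfsg.Agent.Orth.coe_qPlus] at hr hw
    obtain ⟨hrp, hrn⟩ := presP_refl hw hr
    refine ⟨N * r, s, pair_mul hN hrp, (presP_mul hN hrp).2 (iff_of_false hp hrn), ?_⟩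
    rw [map_mul, ← mul_assoc, e1, mul_assoc, hcomm, ← mul_assoc, ← mul_assoc]

end Plus

section Minus

universe u

variable {m : ℕ} {F : Type u} [Field F] [Fintype F] {σ : F ≃+* F} {K : Subfield F} {a b : F}

local notation "Jv" => (Fin m ⊕ Fin m) ⊕ Fin 2
local notation "Ip1" => Fin (m + 1) ⊕ Fin (m + 1)
local notation "Qm" => Cfsg.quadFormMinus m F a b

theorem qMinus_field (ha : σ a = a) (hb : σ b = b) (v : Jv → F) :
    qMinus F m a b (σ ∘ v) = σ (qMinus F m a b v) := by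
  have := minus_compat (m := m) (a := a) (b := b) σ.toRingHom v
  simpa [ha, hb] using this

variable (hK : ∀ x, x ∈ K ↔ σ x = x)
  (hab : ∀ z₁ z₂ : F, z₁ ^ 2 + a * z₁ * z₂ + b * z₂ ^ 2 = 0 → z₁ = 0 ∧ z₂ = 0)
include hK hab

/-- The descended form of a minus form is of minus type. -/
theorem minus_of_minus [Finite K] {g P : GL Jv F} {q' : QuadraticForm K (Jv → K)} {t : Fˣ} {β : F}
    (h : Descended (qMinus F m a b) σ K g q' P t β) :
    ∃ ζ : K, (∀ t : K, t ^ 2 + t + ζ ≠ 0) ∧ ∃ φ : (Jv → K) ≃ₗ[K] (Jv → K),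
      ∀ u, q' u = qMinus K m 1 ζ (φ u) := by
  rcases Cfsg.Agent.LBQuad.classify_even h.nondeg (m := m + 1)
      (by rw [Module.finrank_fintype_fun_eq_card]; simp; ring) with ⟨φ, hφ⟩ | ⟨ζ, hζ, φ, hφ⟩
  · exfalso
    obtain ⟨ε⟩ : Nonempty (Ip1 ≃ Jv) :=
      Fintype.card_eq.1 (by simp only [Fintype.card_sum, Fintype.card_fin]; omega)
    obtain ⟨N, -, hNq⟩ := exists_sim_of_descent
      (q₀ := (qPlus F (m + 1)).comp (LinearMap.funLeft F F ε)) hK h.fix h.val
      ((LinearEquiv.funCongrLeft K K ε).trans φ.symm) 1 fun u => by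
        rw [one_mul, hφ, LinearEquiv.trans_apply, LinearEquiv.apply_symm_apply, Cfsg.Agent.Orth.coe_qPlus]
        show ((Cfsg.quadFormPlus (m + 1) K (u ∘ ε) : K) : F) =
          qPlus F (m + 1) (K.subtype ∘ (u ∘ ε))
        rw [Cfsg.Agent.Orth.coe_qPlus]
        exact (plus_quad_map K.subtype (u ∘ ε)).symm
    obtain ⟨D, hD⟩ : ∃ D : (Ip1 → F) ≃ₗ[F] (Ip1 → F), ∀ v, qPlus F (m + 1) (D v) = β⁻¹ * qPlus F (m + 1) v :=
      ⟨LinearEquiv.piCongrRight fun i => LinearEquiv.smulOfNeZero F F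
          (Sum.elim (fun _ => β⁻¹) (fun _ => (1 : F)) i) (by rcases i with i | i <;> simp [h.b_ne]),
        fun v => by
          rw [Cfsg.Agent.Orth.coe_qPlus]
          simp [Cfsg.quadFormPlus, Finset.mul_sum, mul_assoc]⟩
    let T : (Ip1 → F) →ₗ[F] (Jv → F) :=
      ((Matrix.toLin' ((N : GL Jv F) : Matrix Jv Jv F)).comp (LinearMap.funLeft F F ε.symm)).comp D.toLinearMap
    have hinj : Function.Injective T := fun x y e => D.injective
      (LinearMap.funLeft_injective_of_surjective F F _ ε.symm.surjective (mv_inj N (by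
        simpa [T, mv, Matrix.toLin'_apply] using e)))
    refine Cfsg.Agent.LBQuad.plus_ne_minus hab (show 1 ≤ m + 1 by omega)
      (LinearMap.linearEquivOfInjective T hinj (by
        rw [Module.finrank_fintype_fun_eq_card, Module.finrank_fintype_fun_eq_card, Fintype.card_congr ε]
        simp))
      fun v => ?_
    show qMinus F m a b (mv N (LinearMap.funLeft F F ε.symm (D v))) = qPlus F (m + 1) v
    rw [hNq, mul_one]
    show β * qPlus F (m + 1) (fun i => D v (ε.symm (ε i))) = _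
    simp only [Equiv.symm_apply_apply, hD, mul_inv_cancel_left₀ h.b_ne]
  · exact ⟨ζ, hζ, φ, hφ⟩

/-- Elements of the coset are twisted conjugate by class-preserving similarities. -/
theorem minus_twisted (ha : σ a = a) (hb : σ b = b) {g g' : GL Jv F}
    (hg : Cfsg.IsSemisimilarityPair Qm g 1) (hg' : Cfsg.IsSemisimilarityPair Qm g' 1) {c c' : Fˣ}
    (h : tw σ g (orderOf σ) = scal c) (h' : tw σ g' (orderOf σ) = scal c') :
    ∃ (N : GL Jv F) (s : Fˣ), Cfsg.IsSemisimilarityPair Qm N 1 ∧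
      Cfsg.PreservesSingularClassesMinus m a b (N : Matrix Jv Jv F) ∧
      g' * mapGL σ N = scal s * N * g := by
  haveI : Finite K := Subtype.finite
  haveI : Nonempty Jv := ⟨Sum.inr 0⟩
  have hg0 := hg
  rw [← Cfsg.Agent.Orth.coe_qMinus] at hg0
  have hg0' := hg'
  rw [← Cfsg.Agent.Orth.coe_qMinus] at hg0'
  have hnd : (polarBilin (qMinus F m a b)).Nondegenerate :=
    Cfsg.Agent.Orth.qPad_nondeg (Cfsg.Agent.Orth.qBin_nondeg hab) m
  obtain ⟨q', P, t, β, D⟩ := exists_descended hK hnd (qMinus_field ha hb) hg0 h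
  obtain ⟨q'', P', t', β', D'⟩ := exists_descended hK hnd (qMinus_field ha hb) hg0' h'
  obtain ⟨ζ, hζ, φ, hφ⟩ := minus_of_minus hK hab D
  obtain ⟨ζ', hζ', φ', hφ'⟩ := minus_of_minus hK hab D'
  obtain ⟨e₂, he₂⟩ := exists_bin_equiv (Cfsg.Agent.LBQuad.bin_aniso hζ) (Cfsg.Agent.LBQuad.bin_aniso hζ')
  obtain ⟨E, hE⟩ := Cfsg.Agent.LBQuad.exists_padCongr (k := m) e₂ he₂
  obtain ⟨N, s, hN, e1⟩ := D.compare hK D' (e := (φ.trans E).trans φ'.symm) fun u => by
    rw [hφ', hφ, LinearEquiv.trans_apply, LinearEquiv.apply_symm_apply, LinearEquiv.trans_apply, qMinus, qMinus]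
    exact (hE _).symm
  rw [Cfsg.Agent.Orth.coe_qMinus] at hN
  by_cases hp : Cfsg.PreservesSingularClassesMinus m a b (N : Matrix Jv Jv F)
  · exact ⟨N, s, hN, hp, e1⟩
  · obtain ⟨r, w, hw, hr, hcomm⟩ := D.exists_refl hK (qMinus_field ha hb) hg0
    rw [Cfsg.Agent.Orth.coe_qMinus] at hr hw
    obtain ⟨hrp, hrn⟩ := presM_refl hab hw hr
    refine ⟨N * r, s, pair_mul hN hrp, (presM_mul hab hN hrp).2 (iff_of_false hp hrn), ?_⟩
    rw [map_mul, ← mul_assoc, e1, mul_assoc, hcomm, ← mul_assoc, ← mul_assoc]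

end Minus

end Cfsg.Agent.AutPOmega
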