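import Cfsg.Agent.Lib.AutPOmega.EvenInstances

/-!
The outer similarity quotients for the two standard forms.
-/

set_option autoImplicit false

namespace Cfsg.Agent.AutPOmega

open Matrix QuadraticMap
open Cfsg.Agent.Orth (SpinVal SqCls sqc reflVal sgn qPlus qMinus)
open Cfsg.Agent.Transvec (mv mv_mul mv_inj mv_inv_mv mv_mv_inv ext_mv)

theorem pow_mod_four_iff {q : ℕ} (hq : Odd q) (n : ℕ) :
    (q ^ n % 4 = 1 ↔ ¬ (Odd n ∧ q % 4 = 3)) ∧ (q ^ n % 4 = 3 ↔ Odd n ∧ q % 4 = 3) := by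
  have h2 : q ^ 2 % 4 = 1 := by
    obtain ⟨j, rfl⟩ := hq
    rw [show (2 * j + 1) ^ 2 = 4 * (j * j + j) + 1 by ring]
    omega
  have hq2 : q % 4 = 1 ∨ q % 4 = 3 := by obtain ⟨j, rfl⟩ := hq; omega
  rcases Nat.even_or_odd n with ⟨j, rfl⟩ | ⟨j, rfl⟩
  · have : q ^ (j + j) % 4 = 1 := by rw [← two_mul, pow_mul, Nat.pow_mod, h2, one_pow]; norm_num
    have hn : ¬ Odd (j + j) := Nat.not_odd_iff_even.2 ⟨j, rfl⟩
    constructor <;> simp [hn, this]
  · have : q ^ (2 * j + 1) % 4 = q % 4 := by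
      rw [pow_succ, pow_mul, Nat.mul_mod, Nat.pow_mod, h2, one_pow]; simp
    have hn : Odd (2 * j + 1) := ⟨j, rfl⟩
    constructor <;> simp [hn, this] <;> omega

variable {ι : Type} [Fintype ι] [DecidableEq ι] {F : Type*} [Field F] [Fintype F]

/-- The quotient data of a form: `N` says `-1 ∈ Ω`, `E` decides the cyclic case. -/
def FinalSpec (Q : (ι → F) → F) (I : Subgroup (MulAut (Cfsg.POmega F Q))) (N E : Prop) : Prop :=
    (∃ φ : ↥(Cfsg.pgoAut F Q) →* Multiplicative (ZMod 2 × ZMod 2),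
      Function.Surjective φ ∧ φ.ker = (Cfsg.psoAut F Q).subgroupOf (Cfsg.pgoAut F Q)) ∧
    (N → (Cfsg.Inn (Cfsg.POmega F Q)).relIndex (Cfsg.psoAut F Q) = 2) ∧
    (¬ N → (Cfsg.Inn (Cfsg.POmega F Q)).relIndex (Cfsg.psoAut F Q) = 1) ∧
    (N → ∃ φ : ↥(Cfsg.pgoAut F Q) →* DihedralGroup 4, Function.Surjective φ ∧
      φ.ker = (Cfsg.Inn (Cfsg.POmega F Q)).subgroupOf (Cfsg.pgoAut F Q)) ∧
    (¬ N → ∃ φ : ↥(Cfsg.pgoAut F Q) →* Multiplicative (ZMod 2 × ZMod 2), Function.Surjective φ ∧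
      φ.ker = (Cfsg.Inn (Cfsg.POmega F Q)).subgroupOf (Cfsg.pgoAut F Q)) ∧
    (¬ N → ∃ φ : ↥I →* Multiplicative (ZMod 2), Function.Surjective φ ∧
      φ.ker = (Cfsg.Inn (Cfsg.POmega F Q)).subgroupOf I) ∧
    (N → ¬ E → ∃ φ : ↥I →* Multiplicative (ZMod 4), Function.Surjective φ ∧
      φ.ker = (Cfsg.Inn (Cfsg.POmega F Q)).subgroupOf I) ∧
    (N → E → ∃ φ : ↥I →* Multiplicative (ZMod 2 × ZMod 2), Function.Surjective φ ∧
      φ.ker = (Cfsg.Inn (Cfsg.POmega F Q)).subgroupOf I)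

/-- All the quotient results for a form presented as a function. -/
theorem EvenType.final {q : QuadraticForm F (ι → F)} {P : GL ι F → Prop} (hE : EvenType q P)
    {Q : (ι → F) → F} (hQ : ⇑q = Q) {I : Subgroup (MulAut (Cfsg.POmega F Q))}
    (hI : ∀ β, β ∈ I ↔ ∃ (g : GL ι F) (hg : Cfsg.IsSemisimilarityPair Q g 1), P g ∧ β = semi g 1 hg)
    {N : Prop} (hN : (∃ g : Cfsg.isometryGroup F (⇑q),
      g ∈ Cfsg.Omega F (⇑q) ∧ ((g : GL ι F) : Matrix ι ι F) = -1) ↔ N)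
    {E : Prop} (hsq : ∀ (c : Fˣ), ¬ IsSquare (c : F) → ∀ {χ : Cfsg.isometryGroup F (⇑q) →* SpinVal F},
      (∀ (g : Cfsg.isometryGroup F (⇑q)) (v : ι → F), q v ≠ 0 →
        ((g : GL ι F) : Matrix ι ι F) = Cfsg.reflectionMatrix (⇑q) v → χ g = reflVal q v) →
      ∃ (g : GL ι F) (k : Cfsg.isometryGroup F (⇑q)), (∀ v, q (mv g v) = (c : F) * q v) ∧ P g ∧
        g * g = scal c * (k : GL ι F) ∧ (χ k = 1 ↔ E)) :
    FinalSpec Q I N E := by
  subst hQ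
  have htwo : N → (N → E → ∃ φ : ↥I →* Multiplicative (ZMod 2 × ZMod 2), Function.Surjective φ ∧
      φ.ker = (Cfsg.Inn (Cfsg.POmega F (⇑q))).subgroupOf I) ∧
      (¬ E → ∃ φ : ↥I →* Multiplicative (ZMod 4), Function.Surjective φ ∧
      φ.ker = (Cfsg.Inn (Cfsg.POmega F (⇑q))).subgroupOf I) := fun hn => by
    obtain ⟨χ, hker, -, hrefl, -, -⟩ := hE.exists_spin
    obtain ⟨c₀, hc₀⟩ := FiniteField.exists_nonsquare (F := F) (fun h => hE.two (by
      haveI := ringChar.of_eq h; exact CharTwo.two_eq_zero))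
    obtain ⟨g, k, hg, hP, hk, hkE⟩ := hsq (Units.mk0 c₀ fun e => hc₀ (e ▸ IsSquare.zero)) hc₀ hrefl
    obtain ⟨h4, h22⟩ := hE.inndiag_quot_two (hN.2 hn) hI (c := Units.mk0 c₀ _) hc₀ hg hP hk hker hrefl
    exact ⟨fun _ e => h22 (hkE.2 e), fun e => h4 (fun h => e (hkE.1 h))⟩
  exact ⟨hE.pgo_pso, fun h => hE.relIndex_pso.1 (hN.2 h), fun h => hE.relIndex_pso.2 fun e => h (hN.1 e),
    fun h => hE.pgo_quot_two (hN.2 h), fun h => hE.pgo_quot_one fun e => h (hN.1 e),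
    fun h => hE.inndiag_quot_one (fun e => h (hN.1 e)) hI, fun hn => (htwo hn).2, fun hn => (htwo hn).1 hn⟩

variable {m : ℕ}

/-- The quotients for the plus type. -/
theorem final_plus (hodd : Odd (Fintype.card F)) (hm : 4 ≤ m) :
    FinalSpec (Cfsg.quadFormPlus m F) (Cfsg.inndiagPOmegaPlus m F)
      (¬ (Odd m ∧ Fintype.card F % 4 = 3)) (Even m) :=
  (evenType_plus (F := F) (Cfsg.Agent.Orth.two_ne_zero_of_odd hodd) hm).final (Cfsg.Agent.Orth.coe_qPlus m)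
    (I := Cfsg.inndiagPOmegaPlus m F) (fun _ => mem_inndiag_plus)
    ((Cfsg.Agent.Orth.neg_one_plus hodd m (by omega)).trans (pow_mod_four_iff hodd m).1)
    (E := Even m) fun c hc χ hrefl => by
      obtain ⟨g, k, h1, h2, h3, h4⟩ := exists_plus_square hm c hrefl
      refine ⟨g, k, h1, h2, h3, ?_⟩
      rw [h4, Prod.mk_eq_one]
      simp [sqc_pow_eq_one hc]

/-- The quotients for the minus type. -/
theorem final_minus (hodd : Odd (Fintype.card F)) (hm : 3 ≤ m) {a b : F}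
    (hab : ∀ z₁ z₂ : F, z₁ ^ 2 + a * z₁ * z₂ + b * z₂ ^ 2 = 0 → z₁ = 0 ∧ z₂ = 0) :
    FinalSpec (Cfsg.quadFormMinus m F a b) (Cfsg.inndiagPOmegaMinus m F a b)
      (Even m ∧ Fintype.card F % 4 = 3) (Odd m) :=
  (evenType_minus hab (Cfsg.Agent.Orth.two_ne_zero_of_odd hodd) hm).final (Cfsg.Agent.Orth.coe_qMinus m a b)
    (I := Cfsg.inndiagPOmegaMinus m F a b) (fun _ => mem_inndiag_minus hab)
    (N := Even m ∧ Fintype.card F % 4 = 3)
    (((Cfsg.Agent.Orth.neg_one_minus hodd m hab).trans (pow_mod_four_iff hodd (m + 1)).2).trans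
      (and_congr_left' (Nat.odd_add_one.trans Nat.not_odd_iff_even)))
    (E := Odd m) fun c hc χ hrefl => by
      obtain ⟨g, k, h1, h2, h3, h4⟩ := exists_minus_square hab c hrefl
      refine ⟨g, k, h1, h2, h3, ?_⟩
      rw [h4, Prod.mk_eq_one]
      simp [sqc_pow_eq_one hc, Nat.even_add_one]

end Cfsg.Agent.AutPOmega
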