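import Cfsg.Agent.Lib.AutPOmega.SpinorLevi

/-!
Membership in Ω of diagonal sign changes, of the exchange of two complementary totally singular subspaces, and
of determinants versus the classes of maximal totally singular subspaces.
-/

set_option autoImplicit false

namespace Cfsg.Agent.AutPOmega

open Matrix QuadraticMap Module
open Cfsg.Agent.Orth (SpinVal SqCls sqc reflVal sgn qPlus qMinus qOdd IsMaxSing)
open Cfsg.Agent.Transvec (mv mv_mul mv_inj mv_inv_mv mv_mv_inv ext_mv)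
open Cfsg.Agent.Transvec.Orth (mem_isometry)

section

variable {F : Type*} [Field F]

theorem card_ne_two_of_two_ne [Fintype F] (h2 : (2 : F) ≠ 0) : Fintype.card F ≠ 2 := fun hc => h2 (by
  have h := Nat.cast_card_eq_zero F; rw [hc] at h; exact_mod_cast h)

theorem zmod_two_cases (x : Multiplicative (ZMod 2)) : x = 1 ∨ x = Multiplicative.ofAdd 1 := by
  revert x; decide

theorem isSquare_congr {a b x y : F} (ha : a ≠ 0) (hb : b ≠ 0) (h : a * a * x = b * b * y) :
    IsSquare x ↔ IsSquare y := by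
  constructor
  · rintro ⟨r, rfl⟩
    exact ⟨a * r / b, by field_simp; linear_combination -h⟩
  · rintro ⟨r, rfl⟩
    exact ⟨b * r / a, by field_simp; linear_combination h⟩

end

variable {ι : Type} [Fintype ι] [DecidableEq ι] {F : Type*} [Field F]

/-- The diagonal isometries given by a family of weights. -/
theorem exists_diag_hom (q : QuadraticForm F (ι → F)) {m : ℕ} (W : (Fin m → Fˣ) →* (ι → Fˣ))
    (hW : ∀ d z, q (fun k => (W d k : F) * z k) = q z) :
    ∃ T : (Fin m → Fˣ) →* Cfsg.isometryGroup F (⇑q),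
      (∀ d, ((T d : GL ι F) : Matrix ι ι F) = Matrix.diagonal (fun k => (W d k : F))) ∧
      ∀ d z k, mv (T d : GL ι F) z k = (W d k : F) * z k := by
  let D : (ι → Fˣ) →* GL ι F := MonoidHom.mk'
    (fun w => ⟨Matrix.diagonal (fun k => (w k : F)), Matrix.diagonal (fun k => ((w k)⁻¹ : Fˣ).val),
      by rw [Matrix.diagonal_mul_diagonal]; simp,
      by rw [Matrix.diagonal_mul_diagonal]; simp⟩)
    fun w w' => Units.ext (by
      show Matrix.diagonal _ = Matrix.diagonal _ * Matrix.diagonal _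
      rw [Matrix.diagonal_mul_diagonal]; rfl)
  have hmv : ∀ d z k, mv (D (W d)) z k = (W d k : F) * z k := fun d z k => by
    show (Matrix.diagonal _ *ᵥ z) k = _
    rw [Matrix.mulVec_diagonal]
  have hmem : ∀ d, D (W d) ∈ Cfsg.isometryGroup F (⇑q) := fun d => mem_isometry.2 fun z => by
    rw [show mv (D (W d)) z = fun k => (W d k : F) * z k from funext (hmv d z)]
    exact hW d z
  exact ⟨(D.comp W).codRestrict _ hmem, fun d => rfl, hmv⟩

/-- Sign changes on the first `i` hyperbolic planes. -/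
theorem sign_mem_omega [Fintype F] (hodd : Odd (Fintype.card F)) (q : QuadraticForm F (ι → F))
    (hQ : (polarBilin q).Nondegenerate) (hn : 2 ≤ Fintype.card ι) {m : ℕ}
    (xi yi : Fin m → ι) (hxy : ∀ i j, xi i ≠ yi j) (hx : Function.Injective xi) (hy : Function.Injective yi)
    (hval : ∀ i (s : F), q (Pi.single (xi i) 1 + Pi.single (yi i) s) = s)
    (hpol : ∀ z i (s : F), polar q z (Pi.single (xi i) 1 + Pi.single (yi i) s) = z (yi i) + s * z (xi i))
    (W : (Fin m → Fˣ) →* (ι → Fˣ)) (hW : ∀ d z, q (fun k => (W d k : F) * z k) = q z)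
    (hWx : ∀ d i, W d (xi i) = d i) (hWy : ∀ d i, W d (yi i) = (d i)⁻¹)
    (hWo : ∀ d k, (∀ i, k ≠ xi i ∧ k ≠ yi i) → W d k = 1)
    (i : ℕ) (hi : i ≤ m) (s : ι → F) (hs : ∀ k, s k = (W (fun j : Fin m => if (j : ℕ) < i then (-1 : Fˣ) else 1) k : F)) :
    (∃ g : Cfsg.isometryGroup F (⇑q), g ∈ Cfsg.Omega F (⇑q) ∧
      ((g : GL ι F) : Matrix ι ι F) = Matrix.diagonal s) ↔ Fintype.card F ^ i % 4 = 1 := by
  have h2 : (2 : F) ≠ 0 := Cfsg.Agent.Orth.two_ne_zero_of_odd hodd
  obtain ⟨χ, hker, -, hrefl⟩ := Cfsg.Agent.Orth.exists_matrix_spinor q hQ hn (Or.inl (card_ne_two_of_two_ne h2))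
  obtain ⟨T, hT, hTm⟩ := exists_diag_hom q W hW
  obtain ⟨d, hd⟩ : ∃ d : Fin m → Fˣ, d = fun j : Fin m => if (j : ℕ) < i then (-1 : Fˣ) else 1 := ⟨_, rfl⟩
  have hprod : (∏ j, (d j : F)) = (-1) ^ i := by
    subst hd
    simp only [apply_ite Units.val, Units.val_neg, Units.val_one]
    rw [Finset.prod_ite, Finset.prod_const, Finset.prod_const_one, mul_one, Fin.card_filter_val_lt, Nat.min_eq_right hi]
  have hχ : χ (T d) = (1, sqc F ((-1 : F) ^ i)) := by
    rw [spin_torus q hrefl xi yi hxy hx hy hval hpol T (fun d z j => by rw [hTm, hWx])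
      (fun d z j => by rw [hTm, hWy]) (fun d z k hk => by rw [hTm, hWo d k hk, Units.val_one, one_mul]) d, hprod]
  have hmat : ((T d : GL ι F) : Matrix ι ι F) = Matrix.diagonal s := by
    rw [hT, hd]; exact congrArg Matrix.diagonal (funext fun k => (hs k).symm)
  rw [← Cfsg.Agent.Orth.isSquare_neg_one_pow hodd i, ← hker]
  constructor
  · rintro ⟨g, hg, hgm⟩
    rw [show g = T d from Subtype.ext (Units.ext (hgm.trans hmat.symm)), MonoidHom.mem_ker, hχ,
      Prod.mk_eq_one, Cfsg.Agent.Orth.sqc_eq_one_iff (pow_ne_zero _ (neg_ne_zero.2 one_ne_zero))] at hg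
    exact hg.2
  · intro hsq
    refine ⟨T d, ?_, hmat⟩
    rw [MonoidHom.mem_ker, hχ, Prod.mk_eq_one, Cfsg.Agent.Orth.sqc_eq_one_iff (pow_ne_zero _ (neg_ne_zero.2 one_ne_zero))]
    exact ⟨rfl, hsq⟩

/-- The exchange of the coordinates on a set of hyperbolic planes. -/
theorem exists_swap_val {m : ℕ} {χ : Cfsg.isometryGroup F (⇑(qPlus F m)) →* SpinVal F}
    (hrefl : ∀ (g : Cfsg.isometryGroup F (⇑(qPlus F m))) (v : Fin m ⊕ Fin m → F), qPlus F m v ≠ 0 →
      ((g : GL (Fin m ⊕ Fin m) F) : Matrix (Fin m ⊕ Fin m) (Fin m ⊕ Fin m) F) =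
        Cfsg.reflectionMatrix (⇑(qPlus F m)) v → χ g = reflVal (qPlus F m) v) (s : Finset (Fin m)) :
    ∃ g : Cfsg.isometryGroup F (⇑(qPlus F m)),
      (∀ z i, mv (g : GL (Fin m ⊕ Fin m) F) z (Sum.inl i) = if i ∈ s then z (Sum.inr i) else z (Sum.inl i)) ∧
      (∀ z i, mv (g : GL (Fin m ⊕ Fin m) F) z (Sum.inr i) = if i ∈ s then z (Sum.inl i) else z (Sum.inr i)) ∧
      χ g = ((Multiplicative.ofAdd (1 : ZMod 2)) ^ s.card, sqc F ((-1) ^ s.card)) := by
  induction s using Finset.induction_on with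
  | empty =>
    refine ⟨1, fun z i => ?_, fun z i => ?_, ?_⟩
    · simp [Cfsg.Agent.Transvec.mv_one]
    · simp [Cfsg.Agent.Transvec.mv_one]
    · rw [map_one, Finset.card_empty, pow_zero, pow_zero, Cfsg.Agent.Orth.sqc_one]
      rfl
  | insert a s ha ih =>
    obtain ⟨g, hgl, hgr, hgv⟩ := ih
    obtain ⟨v, hv⟩ : ∃ v : Fin m ⊕ Fin m → F, v = Pi.single (Sum.inl a) 1 + Pi.single (Sum.inr a) (-1) := ⟨_, rfl⟩
    have hqv : qPlus F m v = -1 := by
      rw [Cfsg.Agent.Orth.coe_qPlus, hv]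
      simp [Cfsg.quadFormPlus, Pi.single_apply]
    obtain ⟨r, hr, -⟩ := Cfsg.Agent.Orth.exists_reflection (qPlus F m) (v := v)
      (by rw [hqv]; exact neg_ne_zero.2 one_ne_zero)
    have hrz : ∀ z, mv (r : GL (Fin m ⊕ Fin m) F) z = z + (z (Sum.inr a) - z (Sum.inl a)) • v := fun z => by
      show ((r : GL (Fin m ⊕ Fin m) F) : Matrix (Fin m ⊕ Fin m) (Fin m ⊕ Fin m) F) *ᵥ z = _
      rw [hr, Cfsg.Agent.Orth.reflectionMatrix_mulVec, hqv]
      have hp : polar (qPlus F m) z v = z (Sum.inr a) - z (Sum.inl a) := by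
        simp only [polar, Cfsg.Agent.Orth.coe_qPlus, hv]
        simp [Cfsg.quadFormPlus, Pi.single_apply, add_mul, mul_add, Finset.sum_add_distrib]
        ring
      rw [hp, div_neg, div_one, neg_smul, sub_neg_eq_add]
    refine ⟨r * g, fun z i => ?_, fun z i => ?_, ?_⟩
    · rw [Subgroup.coe_mul, mv_mul, hrz]
      simp only [Pi.add_apply, Pi.smul_apply, hgl, hgr, hv, smul_eq_mul, Finset.mem_insert]
      rcases eq_or_ne i a with rfl | hia
      · simp [ha]
      · simp [hia]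
    · rw [Subgroup.coe_mul, mv_mul, hrz]
      simp only [Pi.add_apply, Pi.smul_apply, hgl, hgr, hv, smul_eq_mul, Finset.mem_insert]
      rcases eq_or_ne i a with rfl | hia
      · simp [ha]
      · simp [hia]
    · rw [map_mul, hgv, hrefl r v (by rw [hqv]; exact neg_ne_zero.2 one_ne_zero) hr, Finset.card_insert_of_notMem ha,
        pow_succ', pow_succ', Cfsg.Agent.Orth.sqc_mul (neg_ne_zero.2 one_ne_zero)
          (pow_ne_zero _ (neg_ne_zero.2 one_ne_zero)), reflVal, hqv]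
      rfl

/-- Elements of Ω exchanging the two standard maximal totally singular subspaces. -/
theorem swap_mem_omega [Fintype F] {m : ℕ} (hm : 1 ≤ m) (h : Fintype.card F ≠ 2 ∨ m ≠ 2) :
    (∃ g : Cfsg.isometryGroup F (⇑(qPlus F m)), g ∈ Cfsg.Omega F (⇑(qPlus F m)) ∧
      (∀ v : Fin m ⊕ Fin m → F, (∀ i, v (Sum.inr i) = 0) → ∀ i, mv (g : GL (Fin m ⊕ Fin m) F) v (Sum.inl i) = 0) ∧
      (∀ v : Fin m ⊕ Fin m → F, (∀ i, v (Sum.inl i) = 0) → ∀ i, mv (g : GL (Fin m ⊕ Fin m) F) v (Sum.inr i) = 0)) ↔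
      Even m := by
  obtain ⟨χ, hker, -, hrefl⟩ := Cfsg.Agent.Orth.exists_matrix_spinor (qPlus F m) (Cfsg.Agent.Orth.qPlus_nondeg m)
    (by simp; omega) (h.imp_right fun e => by simp only [Fintype.card_sum, Fintype.card_fin]; omega)
  obtain ⟨w, hwl, hwr, hwv⟩ := exists_swap_val hrefl Finset.univ
  simp only [Finset.mem_univ, if_true, Finset.card_univ, Fintype.card_fin] at hwl hwr hwv
  obtain ⟨L, hL, hLv⟩ := exists_levi (F := F) (m := m)
  constructor
  · rintro ⟨g, hg, hgU, hgW⟩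
    obtain ⟨k, hk⟩ : ∃ k, k = w * g := ⟨_, rfl⟩
    obtain ⟨K, hK⟩ : ∃ K, K = ((k : GL (Fin m ⊕ Fin m) F) : Matrix (Fin m ⊕ Fin m) (Fin m ⊕ Fin m) F) := ⟨_, rfl⟩
    have hcol : ∀ z, mv (k : GL (Fin m ⊕ Fin m) F) z = K *ᵥ z := fun z => by rw [hK]; try rfl
    have h12 : K.toBlocks₁₂ = 0 := by
      ext a b
      have e : mv (k : GL (Fin m ⊕ Fin m) F) (Pi.single (Sum.inr b) 1) (Sum.inl a) = K (Sum.inl a) (Sum.inr b) := by
        rw [hcol, Matrix.mulVec_single]; simp
      rw [hk, Subgroup.coe_mul, mv_mul, hwl, hgW _ (fun i => by simp)] at e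
      exact e.symm
    have h21 : K.toBlocks₂₁ = 0 := by
      ext a b
      have e : mv (k : GL (Fin m ⊕ Fin m) F) (Pi.single (Sum.inl b) 1) (Sum.inr a) = K (Sum.inr a) (Sum.inl b) := by
        rw [hcol, Matrix.mulVec_single]; simp
      rw [hk, Subgroup.coe_mul, mv_mul, hwr, hgU _ (fun i => by simp)] at e
      exact e.symm
    have hblk : K = Matrix.fromBlocks K.toBlocks₁₁ 0 0 K.toBlocks₂₂ := by
      conv_lhs => rw [← Matrix.fromBlocks_toBlocks K, h12, h21]
    have hAD : K.toBlocks₁₁.transpose * K.toBlocks₂₂ = 1 := by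
      ext a b
      have e := Cfsg.Agent.Orth.b_map (Cfsg.Agent.Orth.isoEquiv (qPlus F m) k).2
        (Sum.elim (Pi.single a 1) 0) (Sum.elim 0 (Pi.single b 1))
      rw [Cfsg.Agent.Orth.isoEquiv_apply, Cfsg.Agent.Orth.isoEquiv_apply, ← hK, hblk, Matrix.fromBlocks_mulVec,
        Matrix.fromBlocks_mulVec] at e
      simp only [Sum.elim_comp_inl, Sum.elim_comp_inr, Matrix.zero_mulVec, add_zero, zero_add, Matrix.mulVec_zero,
        Cfsg.Agent.Orth.polar_qPlus, Pi.zero_apply, mul_zero, zero_mul] at e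
      simp only [Matrix.mulVec_single, MulOpposite.op_one, one_smul, Matrix.col_apply] at e
      rw [Matrix.mul_apply]
      simp only [Matrix.transpose_apply]
      rw [e]
      simp [Pi.single_apply, Matrix.one_apply, eq_comm]
    have hdet : K.toBlocks₁₁.det ≠ 0 := fun h0 => by
      have := congrArg Matrix.det hAD
      rw [Matrix.det_mul, Matrix.det_transpose, h0, zero_mul, Matrix.det_one] at this
      exact zero_ne_one this
    have hkL : k = L (Matrix.GeneralLinearGroup.mkOfDetNeZero K.toBlocks₁₁ hdet) := by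
      refine Subtype.ext (Units.ext ?_)
      rw [hL, ← hK]
      conv_lhs => rw [hblk]
      congr 1
      show _ = K.toBlocks₁₁⁻¹.transpose
      rw [Matrix.transpose_nonsing_inv]
      exact (Matrix.inv_eq_right_inv hAD).symm
    rw [← hker, MonoidHom.mem_ker] at hg
    have hv : χ k = χ w := by rw [hk, map_mul, hg, mul_one]
    rw [hkL, hLv h hrefl, hwv, Prod.mk.injEq] at hv
    exact (ofAdd_one_pow m).1 hv.1.symm
  · intro he
    refine ⟨w, ?_, fun v hv i => by rw [hwl, hv], fun v hv i => by rw [hwr, hv]⟩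
    rw [← hker, MonoidHom.mem_ker, hwv, spinVal_eq_one (pow_ne_zero _ (neg_ne_zero.2 one_ne_zero))]
    exact ⟨he, by rw [he.neg_one_pow]; exact ⟨1, (one_mul 1).symm⟩⟩

/-- The first component of the invariant records the action on the classes. -/
theorem fst_eq_one_iff_pres [Fintype F] {m : ℕ} {q : QuadraticForm F (ι → F)} (hH : Hyperbolic q m)
    (h : Fintype.card F ≠ 2 ∨ Fintype.card ι ≠ 4) {χ : Cfsg.isometryGroup F (⇑q) →* SpinVal F}
    (hrefl : ∀ (g : Cfsg.isometryGroup F (⇑q)) (v : ι → F), q v ≠ 0 →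
      ((g : GL ι F) : Matrix ι ι F) = Cfsg.reflectionMatrix (⇑q) v → χ g = reflVal q v)
    (g : Cfsg.isometryGroup F (⇑q)) :
    (χ g).1 = 1 ↔ Cfsg.PreservesSingularClasses (⇑q) ((g : GL ι F) : Matrix ι ι F) := by
  have hg : g ∈ (⊤ : Subgroup _) := Subgroup.mem_top g
  rw [← Cfsg.Agent.Orth.closure_reflections_eq_top q hH.nondeg h] at hg
  induction hg using Subgroup.closure_induction with
  | mem r hr =>
    obtain ⟨v, hv, hrv⟩ := hr
    rw [hrefl r v hv hrv]
    exact iff_of_false (show Multiplicative.ofAdd (1 : ZMod 2) ≠ 1 by decide) (not_pres_refl hH hv hrv).2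
  | one =>
    rw [map_one]
    exact iff_of_true rfl (pres_one hH)
  | mul x y _ _ hx hy =>
    rw [map_mul, Subgroup.coe_mul, pres_mul hH (isPair_iso x.2) (isPair_iso y.2), Prod.fst_mul]
    refine Iff.trans ?_ (iff_congr hx hy)
    rcases zmod_two_cases (χ x).1 with e | e <;> rcases zmod_two_cases (χ y).1 with e' | e' <;> rw [e, e'] <;>
      decide
  | inv x _ hx =>
    rw [map_inv, Subgroup.coe_inv, pres_inv hH (isPair_iso x.2), Prod.fst_inv, inv_eq_one]
    exact hx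

/-- The first standard maximal totally singular subspace, as a kernel. -/
theorem ker_funLeft_inr (m : ℕ) : LinearMap.ker (LinearMap.funLeft F F (Sum.inr : Fin m → Fin m ⊕ Fin m)) =
    LinearMap.range (Cfsg.Agent.Orth.leftEmb F m) := by
  ext v
  rw [LinearMap.mem_ker, LinearMap.mem_range]
  constructor
  · intro h
    exact ⟨v ∘ Sum.inl, funext fun k => by rcases k with k | k; rfl; exact (congrFun h k).symm⟩
  · rintro ⟨x, rfl⟩
    rfl

theorem even_iff_fst [Fintype F] {m : ℕ} (h : Fintype.card F ≠ 2 ∨ m ≠ 2)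
    {χ : Cfsg.isometryGroup F (⇑(qPlus F m)) →* SpinVal F}
    (hrefl : ∀ (g : Cfsg.isometryGroup F (⇑(qPlus F m))) (v : Fin m ⊕ Fin m → F), qPlus F m v ≠ 0 →
      ((g : GL (Fin m ⊕ Fin m) F) : Matrix (Fin m ⊕ Fin m) (Fin m ⊕ Fin m) F) =
        Cfsg.reflectionMatrix (⇑(qPlus F m)) v → χ g = reflVal (qPlus F m) v)
    (g : Cfsg.isometryGroup F (⇑(qPlus F m))) :
    Even (m - finrank F ↥(LinearMap.ker (LinearMap.funLeft F F (Sum.inr : Fin m → Fin m ⊕ Fin m)) ⊓
      (LinearMap.ker (LinearMap.funLeft F F (Sum.inr : Fin m → Fin m ⊕ Fin m))).map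
        (Matrix.mulVecLin ((g : GL (Fin m ⊕ Fin m) F) : Matrix (Fin m ⊕ Fin m) (Fin m ⊕ Fin m) F)))) ↔
      (χ g).1 = 1 := by
  have hm : IsMaxSing (qPlus F m) m (LinearMap.range (Cfsg.Agent.Orth.leftEmb F m)) := Cfsg.Agent.Orth.isMaxSing_left
  rw [ker_funLeft_inr, fst_eq_one_iff_pres hyp_plus (h.imp_right fun e => by simp; omega) hrefl g,
    pres_iff hyp_plus (isPair_iso g.2) hm, Same, Cfsg.imageSubmodule, Matrix.toLin'_apply']

end Cfsg.Agent.AutPOmega
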