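import Cfsg.Agent.Lib.AutPOmega.MinusBase
import Cfsg.Agent.Lib.AutPOmega.SpinorApps
import Cfsg.Agent.Lib.AutPOmega.EvenFinal

/-!
Diagonal similitudes of the hyperbolic form and the plus type over a fixed field.
-/

set_option autoImplicit false

namespace Cfsg.Agent.AutPOmega

open Matrix QuadraticMap
open Cfsg.Agent.Orth (SpinVal SqCls sqc reflVal qPlus)
open Cfsg.Agent.Transvec (mv mv_mul mv_inj mv_inv_mv mv_mv_inv ext_mv)
open Cfsg.Agent.Transvec.Orth (mem_isometry)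

section DiagSim

variable {m : ℕ} {F : Type*} [Field F]

local notation "Ip" => Fin m ⊕ Fin m
local notation "Qp" => Cfsg.quadFormPlus m F
local notation "Pres" g => Cfsg.PreservesSingularClasses (Cfsg.quadFormPlus m F) ((g : GL (Fin m ⊕ Fin m) F) : Matrix (Fin m ⊕ Fin m) (Fin m ⊕ Fin m) F)

/-- The weights of a diagonal similitude. -/
def plusWt (m : ℕ) (F : Type*) [Field F] : (Fin m → Fˣ) × Fˣ →* (Fin m ⊕ Fin m → Fˣ) where
  toFun x := Sum.elim x.1 (fun i => x.2 * (x.1 i)⁻¹)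
  map_one' := funext fun k => by rcases k with k | k <;> simp
  map_mul' x y := funext fun k => by
    rcases k with k | k
    · rfl
    · simp [mul_assoc, mul_comm, mul_left_comm]

/-- The diagonal similitude `eᵢ ↦ aᵢ eᵢ`, `fᵢ ↦ (μ/aᵢ) fᵢ`. -/
def diagSim (m : ℕ) (F : Type*) [Field F] : (Fin m → Fˣ) × Fˣ →* GL (Fin m ⊕ Fin m) F :=
  MonoidHom.mk' (fun x => ⟨Matrix.diagonal (fun k => (plusWt m F x k : F)),
      Matrix.diagonal (fun k => ((plusWt m F x k)⁻¹ : Fˣ).val),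
      by rw [Matrix.diagonal_mul_diagonal]; simp,
      by rw [Matrix.diagonal_mul_diagonal]; simp⟩)
    fun x y => Units.ext (by
      show Matrix.diagonal _ = Matrix.diagonal _ * Matrix.diagonal _
      rw [Matrix.diagonal_mul_diagonal, map_mul]; rfl)

theorem mv_diagSim (x : (Fin m → Fˣ) × Fˣ) (z : Ip → F) (k : Ip) :
    mv (diagSim m F x) z k = (plusWt m F x k : F) * z k := by
  show (Matrix.diagonal _ *ᵥ z) k = _
  rw [Matrix.mulVec_diagonal]

theorem quad_diagSim (x : (Fin m → Fˣ) × Fˣ) (z : Ip → F) :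
    Qp (mv (diagSim m F x) z) = (x.2 : F) * Qp z := by
  simp only [Cfsg.quadFormPlus, mv_diagSim, Finset.mul_sum]
  refine Finset.sum_congr rfl fun i _ => ?_
  have := (x.1 i).ne_zero
  simp [plusWt]
  field_simp

theorem pair_diagSim (x : (Fin m → Fˣ) × Fˣ) : Cfsg.IsSemisimilarityPair Qp (diagSim m F x) 1 :=
  ⟨x.2, fun v => quad_diagSim x v⟩

variable [Finite F]

theorem pres_diagSim (x : (Fin m → Fˣ) × Fˣ) : Pres (diagSim m F x) := by
  have hg := pair_diagSim (F := F) x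
  rw [← Cfsg.Agent.Orth.coe_qPlus] at hg ⊢
  rw [pres_iff hyp_plus hg Cfsg.Agent.Orth.isMaxSing_left]
  obtain ⟨U, hU⟩ : ∃ U, U = LinearMap.range (Cfsg.Agent.Orth.leftEmb F m) := ⟨_, rfl⟩
  rw [← hU]
  have e : Cfsg.imageSubmodule (diagSim m F x : Matrix Ip Ip F) U = U := by
    refine Submodule.eq_of_le_of_finrank_eq ?_ (finrank_image (diagSim m F x) U)
    rintro _ ⟨y, hy, rfl⟩
    rw [hU] at hy ⊢
    obtain ⟨w, rfl⟩ := hy
    refine ⟨fun i => (x.1 i : F) * w i, ?_⟩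
    show _ = mv (diagSim m F x) _
    funext i
    rw [mv_diagSim]
    rcases i with i | i <;> simp [Cfsg.Agent.Orth.leftEmb, plusWt]
  rw [e]
  exact same_refl (hU ▸ Cfsg.Agent.Orth.isMaxSing_left)

/-- The automorphisms of the diagonal similitudes. -/
noncomputable def diagSemi (m : ℕ) (F : Type*) [Field F] [Finite F] :
    (Fin m → Fˣ) × Fˣ →* MulAut (Cfsg.POmega F (Cfsg.quadFormPlus m F)) :=
  MonoidHom.mk' (fun x => semi (diagSim m F x) 1 (pair_diagSim x)) fun x y => by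
    rw [semi_mul_one]
    exact semi_congr _ _ (map_mul _ _ _) rfl

theorem diagSemi_mem (x : (Fin m → Fˣ) × Fˣ) : diagSemi m F x ∈ Cfsg.inndiagPOmegaPlus m F :=
  mem_inndiag_plus.2 ⟨_, pair_diagSim x, pres_diagSim x, rfl⟩

variable [Fintype F]

/-- Every inner-diagonal automorphism is inner times a diagonal one. -/
theorem inndiag_le_plus (hm : 4 ≤ m) : Cfsg.inndiagPOmegaPlus m F ≤
    Cfsg.Inn (Cfsg.POmega F Qp) ⊔ (diagSemi m F).range := by
  intro β hβ
  obtain ⟨g, hg, hP, rfl⟩ := mem_inndiag_plus.1 hβ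
  obtain ⟨μ, hμ⟩ := id hg
  have hμ' : ∀ v, Qp (mv g v) = (μ : F) * Qp v := hμ
  obtain ⟨χ, hker, -, hrefl⟩ := Cfsg.Agent.Orth.exists_matrix_spinor (qPlus F m)
    (Cfsg.Agent.Orth.qPlus_nondeg m) (by simp; omega) (Or.inr (by simp; omega))
  have hpar : Par (qPlus F m) (fun g : GL Ip F => Pres g) :=
    { nondeg := Cfsg.Agent.Orth.qPlus_nondeg m
      seven := by simp; omega
      p_one := presP_one
      p_mul := fun g h hg hh => by
        rw [Cfsg.Agent.Orth.coe_qPlus] at hg hh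
        exact presP_mul hg hh
      p_scal := presP_scal
      p_refl := fun v r hv hr => by
        rw [Cfsg.Agent.Orth.coe_qPlus] at hr hv
        exact (presP_refl hv hr).2 }
  obtain ⟨d, hd⟩ : ∃ d, d = diagSim m F ((1 : Fin m → Fˣ), μ) := ⟨_, rfl⟩
  have hdp : Cfsg.IsSemisimilarityPair Qp d 1 := hd ▸ pair_diagSim _
  have hkiso : g * d⁻¹ ∈ Cfsg.isometryGroup F (⇑(qPlus F m)) := mem_isometry.2 fun v => by
    rw [Cfsg.Agent.Orth.coe_qPlus, mv_mul, hμ']
    have h := quad_diagSim (F := F) ((1 : Fin m → Fˣ), μ) (mv d⁻¹ v)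
    rw [← hd, mv_mv_inv] at h
    exact h.symm
  obtain ⟨k, hk⟩ : ∃ k : Cfsg.isometryGroup F (⇑(qPlus F m)), (k : GL Ip F) = g * d⁻¹ := ⟨⟨_, hkiso⟩, rfl⟩
  have hkP : Pres (k : GL Ip F) := by
    rw [hk, presP_mul hg (pair_inv hdp), presP_inv hdp, hd]
    exact iff_of_true hP (pres_diagSim _)
  obtain ⟨u, hu⟩ := QuotientGroup.mk_surjective (χ k).2
  rw [← Cfsg.Agent.Orth.sqc_unit] at hu
  let i0 : Fin m := ⟨0, by omega⟩
  let U : (Fin 1 → Fˣ) →* (Fin m → Fˣ) :=
    (MonoidHom.mulSingle (fun _ : Fin m => Fˣ) i0).comp (Pi.evalMonoidHom (fun _ : Fin 1 => Fˣ) 0)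
  obtain ⟨T, -, hT⟩ := exists_diag_hom (qPlus F m) ((plusWt m F).comp (U.prod 1)) fun e z => by
    rw [show (fun k => ((((plusWt m F).comp (U.prod 1)) e k : Fˣ) : F) * z k) = mv (diagSim m F (U e, 1)) z from
      funext fun k => (mv_diagSim (U e, 1) z k).symm, Cfsg.Agent.Orth.coe_qPlus, quad_diagSim, Units.val_one,
      one_mul]
  have hTd : ∀ e, (T e : GL Ip F) = diagSim m F (U e, 1) := fun e => ext_mv fun z => funext fun j => by
    rw [hT, mv_diagSim]; rfl
  have hTχ : χ (T fun _ => u) = (1, sqc F (u : F) ^ 1) := by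
    refine spin_diag (qPlus F m) hrefl (fun _ : Fin 1 => Sum.inl i0) (fun _ => Sum.inr i0)
      (fun _ _ => Sum.inl_ne_inr) (fun a b _ => Subsingleton.elim a b) (fun a b _ => Subsingleton.elim a b)
      (fun i s => by
        rw [Cfsg.Agent.Orth.coe_qPlus]
        simp [Cfsg.quadFormPlus, Pi.single_apply])
      (fun z i s => by
        simp only [polar, Cfsg.Agent.Orth.coe_qPlus]
        simp [Cfsg.quadFormPlus, Pi.single_apply, add_mul, mul_add, Finset.sum_add_distrib]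
        ring)
      T (fun e z i => ?_) (fun e z i => ?_) (fun e z j hj => ?_) u
    · rw [Subsingleton.elim i 0, hT]
      simp [plusWt, U, MonoidHom.mulSingle_apply]
    · rw [Subsingleton.elim i 0, hT]
      simp [plusWt, U, MonoidHom.mulSingle_apply]
    · rw [hT]
      rcases j with j | j
      · have hne : j ≠ i0 := fun e => (hj 0).1 (by rw [e])
        simp [plusWt, U, MonoidHom.mulSingle_apply, Pi.mulSingle_eq_of_ne hne]
      · have hne : j ≠ i0 := fun e => (hj 0).2 (by rw [e])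
        simp [plusWt, U, MonoidHom.mulSingle_apply, Pi.mulSingle_eq_of_ne hne]
  have hΩ : k * (T fun _ => u)⁻¹ ∈ Cfsg.Omega F (⇑(qPlus F m)) := by
    rw [← hker, MonoidHom.mem_ker, map_mul, map_inv, hTχ, pow_one, hu,
      ← ((hpar.fst_iff hrefl k).2 hkP), Prod.mk.eta, mul_inv_cancel]
  have key : ∀ (Q : (Ip → F) → F) (w : Cfsg.isometryGroup F Q), Q = Qp → w ∈ Cfsg.Omega F Q →
      ∃ (h : Cfsg.IsSemisimilarityPair Qp (w : GL Ip F) 1), semi (w : GL Ip F) 1 h ∈ Cfsg.Inn (Cfsg.POmega F Qp) := by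
    rintro Q w rfl hw
    exact ⟨isPair_iso w.2, QuotientGroup.mk' _ ⟨w, hw⟩, inner_eq_semi ⟨w, hw⟩⟩
  obtain ⟨hw, hwi⟩ := key _ (k * (T fun _ => u)⁻¹) (Cfsg.Agent.Orth.coe_qPlus m) hΩ
  have e : semi g 1 hg = semi ((k * (T fun _ => u)⁻¹ : Cfsg.isometryGroup F (⇑(qPlus F m))) : GL Ip F) 1 hw *
      diagSemi m F (U (fun _ => u), μ) := by
    show _ = _ * semi (diagSim m F _) 1 (pair_diagSim _)
    rw [semi_mul_one]
    refine semi_congr _ _ ?_ rfl
    rw [Subgroup.coe_mul, Subgroup.coe_inv, hk, hTd, hd,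
      show ((U fun _ => u, μ) : (Fin m → Fˣ) × Fˣ) = (U fun _ => u, 1) * (1, μ) by simp, map_mul]
    group
  rw [e]
  exact Subgroup.mul_mem_sup hwi ⟨_, rfl⟩

theorem inndiag_eq_plus (hm : 4 ≤ m) : Cfsg.inndiagPOmegaPlus m F =
    Cfsg.Inn (Cfsg.POmega F Qp) ⊔ (diagSemi m F).range :=
  le_antisymm (inndiag_le_plus hm) (sup_le inn_le_plus (by rintro _ ⟨x, rfl⟩; exact diagSemi_mem x))

/-- Automorphisms coming from semisimilarities normalise the inner-diagonal group. -/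
theorem inndiag_normal_of_five (hm : 5 ≤ m) : (Cfsg.inndiagPOmegaPlus m F).Normal := by
  refine ⟨fun β hβ α => ?_⟩
  obtain ⟨p, hp⟩ := CharP.exists F
  haveI : Fact p.Prime := ⟨CharP.char_is_prime F p⟩
  obtain ⟨h, τ, hh, rfl⟩ := exists_semi (geo_plus m) (show 7 ≤ Fintype.card Ip by simp; omega) p
    (Or.inl (by simp; omega)) α
  obtain ⟨g, hg, hP, rfl⟩ := mem_inndiag_plus.1 hβ
  have hp1 : Cfsg.IsSemisimilarityPair Qp (h * mapGL τ g * h⁻¹) 1 := by
    obtain ⟨c, hc⟩ := hh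
    obtain ⟨μ, hμ⟩ := hg
    refine ⟨Units.map τ.toMonoidHom μ, fun v => ?_⟩
    obtain ⟨y, rfl⟩ := sm_surj h τ v
    show Qp (mv (h * mapGL τ g * h⁻¹) (sm h τ y)) = (τ (μ : F)) * Qp (sm h τ y)
    rw [← sm_conj]
    refine (hc _).trans ?_
    rw [show Qp (sm h τ y) = (c : F) * τ (Qp y) from hc y]
    show (c : F) * τ (Qp (mv g y)) = _
    rw [show Qp (mv g y) = (μ : F) * Qp y from hμ y, map_mul, mul_left_comm]
  refine mem_inndiag_plus.2 ⟨_, hp1, (presP_conj hh hg hp1).2 hP, ?_⟩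
  rw [mul_inv_eq_iff_eq_mul, semi_mul, semi_mul]
  exact semi_congr _ _ (by rw [mapGL_one, inv_mul_cancel_right]) (by simp)

end DiagSim

section Base

universe u v

variable {m : ℕ} {F : Type u} [Field F] [Fintype F] {F₀ : Type v} [Field F₀] [Fintype F₀] (φ : F₀ →+* F)

theorem par_plus (hm : 4 ≤ m) : Par (qPlus F m) (fun g : GL (Fin m ⊕ Fin m) F =>
    Cfsg.PreservesSingularClasses (Cfsg.quadFormPlus m F) (g : Matrix (Fin m ⊕ Fin m) (Fin m ⊕ Fin m) F)) where
  nondeg := Cfsg.Agent.Orth.qPlus_nondeg m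
  seven := by simp; omega
  p_one := presP_one
  p_mul g h hg hh := by
    rw [Cfsg.Agent.Orth.coe_qPlus] at hg hh
    exact presP_mul hg hh
  p_scal t := presP_scal t
  p_refl v r hv hr := by
    rw [Cfsg.Agent.Orth.coe_qPlus] at hr hv
    exact (presP_refl hv hr).2

omit [Fintype F] [Fintype F₀] in
theorem map_diagSim (x : (Fin m → F₀ˣ) × F₀ˣ) :
    Matrix.GeneralLinearGroup.map φ (diagSim m F₀ x) =
      diagSim m F (fun i => Units.map φ.toMonoidHom (x.1 i), Units.map φ.toMonoidHom x.2) :=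
  Units.ext (Matrix.ext fun i j => by
    show φ (Matrix.diagonal _ i j) = Matrix.diagonal _ i j
    rcases eq_or_ne i j with rfl | h
    · simp only [Matrix.diagonal_apply_eq]
      rcases i with i | i <;> simp [plusWt, map_inv₀]
    · simp [Matrix.diagonal_apply_ne _ h])

theorem base_plus (hm : 4 ≤ m) : Base (qPlus F m) (fun g : GL (Fin m ⊕ Fin m) F =>
      Cfsg.PreservesSingularClasses (Cfsg.quadFormPlus m F) (g : Matrix (Fin m ⊕ Fin m) (Fin m ⊕ Fin m) F))
    (qPlus F₀ m) (fun g : GL (Fin m ⊕ Fin m) F₀ =>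
      Cfsg.PreservesSingularClasses (Cfsg.quadFormPlus m F₀) (g : Matrix (Fin m ⊕ Fin m) (Fin m ⊕ Fin m) F₀)) φ where
  par := par_plus hm
  par₀ := par_plus hm
  compat v := by
    rw [Cfsg.Agent.Orth.coe_qPlus, Cfsg.Agent.Orth.coe_qPlus]
    exact plus_quad_map φ v
  mult c := by
    refine ⟨diagSim m F₀ (1, c), fun v => ?_, pres_diagSim _, ?_⟩
    · rw [Cfsg.Agent.Orth.coe_qPlus]; exact quad_diagSim _ v
    · rw [map_diagSim]
      exact pres_diagSim _

end Base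

end Cfsg.Agent.AutPOmega
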