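import Cfsg.Agent.Lib.Lie.NatRepD4
import Cfsg.Agent.Lib.ChevAut.AutData
import Cfsg.Agent.Lib.ChevAut.AutPerm
import Cfsg.Agent.Lib.AutPOmega.PlusDiag

/-!
The automorphism group of `PΩ₈⁺` through the Chevalley group of type `D₄`.
-/

set_option autoImplicit false
set_option maxRecDepth 8000

namespace Cfsg.Agent.AutPOmega.D4

open Cfsg.Lie QuadraticMap
open Cfsg.Agent.Chev Cfsg.Agent.Chev.Tab
open Cfsg.Agent.Orth (qPlus oGroup isoEquiv)
open Cfsg.Agent.Transvec (mv mv_mul mv_smul ext_mv)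

theorem hT : D4Data.tab.D ∈ [chevG2, chevB2, chevD4, chevF4, chevE6, chevE7, chevE8] := by
  show chevD4 ∈ _
  simp

/-- the checks for `D₄` -/
theorem hg : D4Data.tab.Good := ChevAut.autOK_D4.good.toGood

variable (F : Type*) [Field F] [Finite F]

/-- The isomorphism with its values on root elements. -/
theorem exists_equiv_spec (Q : (Fin 4 ⊕ Fin 4 → F) → F) (hQ : ⇑(qPlus F 4) = Q) :
    ∃ E : ↥(D4Data.tab.D.group F) ≃* Cfsg.POmega F Q, ∀ r < D4Data.tab.n, ∀ t : F,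
      ∃ ω : Cfsg.Omega F Q, E (ChevAut.xe hg r t) = QuotientGroup.mk' _ ω ∧
        ∀ x, act ω x = (natEl D4Data.tab D4Data.nat (qPlus F 4) (D4Data.frame8 F) r t).1 x := by
  subst hQ
  have gW : D4Data.tab.GoodW [[4, 4, 2, 2], [4, 8, 4, 4], [2, 4, 4, 2], [2, 4, 2, 4]]
      [(6, 22, 0), (1, 23, 0), (3, 22, 0), (2, 22, 0)] :=
    ⟨⟨⟨D4Data.good, by decide +kernel⟩, by decide +kernel⟩, by decide +kernel⟩
  have S := D4Data.natSys F
  obtain ⟨ρ, hρ⟩ := exists_natHom S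
  have hp : commutator (D4Data.tab.D.SteinbergGroup F) = ⊤ := by
    have h := commutator_steinbergCover_eq_top (K := F) gW.toGood (two := false)
      (fun h => absurd h Bool.false_ne_true) (by decide +kernel)
    have := congrArg (Subgroup.map (Cov.proj D4Data.tab F)) h
    rwa [commutator_def, Subgroup.map_commutator, Subgroup.map_top_of_surjective _ Cov.proj_surjective,
      ← commutator_def] at this
  have hrange : ρ.range = commutator (oGroup (qPlus F 4)) := by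
    apply le_antisymm
    · rw [MonoidHom.range_eq_map, ← hp, commutator_def, commutator_def, Subgroup.map_commutator]
      exact Subgroup.commutator_mono le_top le_top
    · exact S.frame.commutator_le.trans (rootEls_le S _ fun r hr t => ⟨_, hρ r hr t⟩)
  have hmap : (Cfsg.Omega F (⇑(qPlus F 4))).map (isoEquiv (qPlus F 4)).toMonoidHom =
      commutator (oGroup (qPlus F 4)) := by
    show (commutator _).map _ = commutator _
    rw [commutator_def, commutator_def, Subgroup.map_commutator,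
      Subgroup.map_top_of_surjective _ (isoEquiv (qPlus F 4)).surjective]
  have hmem : ∀ x, (isoEquiv (qPlus F 4)).symm (ρ x) ∈ Cfsg.Omega F (⇑(qPlus F 4)) := fun x => by
    obtain ⟨y, hy, e⟩ : ρ x ∈ (Cfsg.Omega F (⇑(qPlus F 4))).map (isoEquiv (qPlus F 4)).toMonoidHom := by
      rw [hmap, ← hrange]; exact ⟨x, rfl⟩
    rw [← e]
    simpa using hy
  let ρΩ : D4Data.tab.D.SteinbergGroup F →* Cfsg.Omega F (⇑(qPlus F 4)) :=
    ((isoEquiv (qPlus F 4)).symm.toMonoidHom.comp ρ).codRestrict _ hmem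
  have hsur : Function.Surjective ρΩ := fun w => by
    obtain ⟨x, hx⟩ : isoEquiv (qPlus F 4) w.1 ∈ ρ.range := by
      rw [hrange, ← hmap]; exact ⟨w.1, w.2, rfl⟩
    refine ⟨x, Subtype.ext ?_⟩
    show (isoEquiv (qPlus F 4)).symm (ρ x) = w.1
    rw [hx, MulEquiv.symm_apply_apply]
  have hker : (θG gW.toGoodA F).ker ≤ ((QuotientGroup.mk' (Subgroup.center _)).comp ρΩ).ker := by
    rw [(θG_ker gW.toGoodA).trans (ker_eq_center gW)]
    intro z hz
    refine (QuotientGroup.eq_one_iff _).2 (Subgroup.mem_center_iff.2 fun w => ?_)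
    obtain ⟨y, rfl⟩ := hsur w
    rw [← map_mul, ← map_mul, Subgroup.mem_center_iff.1 hz y]
  let α : ↥(D4Data.tab.D.group F) →* Cfsg.POmega F (⇑(qPlus F 4)) :=
    MonoidHom.liftOfSurjective (θG gW.toGoodA F) (θG_surjective gW.toGoodA) ⟨_, hker⟩
  have hα : ∀ x, α (θG gW.toGoodA F x) = QuotientGroup.mk' _ (ρΩ x) := fun x =>
    MonoidHom.liftOfRightInverse_comp_apply _ _ _ _ x
  have hsα : Function.Surjective α := fun y => by
    obtain ⟨w, rfl⟩ := QuotientGroup.mk'_surjective _ y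
    obtain ⟨x, rfl⟩ := hsur w
    exact ⟨_, hα x⟩
  have hcard : Nat.card ↥(D4Data.tab.D.group F) = Nat.card (Cfsg.POmega F (⇑(qPlus F 4))) := by
    obtain ⟨e⟩ := D4Data.equiv_pomega F
    rw [Cfsg.Agent.Orth.coe_qPlus]
    exact Nat.card_congr e.toEquiv
  refine ⟨MulEquiv.ofBijective α ((Nat.bijective_iff_surjective_and_card α).2 ⟨hsα, hcard⟩),
    fun r hr t => ⟨ρΩ (D4Data.tab.D.stGen F r t), ?_, fun x => ?_⟩⟩
  · have e : ChevAut.xe hg r t = θG gW.toGoodA F (D4Data.tab.D.stGen F r t) := Subtype.ext (Units.ext (by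
      rw [θG_stGen, ChevAut.coe_xe, xg_val]))
    rw [e]
    exact hα _
  · show mv (((isoEquiv (qPlus F 4)).symm (ρ (D4Data.tab.D.stGen F r t)) : _) : GL (Fin 4 ⊕ Fin 4) F) x = _
    rw [← hρ r hr t]
    conv_rhs => rw [← (isoEquiv (qPlus F 4)).apply_symm_apply (ρ (D4Data.tab.D.stGen F r t))]
    rw [Cfsg.Agent.Orth.isoEquiv_apply]

variable {F}

local notation "Qp" => Cfsg.quadFormPlus 4 F
local notation "POm" => Cfsg.POmega F (Cfsg.quadFormPlus 4 F)

/-- the frame label of a basis vector -/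
def lbl (a : ℕ) : Fin 4 ⊕ Fin 4 :=
  [Sum.inl 0, Sum.inr 0, Sum.inl 1, Sum.inr 1, Sum.inl 2, Sum.inr 2, Sum.inl 3, Sum.inr 3].getD a (Sum.inl 0)

omit [Finite F] in
theorem frame8_eq {a : ℕ} (ha : a < 8) : D4Data.frame8 F a = Pi.single (lbl a) 1 := by
  interval_cases a <;> rfl

/-- the values of the weights of a diagonal similitude on the fundamental roots -/
def chi (x : (Fin 4 → Fˣ) × Fˣ) : Fin 4 → Fˣ :=
  ![x.1 0 * (x.1 1)⁻¹, x.1 1 * (x.1 2)⁻¹, x.1 2 * (x.1 3)⁻¹, x.1 2 * x.1 3 * x.2⁻¹]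

/-- the data of the fundamental roots and their negatives -/
theorem simple_data : ∀ i : Fin 4,
    ((D4Data.nat.u (D4Data.tab.smp i), D4Data.nat.w (D4Data.tab.smp i)),
      (D4Data.nat.u (D4Data.tab.neg (D4Data.tab.smp i)), D4Data.nat.w (D4Data.tab.neg (D4Data.tab.smp i)))) =
      ![((0, 3), (1, 2)), ((2, 5), (3, 4)), ((4, 7), (5, 6)), ((4, 6), (5, 7))] i := by
  decide +kernel

omit [Finite F] in
theorem rank_four : D4Data.tab.l = 4 := by decide +kernel

/-- A diagonal similitude scales the root elements. -/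
theorem semi_root (E : ↥(D4Data.tab.D.group F) ≃* POm)
    (hE : ∀ r < D4Data.tab.n, ∀ t : F,
      ∃ ω : Cfsg.Omega F Qp, E (ChevAut.xe hg r t) = QuotientGroup.mk' _ ω ∧
        ∀ x, act ω x = (natEl D4Data.tab D4Data.nat (qPlus F 4) (D4Data.frame8 F) r t).1 x)
    (x : (Fin 4 → Fˣ) × Fˣ) {r : ℕ} (hr : r < D4Data.tab.n) (t : F) :
    diagSemi 4 F x (E (ChevAut.xe hg r t)) = E (ChevAut.xe hg r
      ((plusWt 4 F x (lbl (D4Data.nat.u r)) : F) * (plusWt 4 F x (lbl (D4Data.nat.w r)) : F) / (x.2 : F) * t)) := by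
  have S := D4Data.natSys F
  obtain ⟨⟨hu, hw, hwu, hwp⟩, hε⟩ := shape_facts S hr
  have hw8 : D4Data.nat.w r < 8 := (show ∀ r < D4Data.tab.n, D4Data.nat.w r < 8 by decide +kernel) r hr
  obtain ⟨ω, h1, h1'⟩ := hE r hr t
  obtain ⟨a, ha⟩ : ∃ a, a = plusWt 4 F x (lbl (D4Data.nat.u r)) := ⟨_, rfl⟩
  obtain ⟨b, hb⟩ : ∃ b, b = plusWt 4 F x (lbl (D4Data.nat.w r)) := ⟨_, rfl⟩
  rw [← ha, ← hb]
  obtain ⟨ω', h2, h2'⟩ := hE r hr ((a : F) * (b : F) / (x.2 : F) * t)
  rw [h1, h2]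
  show semi _ 1 _ _ = _
  rw [semi_mk]
  refine congrArg _ (ext_act fun z => ?_)
  obtain ⟨y, rfl⟩ := sm_surj (diagSim 4 F x) 1 z
  rw [act_conjOm, h2', h1', natEl_siegel S hr, natEl_siegel S hr]
  have hsm : ∀ z : Fin 4 ⊕ Fin 4 → F, sm (diagSim 4 F x) 1 z = mv (diagSim 4 F x) z := fun z => rfl
  simp only [hsm]
  have hsingle : ∀ c < 8, mv (diagSim 4 F x) (D4Data.frame8 F c) =
      (plusWt 4 F x (lbl c) : F) • D4Data.frame8 F c := fun c hc => funext fun k => by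
    rw [mv_diagSim, frame8_eq hc]
    rcases eq_or_ne k (lbl c) with rfl | hk
    · simp
    · simp [Pi.single_eq_of_ne hk]
  have eu := hsingle _ hu
  have ew := hsingle _ hw8
  rw [← ha] at eu
  rw [← hb] at ew
  obtain ⟨u, hudef⟩ : ∃ u, u = D4Data.frame8 F (D4Data.nat.u r) := ⟨_, rfl⟩
  obtain ⟨w, hwdef⟩ : ∃ w, w = D4Data.frame8 F (D4Data.nat.w r) := ⟨_, rfl⟩
  have hqw : qPlus F 4 w = 0 := hwdef ▸ S.frame.sing _ hw8
  rw [← hudef] at eu ⊢
  rw [← hwdef] at ew ⊢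
  have hpol : ∀ (s : F) (v : Fin 4 ⊕ Fin 4 → F), mv (diagSim 4 F x) v = s • v →
      s * polar (qPlus F 4) (mv (diagSim 4 F x) y) v = (x.2 : F) * polar (qPlus F 4) y v := by
    intro s v hv
    rw [← smul_eq_mul, ← polar_smul_right, ← hv]
    simp only [polar, ← Cfsg.Agent.Transvec.mv_add, Cfsg.Agent.Orth.coe_qPlus, quad_diagSim]
    ring
  have pu := hpol _ _ eu
  have pw := hpol _ _ ew
  have hμ := x.2.ne_zero
  have ha0 := a.ne_zero
  have hb0 := b.ne_zero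
  rw [Cfsg.Agent.Transvec.mv_sub, Cfsg.Agent.Transvec.mv_add, mv_smul, mv_smul, mv_smul, eu, ew]
  simp only [QuadraticMap.map_smul, hqw, smul_eq_mul, mul_zero, zero_mul, add_zero, polar_smul_right, smul_smul]
  generalize polar (qPlus F 4) (mv (diagSim 4 F x) y) u = A at pu ⊢
  generalize polar (qPlus F 4) (mv (diagSim 4 F x) y) w = B at pw ⊢
  generalize polar (qPlus F 4) y u = A₀ at pu ⊢
  generalize polar (qPlus F 4) y w = B₀ at pw ⊢
  match_scalars
  · rfl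
  · field_simp
    linear_combination (-(t * (D4Data.nat.ε r : F))) * pu
  · field_simp
    linear_combination (t * (D4Data.nat.ε r : F)) * pw

/-- The diagonal similitudes give the diagonal automorphisms. -/
theorem diagSemi_eq (E : ↥(D4Data.tab.D.group F) ≃* POm)
    (hE : ∀ r < D4Data.tab.n, ∀ t : F,
      ∃ ω : Cfsg.Omega F Qp, E (ChevAut.xe hg r t) = QuotientGroup.mk' _ ω ∧
        ∀ x, act ω x = (natEl D4Data.tab D4Data.nat (qPlus F 4) (D4Data.frame8 F) r t).1 x)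
    (x : (Fin 4 → Fˣ) × Fˣ) :
    diagSemi 4 F x = MulAut.congr E
      (ChevAut.diagHom ChevAut.autOK_D4 hT F (fun i => chi x (Fin.cast rank_four i))).1 := by
  apply (MulAut.congr E).symm.injective
  rw [MulEquiv.symm_apply_apply]
  refine ChevAut.aut_ext hg fun i t => ?_
  have hd := (ChevAut.diagHom_std (F := F) ChevAut.autOK_D4 hT (fun i => chi x (Fin.cast rank_four i))).1 i t
  simp only [ChevAut.exC_one, pow_one, Equiv.Perm.one_apply, RingEquiv.refl_apply] at hd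
  rw [hd.1, hd.2]
  have key : ∀ (r : ℕ), r < D4Data.tab.n → ∀ c : F,
      c = (plusWt 4 F x (lbl (D4Data.nat.u r)) : F) * (plusWt 4 F x (lbl (D4Data.nat.w r)) : F) / (x.2 : F) →
      (MulAut.congr E).symm (diagSemi 4 F x) (ChevAut.xe hg r t) = ChevAut.xe hg r (c * t) := by
    intro r hr c hc
    show E.symm (diagSemi 4 F x (E (ChevAut.xe hg r t))) = _
    rw [semi_root E hE x hr, MulEquiv.symm_apply_apply, hc]
  have hi : (i : ℕ) < D4Data.tab.l := i.2
  have hs := hg.smp_lt hi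
  obtain ⟨j, hj⟩ : ∃ j, j = Fin.cast rank_four i := ⟨_, rfl⟩
  have hd4 := simple_data j
  rw [show ((j : Fin 4) : ℕ) = (i : ℕ) by rw [hj]; rfl] at hd4
  rw [← hj]
  refine ⟨key _ hs _ ?_, key _ (neg_lt hs) _ ?_⟩
  all_goals
    have h3 := (x.1 3).ne_zero
    have h2 := (x.1 2).ne_zero
    have h1 := (x.1 1).ne_zero
    have h0 := (x.1 0).ne_zero
    have hμ := x.2.ne_zero
    clear hj
    fin_cases j <;> simp [Prod.ext_iff] at hd4 <;>
      simp [hd4, chi, lbl, plusWt] <;> field_simp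

omit [Finite F] in
theorem chi_surjective (ν : Fin 4 → Fˣ) : ∃ x : (Fin 4 → Fˣ) × Fˣ, chi x = ν := by
  refine ⟨(![ν 0 * ν 1 * ν 2, ν 1 * ν 2, ν 2, 1], ν 2 * (ν 3)⁻¹), funext fun i => ?_⟩
  fin_cases i <;> simp [chi, mul_assoc, mul_comm, mul_left_comm]

variable (F)

/-- The bridge: inner-diagonal automorphisms correspond to the group of inner and diagonal automorphisms. -/
theorem exists_bridge [Fintype F] :
    ∃ E : ↥(D4Data.tab.D.group F) ≃* POm,
      Cfsg.inndiagPOmegaPlus 4 F = (Cfsg.Inn ↥(D4Data.tab.D.group F) ⊔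
        (ChevAut.diagHom ChevAut.autOK_D4 hT F).range.map
          (ChevAut.normAut hg F).subtype).map (MulAut.congr E).toMonoidHom := by
  obtain ⟨E, hE⟩ := exists_equiv_spec F Qp (Cfsg.Agent.Orth.coe_qPlus 4)
  refine ⟨E, ?_⟩
  rw [inndiag_eq_plus (le_refl 4), Subgroup.map_sup]
  congr 1
  · ext β
    rw [Subgroup.mem_map]
    constructor
    · intro hβ
      obtain ⟨γ, rfl⟩ := (MulAut.congr E).surjective β
      exact ⟨γ, (congr_mem_inn E γ).1 hβ, rfl⟩
    · rintro ⟨γ, hγ, rfl⟩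
      exact (congr_mem_inn E γ).2 hγ
  · refine le_antisymm ?_ ?_
    · rintro _ ⟨x, rfl⟩
      exact ⟨_, ⟨_, ⟨_, rfl⟩, rfl⟩, (diagSemi_eq E hE x).symm⟩
    · rintro _ ⟨_, ⟨_, ⟨ν, rfl⟩, rfl⟩, rfl⟩
      obtain ⟨x, hx⟩ := chi_surjective fun k => ν (Fin.cast rank_four.symm k)
      refine ⟨x, (diagSemi_eq E hE x).trans ?_⟩
      rw [hx]
      rfl

/-- The inner-diagonal group of `PΩ₈⁺` is normal in the automorphism group. -/
theorem inndiag_normal [Fintype F] : (Cfsg.inndiagPOmegaPlus 4 F).Normal := by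
  obtain ⟨E, hE⟩ := exists_bridge F
  rw [hE]
  refine Subgroup.Normal.map ⟨fun d hd θ => ?_⟩ _ (MulAut.congr E).surjective
  obtain ⟨J, hJ⟩ : ∃ J, J = Cfsg.Inn ↥(D4Data.tab.D.group F) ⊔
      (ChevAut.diagHom ChevAut.autOK_D4 hT F).range.map (ChevAut.normAut hg F).subtype := ⟨_, rfl⟩
  rw [← hJ] at hd ⊢
  obtain ⟨x, hU, hV⟩ := ChevAut.exists_conj_UV ChevAut.autOK_D4.good θ
  have hcj : MulAut.conj x ∈ J := hJ ▸ Subgroup.mem_sup_left ⟨x, rfl⟩
  have hn : (MulAut.conj x * θ) * d * (MulAut.conj x * θ)⁻¹ ∈ J := by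
    have hN : ∀ y ∈ J, (MulAut.conj x * θ) * y * (MulAut.conj x * θ)⁻¹ ∈ J := by
      intro y hy
      have : J.map (MulAut.conj (MulAut.conj x * θ)).toMonoidHom ≤ J := by
        conv_lhs => rw [hJ, Subgroup.map_sup]
        refine sup_le ?_ ?_
        · rintro _ ⟨z, hz, rfl⟩
          exact hJ ▸ Subgroup.mem_sup_left (Subgroup.Normal.conj_mem inferInstance z hz _)
        · rintro _ ⟨_, ⟨z, hz, rfl⟩, rfl⟩
          refine hJ ▸ Subgroup.mem_sup_right ⟨_, (ChevAut.diag_normal ChevAut.autOK_D4 hT).conj_mem z hz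
            ⟨MulAut.conj x * θ, hU, hV⟩, rfl⟩
      exact this ⟨y, hy, rfl⟩
    exact hN d hd
  have := mul_mem (mul_mem (inv_mem hcj) hn) hcj
  simpa [mul_assoc] using this

end Cfsg.Agent.AutPOmega.D4
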