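import Mathlib.GroupTheory.SpecificGroups.Cyclic
import Mathlib.GroupTheory.NoncommCoprod
import Mathlib.Data.ZMod.QuotientGroup
import Mathlib.Tactic.Linarith
import Mathlib.Tactic.Ring
import Mathlib.Tactic.IntervalCases

/-!
Groups with a small normal subgroup and cyclic quotient.
-/

set_option autoImplicit false

namespace Cfsg.Agent.AutPOmega

/-- A section of a map onto a cyclic group. -/
theorem exists_section {G C : Type*} [Group G] [Finite G] [Group C] [Finite C] (π : G →* C) {t : G}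
    (ht : ∀ y : C, y ∈ Subgroup.zpowers (π t)) (hf : t ^ Nat.card C = 1) :
    ∃ s : C →* G, (∀ y, π (s y) = y) ∧ ∀ y, s y ∈ Subgroup.zpowers t := by
  have hs : Function.Surjective (π.comp (Subgroup.zpowers t).subtype) := fun y => by
    obtain ⟨k, rfl⟩ := ht y
    exact ⟨⟨t ^ k, k, rfl⟩, by simp⟩
  have hle : Nat.card (Subgroup.zpowers t) ≤ Nat.card C := by
    rw [Nat.card_zpowers]
    exact Nat.le_of_dvd Nat.card_pos (orderOf_dvd_of_pow_eq_one hf)
  have hb : Function.Bijective (π.comp (Subgroup.zpowers t).subtype) :=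
    (Nat.bijective_iff_surjective_and_card _).2 ⟨hs, le_antisymm hle (Nat.card_le_card_of_surjective _ hs)⟩
  let e := MulEquiv.ofBijective _ hb
  exact ⟨(Subgroup.zpowers t).subtype.comp e.symm.toMonoidHom, fun y => e.apply_symm_apply y,
    fun y => (e.symm y).2⟩

/-- A kernel whose commutators are central of exponent two splits off over a cyclic quotient of odd order. -/
theorem equiv_prod_of_odd {G A C : Type*} [Group G] [Finite G] [Group A] [Group C] [Finite C] [IsCyclic C]
    (π : G →* C) (hπ : Function.Surjective π) (hodd : Odd (Nat.card C)) (e : π.ker ≃* A)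
    (hA : ∀ a : A, a ^ 4 = 1) (z : Subgroup G) (hz : ∀ x ∈ z, ∀ g, g * x = x * g) (hz2 : ∀ x ∈ z, x * x = 1)
    (hcomm : ∀ g, ∀ k ∈ π.ker, g * k * g⁻¹ * k⁻¹ ∈ z) : Nonempty (G ≃* A × C) := by
  obtain ⟨c, hc⟩ := IsCyclic.exists_generator (α := C)
  obtain ⟨t₀, ht₀⟩ := hπ c
  obtain ⟨f, hfdef⟩ : ∃ f, f = Nat.card C := ⟨_, rfl⟩
  rw [← hfdef] at hodd
  have hk : t₀ ^ f ∈ π.ker := by rw [MonoidHom.mem_ker, map_pow, hfdef, pow_card_eq_one']
  have h4 : (t₀ ^ 4) ^ f = 1 := by
    have := congrArg Subtype.val (e.injective ((map_pow e (⟨_, hk⟩ : π.ker) 4).trans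
      ((hA _).trans (map_one e).symm)))
    rwa [Subgroup.coe_pow, Subgroup.coe_one, ← pow_mul, mul_comm, pow_mul] at this
  obtain ⟨t, htdef⟩ : ∃ t, t = t₀ ^ 4 := ⟨_, rfl⟩
  rw [← htdef] at h4
  have hcent : ∀ k ∈ π.ker, t * k = k * t := by
    intro k hk
    have hsq : ∀ g : G, g * g * k = k * (g * g) := fun g => by
      have hm := hcomm g k hk
      obtain ⟨y, hy⟩ : ∃ y, y = g * k * g⁻¹ * k⁻¹ := ⟨_, rfl⟩
      rw [← hy] at hm
      have e1 : g * k = y * k * g := by rw [hy]; group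
      rw [mul_assoc, e1, ← mul_assoc, ← mul_assoc, hz y hm g, mul_assoc y g k, e1, ← mul_assoc,
        ← mul_assoc, hz2 y hm, one_mul, mul_assoc]
    rw [htdef, show t₀ ^ 4 = (t₀ * t₀) * (t₀ * t₀) by rw [← pow_two t₀, ← pow_add], mul_assoc, hsq,
      ← mul_assoc, hsq, mul_assoc]
  have hgen : ∀ y : C, y ∈ Subgroup.zpowers (π t) := fun y => by
    obtain ⟨k, rfl⟩ := hc y
    refine Subgroup.zpow_mem _ ?_ k
    rw [htdef, map_pow, ht₀]
    obtain ⟨j, hj⟩ := exists_pow_eq_self_of_coprime (n := 4) (x := c) (by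
      refine Nat.Coprime.coprime_dvd_right (orderOf_dvd_natCard c) ?_
      rw [← hfdef, show (4 : ℕ) = 2 * 2 from rfl]
      exact Nat.Coprime.mul_left hodd.coprime_two_left hodd.coprime_two_left)
    exact ⟨j, by simpa using hj⟩
  obtain ⟨s, hs, hst⟩ := exists_section π hgen (hfdef ▸ h4)
  have hsc : ∀ y, ∀ k ∈ π.ker, s y * k = k * s y := fun y k hk => by
    obtain ⟨j, hj⟩ := hst y
    rw [← hj]
    exact (Commute.zpow_left (hcent k hk) j).eq
  let Φ : π.ker × C →* G := π.ker.subtype.noncommCoprod s fun k y => (hsc y k k.2).symm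
  have hb : Function.Bijective Φ := by
    constructor
    · refine (injective_iff_map_eq_one Φ).2 fun ⟨k, y⟩ h => ?_
      have h1 : (k : G) * s y = 1 := h
      have hy : y = 1 := by
        have := congrArg π h1
        rwa [map_mul, MonoidHom.mem_ker.1 k.2, one_mul, hs, map_one] at this
      subst hy
      rw [map_one, mul_one] at h1
      exact Prod.ext (Subtype.ext h1) rfl
    · intro g
      refine ⟨(⟨g * (s (π g))⁻¹, by rw [MonoidHom.mem_ker, map_mul, map_inv, hs, mul_inv_cancel]⟩, π g), ?_⟩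
      show g * (s (π g))⁻¹ * s (π g) = g
      rw [inv_mul_cancel_right]
  exact ⟨(MulEquiv.ofBijective Φ hb).symm.trans (e.prodCongr (MulEquiv.refl C))⟩

/-- A central four-group with cyclic quotient. -/
theorem equiv_two_mul {G C : Type*} [Group G] [Finite G] [Group C] [Finite C] [IsCyclic C]
    (π : G →* C) (hπ : Function.Surjective π) {f : ℕ} [NeZero f] (hf : Nat.card C = f)
    (e : π.ker ≃* Multiplicative (ZMod 2 × ZMod 2)) (hcent : ∀ g, ∀ k ∈ π.ker, g * k = k * g)
    (ht : Odd f ∨ ∃ t : G, (∀ y : C, y ∈ Subgroup.zpowers (π t)) ∧ t ^ f ≠ 1) :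
    Nonempty (G ≃* Multiplicative (ZMod 2 × ZMod (2 * f))) := by
  have hsq : ∀ k ∈ π.ker, k * k = 1 := fun k hk => by
    have : (⟨k, hk⟩ : π.ker) * ⟨k, hk⟩ = 1 := e.injective (by
      rw [map_mul, map_one]; revert k; intro k hk; generalize e ⟨k, hk⟩ = y; revert y; decide)
    exact congrArg Subtype.val this
  have hpick : ∀ u : G, ∃ w ∈ π.ker, w ≠ 1 ∧ w ≠ u := fun u => by
    have h2 : ∀ y : Multiplicative (ZMod 2 × ZMod 2), ∃ w, w ≠ 1 ∧ w ≠ y := by decide
    by_cases hu : u ∈ π.ker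
    · obtain ⟨w, hw1, hw2⟩ := h2 (e ⟨u, hu⟩)
      refine ⟨e.symm w, (e.symm w).2, fun h => hw1 ?_, fun h => hw2 ?_⟩
      · rw [← e.apply_symm_apply w, show e.symm w = 1 from Subtype.ext h, map_one]
      · rw [← show e.symm w = ⟨u, hu⟩ from Subtype.ext h, e.apply_symm_apply]
    · obtain ⟨w, hw1, -⟩ := h2 1
      refine ⟨e.symm w, (e.symm w).2, fun h => hw1 ?_, fun h => hu (h ▸ (e.symm w).2)⟩
      rw [← e.apply_symm_apply w, show e.symm w = 1 from Subtype.ext h, map_one]
  have hgen : ∃ t : G, (∀ y : C, y ∈ Subgroup.zpowers (π t)) ∧ t ^ f ≠ 1 := by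
    rcases ht with hodd | ht
    · obtain ⟨c, hc⟩ := IsCyclic.exists_generator (α := C)
      obtain ⟨t₀, rfl⟩ := hπ c
      by_cases h0 : t₀ ^ f = 1
      · obtain ⟨w, hw, hw1, -⟩ := hpick 1
        refine ⟨t₀ * w, by rwa [map_mul, MonoidHom.mem_ker.1 hw, mul_one], ?_⟩
        rw [(show Commute t₀ w from hcent t₀ w hw).mul_pow, h0, one_mul]
        obtain ⟨j, rfl⟩ := hodd
        rw [pow_succ, pow_mul, pow_two, hsq w hw, one_pow, one_mul]
        exact hw1
      · exact ⟨t₀, hc, h0⟩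
    · exact ht
  obtain ⟨t, hgen, hu⟩ := hgen
  have hord : orderOf (π t) = f := by rw [orderOf_eq_card_of_forall_mem_zpowers hgen, hf]
  have huk : t ^ f ∈ π.ker := by rw [MonoidHom.mem_ker, map_pow, ← hord, pow_orderOf_eq_one]
  have ht2 : t ^ (2 * f) = 1 := by rw [mul_comm, pow_mul, pow_two, hsq _ huk]
  obtain ⟨w, hw, hw1, hwu⟩ := hpick (t ^ f)
  obtain ⟨a, ha⟩ : ∃ a : Multiplicative (ZMod 2) →* G, a (Multiplicative.ofAdd 1) = w :=
    ⟨(ZMod.lift 2 ⟨zmultiplesHom (Additive G) (Additive.ofMul w), by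
      simpa [two_zsmul] using congrArg Additive.ofMul (hsq w hw)⟩).toMultiplicativeLeft, by
      show Additive.toMul (ZMod.lift 2 _ ((1 : ℤ) : ZMod 2)) = w
      rw [ZMod.lift_coe]; simp⟩
  obtain ⟨b, hb⟩ : ∃ b : Multiplicative (ZMod (2 * f)) →* G, b (Multiplicative.ofAdd 1) = t :=
    ⟨(ZMod.lift (2 * f) ⟨zmultiplesHom (Additive G) (Additive.ofMul t), by
      show ((2 * f : ℕ) : ℤ) • Additive.ofMul t = 0
      rw [natCast_zsmul, ← ofMul_pow, ht2, ofMul_one]⟩).toMultiplicativeLeft, by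
      show Additive.toMul (ZMod.lift (2 * f) _ (1 : ZMod (2 * f))) = t
      rw [← Int.cast_one, ZMod.lift_coe]; simp⟩
  have hbk : ∀ k : ℕ, b (Multiplicative.ofAdd (k : ZMod (2 * f))) = t ^ k := fun k => by
    rw [← hb, ← map_pow, ← ofAdd_nsmul, nsmul_one]
  have ha2 : ∀ x : Multiplicative (ZMod 2), a x = 1 ∧ x = 1 ∨ a x = w := fun x => by
    rcases (show ∀ z : Multiplicative (ZMod 2), z = 1 ∨ z = Multiplicative.ofAdd 1 by decide) x with rfl | rfl
    · exact Or.inl ⟨map_one a, rfl⟩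
    · exact Or.inr ha
  have hcomm : ∀ x y, Commute (a x) (b y) := fun x y => by
    rcases ha2 x with ⟨h, -⟩ | h
    · rw [h]; exact Commute.one_left _
    · rw [h]; exact (show Commute (b y) w from hcent _ w hw).symm
  let Φ := a.noncommCoprod b hcomm
  have hinj : Function.Injective Φ := (injective_iff_map_eq_one Φ).2 fun ⟨x, y⟩ h => by
    haveI : NeZero (2 * f) := ⟨Nat.mul_ne_zero two_ne_zero (NeZero.ne f)⟩
    have h1 : a x * b y = 1 := h
    have hy : b y = t ^ (Multiplicative.toAdd y).val := by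
      rw [← hbk, ZMod.natCast_zmod_val]; rfl
    have hfd : f ∣ (Multiplicative.toAdd y).val := by
      have := congrArg π h1
      rw [map_mul, map_one, hy, map_pow] at this
      have hax : π (a x) = 1 := by
        rcases ha2 x with ⟨h, -⟩ | h
        · rw [h, map_one]
        · rw [h]; exact hw
      rw [hax, one_mul] at this
      refine hord.symm.dvd.trans ?_
      exact orderOf_dvd_of_pow_eq_one this
    obtain ⟨j, hj⟩ := hfd
    have hj2 : j < 2 := by
      by_contra hge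
      have := ZMod.val_lt (Multiplicative.toAdd y)
      rw [hj] at this
      nlinarith [Nat.pos_of_ne_zero (NeZero.ne f)]
    rw [hy, hj] at h1
    rcases (show j = 0 ∨ j = 1 by omega) with rfl | rfl
    · rcases ha2 x with ⟨-, rfl⟩ | hx
      · refine Prod.ext rfl ?_
        exact Multiplicative.toAdd.injective ((ZMod.val_eq_zero _).1 (by rw [hj, mul_zero]))
      · rw [hx, mul_zero, pow_zero, mul_one] at h1
        exact absurd h1 hw1
    · rw [mul_one] at h1
      rcases ha2 x with ⟨hx, -⟩ | hx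
      · rw [hx, one_mul] at h1
        exact absurd h1 hu
      · rw [hx] at h1
        refine absurd ?_ hwu
        rw [eq_inv_of_mul_eq_one_left h1, inv_eq_of_mul_eq_one_right (hsq _ huk)]
  have hcard : Nat.card (Multiplicative (ZMod 2) × Multiplicative (ZMod (2 * f))) = Nat.card G := by
    rw [← π.ker.card_mul_index, Subgroup.index_ker, MonoidHom.range_eq_top.2 hπ, Subgroup.card_top, hf,
      Nat.card_congr e.toEquiv]
    simp
    ring
  have hbij : Function.Bijective Φ := (Nat.bijective_iff_injective_and_card _).2 ⟨hinj, hcard⟩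
  exact ⟨(MulEquiv.ofBijective Φ hbij).symm.trans (MulEquiv.prodMultiplicative (ZMod 2) (ZMod (2 * f))).symm⟩

end Cfsg.Agent.AutPOmega
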