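import Cfsg.Agent.Lib.AutPOmega.EvenFinal
import Cfsg.Agent.Lib.AutPOmega.OutStruct
import Cfsg.Agent.Lib.AutPSL.Outer

/-!
The outer automorphism group of an even-dimensional orthogonal group in odd characteristic.
-/

set_option autoImplicit false

namespace Cfsg.Agent.AutPOmega

open Matrix QuadraticMap
open Cfsg.Agent.Transvec (mv mv_mul mv_inj mv_inv_mv mv_mv_inv ext_mv)

variable {ι : Type} [Fintype ι] [DecidableEq ι] {F : Type*} [Field F]
  [Fintype F] {q : QuadraticForm F (ι → F)} {P : GL ι F → Prop}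

set_option quotPrecheck false in
local notation "POm" => Cfsg.POmega F (⇑q)
set_option quotPrecheck false in
local notation "GOg" => Cfsg.Geo.quadSimilarityGroup (F := F) (⇑q)
set_option quotPrecheck false in
local notation "NegOmega" => (∃ g : Cfsg.isometryGroup F (⇑q),
  g ∈ Cfsg.Omega F (⇑q) ∧ ((g : GL ι F) : Matrix ι ι F) = -1)
set_option quotPrecheck false in
local notation "HDim" => (9 ≤ Fintype.card ι ∨
  ∀ U : Submodule F (ι → F), (∀ x ∈ U, q x = 0) → Module.finrank F U ≤ 3)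
set_option quotPrecheck false in
local notation "PConj" => (∀ (h g : GL ι F) (τ : F ≃+* F), Cfsg.IsSemisimilarityPair (⇑q) h τ →
  Cfsg.IsSemisimilarityPair (⇑q) g 1 → Cfsg.IsSemisimilarityPair (⇑q) (h * mapGL τ g * h⁻¹) 1 →
  (P (h * mapGL τ g * h⁻¹) ↔ P g))

/-- A field automorphism keeps the square class of a scalar. -/
theorem isSquare_aut_div (h2 : (2 : F) ≠ 0) (τ : F ≃+* F) {d : F} (hd : d ≠ 0) : IsSquare (τ d / d) := by
  have hch : ringChar F ≠ 2 := fun h => h2 (by haveI := ringChar.of_eq h; exact CharTwo.two_eq_zero)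
  rw [FiniteField.isSquare_iff hch (div_ne_zero ((map_ne_zero τ).2 hd) hd), div_pow, ← map_pow]
  rcases FiniteField.pow_dichotomy hch hd with e | e <;> rw [e] <;> simp

variable (hE : EvenType q P)
include hE

/-- Commutators with similarities lie in the image of the special orthogonal group. -/
theorem EvenType.comm_mem_pso (hD : HDim) (hP : PConj) (β : MulAut POm) (u : GOg) :
    β * conjGO u * β⁻¹ * (conjGO u)⁻¹ ∈ Cfsg.psoAut F (⇑q) := by
  obtain ⟨p, hp⟩ := CharP.exists F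
  haveI : Fact p.Prime := ⟨CharP.char_is_prime F p⟩
  obtain ⟨h, τ, hh, rfl⟩ := exists_semi hE.geo hE.seven p hD β
  obtain ⟨c, hc⟩ := id hh
  obtain ⟨μ, hμ⟩ := u.2
  obtain ⟨u', hu'⟩ : ∃ u', u' = h * mapGL τ (u : GL ι F) * h⁻¹ := ⟨_, rfl⟩
  have hval : ∀ v, q (mv u' v) = τ (μ : F) * q v := fun v => by
    obtain ⟨y, rfl⟩ := sm_surj h τ v
    have e : mv u' (sm h τ y) = sm h τ (mv (u : GL ι F) y) := by
      rw [hu', sm, sm, mv_mul, mv_mul, mv_inv_mv, mv_mapGL]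
    rw [e, show q (sm h τ (mv (u : GL ι F) y)) = (c : F) * τ (q (mv (u : GL ι F) y)) from hc _,
      show q (mv (u : GL ι F) y) = (μ : F) * q y from hμ y, map_mul,
      show q (sm h τ y) = (c : F) * τ (q y) from hc y]
    ring
  obtain ⟨U', hU'⟩ : ∃ U' : GOg, (U' : GL ι F) = u' := ⟨⟨u', Units.map τ.toMonoidHom μ, hval⟩, rfl⟩
  have e : semi h τ hh * conjGO u * (semi h τ hh)⁻¹ = conjGO U' := by
    rw [mul_inv_eq_iff_eq_mul, conjGO_apply, conjGO_apply, semi_mul, semi_mul]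
    refine semi_congr _ _ ?_ (by rw [mul_one, one_mul])
    rw [hU', hu', mapGL_one, inv_mul_cancel_right]
  rw [e, ← map_inv, ← map_mul, hE.conj_mem_pso]
  constructor
  · obtain ⟨s, hs⟩ := isSquare_aut_div hE.two τ μ.ne_zero
    have hs0 : s ≠ 0 := fun e => by
      rw [e, mul_zero, div_eq_zero_iff] at hs
      exact hs.elim (fun h => μ.ne_zero ((map_eq_zero τ).1 h)) μ.ne_zero
    refine ⟨Units.mk0 s hs0, fun v => ?_⟩
    obtain ⟨y, rfl⟩ : ∃ y, mv (u : GL ι F) y = v := ⟨mv (u : GL ι F)⁻¹ v, mv_mv_inv _ v⟩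
    rw [Subgroup.coe_mul, Subgroup.coe_inv, mv_mul, mv_inv_mv, hU', hval,
      show q (mv (u : GL ι F) y) = (μ : F) * q y from hμ y, Units.val_mk0, ← hs]
    field_simp
  · rw [Subgroup.coe_mul, hE.p_mul _ _ (pair_go U') (pair_go u⁻¹), hU', hu',
      hP h (u : GL ι F) τ hh (pair_go u) (hu' ▸ hU' ▸ pair_go U')]
    have h1 := hE.p_mul (u : GL ι F) ((u⁻¹ : GOg) : GL ι F) (pair_go u) (pair_go u⁻¹)
    rw [show (u : GL ι F) * ((u⁻¹ : GOg) : GL ι F) = 1 from mul_inv_cancel _, iff_true_left hE.p_one] at h1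
    exact h1

/-- The field part of the outer automorphism group with its kernel. -/
theorem EvenType.out_data (hD : HDim) (hfield : ∀ τ : F ≃+* F, ∃ g, Cfsg.IsSemisimilarityPair (⇑q) g τ)
    (hP : PConj) :
    ∃ (π : Cfsg.Out POm →* (F ≃+* F)) (z : Subgroup (Cfsg.Out POm)), Function.Surjective π ∧
      (∀ g τ (hg : Cfsg.IsSemisimilarityPair (⇑q) g τ), π (QuotientGroup.mk (semi g τ hg)) = τ) ∧
      (∀ {A : Type} [Group A] (φ : ↥(Cfsg.pgoAut F (⇑q)) →* A), Function.Surjective φ →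
        φ.ker = (Cfsg.Inn POm).subgroupOf (Cfsg.pgoAut F (⇑q)) → Nonempty (π.ker ≃* A)) ∧
      (∀ x ∈ z, ∀ g, g * x = x * g) ∧ (∀ x ∈ z, x * x = 1) ∧
      (∀ g, ∀ k ∈ π.ker, g * k * g⁻¹ * k⁻¹ ∈ z) ∧ (¬ NegOmega → ∀ x ∈ z, x = 1) := by
  obtain ⟨Φ, hΦs, hΦk, hΦ⟩ := exists_fieldHom hE.geo hE.seven hD hfield
  have hk : Φ.ker = Cfsg.pgoAut F (⇑q) := hΦk.trans hE.pgo_range.symm
  have hle : Cfsg.Inn POm ≤ Φ.ker := by
    rintro _ ⟨x, rfl⟩
    obtain ⟨A, rfl, -⟩ := inn_eq x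
    rw [MonoidHom.mem_ker, inner_eq_semi, hΦ]
  obtain ⟨cls, hcls⟩ : ∃ cls : MulAut POm →* Cfsg.Out POm, cls = QuotientGroup.mk' _ := ⟨_, rfl⟩
  have hm : ∀ x, cls x = 1 ↔ x ∈ Cfsg.Inn POm := fun x => by rw [hcls]; exact QuotientGroup.eq_one_iff x
  have hcs : Function.Surjective cls := hcls ▸ QuotientGroup.mk'_surjective _
  obtain ⟨π, hπ⟩ : ∃ π : Cfsg.Out POm →* (F ≃+* F), ∀ x, π (cls x) = Φ x :=
    ⟨QuotientGroup.lift _ Φ hle, fun x => by rw [hcls]; exact QuotientGroup.lift_mk' _ _ x⟩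
  obtain ⟨z, hzdef⟩ : ∃ z, z = (Cfsg.psoAut F (⇑q)).map cls := ⟨_, rfl⟩
  have hker : ∀ y ∈ π.ker, ∃ u : GOg, cls (conjGO u) = y := fun y hy => by
    obtain ⟨x, rfl⟩ := hcs y
    rw [MonoidHom.mem_ker, hπ, ← MonoidHom.mem_ker, hΦk] at hy
    obtain ⟨u, rfl⟩ := hy
    exact ⟨u, rfl⟩
  have hcomm : ∀ g, ∀ k ∈ π.ker, g * k * g⁻¹ * k⁻¹ ∈ z := fun g k hk => by
    obtain ⟨β, rfl⟩ := hcs g
    obtain ⟨u, rfl⟩ := hker k hk
    rw [hzdef]
    exact ⟨_, hE.comm_mem_pso hD hP β u, by simp [map_mul, map_inv]⟩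
  have hidx : (Cfsg.Inn POm).relIndex (Cfsg.psoAut F (⇑q)) ∣ 2 := by
    by_cases hn : NegOmega
    · rw [hE.relIndex_pso.1 hn]
    · rw [hE.relIndex_pso.2 hn]; exact one_dvd 2
  have hone : ¬ NegOmega → ∀ x ∈ z, x = 1 := fun hn x hx => by
    rw [hzdef] at hx
    obtain ⟨a, ha, rfl⟩ := hx
    exact (hm a).2 (hE.pso_eq_inn hn ▸ ha)
  have hzprod : ∀ x ∈ z, ∀ y ∈ z, x ≠ 1 → y ≠ 1 → x * y = 1 := by
    rw [hzdef]
    rintro _ ⟨a, ha, rfl⟩ _ ⟨b, hb, rfl⟩ hx hy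
    rcases (Nat.dvd_prime Nat.prime_two).1 hidx with e | e
    · exact absurd ((hm a).2 (Subgroup.relIndex_eq_one.1 e ha)) hx
    · have h := (Subgroup.mul_mem_iff_of_index_two (H := (Cfsg.Inn POm).subgroupOf (Cfsg.psoAut F (⇑q))) e
        (a := ⟨a, ha⟩) (b := ⟨b, hb⟩)).2
        (iff_of_false (fun h => hx ((hm a).2 h)) (fun h => hy ((hm b).2 h)))
      rw [← map_mul]
      exact (hm _).2 h
  have hz2 : ∀ x ∈ z, x * x = 1 := fun x hx => by
    by_cases h : x = 1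
    · rw [h, one_mul]
    · exact hzprod x hx x hx h h
  have hzk : ∀ x ∈ z, x ∈ π.ker := fun x hx => by
    rw [hzdef] at hx
    obtain ⟨a, ha, rfl⟩ := hx
    have hle' : Cfsg.psoAut F (⇑q) ≤ Φ.ker := by
      rw [hΦk, Cfsg.psoAut, Cfsg.autSubgroupOf, Subgroup.closure_le]
      rintro β ⟨g, hg, hi⟩
      exact ⟨⟨g, go_of_pair (isPair_iso hg.1)⟩, (semi_eq_of_induced _ hi).symm⟩
    rw [MonoidHom.mem_ker, hπ]
    exact hle' ha
  refine ⟨π, z, fun τ => ?_, fun g τ hg => ?_, fun {A} _ φ hφ hφk => ?_, fun x hx g => ?_, hz2, hcomm, hone⟩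
  · obtain ⟨x, rfl⟩ := hΦs τ
    exact ⟨cls x, hπ x⟩
  · rw [show (QuotientGroup.mk (semi g τ hg) : Cfsg.Out POm) = cls (semi g τ hg) by rw [hcls]; rfl, hπ, hΦ]
  · let c : ↥(Cfsg.pgoAut F (⇑q)) →* π.ker := (cls.comp (Subgroup.subtype _)).codRestrict _ fun x => by
      rw [MonoidHom.mem_ker]
      exact (hπ x.1).trans (hk.symm.le x.2)
    have hc : Function.Surjective c := fun y => by
      obtain ⟨u, hu⟩ := hker y.1 y.2
      exact ⟨⟨conjGO u, hE.pgo_range.symm.le ⟨u, rfl⟩⟩, Subtype.ext hu⟩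
    have hck : c.ker = φ.ker := by
      ext x
      rw [hφk, MonoidHom.mem_ker, Subgroup.mem_subgroupOf, ← hm]
      exact Subtype.ext_iff
    exact ⟨(QuotientGroup.quotientKerEquivOfSurjective c hc).symm.trans
      ((QuotientGroup.quotientMulEquivOfEq hck).trans (QuotientGroup.quotientKerEquivOfSurjective φ hφ))⟩
  · by_cases h1 : x = 1
    · rw [h1, one_mul, mul_one]
    have hy : g * x * g⁻¹ ∈ z := by
      have := z.mul_mem (hcomm g x (hzk x hx)) hx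
      rwa [inv_mul_cancel_right] at this
    have h3 := hzprod _ hy x hx (fun e => h1 (by simpa using e)) h1
    rw [← eq_inv_iff_mul_eq_one, inv_eq_of_mul_eq_one_right (hz2 x hx)] at h3
    exact mul_inv_eq_iff_eq_mul.1 h3

/-- `-1 ∈ Ω` and an odd field degree: dihedral times cyclic. -/
theorem EvenType.out_neg (hD : HDim) (hfield : ∀ τ : F ≃+* F, ∃ g, Cfsg.IsSemisimilarityPair (⇑q) g τ)
    (hP : PConj) (hneg : NegOmega) {p f : ℕ} [Fact p.Prime] (hF : Fintype.card F = p ^ f) (hf : Odd f) :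
    Nonempty (Cfsg.Out POm ≃* DihedralGroup 4 × Multiplicative (ZMod f)) := by
  obtain ⟨π, z, hπ, -, hK, hz, hz2, hcomm, -⟩ := hE.out_data hD hfield hP
  obtain ⟨E⟩ := AutPSL.exists_ringAut_equiv (F := F) p f hF
  haveI : NeZero f := ⟨fun e => by rw [e] at hf; exact absurd hf (by decide)⟩
  haveI : IsCyclic (F ≃+* F) := isCyclic_of_surjective E.symm.toMonoidHom E.symm.surjective
  haveI : Finite (F ≃+* F) := Finite.of_equiv _ E.symm.toEquiv
  obtain ⟨φ, h1, h2⟩ := hE.pgo_quot_two hneg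
  obtain ⟨e⟩ := hK φ h1 h2
  obtain ⟨T⟩ := equiv_prod_of_odd π hπ (by rw [Nat.card_congr E.toEquiv]; simpa using hf) e (by decide) z hz hz2 hcomm
  exact ⟨T.trans ((MulEquiv.refl _).prodCongr E)⟩

/-- `-1 ∉ Ω`: the four-group is central. -/
theorem EvenType.out_not_neg (hD : HDim) (hfield : ∀ τ : F ≃+* F, ∃ g, Cfsg.IsSemisimilarityPair (⇑q) g τ)
    (hP : PConj) (hneg : ¬ NegOmega) {p f : ℕ} [Fact p.Prime] (hF : Fintype.card F = p ^ f)
    (ht : Odd f ∨ ∃ (g : GL ι F) (τ : F ≃+* F) (hg : Cfsg.IsSemisimilarityPair (⇑q) g τ),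
      (∀ τ' : F ≃+* F, ∃ k : ℕ, τ ^ k = τ') ∧ semi g τ hg ^ f ∉ Cfsg.Inn POm) :
    Nonempty (Cfsg.Out POm ≃* Multiplicative (ZMod 2 × ZMod (2 * f))) := by
  obtain ⟨π, z, hπ, hval, hK, -, -, hcomm, hone⟩ := hE.out_data hD hfield hP
  obtain ⟨E⟩ := AutPSL.exists_ringAut_equiv (F := F) p f hF
  haveI : NeZero f := ⟨fun e => by
    have := Fintype.one_lt_card (α := F)
    rw [hF, e, pow_zero] at this
    omega⟩
  haveI : IsCyclic (F ≃+* F) := isCyclic_of_surjective E.symm.toMonoidHom E.symm.surjective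
  haveI : Finite (F ≃+* F) := Finite.of_equiv _ E.symm.toEquiv
  obtain ⟨φ, h1, h2⟩ := hE.pgo_quot_one hneg
  obtain ⟨e⟩ := hK φ h1 h2
  refine equiv_two_mul π hπ (by rw [Nat.card_congr E.toEquiv]; simp) e (fun g k hk => ?_) ?_
  · have := hone hneg _ (hcomm g k hk)
    rw [mul_inv_eq_one, mul_inv_eq_iff_eq_mul] at this
    exact this
  · refine ht.imp id ?_
    rintro ⟨g, τ, hg, hgen, hn⟩
    refine ⟨QuotientGroup.mk (semi g τ hg), fun y => ?_, fun h => hn ?_⟩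
    · obtain ⟨k, rfl⟩ := hgen y
      refine ⟨k, ?_⟩
      show _ ^ (k : ℤ) = _
      rw [hval, zpow_natCast]
    · rwa [← QuotientGroup.mk_pow, QuotientGroup.eq_one_iff] at h

end Cfsg.Agent.AutPOmega
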