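import Cfsg.Agent.Lib.AutPOmega.D4Aut
import Cfsg.Agent.Lib.AutPOmega.OutEven
import Cfsg.Agent.S2159

/-!
The outer automorphism group of `PΩ₈⁺`.
-/

set_option autoImplicit false
set_option maxRecDepth 8000

namespace Cfsg.Agent.AutPOmega.D4

open Cfsg.Lie
open Cfsg.Agent.Chev Cfsg.Agent.Chev.Tab
open Cfsg.Agent.Orth (SqCls sqc)

local notation "T4" => D4Data.tab
local notation "h4" => ChevAut.autOK_D4

variable {F : Type*} [Field F] [Finite F]

omit [Finite F] in
theorem exC_D4 (π : Equiv.Perm (Fin (T4).l)) (i : Fin (T4).l) : ChevAut.exC F [] π i = 1 := by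
  simp [ChevAut.exC, ChevAut.expFlag]

omit [Finite F] in
/-- Composition in standard shape. -/
theorem std_mul {θ θ' : MulAut ↥((T4).D.group F)} {π π' : Equiv.Perm (Fin (T4).l)}
    {μ μ' : Fin (T4).l → Fˣ} {σ σ' : F ≃+* F}
    (h : ChevAut.Std hg [] θ π μ σ) (h' : ChevAut.Std hg [] θ' π' μ' σ') :
    ChevAut.Std hg [] (θ * θ') (π * π') (fun k => μ k * Units.map σ.toRingHom.toMonoidHom (μ' (π.symm k))) (σ * σ') := by
  intro i t
  simp only [exC_D4, pow_one, Equiv.Perm.mul_apply, MulAut.mul_apply, Equiv.symm_apply_apply]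
  have a := h' i t
  simp only [exC_D4, pow_one] at a
  rw [a.1, a.2]
  have b := h (π' i) ((μ' (π' i) : F) * σ' t)
  have c := h (π' i) ((((μ' (π' i))⁻¹ : Fˣ) : F) * σ' t)
  simp only [exC_D4, pow_one] at b c
  rw [b.1, c.2]
  constructor <;> congr 1 <;>
    simp [map_mul, mul_assoc, RingAut.mul_apply, Units.val_inv_eq_inv_val, map_inv₀, mul_comm, mul_left_comm]

/-- The data of a standard automorphism are unique. -/
theorem std_unique {θ : MulAut ↥((T4).D.group F)} {π π' : Equiv.Perm (Fin (T4).l)}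
    {μ μ' : Fin (T4).l → Fˣ} {σ σ' : F ≃+* F}
    (h : ChevAut.Std hg [] θ π μ σ) (h' : ChevAut.Std hg [] θ π' μ' σ') : π = π' ∧ μ = μ' ∧ σ = σ' := by
  obtain rfl := ChevAut.std_perm_unique hg h h'
  have key : ∀ i t, (μ (π i) : F) * σ t = (μ' (π i) : F) * σ' t := fun i t => by
    have e := (h i t).1.symm.trans (h' i t).1
    simp only [exC_D4, pow_one] at e
    exact ChevAut.xe_inj hg (hg.smp_lt (π i).2) e
  have hμ : μ = μ' := funext fun k => by
    obtain ⟨i, rfl⟩ := π.surjective k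
    exact Units.ext (by simpa using key i 1)
  subst hμ
  exact ⟨rfl, rfl, RingEquiv.ext fun t => mul_left_cancel₀ (Units.ne_zero _)
    (key ⟨0, by rw [rank_four]; norm_num⟩ t)⟩

/-- the parameters of a normalised automorphism -/
noncomputable def data (θ : ↥(ChevAut.normAut hg F)) : (Fin (T4).l → Fˣ) × (F ≃+* F) :=
  ((ChevAut.piHom_spec h4 θ).choose, (ChevAut.piHom_spec h4 θ).choose_spec.choose)

theorem data_spec (θ : ↥(ChevAut.normAut hg F)) :
    ChevAut.Std hg [] θ.1 (ChevAut.piHom h4 F θ) (data θ).1 (data θ).2 :=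
  (ChevAut.piHom_spec h4 θ).choose_spec.choose_spec.1

/-- the field component -/
noncomputable def sigHom (F : Type*) [Field F] [Finite F] : ↥(ChevAut.normAut hg F) →* (F ≃+* F) :=
  MonoidHom.mk' (fun θ => (data θ).2) fun θ θ' =>
    (std_unique (data_spec (θ * θ')) (std_mul (data_spec θ) (data_spec θ'))).2.2

theorem data_mul (θ θ' : ↥(ChevAut.normAut hg F)) (k : Fin (T4).l) :
    (data (θ * θ')).1 k = (data θ).1 k *
      Units.map (data θ).2.toRingHom.toMonoidHom ((data θ').1 ((ChevAut.piHom h4 F θ).symm k)) :=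
  congrFun (std_unique (data_spec (θ * θ')) (std_mul (data_spec θ) (data_spec θ'))).2.1 k

omit [Finite F] in
theorem sym_fix : ∀ L ∈ ChevAut.symList T4 (T4).l, L.getD 1 0 = 1 := by decide +kernel

/-- the central node -/
def mid : Fin (T4).l := ⟨1, by rw [rank_four]; norm_num⟩

/-- the central node is fixed -/
theorem piHom_mid (θ : ↥(ChevAut.normAut hg F)) : ChevAut.piHom h4 F θ mid = mid := by
  obtain ⟨μ, σ, -, hb⟩ := ChevAut.piHom_spec h4 θ
  have h := sym_fix _ (ChevAut.permList_mem _ hb _ le_rfl)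
  refine Fin.ext ?_
  simpa [ChevAut.permList, List.getD_eq_getElem?_getD, rank_four, mid] using h

omit [Finite F] in
theorem cartan_rows : ∀ i < 4, ∀ k < 4, (T4).A i ((T4).smp k) =
    ([[2, -1, 0, 0], [-1, 2, -1, -1], [0, -1, 2, 0], [0, -1, 0, 2]].getD i []).getD k 0 := by decide +kernel

omit [Finite F] in
/-- Two leaves of a torus weight differ by a square. -/
theorem range_leaves {ν : Fin (T4).l → Fˣ} (hν : ν ∈ (ChevAut.cartanHom T4 F).range) {a b : Fin (T4).l}
    (ha : a ≠ mid) (hb : b ≠ mid) : IsSquare ((ν a : F) * (ν b : F)) := by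
  obtain ⟨c, rfl⟩ := hν
  have key : ∀ k : Fin (T4).l, k ≠ mid → ∃ y : F, (ChevAut.cartanHom T4 F c k : F) = y * y * ((c 1 : F))⁻¹ := by
    intro k hk
    have hk4 : (k : ℕ) < 4 := rank_four ▸ k.2
    have hk1 : (k : ℕ) ≠ 1 := fun e => hk (Fin.ext e)
    show ∃ y : F, ((∏ j ∈ Finset.range (T4).l, c j ^ (T4).A j ((T4).smp k) : Fˣ) : F) = _
    rw [show Finset.range (T4).l = Finset.range 4 by rw [rank_four]]
    have h0 := cartan_rows 0 (by norm_num) k hk4
    have h1 := cartan_rows 1 (by norm_num) k hk4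
    have h2 := cartan_rows 2 (by norm_num) k hk4
    have h3 := cartan_rows 3 (by norm_num) k hk4
    rw [Finset.prod_range_succ, Finset.prod_range_succ, Finset.prod_range_succ, Finset.prod_range_succ,
      Finset.prod_range_zero, h0, h1, h2, h3]
    obtain h | h | h : (k : ℕ) = 0 ∨ (k : ℕ) = 2 ∨ (k : ℕ) = 3 := by omega
    all_goals rw [h]
    · exact ⟨c 0, by simp [zpow_two, pow_two]⟩
    · exact ⟨c 2, by simp [zpow_two]; ring⟩
    · exact ⟨c 3, by simp [zpow_two]; ring⟩
  obtain ⟨y, hy⟩ := key a ha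
  obtain ⟨z, hz⟩ := key b hb
  exact ⟨y * z * ((c 1 : F))⁻¹, by rw [hy, hz]; ring⟩

omit [Finite F] in
/-- Leaves in one square class give a torus weight. -/
theorem mem_range_of_leaves {ν : Fin (T4).l → Fˣ}
    (hν : ∀ a b : Fin (T4).l, a ≠ mid → b ≠ mid → IsSquare ((ν a : F) * (ν b : F))) :
    ν ∈ (ChevAut.cartanHom T4 F).range := by
  let n : Fin 4 → Fin (T4).l := Fin.cast rank_four.symm
  have hne : ∀ k : Fin 4, k ≠ 1 → n k ≠ mid := fun k hk e => hk (Fin.ext (congrArg Fin.val e))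
  obtain ⟨d, hd⟩ : ∃ d, d = ν (n 0) := ⟨_, rfl⟩
  have hx : ∀ k : Fin 4, k ≠ 1 → ∃ x : Fˣ, ν (n k) = d * (x * x) := by
    intro k hk
    obtain ⟨r, hr⟩ := hν (n 0) (n k) (hne 0 (by decide)) (hne k hk)
    have hr0 : r ≠ 0 := fun e => mul_ne_zero (ν (n 0)).ne_zero (ν (n k)).ne_zero (by rw [hr, e, mul_zero])
    refine ⟨Units.mk0 r hr0 * d⁻¹, Units.ext ?_⟩
    have := d.ne_zero
    rw [← hd] at hr
    simp only [Units.val_mul, Units.val_mk0, Units.val_inv_eq_inv_val]
    field_simp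
    linear_combination hr
  obtain ⟨x2, hx2⟩ := hx 2 (by decide)
  obtain ⟨x3, hx3⟩ := hx 3 (by decide)
  obtain ⟨y, hy⟩ : ∃ y, y = (d * d)⁻¹ * (x2 * x3 * ν (n 1))⁻¹ := ⟨_, rfl⟩
  refine ⟨fun j => [y⁻¹, (d * (y * y))⁻¹, x2 * y⁻¹, x3 * y⁻¹].getD j 1, funext fun k => ?_⟩
  obtain ⟨j, rfl⟩ : ∃ j, n j = k := ⟨Fin.cast rank_four k, rfl⟩
  show ∏ i ∈ Finset.range (T4).l, ([y⁻¹, (d * (y * y))⁻¹, x2 * y⁻¹, x3 * y⁻¹].getD i 1 : Fˣ) ^
    (T4).A i ((T4).smp (j : ℕ)) = _
  rw [show Finset.range (T4).l = Finset.range 4 by rw [rank_four], Finset.prod_range_succ, Finset.prod_range_succ, Finset.prod_range_succ, Finset.prod_range_succ,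
    Finset.prod_range_zero, cartan_rows 0 (by norm_num) j j.2, cartan_rows 1 (by norm_num) j j.2,
    cartan_rows 2 (by norm_num) j j.2, cartan_rows 3 (by norm_num) j j.2]
  apply Units.ext
  have hd0 := d.ne_zero
  have h20 := x2.ne_zero
  have h30 := x3.ne_zero
  have h10 := (ν (n 1)).ne_zero
  fin_cases j
  · show _ = ((ν (n 0) : Fˣ) : F)
    rw [← hd]
    simp [zpow_two, hy]
    field_simp
  · show _ = ((ν (n 1) : Fˣ) : F)
    simp [zpow_two, hy]
    field_simp
  · show _ = ((ν (n 2) : Fˣ) : F)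
    rw [hx2]
    simp [zpow_two, hy]
    field_simp
  · show _ = ((ν (n 3) : Fˣ) : F)
    rw [hx3]
    simp [zpow_two, hy]
    field_simp

omit [Finite F] in
theorem congr_mem_range (π : Equiv.Perm (Fin (T4).l)) (hπ : π mid = mid) {ν : Fin (T4).l → Fˣ}
    (hν : ν ∈ (ChevAut.cartanHom T4 F).range) :
    (fun k => ν (π.symm k)) ∈ (ChevAut.cartanHom T4 F).range := by
  refine mem_range_of_leaves fun a b ha hb => range_leaves hν ?_ ?_
  · exact fun e => ha (by rw [← π.apply_symm_apply a, e, hπ])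
  · exact fun e => hb (by rw [← π.apply_symm_apply b, e, hπ])

variable (F) in
/-- The kernel of the map to the outer automorphism group. -/
theorem mem_qN_ker (θ : ↥(ChevAut.normAut hg F)) :
    θ ∈ (ChevAut.qN hg F).ker ↔
      ChevAut.piHom h4 F θ = 1 ∧ (data θ).2 = 1 ∧ (data θ).1 ∈ (ChevAut.cartanHom T4 F).range := by
  rw [ChevAut.qN_ker h4 hT]
  constructor
  · rintro ⟨ν, hν, rfl⟩
    obtain ⟨e1, e2, e3⟩ := std_unique (data_spec (ChevAut.diagHom h4 hT F ν))
      (ChevAut.diagHom_std h4 hT ν).1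
    exact ⟨e1, e3, e2.symm ▸ hν⟩
  · rintro ⟨e1, e2, e3⟩
    refine ⟨_, e3, Subtype.ext (ChevAut.std_diag_unique hg (ChevAut.diagHom_std h4 hT _).1 ?_)⟩
    have h := data_spec θ
    rw [e1, e2] at h
    exact h

/-- An isomorphism from the outer automorphism group read off a homomorphism with the same kernel. -/
theorem out_equiv_of_hom {A : Type*} [Group A] [Finite A] (ψ : ↥(ChevAut.normAut hg F) →* A)
    (hker : ψ.ker = (ChevAut.qN hg F).ker) (hcard : Nat.card (Cfsg.Out ↥((T4).D.group F)) = Nat.card A) :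
    Nonempty (Cfsg.Out ↥((T4).D.group F) ≃* A) := by
  have hq : Function.Surjective (ChevAut.qN hg F) := ChevAut.qN_surjective ChevAut.autOK_D4.good
  have hψ : ψ.range = ⊤ := by
    refine Subgroup.eq_top_of_card_eq _ ?_
    rw [← Subgroup.index_ker, hker, Subgroup.index_ker, MonoidHom.range_eq_top.2 hq, Subgroup.card_top, hcard]
  exact ⟨(QuotientGroup.quotientKerEquivOfSurjective _ hq).symm.trans
    ((QuotientGroup.quotientMulEquivOfEq hker.symm).trans
      (QuotientGroup.quotientKerEquivOfSurjective ψ (MonoidHom.range_eq_top.1 hψ)))⟩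

theorem card_range_piHom : Nat.card ↥(ChevAut.piHom h4 F).range = 6 := by
  obtain ⟨-, -, -, h⟩ := S2159.range_D4 (F := F)
  exact h

/-- The graph symmetries form a symmetric group on three letters. -/
theorem range_equiv_perm : Nonempty (↥(ChevAut.piHom h4 F).range ≃* Equiv.Perm (Fin 3)) := by
  have hfix : ∀ π : ↥(ChevAut.piHom h4 F).range, ∀ k, k ≠ mid ↔ π.1 k ≠ mid := by
    rintro ⟨_, θ, rfl⟩ k
    refine not_congr ⟨fun e => by rw [e]; exact piHom_mid θ, fun e => ?_⟩
    exact (ChevAut.piHom h4 F θ).injective (e.trans (piHom_mid θ).symm)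
  let r : ↥(ChevAut.piHom h4 F).range →* Equiv.Perm {k : Fin (T4).l // k ≠ mid} :=
    MonoidHom.mk' (fun π => π.1.subtypePerm fun k => (hfix π k).symm) fun π π' => Equiv.ext fun k => rfl
  have hinj : Function.Injective r := fun π π' e => Subtype.ext (Equiv.ext fun k => by
    by_cases hk : k = mid
    · subst hk
      rw [not_not.1 (fun h => absurd rfl ((hfix π mid).2 h)), not_not.1 (fun h => absurd rfl ((hfix π' mid).2 h))]
    · exact congrArg Subtype.val (DFunLike.congr_fun e ⟨k, hk⟩))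
  have hc : Fintype.card {k : Fin (T4).l // k ≠ mid} = 3 := by
    rw [Fintype.card_subtype_compl, Fintype.card_subtype_eq, Fintype.card_fin, rank_four]
  obtain ⟨e⟩ : Nonempty ({k : Fin (T4).l // k ≠ mid} ≃ Fin 3) := ⟨Fintype.equivFinOfCardEq hc⟩
  have hb : Function.Bijective r := (Nat.bijective_iff_injective_and_card r).2 ⟨hinj, by
    rw [card_range_piHom, Nat.card_eq_fintype_card, Fintype.card_perm, hc]; rfl⟩
  exact ⟨(MulEquiv.ofBijective r hb).trans e.permCongrHom⟩

/-- In characteristic two the outer group is graph times field. -/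
theorem out_char_two [Fintype F] (h2 : ringChar F = 2) :
    Nonempty (Cfsg.Out ↥((T4).D.group F) ≃* Equiv.Perm (Fin 3) × (F ≃+* F)) := by
  have htop : ∀ ν, ν ∈ (ChevAut.cartanHom T4 F).range := fun ν =>
    mem_range_of_leaves fun a b _ _ => FiniteField.isSquare_of_char_two h2 _
  obtain ⟨e⟩ := range_equiv_perm (F := F)
  have hcard : Nat.card (Cfsg.Out ↥((T4).D.group F)) =
      Nat.card (↥(ChevAut.piHom h4 F).range × (F ≃+* F)) := by
    rw [ChevAut.card_out h4 hT, Nat.card_prod, show (ChevAut.cartanHom T4 F).range = ⊤ from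
      eq_top_iff.2 fun ν _ => htop ν, Subgroup.index_top, mul_one]
  haveI : Finite (F ≃+* F) := Finite.of_injective (fun σ => (σ : F → F)) DFunLike.coe_injective
  obtain ⟨E⟩ := out_equiv_of_hom ((ChevAut.piHom h4 F).rangeRestrict.prod (sigHom F)) (by
    ext θ
    rw [MonoidHom.mem_ker, mem_qN_ker, MonoidHom.prod_apply, Prod.mk_eq_one]
    exact ⟨fun h => ⟨congrArg Subtype.val h.1, h.2, htop _⟩, fun h => ⟨Subtype.ext h.1, h.2.1⟩⟩) hcard
  exact ⟨E.trans (e.prodCongr (MulEquiv.refl _))⟩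

/-- In odd characteristic the outer group is the affine group of the diagonal classes times field. -/
theorem out_odd [Fintype F] (h2 : (2 : F) ≠ 0) :
    Nonempty (Cfsg.Out ↥((T4).D.group F) ≃* Equiv.Perm (Fin 4) × (F ≃+* F)) := by
  obtain ⟨R, hR⟩ : ∃ R, R = (ChevAut.cartanHom T4 F).range := ⟨_, rfl⟩
  obtain ⟨cl, hcl⟩ : ∃ cl : (Fin (T4).l → Fˣ) →* (Fin (T4).l → Fˣ) ⧸ R, cl = QuotientGroup.mk' R := ⟨_, rfl⟩
  have hcl1 : ∀ ν, cl ν = 1 ↔ ν ∈ R := fun ν => by rw [hcl]; exact QuotientGroup.eq_one_iff ν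
  have hclsur : Function.Surjective cl := hcl ▸ QuotientGroup.mk'_surjective R
  -- coordinate permutations
  have hperm : ∀ θ : ↥(ChevAut.normAut hg F), ∀ ν ν' : Fin (T4).l → Fˣ, cl ν = cl ν' →
      cl (fun k => ν ((ChevAut.piHom h4 F θ).symm k)) = cl (fun k => ν' ((ChevAut.piHom h4 F θ).symm k)) := by
    intro θ ν ν' e
    rw [← mul_inv_eq_one, ← map_inv, ← map_mul, hcl1, hR] at e
    rw [← mul_inv_eq_one, ← map_inv, ← map_mul, hcl1, hR]
    exact congr_mem_range _ (piHom_mid θ) e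
  have hfield : ∀ (σ : F ≃+* F) (ν : Fin (T4).l → Fˣ),
      cl (fun k => Units.map σ.toRingHom.toMonoidHom (ν k)) = cl ν := by
    intro σ ν
    rw [← mul_inv_eq_one, ← map_inv, ← map_mul, hcl1, hR]
    refine mem_range_of_leaves fun a b _ _ => ?_
    have ha := isSquare_aut_div h2 σ (ν a).ne_zero
    have hb := isSquare_aut_div h2 σ (ν b).ne_zero
    simpa [Units.val_inv_eq_inv_val, div_eq_mul_inv] using ha.mul hb
  let act : ↥(ChevAut.normAut hg F) → (Fin (T4).l → Fˣ) ⧸ R → (Fin (T4).l → Fˣ) ⧸ R := fun θ v =>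
    cl (data θ).1 * cl (fun k => (hclsur v).choose ((ChevAut.piHom h4 F θ).symm k))
  have hact : ∀ θ ν, act θ (cl ν) =
      cl (data θ).1 * cl (fun k => ν ((ChevAut.piHom h4 F θ).symm k)) := fun θ ν =>
    congrArg (cl (data θ).1 * ·) (hperm θ _ _ (hclsur (cl ν)).choose_spec)
  have hmul : ∀ θ θ' v, act (θ * θ') v = act θ (act θ' v) := by
    intro θ θ' v
    obtain ⟨ν, rfl⟩ := hclsur v
    rw [hact, hact, ← map_mul cl (data θ').1, hact, show (data (θ * θ')).1 = (data θ).1 * fun k =>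
      Units.map (data θ).2.toRingHom.toMonoidHom ((data θ').1 ((ChevAut.piHom h4 F θ).symm k)) from
        funext (data_mul θ θ'), map_mul, hfield, mul_assoc]
    refine congrArg _ ?_
    rw [← map_mul cl]
    refine congrArg cl (funext fun k => ?_)
    simp [map_mul, Equiv.Perm.mul_def]
  have hone : ∀ v, act 1 v = v := by
    intro v
    obtain ⟨ν, rfl⟩ := hclsur v
    obtain ⟨e1, e2, -⟩ := std_unique (data_spec (1 : ↥(ChevAut.normAut hg F))) (π' := 1) (μ' := 1)
      (σ' := RingEquiv.refl F) (fun i t => by simp [exC_D4])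
    rw [hact, e1, e2, map_one, one_mul]
    rfl
  letI : MulAction ↥(ChevAut.normAut hg F) ((Fin (T4).l → Fˣ) ⧸ R) :=
    { smul := act, one_smul := hone, mul_smul := hmul }
  obtain ⟨ψ, hψ⟩ : ∃ ψ : ↥(ChevAut.normAut hg F) →* Equiv.Perm ((Fin (T4).l → Fˣ) ⧸ R) × (F ≃+* F),
      ∀ θ, ψ θ = (MulAction.toPermHom _ _ θ, (data θ).2) :=
    ⟨(MulAction.toPermHom _ _).prod (sigHom F), fun θ => rfl⟩
  obtain ⟨c, hc⟩ := FiniteField.exists_nonsquare (F := F) (fun h => h2 (by
    haveI := ringChar.of_eq h; exact CharTwo.two_eq_zero))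
  have hc0 : c ≠ 0 := fun e => hc (e ▸ IsSquare.zero)
  have hker : ψ.ker = (ChevAut.qN hg F).ker := by
    ext θ
    rw [MonoidHom.mem_ker, hψ, mem_qN_ker, Prod.mk_eq_one]
    constructor
    · rintro ⟨e1, e2⟩
      have hfix : ∀ ν, act θ (cl ν) = cl ν := fun ν => DFunLike.congr_fun e1 (cl ν)
      have hμ : (data θ).1 ∈ R := by
        have h := hfix 1
        rw [hact, show (fun k => (1 : Fin (T4).l → Fˣ) ((ChevAut.piHom h4 F θ).symm k)) = 1 from rfl,
          map_one, mul_one] at h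
        exact (hcl1 _).1 h
      refine ⟨Equiv.ext fun a => ?_, e2, hR ▸ hμ⟩
      rw [Equiv.Perm.one_apply]
      by_cases ha : a = mid
      · rw [ha, piHom_mid]
      by_contra hne
      obtain ⟨π, hπ⟩ : ∃ π, π = ChevAut.piHom h4 F θ := ⟨_, rfl⟩
      rw [← hπ] at hne
      obtain ⟨ν, hν⟩ : ∃ ν : Fin (T4).l → Fˣ, ν = Function.update (1 : Fin (T4).l → Fˣ) a (Units.mk0 c hc0) := ⟨_, rfl⟩
      have h := hfix ν
      rw [hact, (hcl1 _).2 hμ, one_mul, ← mul_inv_eq_one, ← map_inv, ← map_mul, hcl1, hR, ← hπ] at h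
      have hπmid : π a ≠ mid := fun e => ha (π.injective (by rw [e, hπ, piHom_mid]))
      obtain ⟨b, hb, hb1, hb2⟩ : ∃ b : Fin (T4).l, b ≠ mid ∧ b ≠ a ∧ b ≠ π a := by
        by_contra! hall
        have hle : (Finset.univ : Finset (Fin (T4).l)) ⊆ {mid, a, π a} := fun b _ => by
          simp only [Finset.mem_insert, Finset.mem_singleton]
          by_cases h0 : b = mid
          · exact Or.inl h0
          by_cases h1 : b = a
          · exact Or.inr (Or.inl h1)
          exact Or.inr (Or.inr (hall b h0 h1))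
        have := (Finset.card_le_card hle).trans Finset.card_le_three
        rw [Finset.card_univ, Fintype.card_fin, rank_four] at this
        omega
      have hpb : π.symm b ≠ a := fun e => hb2 (by rw [← e, Equiv.apply_symm_apply])
      have := range_leaves h hπmid hb
      rw [hν] at this
      simp [hne, hpb, hb1] at this
      exact hc this
    · rintro ⟨e1, e2, e3⟩
      refine ⟨Equiv.ext fun v => ?_, e2⟩
      obtain ⟨ν, rfl⟩ := hclsur v
      show act θ (cl ν) = cl ν
      rw [hact, (hcl1 _).2 (hR ▸ e3), one_mul, e1]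
      rfl
  have hidx : R.index = 4 := by
    let n : Fin 4 → Fin (T4).l := Fin.cast rank_four.symm
    have hne : ∀ k : Fin 4, k ≠ 1 → n k ≠ mid := fun k hk e => hk (Fin.ext (congrArg Fin.val e))
    let s : (Fin (T4).l → Fˣ) →* SqCls F × SqCls F :=
      MonoidHom.mk' (fun ν => (sqc F ((ν (n 0) : F) * ν (n 2)), sqc F ((ν (n 2) : F) * ν (n 3)))) fun ν ν' => by
        refine Prod.ext ?_ ?_ <;> simp only [Prod.fst_mul, Prod.snd_mul, Pi.mul_apply, Units.val_mul]
        all_goals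
          rw [← Cfsg.Agent.Orth.sqc_mul (by simp) (by simp)]
          congr 1
          ring
    have hsk : s.ker = R := by
      ext ν
      rw [MonoidHom.mem_ker, hR]
      show (_, _) = 1 ↔ _
      rw [Prod.mk_eq_one, Cfsg.Agent.Orth.sqc_eq_one_iff (by simp), Cfsg.Agent.Orth.sqc_eq_one_iff (by simp)]
      refine ⟨fun hh => mem_range_of_leaves fun a b ha hb => ?_, fun hh =>
        ⟨range_leaves hh (hne 0 (by decide)) (hne 2 (by decide)), range_leaves hh (hne 2 (by decide)) (hne 3 (by decide))⟩⟩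
      have sq : ∀ a b m : F, a ≠ 0 → b ≠ 0 → m ≠ 0 → IsSquare (a * m) → IsSquare (b * m) → IsSquare (a * b) := by
        intro a b m _ _ hm0 h h'
        have := (h.mul h').div (IsSquare.mul_self m)
        rwa [show a * m * (b * m) / (m * m) = a * b by field_simp] at this
      have hleaf : ∀ a : Fin (T4).l, a ≠ mid → IsSquare ((ν a : F) * ν (n 2)) := by
        intro a ha
        obtain ⟨j, rfl⟩ : ∃ j, n j = a := ⟨Fin.cast rank_four a, rfl⟩
        fin_cases j
        · exact hh.1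
        · exact absurd rfl ha
        · exact IsSquare.mul_self _
        · rw [mul_comm]; exact hh.2
      exact sq _ _ _ (Units.ne_zero _) (Units.ne_zero _) (Units.ne_zero _) (hleaf a ha) (hleaf b hb)
    have hssur : Function.Surjective s := by
      rintro ⟨u, w⟩
      obtain ⟨u, rfl⟩ := QuotientGroup.mk_surjective u
      obtain ⟨w, rfl⟩ := QuotientGroup.mk_surjective w
      refine ⟨fun k => [u, 1, 1, w].getD k 1, ?_⟩
      show (sqc F _, sqc F _) = _
      simp [n, Cfsg.Agent.Orth.sqc_unit]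
    rw [← hsk, Subgroup.index_ker, MonoidHom.range_eq_top.2 hssur, Subgroup.card_top, Nat.card_prod,
      Cfsg.Agent.Orth.card_sqCls_le.2.1 h2]
  have hQ : Fintype.card (Fin 4) = Nat.card ((Fin (T4).l → Fˣ) ⧸ R) := by
    rw [Fintype.card_fin, ← Subgroup.index_eq_card, hidx]
  obtain ⟨e⟩ : Nonempty ((Fin (T4).l → Fˣ) ⧸ R ≃ Fin 4) :=
    ⟨(Finite.equivFin _).trans (finCongr (by rw [← hQ, Fintype.card_fin]))⟩
  haveI : Finite (F ≃+* F) := Finite.of_injective (fun σ => (σ : F → F)) DFunLike.coe_injective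
  obtain ⟨E⟩ := out_equiv_of_hom ψ hker (by
    rw [ChevAut.card_out h4 hT, ← hR, hidx, card_range_piHom, Nat.card_prod, Nat.card_perm,
      ← Subgroup.index_eq_card, hidx, show Nat.factorial 4 = 24 from rfl]
    ring)
  exact ⟨E.trans (e.permCongrHom.prodCongr (MulEquiv.refl _))⟩

/-- transport of the outer automorphism group -/
theorem out_congr {A B : Type*} [Group A] [Group B] (e : A ≃* B) : Nonempty (Cfsg.Out A ≃* Cfsg.Out B) :=
  ⟨QuotientGroup.congr _ _ (MulAut.congr e) (by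
    ext β
    obtain ⟨γ, rfl⟩ := (MulAut.congr e).surjective β
    constructor
    · rintro ⟨γ', hγ, e'⟩
      rw [← e']
      exact (congr_mem_inn e γ').2 hγ
    · exact fun h => ⟨γ, (congr_mem_inn e γ).1 h, rfl⟩)⟩

end Cfsg.Agent.AutPOmega.D4
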