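import Cfsg.Agent.Lib.AutPOmega.EvenQuotGroups

/-!
The two standard even-dimensional forms as instances, with the squares of their basic similarities.
-/

set_option autoImplicit false

namespace Cfsg.Agent.AutPOmega

open Matrix QuadraticMap
open Cfsg.Agent.Orth (SpinVal SqCls sqc reflVal sgn qPlus qMinus)
open Cfsg.Agent.Transvec (mv mv_mul mv_inj mv_inv_mv mv_mv_inv ext_mv)
open Cfsg.Agent.Transvec.Orth (mem_isometry)

section Spin

variable {ι : Type} [Fintype ι] [DecidableEq ι] {F : Type*} [Field F] {m : ℕ}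

/-- The spinor norm of a diagonal element on hyperbolic planes. -/
theorem spin_diag (q : QuadraticForm F (ι → F)) {χ : Cfsg.isometryGroup F (⇑q) →* SpinVal F}
    (hrefl : ∀ (g : Cfsg.isometryGroup F (⇑q)) (v : ι → F), q v ≠ 0 →
      ((g : GL ι F) : Matrix ι ι F) = Cfsg.reflectionMatrix (⇑q) v → χ g = reflVal q v)
    (xi yi : Fin m → ι) (hxy : ∀ i j, xi i ≠ yi j) (hx : Function.Injective xi) (hy : Function.Injective yi)
    (hval : ∀ i (s : F), q (Pi.single (xi i) 1 + Pi.single (yi i) s) = s)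
    (hpol : ∀ z i (s : F), polar q z (Pi.single (xi i) 1 + Pi.single (yi i) s) = z (yi i) + s * z (xi i))
    (T : (Fin m → Fˣ) →* Cfsg.isometryGroup F (⇑q))
    (hTx : ∀ d z i, mv (T d : GL ι F) z (xi i) = d i * z (xi i))
    (hTy : ∀ d z i, mv (T d : GL ι F) z (yi i) = ((d i)⁻¹ : Fˣ) * z (yi i))
    (hTo : ∀ d z j, (∀ i, j ≠ xi i ∧ j ≠ yi i) → mv (T d : GL ι F) z j = z j) (c : Fˣ) :
    χ (T fun _ => c) = (1, sqc F (c : F) ^ m) := by
  have h1 : ∀ i, χ (T (Pi.mulSingle i c)) = ((1 : Multiplicative (ZMod 2)), sqc F (c : F)) := by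
    intro i
    obtain ⟨r₁, e₁, -⟩ := Cfsg.Agent.Orth.exists_reflection q (v := Pi.single (xi i) 1 + Pi.single (yi i) (-1))
      (by rw [hval]; exact neg_ne_zero.2 one_ne_zero)
    obtain ⟨r₂, e₂, -⟩ := Cfsg.Agent.Orth.exists_reflection q (v := Pi.single (xi i) 1 + Pi.single (yi i) (-(c : F)))
      (by rw [hval]; exact neg_ne_zero.2 c.ne_zero)
    have hr : ∀ (r : Cfsg.isometryGroup F (⇑q)) (s : F),
        ((r : GL ι F) : Matrix ι ι F) = Cfsg.reflectionMatrix (⇑q) (Pi.single (xi i) 1 + Pi.single (yi i) s) →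
        ∀ z, mv (r : GL ι F) z = z - ((z (yi i) + s * z (xi i)) / s) • (Pi.single (xi i) 1 + Pi.single (yi i) s) :=
      fun r s hr z => by
        show ((r : GL ι F) : Matrix ι ι F) *ᵥ z = _
        rw [hr, Cfsg.Agent.Orth.reflectionMatrix_mulVec, hpol, hval]
    have e : T (Pi.mulSingle i c) = r₁ * r₂ := Subtype.ext (ext_mv fun z => by
      rw [Subgroup.coe_mul, mv_mul, hr r₁ _ e₁, hr r₂ _ e₂]
      have hc := c.ne_zero
      have hne := hxy i i
      funext j
      by_cases hjx : j = xi i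
      · subst hjx
        rw [hTx, Pi.mulSingle_eq_same]
        simp [hne, hne.symm]
        field_simp
        ring
      by_cases hjy : j = yi i
      · subst hjy
        rw [hTy, Pi.mulSingle_eq_same, Units.val_inv_eq_inv_val]
        simp [hne, hne.symm]
        field_simp
        ring
      have hz : mv (T (Pi.mulSingle i c) : GL ι F) z j = z j := by
        by_cases hk : ∃ k, j = xi k
        · obtain ⟨k, rfl⟩ := hk
          rw [hTx, Pi.mulSingle_eq_of_ne (fun e => hjx (by rw [e])), Units.val_one, one_mul]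
        by_cases hk' : ∃ k, j = yi k
        · obtain ⟨k, rfl⟩ := hk'
          rw [hTy, Pi.mulSingle_eq_of_ne (fun e => hjy (by rw [e])), inv_one, Units.val_one, one_mul]
        exact hTo _ _ _ fun k => ⟨fun e => hk ⟨k, e⟩, fun e => hk' ⟨k, e⟩⟩
      rw [hz]
      simp [hjx, hjy])
    rw [e, map_mul, hrefl r₁ _ (by rw [hval]; exact neg_ne_zero.2 one_ne_zero) e₁,
      hrefl r₂ _ (by rw [hval]; exact neg_ne_zero.2 c.ne_zero) e₂]
    refine Prod.ext (by show Multiplicative.ofAdd (1 : ZMod 2) * Multiplicative.ofAdd 1 = 1; decide) ?_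
    show sqc F (q _) * sqc F (q _) = sqc F (c : F)
    rw [hval, hval, ← Cfsg.Agent.Orth.sqc_mul (neg_ne_zero.2 one_ne_zero) (neg_ne_zero.2 c.ne_zero), neg_mul_neg,
      one_mul]
  rw [← MonoidHom.comp_apply, ← Finset.univ_prod_mulSingle (fun _ : Fin m => c), map_prod]
  simp only [MonoidHom.comp_apply, h1]
  rw [Finset.prod_const, Finset.card_univ, Fintype.card_fin]
  exact Prod.ext (one_pow m) rfl

theorem sqc_pow_eq_one {c : Fˣ} (hc : ¬ IsSquare (c : F)) (n : ℕ) : sqc F (c : F) ^ n = 1 ↔ Even n := by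
  have h2 : sqc F (c : F) ^ 2 = 1 := by rw [pow_two, Cfsg.Agent.Orth.sqc_mul_self c.ne_zero]
  rcases Nat.even_or_odd n with ⟨j, rfl⟩ | ⟨j, rfl⟩
  · exact iff_of_true (by rw [← two_mul, pow_mul, h2, one_pow]) ⟨j, rfl⟩
  · refine iff_of_false ?_ (Nat.not_even_iff_odd.2 ⟨j, rfl⟩)
    rw [pow_succ, pow_mul, h2, one_pow, one_mul, Cfsg.Agent.Orth.sqc_eq_one_iff c.ne_zero]
    exact hc

end Spin

section Plus

variable {m : ℕ} {F : Type*} [Field F] [Fintype F]

local notation "Ip" => Fin m ⊕ Fin m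
local notation "PresP" => (fun g : GL (Fin m ⊕ Fin m) F => Cfsg.PreservesSingularClasses (Cfsg.quadFormPlus m F) (g : Matrix (Fin m ⊕ Fin m) (Fin m ⊕ Fin m) F))

theorem exists_plus_mult (hm : 4 ≤ m) (c : Fˣ) :
    ∃ g : GL Ip F, (∀ v, qPlus F m (mv g v) = (c : F) * qPlus F m v) ∧ PresP g ∧
      ∀ v, mv g v = Sum.elim (fun i => v (.inl i)) (fun i => (c : F) * v (.inr i)) := by
  obtain ⟨g, hg, hgv⟩ := exists_sm_eq (Q := Cfsg.quadFormPlus m F) 1 c.ne_zero
    (fun v => Sum.elim (fun i => v (.inl i)) (fun i => (c : F) * v (.inr i)))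
    (fun x y => funext fun i => by rcases i with i | i <;> simp [mul_add])
    (fun a x => funext fun i => by rcases i with i | i <;> simp; ring)
    (fun x => by simp [Cfsg.quadFormPlus, Finset.mul_sum]; exact Finset.sum_congr rfl fun i _ => by ring)
    (geo_plus m)
  have hv : ∀ v, mv g v = Sum.elim (fun i => v (.inl i)) (fun i => (c : F) * v (.inr i)) := fun v => hgv v
  refine ⟨g, fun v => ?_, ?_, hv⟩
  · rw [hv, Cfsg.Agent.Orth.coe_qPlus]
    simp [Cfsg.quadFormPlus, Finset.mul_sum]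
    exact Finset.sum_congr rfl fun i _ => by ring
  show Cfsg.PreservesSingularClasses (Cfsg.quadFormPlus m F) (g : Matrix Ip Ip F)
  rw [← Cfsg.Agent.Orth.coe_qPlus, pres_iff hyp_plus (by rw [Cfsg.Agent.Orth.coe_qPlus]; exact hg)
    Cfsg.Agent.Orth.isMaxSing_left]
  obtain ⟨U, hU⟩ : ∃ U, U = LinearMap.range (Cfsg.Agent.Orth.leftEmb F m) := ⟨_, rfl⟩
  rw [← hU]
  have e : Cfsg.imageSubmodule (g : Matrix Ip Ip F) U = U := by
    refine Submodule.eq_of_le_of_finrank_eq ?_ (finrank_image g U)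
    rintro _ ⟨y, hy, rfl⟩
    rw [hU] at hy ⊢
    obtain ⟨x, rfl⟩ := hy
    refine ⟨x, ?_⟩
    show _ = mv g _
    rw [hv]
    funext i
    rcases i with i | i <;> simp [Cfsg.Agent.Orth.leftEmb]
  rw [e]
  exact same_refl (hU ▸ Cfsg.Agent.Orth.isMaxSing_left)

theorem evenType_plus (h2 : (2 : F) ≠ 0) (hm : 4 ≤ m) : EvenType (qPlus F m) PresP where
  nondeg := Cfsg.Agent.Orth.qPlus_nondeg m
  seven := by simp; omega
  even := by simp
  two := h2
  p_mul g h hg hh := by
    rw [Cfsg.Agent.Orth.coe_qPlus] at hg hh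
    exact presP_mul hg hh
  p_scal a := presP_scal a
  p_refl v r hv hr := by
    rw [Cfsg.Agent.Orth.coe_qPlus] at hr hv
    exact (presP_refl hv hr).2
  p_mult c := by
    obtain ⟨g, h1, h3, -⟩ := exists_plus_mult hm c
    exact ⟨g, h1, h3⟩

theorem exists_plus_square (hm : 4 ≤ m) (c : Fˣ)
    {χ : Cfsg.isometryGroup F (⇑(qPlus F m)) →* SpinVal F}
    (hrefl : ∀ (g : Cfsg.isometryGroup F (⇑(qPlus F m))) (v : Ip → F), qPlus F m v ≠ 0 →
      ((g : GL Ip F) : Matrix Ip Ip F) = Cfsg.reflectionMatrix (⇑(qPlus F m)) v → χ g = reflVal (qPlus F m) v) :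
    ∃ (g : GL Ip F) (k : Cfsg.isometryGroup F (⇑(qPlus F m))),
      (∀ v, qPlus F m (mv g v) = (c : F) * qPlus F m v) ∧ PresP g ∧ g * g = scal c * (k : GL Ip F) ∧
      χ k = (1, sqc F (c : F) ^ m) := by
  obtain ⟨g, hg, hP, hv⟩ := exists_plus_mult hm c
  have hT : ∀ d : Fin m → Fˣ, ∃ t : Cfsg.isometryGroup F (⇑(qPlus F m)), ∀ z,
      mv (t : GL Ip F) z = Sum.elim (fun i => (d i : F) * z (.inl i)) (fun i => ((d i)⁻¹ : Fˣ) * z (.inr i)) := by
    intro d
    let E : (Ip → F) ≃ₗ[F] (Ip → F) := LinearEquiv.piCongrRight fun i => LinearEquiv.smulOfNeZero F F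
      (Sum.elim (fun i => (d i : F)) (fun i => ((d i)⁻¹ : Fˣ)) i) (by rcases i with i | i <;> simp)
    obtain ⟨t, ht⟩ := exists_mv_of_equiv E
    have ht' : ∀ z, mv t z = Sum.elim (fun i => (d i : F) * z (.inl i)) (fun i => ((d i)⁻¹ : Fˣ) * z (.inr i)) :=
      fun z => by rw [ht]; funext i; rcases i with i | i <;> rfl
    refine ⟨⟨t, mem_isometry.2 fun z => ?_⟩, ht'⟩
    rw [Cfsg.Agent.Orth.coe_qPlus, ht']
    simp [Cfsg.quadFormPlus]
    exact Finset.sum_congr rfl fun i _ => by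
      have := (d i).ne_zero
      field_simp
  choose t ht using hT
  let T : (Fin m → Fˣ) →* Cfsg.isometryGroup F (⇑(qPlus F m)) := MonoidHom.mk' t fun d d' =>
    Subtype.ext (ext_mv fun z => by
      rw [Subgroup.coe_mul, mv_mul, ht, ht, ht]
      funext i
      rcases i with i | i <;> simp [mul_assoc, mul_comm, mul_left_comm])
  obtain ⟨v, hv1⟩ : ∃ T' : Cfsg.isometryGroup F (⇑(qPlus F m)), T' = T fun _ => c⁻¹ := ⟨_, rfl⟩
  refine ⟨g, v, hg, hP, ext_mv fun z => ?_, ?_⟩
  · rw [mv_mul, mv_mul, scal_mv, hv, hv, hv1]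
    show _ = (c : F) • mv (t _ : GL Ip F) z
    rw [ht]
    have := c.ne_zero
    funext i
    rcases i with i | i <;> simp [mul_assoc]
  · rw [hv1, spin_diag (qPlus F m) hrefl Sum.inl Sum.inr (fun i j => Sum.inl_ne_inr) Sum.inl_injective
      Sum.inr_injective (fun i s => by
        rw [Cfsg.Agent.Orth.coe_qPlus]
        simp [Cfsg.quadFormPlus, Pi.single_apply])
      (fun z i s => by
        simp only [polar, Cfsg.Agent.Orth.coe_qPlus]
        simp [Cfsg.quadFormPlus, Pi.single_apply, add_mul, mul_add, Finset.sum_add_distrib]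
        ring)
      T (fun d z i => by show mv (t d : GL Ip F) z _ = _; rw [ht]; rfl)
      (fun d z i => by show mv (t d : GL Ip F) z _ = _; rw [ht]; rfl)
      (fun d z j hj => by rcases j with j | j; exacts [absurd rfl (hj j).1, absurd rfl (hj j).2]) c⁻¹]
    refine Prod.ext rfl ?_
    show sqc F ((c⁻¹ : Fˣ) : F) ^ m = sqc F (c : F) ^ m
    congr 1
    rw [Cfsg.Agent.Orth.sqc_unit, Cfsg.Agent.Orth.sqc_unit, QuotientGroup.eq]
    exact ⟨c, by rw [powMonoidHom_apply, inv_inv, pow_two]⟩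

end Plus

section Minus

universe u

variable {m : ℕ} {F : Type u} [Field F] [Fintype F] {a b : F}
  (hab : ∀ z₁ z₂ : F, z₁ ^ 2 + a * z₁ * z₂ + b * z₂ ^ 2 = 0 → z₁ = 0 ∧ z₂ = 0)

local notation "Jv" => (Fin m ⊕ Fin m) ⊕ Fin 2
local notation "PresM" => (fun g : GL ((Fin m ⊕ Fin m) ⊕ Fin 2) F => Cfsg.PreservesSingularClassesMinus m a b (g : Matrix ((Fin m ⊕ Fin m) ⊕ Fin 2) ((Fin m ⊕ Fin m) ⊕ Fin 2) F))

include hab

theorem minus_mult_of (c : Fˣ) (z₀ z₁ : F) (hz : z₀ ^ 2 + a * z₀ * z₁ + b * z₁ ^ 2 = c) :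
    ∃ g : GL Jv F, (∀ v, qMinus F m a b (mv g v) = (c : F) * qMinus F m a b v) ∧ PresM g ∧
      ∀ v, mv g v = ext2 1 (c : F) (fun z => (z₀ * z.1 + -(b * z₁) * z.2, z₁ * z.1 + (z₀ + a * z₁) * z.2)) v := by
  obtain ⟨g, hgp, hg⟩ := exists_pair_of_binary (j := m) hab 1 c.ne_zero (z₀) (-(b * z₁)) (z₁)
    (z₀ + a * z₁) (fun x y => by rw [← hz, RingAut.one_apply, RingAut.one_apply]; ring)
  have hv : ∀ v, mv g v = ext2 1 (c : F)
      (fun w => (z₀ * w.1 + -(b * z₁) * w.2, z₁ * w.1 + (z₀ + a * z₁) * w.2)) v := fun v => (hg v).2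
  refine ⟨g, fun v => by rw [Cfsg.Agent.Orth.coe_qMinus]; exact (hg v).1, ?_, hv⟩
  obtain ⟨K, _, _, hK, hfin⟩ := exists_quad_ext (F := F)
  obtain ⟨w, hw⟩ := exists_root_ext (K := K) hab (dvd_of_eq hK.symm)
  show Cfsg.PreservesSingularClassesMinus m a b (g : Matrix Jv Jv F)
  obtain ⟨e₀, he₀⟩ : ∃ L : (Fin m → K) × K →ₗ[K] (Jv → K), ∀ p,
      L p = Sum.elim (Sum.elim p.1 0) ![p.2 * w, p.2] :=
    ⟨{ toFun := fun p => Sum.elim (Sum.elim p.1 0) ![p.2 * w, p.2]
       map_add' := fun p p' => funext fun i => by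
        rcases i with (i | i) | i
        · simp
        · simp
        · fin_cases i <;> simp [add_mul]
       map_smul' := fun t p => funext fun i => by
        rcases i with (i | i) | i
        · simp
        · simp
        · fin_cases i <;> simp [mul_assoc] }, fun p => rfl⟩
  have hinj : Function.Injective e₀ := fun p p' e => by
    rw [he₀, he₀] at e
    exact Prod.ext (funext fun i => congrFun e (Sum.inl (Sum.inl i))) (congrFun e (Sum.inr 1))
  have hU : Cfsg.Agent.Orth.IsMaxSing (qMinus K m (algebraMap F K a) (algebraMap F K b)) (m + 1)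
      (LinearMap.range e₀) := by
    refine ⟨by rw [LinearMap.finrank_range_of_inj hinj, Module.finrank_prod, Module.finrank_fin_fun,
      Module.finrank_self], ?_⟩
    rintro _ ⟨p, rfl⟩
    rw [Cfsg.Agent.Orth.coe_qMinus, he₀]
    simp [Cfsg.quadFormMinus]
    linear_combination p.2 ^ 2 * hw
  rw [presM_K hab K hK hgp, pres_iff (hyp_minus K hK hab) (pairK hab hgp) hU]
  obtain ⟨U, hUdef⟩ : ∃ U, U = LinearMap.range e₀ := ⟨_, rfl⟩
  rw [← hUdef] at hU ⊢
  have e : Cfsg.imageSubmodule ((Matrix.GeneralLinearGroup.map (algebraMap F K) g : GL Jv K) : Matrix Jv Jv K) U = U := by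
    refine Submodule.eq_of_le_of_finrank_eq ?_ (finrank_image _ U)
    rintro _ ⟨y, hy, rfl⟩
    rw [hUdef] at hy ⊢
    obtain ⟨p, rfl⟩ := hy
    refine ⟨(p.1, (algebraMap F K (z₁) * w + algebraMap F K (z₀) + algebraMap F K a * algebraMap F K (z₁)) * p.2), ?_⟩
    have hcol : ∀ x y : Jv, ((Matrix.GeneralLinearGroup.map (algebraMap F K) g : GL Jv K) : Matrix Jv Jv K) x y =
        algebraMap F K (mv g (Pi.single y 1) x) := fun x y => by
      show algebraMap F K ((g : Matrix Jv Jv F) x y) = _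
      simp [mv]
    rw [Matrix.toLin'_apply, he₀, he₀]
    funext x
    rw [Matrix.mulVec, dotProduct]
    simp only [hcol, hv, Fintype.sum_sum_type, Fin.sum_univ_two]
    rcases x with (i | i) | i
    · simp [ext2, Pi.single_apply, apply_ite (algebraMap F K)]
    · simp [ext2, Pi.single_apply, apply_ite (algebraMap F K)]
    · fin_cases i
      · simp [ext2]
        linear_combination p.2 * algebraMap F K (z₁) * hw
      · simp [ext2]
        ring
  rw [e]
  exact same_refl hU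

theorem exists_minus_mult (c : Fˣ) :
    ∃ (z₀ z₁ : F) (g : GL Jv F), z₀ ^ 2 + a * z₀ * z₁ + b * z₁ ^ 2 = c ∧
      (∀ v, qMinus F m a b (mv g v) = (c : F) * qMinus F m a b v) ∧ PresM g ∧
      ∀ v, mv g v = ext2 1 (c : F) (fun z => (z₀ * z.1 + -(b * z₁) * z.2, z₁ * z.1 + (z₀ + a * z₁) * z.2)) v := by
  obtain ⟨z, hz⟩ := Cfsg.Agent.Orth.exists_value (Cfsg.Agent.Orth.qBin_nondeg hab)
    (by rw [Module.finrank_fintype_fun_eq_card]; simp) (c : F)
  rw [Cfsg.Agent.Orth.qBin_apply] at hz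
  obtain ⟨g, h1, h2, h3⟩ := minus_mult_of (m := m) hab c (z 0) (z 1) hz
  exact ⟨z 0, z 1, g, hz, h1, h2, h3⟩

theorem evenType_minus (h2 : (2 : F) ≠ 0) (hm : 3 ≤ m) : EvenType (qMinus F m a b) PresM where
  nondeg := Cfsg.Agent.Orth.qPad_nondeg (Cfsg.Agent.Orth.qBin_nondeg hab) m
  seven := by simp; omega
  even := ⟨m + 1, by simp; ring⟩
  two := h2
  p_mul g h hg hh := by
    rw [Cfsg.Agent.Orth.coe_qMinus] at hg hh
    exact presM_mul hab hg hh
  p_scal t := presM_scal hab t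
  p_refl v r hv hr := by
    rw [Cfsg.Agent.Orth.coe_qMinus] at hr hv
    exact (presM_refl hab hv hr).2
  p_mult c := by
    obtain ⟨z₀, z₁, g, -, h1, h3, -⟩ := exists_minus_mult (m := m) hab c
    exact ⟨g, h1, h3⟩

theorem exists_minus_square (c : Fˣ)
    {χ : Cfsg.isometryGroup F (⇑(qMinus F m a b)) →* SpinVal F}
    (hrefl : ∀ (g : Cfsg.isometryGroup F (⇑(qMinus F m a b))) (v : Jv → F), qMinus F m a b v ≠ 0 →
      ((g : GL Jv F) : Matrix Jv Jv F) = Cfsg.reflectionMatrix (⇑(qMinus F m a b)) v →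
        χ g = reflVal (qMinus F m a b) v) :
    ∃ (g : GL Jv F) (k : Cfsg.isometryGroup F (⇑(qMinus F m a b))),
      (∀ v, qMinus F m a b (mv g v) = (c : F) * qMinus F m a b v) ∧ PresM g ∧ g * g = scal c * (k : GL Jv F) ∧
      χ k = (1, sqc F (c : F) ^ (m + 1)) := by
  obtain ⟨z₀, z₁, g, hz, hg, hP, hv⟩ := exists_minus_mult (m := m) hab c
  have hT : ∀ d : Fin m → Fˣ, ∃ t : Cfsg.isometryGroup F (⇑(qMinus F m a b)), ∀ z,
      mv (t : GL Jv F) z = Sum.elim (Sum.elim (fun i => (d i : F) * z (.inl (.inl i)))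
        (fun i => ((d i)⁻¹ : Fˣ) * z (.inl (.inr i)))) (fun k => z (.inr k)) := by
    intro d
    let E : (Jv → F) ≃ₗ[F] (Jv → F) := LinearEquiv.piCongrRight fun i => LinearEquiv.smulOfNeZero F F
      (Sum.elim (Sum.elim (fun i => (d i : F)) (fun i => ((d i)⁻¹ : Fˣ))) (fun _ => 1) i)
      (by rcases i with (i | i) | i <;> simp)
    obtain ⟨t, ht⟩ := exists_mv_of_equiv E
    have ht' : ∀ z, mv t z = Sum.elim (Sum.elim (fun i => (d i : F) * z (.inl (.inl i)))
        (fun i => ((d i)⁻¹ : Fˣ) * z (.inl (.inr i)))) (fun k => z (.inr k)) :=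
      fun z => by rw [ht]; funext i; rcases i with (i | i) | i <;> simp [E]
    refine ⟨⟨t, mem_isometry.2 fun z => ?_⟩, ht'⟩
    rw [Cfsg.Agent.Orth.coe_qMinus, ht']
    simp [Cfsg.quadFormMinus]
    exact Finset.sum_congr rfl fun i _ => by
      have := (d i).ne_zero
      field_simp
  choose t ht using hT
  let T : (Fin m → Fˣ) →* Cfsg.isometryGroup F (⇑(qMinus F m a b)) := MonoidHom.mk' t fun d d' =>
    Subtype.ext (ext_mv fun z => by
      rw [Subgroup.coe_mul, mv_mul, ht, ht, ht]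
      funext i
      rcases i with (i | i) | i <;> simp [mul_assoc, mul_comm, mul_left_comm])
  obtain ⟨v, hvdef⟩ : ∃ v : Jv → F, v = Pi.single (Sum.inr 0) 1 := ⟨_, rfl⟩
  have hqv : qMinus F m a b v = 1 := by
    rw [Cfsg.Agent.Orth.coe_qMinus, hvdef]; simp [Cfsg.quadFormMinus]
  obtain ⟨r, hr, -⟩ := Cfsg.Agent.Orth.exists_reflection (qMinus F m a b) (v := v) (by rw [hqv]; exact one_ne_zero)
  have hgv : qMinus F m a b (mv g v) = (c : F) := by rw [hg, hqv, mul_one]
  obtain ⟨r', hr', -⟩ := Cfsg.Agent.Orth.exists_reflection (qMinus F m a b) (v := mv g v)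
    (by rw [hgv]; exact c.ne_zero)
  have hrv : ∀ (r : Cfsg.isometryGroup F (⇑(qMinus F m a b))) (v : Jv → F),
      ((r : GL Jv F) : Matrix Jv Jv F) = Cfsg.reflectionMatrix (⇑(qMinus F m a b)) v →
      ∀ x, mv (r : GL Jv F) x = x - (polar (qMinus F m a b) x v / qMinus F m a b v) • v := fun r v hr x => by
    show ((r : GL Jv F) : Matrix Jv Jv F) *ᵥ x = _
    rw [hr, Cfsg.Agent.Orth.reflectionMatrix_mulVec]
  have hr2 : r * r = 1 := Subtype.ext (ext_mv fun x => by
    rw [Subgroup.coe_mul, mv_mul, hrv r v hr, hrv r v hr, Subgroup.coe_one, Cfsg.Agent.Transvec.mv_one,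
      sub_eq_add_neg x, ← neg_smul, polar_add_left, polar_smul_left, polar_self, hqv]
    ext i
    simp
    ring)
  have hrval : ∀ x, mv (r : GL Jv F) x =
      Sum.elim (fun i => x (.inl i)) ![-x (.inr 0) - a * x (.inr 1), x (.inr 1)] := fun x => by
    rw [hrv r v hr, hqv, div_one]
    have hp : polar (qMinus F m a b) x v = 2 * x (.inr 0) + a * x (.inr 1) := by
      simp only [polar, Cfsg.Agent.Orth.coe_qMinus, hvdef]
      simp [Cfsg.quadFormMinus]
      ring
    rw [hp, hvdef]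
    funext i
    rcases i with i | i
    · simp
    · fin_cases i
      · simp; ring
      · simp
  have hconj : g * (r : GL Jv F) * g⁻¹ = (r' : GL Jv F) := ext_mv fun x => by
    rw [mv_mul, mv_mul, hrv r v hr, hrv r' _ hr']
    have hpol : polar (qMinus F m a b) x (mv g v) = (c : F) * polar (qMinus F m a b) (mv g⁻¹ x) v := by
      conv_lhs => rw [← mv_mv_inv g x]
      simp only [polar, ← Cfsg.Agent.Transvec.mv_add, hg]
      ring
    rw [Cfsg.Agent.Transvec.mv_sub, Cfsg.Agent.Transvec.mv_smul, mv_mv_inv, hpol, hg,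
      mul_div_mul_left _ _ c.ne_zero]
  obtain ⟨T', hT'⟩ : ∃ T', T' = T fun _ => c⁻¹ := ⟨_, rfl⟩
  have key : g * (r : GL Jv F) * g = scal c * ((r : GL Jv F) * (T' : GL Jv F)) := ext_mv fun x => by
    rw [mv_mul, mv_mul, mv_mul, scal_mv, mv_mul, hrval, hrval, hv, hv, hT']
    show _ = (c : F) • Sum.elim _ _
    have htx : mv (T (fun _ => c⁻¹) : GL Jv F) x = _ := ht _ x
    rw [htx]
    have := c.ne_zero
    funext i
    rcases i with (i | i) | i
    · simp [ext2]
    · simp [ext2]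
    · fin_cases i
      · simp [ext2]
        linear_combination (-(x (.inr 0)) - a * x (.inr 1)) * hz
      · simp [ext2]
        linear_combination x (.inr 1) * hz
  refine ⟨g, r' * (r * T'), hg, hP, ?_, ?_⟩
  · rw [Subgroup.coe_mul, Subgroup.coe_mul, ← mul_assoc (scal c : GL Jv F), scal_mul_comm c (r' : GL Jv F),
      mul_assoc, ← key, ← hconj]
    have hri : (r : GL Jv F) * (r : GL Jv F) = 1 := congrArg Subtype.val hr2
    simp only [mul_assoc, inv_mul_cancel_left]
    rw [← mul_assoc (r : GL Jv F), hri, one_mul]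
  · rw [map_mul, map_mul, hrefl r v (by rw [hqv]; exact one_ne_zero) hr,
      hrefl r' _ (by rw [hgv]; exact c.ne_zero) hr', hT',
      spin_diag (qMinus F m a b) hrefl (fun i => Sum.inl (Sum.inl i)) (fun i => Sum.inl (Sum.inr i))
        (fun i j => by simp) (fun i j e => by simpa using e) (fun i j e => by simpa using e)
        (fun i s => by
          rw [Cfsg.Agent.Orth.coe_qMinus]
          simp [Cfsg.quadFormMinus, Pi.single_apply])
        (fun z i s => by
          simp only [polar, Cfsg.Agent.Orth.coe_qMinus]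
          simp [Cfsg.quadFormMinus, Pi.single_apply, add_mul, mul_add, Finset.sum_add_distrib]
          ring)
        T (fun d z i => by show mv (t d : GL Jv F) z _ = _; rw [ht]; rfl)
        (fun d z i => by show mv (t d : GL Jv F) z _ = _; rw [ht]; rfl)
        (fun d z j hj => by
          show mv (t d : GL Jv F) z j = _
          rcases j with (j | j) | j
          · exact absurd rfl (hj j).1
          · exact absurd rfl (hj j).2
          · rw [ht]; rfl) c⁻¹]
    refine Prod.ext (by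
      show Multiplicative.ofAdd (1 : ZMod 2) * (Multiplicative.ofAdd 1 * 1) = 1; decide) ?_
    show sqc F (qMinus F m a b (mv g v)) * (sqc F (qMinus F m a b v) * sqc F ((c⁻¹ : Fˣ) : F) ^ m) = _
    rw [hgv, hqv, Cfsg.Agent.Orth.sqc_one, one_mul, pow_succ']
    congr 2
    rw [Cfsg.Agent.Orth.sqc_unit, Cfsg.Agent.Orth.sqc_unit, QuotientGroup.eq]
    exact ⟨c, by rw [powMonoidHom_apply, inv_inv, pow_two]⟩

end Minus

end Cfsg.Agent.AutPOmega
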