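import Cfsg.Agent.Lib.AutPOmega.Outer
import Cfsg.Agent.Lib.Orthogonal.OmegaTheory
import Cfsg.Agent.Lib.Orthogonal.POmega

/-!
The odd-dimensional orthogonal groups: inner-diagonal automorphisms, the order of the automorphism group and
the outer automorphism group.
-/

set_option autoImplicit false

namespace Cfsg.Agent.AutPOmega

open Matrix Cfsg.Agent.Transvec Cfsg.Agent.Transvec.Orth
open Cfsg.Agent.Orth (SpinVal SqCls sqc reflVal sgn)

variable {m : ℕ} {F : Type*} [Field F]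

local notation "Iv" => Unit ⊕ (Fin m ⊕ Fin m)
local notation "Qo" => Cfsg.quadFormOdd m F
local notation "SOg" => Cfsg.specialIsometryGL F (Cfsg.quadFormOdd m F)
local notation "POm" => Cfsg.POmega F (Cfsg.quadFormOdd m F)
local notation "π" => QuotientGroup.mk' (Subgroup.center (Cfsg.Omega F (Cfsg.quadFormOdd m F)))

theorem quad_map {K : Type*} [Field K] (f : K →+* F) (v : Iv → K) :
    Qo (fun i => f (v i)) = f (Cfsg.quadFormOdd m K v) := by
  simp [Cfsg.quadFormOdd, map_sum]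

theorem isPair_field (τ : F ≃+* F) : Cfsg.IsSemisimilarityPair Qo 1 τ :=
  ⟨1, fun v => by
    rw [Units.val_one, Matrix.one_mulVec, Units.val_one, one_mul]
    exact quad_map τ.toRingHom v⟩

theorem so_le : SOg ≤ Cfsg.isometryGroup F Qo := inf_le_left

theorem so_det (h : SOg) : Matrix.GeneralLinearGroup.det (h : GL Iv F) = 1 := h.2.2

theorem mem_so {g : GL Iv F} (h1 : g ∈ Cfsg.isometryGroup F Qo)
    (h2 : Matrix.GeneralLinearGroup.det g = 1) : g ∈ SOg := ⟨h1, h2⟩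

theorem card_iv : Fintype.card Iv = 2 * m + 1 := by simp; ring

/-- Field automorphisms act on the special orthogonal group. -/
def mapSO (τ : F ≃+* F) : SOg →* SOg :=
  ((mapGL τ).comp (Subgroup.subtype SOg)).codRestrict _ fun h => mem_so
    (by
      have := conjGL_mem (isPair_field τ) h.2.1
      simpa [conjGL] using this)
    (by
      refine Units.ext ?_
      show ((((h : GL Iv F) : Matrix Iv Iv F)).map τ).det = 1
      rw [show ((((h : GL Iv F) : Matrix Iv Iv F)).map τ).det = τ (((h : GL Iv F) : Matrix Iv Iv F)).det from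
        (RingHom.map_det τ.toRingHom _).symm]
      rw [show (((h : GL Iv F) : Matrix Iv Iv F)).det = 1 from congrArg Units.val (so_det h), map_one])

theorem mapSO_coe (τ : F ≃+* F) (h : SOg) : (mapSO τ h : GL Iv F) = mapGL τ (h : GL Iv F) := rfl

theorem scal_mem_so {a : Fˣ} (h : scal a ∈ SOg) : a = 1 := by
  have h1 := so_det ⟨_, h⟩
  rw [det_scal, card_iv, pow_succ, pow_mul] at h1
  have e1 := mem_isometry.1 h.1 (Pi.single (Sum.inl ()) (1 : F))
  rw [scal_mv] at e1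
  have e2 : a ^ 2 = 1 := Units.ext <| by
    simpa [Cfsg.quadFormOdd, Pi.single_apply, sq] using e1
  rwa [e2, one_pow, one_mul] at h1

section Finite

variable [Fintype F] (h2 : (2 : F) ≠ 0) (hm : 3 ≤ m)

include h2 in
theorem hD_odd (hm : 3 ≤ m) : 9 ≤ Fintype.card Iv ∨
    ∀ U : Submodule F (Iv → F), (∀ x ∈ U, Qo x = 0) → Module.finrank F U ≤ 3 := by
  by_cases h4 : 4 ≤ m
  · exact Or.inl (by rw [card_iv]; omega)
  · exact Or.inr fun U hU => finrank_singular_seven (geo_odd h2 m) (by rw [card_iv]; omega) U hU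

include h2

/-- A similarity is a scalar multiple of an element of the special orthogonal group. -/
theorem exists_so {g : GL Iv F} {τ : F ≃+* F} (hg : Cfsg.IsSemisimilarityPair Qo g τ) :
    ∃ (h : SOg) (a : Fˣ), g = scal a * (h : GL Iv F) := by
  obtain ⟨c, hc⟩ := hg
  have hM : ∀ x, Qo (mv g x) = (c : F) * Qo x := fun x => by
    obtain ⟨y, rfl⟩ : ∃ y, x = τ ∘ y := ⟨τ.symm ∘ x, funext fun i => (τ.apply_symm_apply _).symm⟩
    rw [show Qo (⇑τ ∘ y) = τ (Qo y) from quad_map τ.toRingHom y]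
    exact hc y
  obtain ⟨M, hMdef⟩ : ∃ M : Matrix Iv Iv F, M = (g : Matrix Iv Iv F) := ⟨_, rfl⟩
  have hcomp : (QuadraticMap.polarBilin (Cfsg.Agent.Orth.qOdd F m)).compl₁₂ (Matrix.toLin' M)
      (Matrix.toLin' M) = (c : F) • QuadraticMap.polarBilin (Cfsg.Agent.Orth.qOdd F m) :=
    LinearMap.ext fun x => LinearMap.ext fun y => by
      have e : ∀ z, Qo (M *ᵥ z) = (c : F) * Qo z := hMdef ▸ hM
      simp only [LinearMap.compl₁₂_apply, LinearMap.smul_apply, Matrix.toLin'_apply,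
        QuadraticMap.polarBilin_apply_apply, QuadraticMap.polar, Cfsg.Agent.Orth.coe_qOdd,
        ← Matrix.mulVec_add, e, smul_eq_mul]
      ring
  have h1 := congrArg Matrix.det (LinearMap.toMatrix₂'_compl₁₂
    (QuadraticMap.polarBilin (Cfsg.Agent.Orth.qOdd F m)) (Matrix.toLin' M) (Matrix.toLin' M))
  rw [hcomp, LinearMap.toMatrix'_toLin', Matrix.det_mul, Matrix.det_mul, Matrix.det_transpose, map_smul,
    Matrix.det_smul, card_iv] at h1
  have h3 : M.det ^ 2 = (c : F) ^ (2 * m + 1) := by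
    apply mul_right_cancel₀ (Cfsg.Agent.Orth.toMatrix_det_ne_zero _ (Cfsg.Agent.Orth.qOdd_nondeg h2 m))
    linear_combination -h1
  obtain ⟨d, hd⟩ : ∃ d : Fˣ, d = Matrix.GeneralLinearGroup.det g := ⟨_, rfl⟩
  have hd2 : d ^ 2 = c ^ (2 * m + 1) := Units.ext <| by
    rw [Units.val_pow_eq_pow_val, Units.val_pow_eq_pow_val, ← h3, hd, hMdef]
    rfl
  obtain ⟨a, ha⟩ : ∃ a : Fˣ, a = d * (c ^ m)⁻¹ := ⟨_, rfl⟩
  have ha2 : a ^ 2 = c := by
    rw [ha, mul_pow, hd2, inv_pow, ← pow_mul, mul_comm m 2, pow_succ (n := 2 * m), mul_comm (c ^ (2 * m)),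
      mul_assoc, mul_inv_cancel, mul_one]
  refine ⟨⟨scal a⁻¹ * g, mem_so (mem_isometry.2 fun z => ?_) ?_⟩, a, ?_⟩
  · rw [mv_mul, scal_mv, Transvec.Orth.q_smul (geo_odd h2 m), hM, ← mul_assoc, ← ha2,
      ← Units.val_pow_eq_pow_val, ← Units.val_mul, inv_pow, inv_mul_cancel, Units.val_one, one_mul]
  · rw [map_mul, det_scal, card_iv, ← hd, pow_succ, pow_mul, inv_pow, ha2, inv_pow, ha, _root_.mul_inv_rev,
      inv_inv, ← mul_assoc, inv_mul_cancel, one_mul, inv_mul_cancel]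
  · rw [← mul_assoc, ← map_mul, mul_inv_cancel, map_one, one_mul]

include hm

theorem card_iv7 : 7 ≤ Fintype.card Iv := by rw [card_iv]; omega

/-- The action of the special orthogonal group. -/
noncomputable def conjSO : SOg →* MulAut POm := conjHom SOg so_le

omit h2 hm in
theorem semi_so (h : SOg) (τ : F ≃+* F) :
    Cfsg.IsSemisimilarityPair Qo (h : GL Iv F) τ := by
  have := isPair_comp (isPair_iso (Q := Qo) (so_le h.2)) (isPair_field τ)
  simpa using this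

/-- The automorphism of an element of the special orthogonal group and a field automorphism. -/
noncomputable def sa (h : SOg) (τ : F ≃+* F) : MulAut POm := semi (h : GL Iv F) τ (semi_so h τ)

omit h2 hm in
theorem sa_mul (h h' : SOg) (τ τ' : F ≃+* F) :
    sa h τ * sa h' τ' = sa (h * mapSO τ h') (τ * τ') := by
  rw [sa, sa, semi_mul]
  exact semi_congr _ _ rfl rfl

theorem sa_inj {h h' : SOg} {τ τ' : F ≃+* F} (e : sa h τ = sa h' τ') : h = h' ∧ τ = τ' := by
  obtain ⟨e1, a, ha⟩ := semi_eq_semi (geo_odd h2 m) (card_iv7 h2 hm) _ _ e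
  have hmem : scal a ∈ SOg := by
    have := mul_mem h.2 (inv_mem h'.2)
    rwa [ha, mul_inv_cancel_right] at this
  rw [scal_mem_so hmem, scal, map_one, one_mul] at ha
  exact ⟨Subtype.ext ha, e1⟩

theorem exists_sa (β : MulAut POm) : ∃ h τ, β = sa h τ := by
  obtain ⟨p, hp⟩ := CharP.exists F
  haveI : Fact p.Prime := ⟨CharP.char_is_prime F p⟩
  obtain ⟨g, τ, hg, rfl⟩ := exists_semi (geo_odd h2 m) (card_iv7 h2 hm) p (hD_odd h2 hm) β
  obtain ⟨h, a, ha⟩ := exists_so h2 hg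
  refine ⟨h, τ, ?_⟩
  have hsc : Cfsg.IsSemisimilarityPair Qo (scal a : GL Iv F) 1 :=
    ⟨a ^ 2, fun v => by
      show Qo (mv (scal a) v) = _
      rw [scal_mv, Transvec.Orth.q_smul (geo_odd h2 m), Units.val_pow_eq_pow_val]
      rfl⟩
  calc semi g τ hg = semi (scal a) 1 hsc * sa h τ := by
        rw [sa, semi_mul]
        exact semi_congr _ _ (by rw [mapGL_one, ha]) (one_mul τ).symm
    _ = sa h τ := by rw [semi_scal, one_mul]

omit h2 hm in
theorem conjSO_apply (h : SOg) : conjHom SOg so_le h = sa h 1 := rfl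

theorem conjSO_injective : Function.Injective (conjHom SOg so_le : SOg →* MulAut POm) := fun a b e =>
  (sa_inj h2 hm (show sa a 1 = sa b 1 from e)).1

theorem range_conjSO : (conjHom SOg so_le : SOg →* MulAut POm).range = Cfsg.inndiagPOmegaOdd m F := by
  refine le_antisymm ?_ ?_
  · rintro _ ⟨h, rfl⟩
    exact Subgroup.subset_closure ⟨(h : GL Iv F), ⟨1, fun v => by
      rw [Units.val_one, one_mul]; exact mem_isometry.1 (so_le h.2) v⟩, induced_semi _⟩
  · rw [Cfsg.inndiagPOmegaOdd, Cfsg.autSubgroupOf, Subgroup.closure_le]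
    rintro β ⟨g, hg, hβ⟩
    have hp : Cfsg.IsSemisimilarityPair Qo g 1 := by
      obtain ⟨c, hc⟩ := hg
      exact ⟨c, fun v => hc v⟩
    obtain ⟨h, τ, e⟩ := exists_sa h2 hm (semi g 1 hp)
    obtain ⟨rfl, -⟩ := semi_eq_semi (geo_odd h2 m) (card_iv7 h2 hm) hp _ e
    exact ⟨h, (semi_eq_of_induced hp hβ).symm ▸ e.symm⟩

theorem exists_chi : ∃ χ : Cfsg.isometryGroup F Qo →* SpinVal F, χ.ker = Cfsg.Omega F Qo ∧
    (∀ g : Cfsg.isometryGroup F Qo,
      ((g : GL Iv F) : Matrix Iv Iv F).det = sgn F (Multiplicative.toAdd (χ g).1)) ∧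
    ∀ (g : Cfsg.isometryGroup F Qo) (v : Iv → F), Qo v ≠ 0 →
      ((g : GL Iv F) : Matrix Iv Iv F) = Cfsg.reflectionMatrix Qo v →
        χ g = (Multiplicative.ofAdd 1, sqc F (Qo v)) := by
  have hq := Cfsg.Agent.Orth.qOdd_nondeg (F := F) h2 m
  have hn : 7 ≤ Fintype.card Iv := card_iv7 h2 hm
  rw [← Cfsg.Agent.Orth.coe_qOdd]
  obtain ⟨χ, h1, -, h3⟩ :=
    Cfsg.Agent.Orth.exists_matrix_spinor (Cfsg.Agent.Orth.qOdd F m) hq (by omega) (Or.inr (by omega))
  exact ⟨χ, h1, Cfsg.Agent.Orth.det_eq_sgn _ hq (Or.inr (by omega)) χ h3, h3⟩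

/-- The spinor character of the special orthogonal group. -/
theorem exists_char : ∃ D : SOg →* SqCls F,
    (∀ h : SOg, D h = 1 ↔ conjHom SOg so_le h ∈ Cfsg.Inn POm) ∧
    (∀ (h : SOg) (r₁ r₂ : Cfsg.isometryGroup F Qo) (v₁ v₂ : Iv → F), Qo v₁ ≠ 0 → Qo v₂ ≠ 0 →
      ((r₁ : GL Iv F) : Matrix Iv Iv F) = Cfsg.reflectionMatrix Qo v₁ →
      ((r₂ : GL Iv F) : Matrix Iv Iv F) = Cfsg.reflectionMatrix Qo v₂ →
      (h : GL Iv F) = (r₁ : GL Iv F) * (r₂ : GL Iv F) → D h = sqc F (Qo v₁) * sqc F (Qo v₂)) ∧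
    Cfsg.Inn POm ≤ (conjHom SOg so_le : SOg →* MulAut POm).range := by
  obtain ⟨χ, hker, hdet, hrefl⟩ := exists_chi h2 hm
  let incl : SOg →* Cfsg.isometryGroup F Qo := Subgroup.inclusion so_le
  have hfst : ∀ h : SOg, (χ (incl h)).1 = 1 := fun h => by
    have e := hdet (incl h)
    rw [show (((incl h : Cfsg.isometryGroup F Qo) : GL Iv F) : Matrix Iv Iv F).det = 1 from
      congrArg Units.val (so_det h)] at e
    rcases (by decide : ∀ u : Multiplicative (ZMod 2), u = 1 ∨ u = Multiplicative.ofAdd 1) (χ (incl h)).1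
      with h1 | h1
    · exact h1
    · rw [h1] at e
      simp [sgn] at e
      exact absurd (by linear_combination e) h2
  have homega : ∀ A : Cfsg.Omega F Qo, gl A ∈ SOg := fun A => mem_so
    (A : Cfsg.isometryGroup F Qo).2 (by
      have e := hdet A.1
      rw [show χ A.1 = 1 from hker.symm.le A.2] at e
      exact Units.ext (by simpa [sgn] using e))
  refine ⟨(MonoidHom.snd _ _).comp (χ.comp incl), fun h => ?_, ?_, ?_⟩
  · show (χ (incl h)).2 = 1 ↔ _
    constructor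
    · intro e
      have hA : incl h ∈ Cfsg.Omega F Qo := by
        rw [← hker, MonoidHom.mem_ker]
        exact Prod.ext (hfst h) e
      refine ⟨π ⟨incl h, hA⟩, ?_⟩
      rw [inner_eq_semi]
      rfl
    · rintro ⟨x, hx⟩
      obtain ⟨A, -, e⟩ := inn_eq x
      rw [e] at hx
      obtain ⟨e1, -⟩ := sa_inj h2 hm (h := ⟨gl A, homega A⟩) (h' := h) (τ := 1) (τ' := 1) hx
      have hA : incl h = A.1 := Subtype.ext (congrArg Subtype.val e1).symm
      rw [hA, show χ A.1 = 1 from hker.symm.le A.2]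
      rfl
  · intro h r₁ r₂ v₁ v₂ hv₁ hv₂ e₁ e₂ e
    show (χ (incl h)).2 = _
    rw [show incl h = r₁ * r₂ from Subtype.ext e, map_mul, hrefl r₁ v₁ hv₁ e₁, hrefl r₂ v₂ hv₂ e₂]
    rfl
  · rintro _ ⟨x, rfl⟩
    obtain ⟨A, -, e⟩ := inn_eq x
    exact ⟨⟨gl A, homega A⟩, e.symm⟩

/-- An element with prescribed square class. -/
theorem exists_so_value (c : Fˣ) {D : SOg →* SqCls F}
    (hD : ∀ (h : SOg) (r₁ r₂ : Cfsg.isometryGroup F Qo) (v₁ v₂ : Iv → F), Qo v₁ ≠ 0 → Qo v₂ ≠ 0 →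
      ((r₁ : GL Iv F) : Matrix Iv Iv F) = Cfsg.reflectionMatrix Qo v₁ →
      ((r₂ : GL Iv F) : Matrix Iv Iv F) = Cfsg.reflectionMatrix Qo v₂ →
      (h : GL Iv F) = (r₁ : GL Iv F) * (r₂ : GL Iv F) → D h = sqc F (Qo v₁) * sqc F (Qo v₂)) :
    ∀ j : Fin m, ∃ h : SOg, D h = sqc F (c : F) ∧
      ((h : GL Iv F) : Matrix Iv Iv F) =
        Cfsg.reflectionMatrix Qo (Pi.single (Sum.inl ()) 1) * Cfsg.reflectionMatrix Qo
          (Pi.single (Sum.inr (Sum.inl j)) 1 +
            Pi.single (Sum.inr (Sum.inr j)) (c : F)) := by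
  intro j
  obtain ⟨v, hvdef⟩ : ∃ v : Iv → F, v = Pi.single (Sum.inr (Sum.inl j)) 1 +
      Pi.single (Sum.inr (Sum.inr j)) (c : F) := ⟨_, rfl⟩
  have hv : Qo v = (c : F) := by
    rw [hvdef]
    simp [Cfsg.quadFormOdd, Pi.single_apply]
  have hu : Qo (Pi.single (Sum.inl ()) (1 : F)) = 1 := by simp [Cfsg.quadFormOdd, Pi.single_apply]
  obtain ⟨r₁, e₁⟩ : ∃ r : Cfsg.isometryGroup F Qo, ((r : GL Iv F) : Matrix Iv Iv F) =
      Cfsg.reflectionMatrix Qo (Pi.single (Sum.inl ()) 1) := by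
    rw [← Cfsg.Agent.Orth.coe_qOdd] at hu ⊢
    obtain ⟨g, hg, -⟩ := Cfsg.Agent.Orth.exists_reflection _ (v := Pi.single (Sum.inl ()) (1 : F))
      (by rw [hu]; exact one_ne_zero)
    exact ⟨g, hg⟩
  obtain ⟨r₂, e₂⟩ : ∃ r : Cfsg.isometryGroup F Qo, ((r : GL Iv F) : Matrix Iv Iv F) =
      Cfsg.reflectionMatrix Qo v := by
    rw [← Cfsg.Agent.Orth.coe_qOdd] at hv ⊢
    obtain ⟨g, hg, -⟩ := Cfsg.Agent.Orth.exists_reflection _ (v := v) (by rw [hv]; exact c.ne_zero)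
    exact ⟨g, hg⟩
  have hdet : ∀ (r : Cfsg.isometryGroup F Qo) (u : Iv → F), Qo u ≠ 0 →
      ((r : GL Iv F) : Matrix Iv Iv F) = Cfsg.reflectionMatrix Qo u →
      ((r : GL Iv F) : Matrix Iv Iv F).det = -1 := fun r u hu e => by
    rw [e, ← Cfsg.Agent.Orth.coe_qOdd]
    exact Cfsg.Agent.Orth.det_reflectionMatrix _ (by rwa [Cfsg.Agent.Orth.coe_qOdd])
  have hso : ((r₁ * r₂ : Cfsg.isometryGroup F Qo) : GL Iv F) ∈ SOg :=
    mem_so (r₁ * r₂).2 (Units.ext (by
      show (((r₁ : GL Iv F) : Matrix Iv Iv F) * ((r₂ : GL Iv F) : Matrix Iv Iv F)).det = 1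
      rw [Matrix.det_mul, hdet r₁ _ (by rw [hu]; exact one_ne_zero) e₁,
        hdet r₂ _ (by rw [hv]; exact c.ne_zero) e₂, neg_mul_neg, one_mul]))
  refine ⟨⟨_, hso⟩, ?_, ?_⟩
  · rw [hD ⟨_, hso⟩ r₁ r₂ _ _ (by rw [hu]; exact one_ne_zero) (by rw [hv]; exact c.ne_zero) e₁ e₂ rfl, hu,
      hv, Cfsg.Agent.Orth.sqc_one, one_mul]
  · show ((r₁ : GL Iv F) : Matrix Iv Iv F) * ((r₂ : GL Iv F) : Matrix Iv Iv F) = _
    rw [e₁, e₂, hvdef]

theorem exists_index_two : ∃ D : SOg →* SqCls F, Function.Surjective D ∧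
    (∀ h : SOg, D h = 1 ↔ conjHom SOg so_le h ∈ Cfsg.Inn POm) ∧
    D.ker.map (conjHom SOg so_le) = Cfsg.Inn POm := by
  obtain ⟨D, h1, h3, h4⟩ := exists_char h2 hm
  refine ⟨D, fun y => ?_, h1, le_antisymm ?_ fun x hx => ?_⟩
  · obtain ⟨c, rfl⟩ := QuotientGroup.mk_surjective y
    obtain ⟨h, hh, -⟩ := exists_so_value h2 hm c h3 ⟨0, by omega⟩
    exact ⟨h, hh.trans (Cfsg.Agent.Orth.sqc_unit c)⟩
  · rintro _ ⟨h, hh, rfl⟩
    exact (h1 h).1 hh
  · obtain ⟨h, rfl⟩ := h4 hx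
    exact ⟨h, (h1 h).2 hx, rfl⟩

theorem card_so : Nat.card SOg = 2 * Nat.card POm := by
  obtain ⟨D, hs, -, hmap⟩ := exists_index_two h2 hm
  rw [← D.ker.card_mul_index, Subgroup.index_ker, MonoidHom.range_eq_top.2 hs, Subgroup.card_top,
    Cfsg.Agent.Orth.card_sqCls_le.2.1 h2, ← Subgroup.card_map_of_injective (conjSO_injective h2 hm), hmap,
    card_inn (geo_odd h2 m) (card_iv7 h2 hm), mul_comm]

theorem card_aut (p f : ℕ) [Fact p.Prime] (hF : Fintype.card F = p ^ f) :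
    Nat.card (MulAut POm) = 2 * f * Nat.card POm := by
  have e : Nat.card (SOg × (F ≃+* F)) = Nat.card (MulAut POm) :=
    Nat.card_eq_of_bijective (fun x => sa x.1 x.2)
      ⟨fun a b e => Prod.ext (sa_inj h2 hm e).1 (sa_inj h2 hm e).2, fun β => by
        obtain ⟨h, τ, rfl⟩ := exists_sa h2 hm β
        exact ⟨(h, τ), rfl⟩⟩
  obtain ⟨E⟩ := AutPSL.exists_ringAut_equiv (F := F) p f hF
  rw [← e, Nat.card_prod, card_so h2 hm, Nat.card_congr E.toEquiv, Nat.card_congr Multiplicative.toAdd,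
    Nat.card_zmod]
  ring

omit h2 hm in
theorem eq_of_card_two {G : Type*} [Group G] (h : Nat.card G = 2) {a b : G} (e : a = 1 ↔ b = 1) : a = b := by
  obtain ⟨x, y, hxy, huniv⟩ := Nat.card_eq_two_iff.1 h
  have hm : ∀ z : G, z = x ∨ z = y := fun z => by
    simpa using (huniv ▸ Set.mem_univ z : z ∈ ({x, y} : Set G))
  by_cases ha : a = 1
  · rw [ha, e.1 ha]
  · have hb := fun hb => ha (e.2 hb)
    rcases hm a with rfl | rfl <;> rcases hm b with rfl | rfl <;> rcases hm 1 with h1 | h1 <;>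
      first
        | rfl
        | exact absurd h1.symm ha
        | exact absurd h1.symm hb

theorem out_equiv (p f : ℕ) [Fact p.Prime] (hF : Fintype.card F = p ^ f) :
    Nonempty (Cfsg.Out POm ≃* Multiplicative (ZMod 2 × ZMod f)) := by
  obtain ⟨D, hs, h1, -⟩ := exists_index_two h2 hm
  have hcard : Nat.card (SqCls F) = 2 := Cfsg.Agent.Orth.card_sqCls_le.2.1 h2
  choose hh tt hht using fun β => exists_sa h2 hm β
  have hΘ : ∀ β γ, D (hh (β * γ)) = D (hh β) * D (hh γ) ∧ tt (β * γ) = tt β * tt γ := by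
    intro β γ
    have e : sa (hh β * mapSO (tt β) (hh γ)) (tt β * tt γ) = sa (hh (β * γ)) (tt (β * γ)) := by
      rw [← sa_mul, ← hht β, ← hht γ]
      exact hht _
    obtain ⟨e1, e2⟩ := sa_inj h2 hm e
    refine ⟨?_, e2.symm⟩
    rw [← e1, map_mul]
    congr 1
    refine eq_of_card_two hcard ?_
    rw [h1, h1]
    have hconj : conjHom SOg so_le (mapSO (tt β) (hh γ)) =
        sa 1 (tt β) * conjHom SOg so_le (hh γ) * (sa 1 (tt β))⁻¹ := by
      rw [conjSO_apply, conjSO_apply, eq_mul_inv_iff_mul_eq, sa_mul, sa_mul, map_one, mul_one, mul_one,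
        one_mul, one_mul]
    rw [hconj]
    constructor
    · intro hx
      have := (Cfsg.innNormal POm).conj_mem _ hx (sa 1 (tt β))⁻¹
      simpa [mul_assoc] using this
    · exact fun hx => (Cfsg.innNormal POm).conj_mem _ hx _
  let Θ : MulAut POm →* SqCls F × (F ≃+* F) :=
    MonoidHom.mk' (fun β => (D (hh β), tt β)) fun β γ => Prod.ext (hΘ β γ).1 (hΘ β γ).2
  have hΘsurj : Function.Surjective Θ := by
    rintro ⟨y, τ⟩
    obtain ⟨h, rfl⟩ := hs y
    refine ⟨sa h τ, ?_⟩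
    obtain ⟨e1, e2⟩ := sa_inj h2 hm (hht (sa h τ))
    exact Prod.ext (congrArg D e1.symm) e2.symm
  have hker : Θ.ker = Cfsg.Inn POm := by
    ext β
    constructor
    · intro hβ
      have e1 : D (hh β) = 1 := congrArg Prod.fst hβ
      have e2 : tt β = 1 := congrArg Prod.snd hβ
      rw [hht β, e2, ← conjSO_apply]
      exact (h1 _).1 e1
    · intro hβ
      obtain ⟨h, hh'⟩ := (exists_char h2 hm).choose_spec.2.2 hβ
      rw [conjSO_apply] at hh'
      obtain ⟨e1, e2⟩ := sa_inj h2 hm (hh'.trans (hht β))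
      refine Prod.ext ((h1 _).2 ?_) e2.symm
      rw [← e1, conjSO_apply, hh']
      exact hβ
  obtain ⟨E⟩ := AutPSL.exists_ringAut_equiv (F := F) p f hF
  let E2 : SqCls F ≃* Multiplicative (ZMod 2) :=
    mulEquivOfPrimeCardEq (p := 2) hcard (by simp)
  exact ⟨(QuotientGroup.quotientMulEquivOfEq hker.symm).trans
    ((QuotientGroup.quotientKerEquivOfSurjective Θ hΘsurj).trans
      ((E2.prodCongr E).trans (MulEquiv.prodMultiplicative (G := ZMod 2) (H := ZMod f)).symm))⟩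

end Finite

end Cfsg.Agent.AutPOmega
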