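import Cfsg.Agent.Lib.AutPOmega.EvenClasses
import Cfsg.Agent.Lib.Orthogonal.NegOne
import Cfsg.Agent.Lib.TwoGroups.Lifts
import Cfsg.Agent.Lib.AutPOmega.Odd
import Mathlib.GroupTheory.SpecificGroups.Cyclic

/-!
The outer similarity groups of the even-dimensional orthogonal groups in odd characteristic.
-/

set_option autoImplicit false

namespace Cfsg.Agent.AutPOmega

open Matrix QuadraticMap
open Cfsg.Agent.Orth (SpinVal SqCls sqc reflVal sgn)
open Cfsg.Agent.Transvec (mv mv_mul mv_inj mv_inv_mv mv_mv_inv ext_mv)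
open Cfsg.Agent.Transvec.Orth (mem_isometry)

/-- A quotient map read on an image. -/
theorem exists_quot {G X A : Type*} [Group G] [Group X] [Group A] (S : G →* X) (f : G →* A)
    (hf : Function.Surjective f) (N : Subgroup X) (h : ∀ g, f g = 1 ↔ S g ∈ N) :
    ∃ φ : ↥S.range →* A, Function.Surjective φ ∧ φ.ker = N.subgroupOf S.range ∧
      ∀ g, φ ⟨S g, g, rfl⟩ = f g := by
  have hker : S.rangeRestrict.ker ≤ f.ker := fun g hg => by
    rw [MonoidHom.mem_ker, h]
    rw [MonoidHom.mem_ker] at hg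
    rw [show S g = 1 from congrArg Subtype.val hg]
    exact N.one_mem
  let φ := (S.rangeRestrict).liftOfSurjective S.rangeRestrict_surjective ⟨f, hker⟩
  have hφ : ∀ g, φ (S.rangeRestrict g) = f g := fun g =>
    MonoidHom.liftOfRightInverse_comp_apply _ _ _ _ g
  refine ⟨φ, fun a => ?_, ?_, hφ⟩
  · obtain ⟨g, rfl⟩ := hf a
    exact ⟨_, hφ g⟩
  · ext ⟨y, g, rfl⟩
    rw [MonoidHom.mem_ker, Subgroup.mem_subgroupOf]
    exact (iff_of_eq (congrArg (· = 1) (hφ g))).trans (h g)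

/-- A surjection from a quotient isomorphism. -/
theorem exists_quot_of_equiv {X A : Type*} [Group X] [Group A] (H N : Subgroup X) [(N.subgroupOf H).Normal]
    (e : (↥H ⧸ N.subgroupOf H) ≃* A) :
    ∃ φ : ↥H →* A, Function.Surjective φ ∧ φ.ker = N.subgroupOf H :=
  ⟨e.toMonoidHom.comp (QuotientGroup.mk' _), e.surjective.comp (QuotientGroup.mk'_surjective _), by
    ext x
    simp⟩

variable {ι : Type} [Fintype ι] [DecidableEq ι] {F : Type*} [Field F]

theorem zmod2_cases : ∀ z : ZMod 2, z = 0 ∨ z = 1 := by decide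

/-- An even-dimensional form in odd characteristic with a notion of class-preserving similarity. -/
structure EvenType (q : QuadraticForm F (ι → F)) (P : GL ι F → Prop) : Prop where
  nondeg : (polarBilin q).Nondegenerate
  seven : 7 ≤ Fintype.card ι
  even : Even (Fintype.card ι)
  two : (2 : F) ≠ 0
  p_mul : ∀ g h, Cfsg.IsSemisimilarityPair (⇑q) g 1 → Cfsg.IsSemisimilarityPair (⇑q) h 1 → (P (g * h) ↔ (P g ↔ P h))
  p_scal : ∀ a : Fˣ, P (Matrix.GeneralLinearGroup.scalar ι a)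
  p_refl : ∀ (v : ι → F) (r : GL ι F), q v ≠ 0 → (r : Matrix ι ι F) = Cfsg.reflectionMatrix (⇑q) v → ¬ P r
  p_mult : ∀ c : Fˣ, ∃ g : GL ι F, (∀ v, q (mv g v) = (c : F) * q v) ∧ P g

variable [Fintype F] {q : QuadraticForm F (ι → F)} {P : GL ι F → Prop} (hE : EvenType q P)
include hE

set_option quotPrecheck false in
local notation "POm" => Cfsg.POmega F (⇑q)
set_option quotPrecheck false in
local notation "GOg" => Cfsg.Geo.quadSimilarityGroup (F := F) (⇑q)

theorem EvenType.geo : Geo.IsNondegenerateQuadraticForm (⇑q) := geo_of q hE.nondeg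

theorem EvenType.p_one : P 1 := by
  have h := hE.p_scal 1
  rwa [map_one] at h

theorem EvenType.exists_value_one : ∃ v, q v = 1 :=
  Cfsg.Agent.Orth.exists_value hE.nondeg (by rw [Module.finrank_fintype_fun_eq_card]; have := hE.seven; omega) 1

/-- The parity character. -/
theorem EvenType.exists_par : ∃ par : GOg →* Multiplicative (ZMod 2), ∀ g : GOg, par g = 1 ↔ P (g : GL ι F) := by
  classical
  refine ⟨MonoidHom.mk' (fun g => if P (g : GL ι F) then 1 else Multiplicative.ofAdd (1 : ZMod 2)) fun g h => ?_, fun g => ?_⟩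
  · have := hE.p_mul g h (pair_go g) (pair_go h)
    rw [Subgroup.coe_mul]
    by_cases hg : P (g : GL ι F) <;> by_cases hh : P (h : GL ι F) <;> simp [hg, hh, this]
    decide
  · show (if P (g : GL ι F) then (1 : Multiplicative (ZMod 2)) else Multiplicative.ofAdd (1 : ZMod 2)) = 1 ↔ _
    by_cases hg : P (g : GL ι F) <;> simp [hg]

/-- The multiplier. -/
theorem EvenType.exists_mu : ∃ μ : GOg →* Fˣ,
    ∀ (g : GOg) v, q (mv (g : GL ι F) v) = (μ g : F) * q v := by
  obtain ⟨v₀, hv₀⟩ := hE.exists_value_one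
  choose μ hμ using fun g : GOg => g.2
  refine ⟨MonoidHom.mk' μ fun g h => ?_, hμ⟩
  refine Units.ext ?_
  have e := hμ (g * h) v₀
  rw [Subgroup.coe_mul, Units.val_mul, ← Matrix.mulVec_mulVec, hμ, hμ, hv₀, mul_one, mul_one] at e
  rw [Units.val_mul, ← e]

/-- The square class of the multiplier and the parity. -/
theorem EvenType.exists_out : ∃ f : GOg →* Multiplicative (ZMod 2 × ZMod 2), Function.Surjective f ∧
    (∀ g : GOg, f g = 1 ↔ ((∃ a : Fˣ, ∀ v, q (mv (g : GL ι F) v) = (a : F) * a * q v) ∧ P (g : GL ι F))) ∧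
    (∀ g : GOg, (Multiplicative.toAdd (f g)).2 = 0 ↔ P (g : GL ι F)) ∧
    (∀ g : GOg, (Multiplicative.toAdd (f g)).1 = 0 ↔ ∃ a : Fˣ, ∀ v, q (mv (g : GL ι F) v) = (a : F) * a * q v) := by
  classical
  obtain ⟨μ, hμ⟩ := hE.exists_mu
  obtain ⟨par, hpar⟩ := hE.exists_par
  obtain ⟨v₀, hv₀⟩ := hE.exists_value_one
  have hcard : Nat.card (SqCls F) = 2 := Cfsg.Agent.Orth.card_sqCls_le.2.1 hE.two
  haveI : Fact (Nat.Prime 2) := ⟨Nat.prime_two⟩
  let s : SqCls F ≃* Multiplicative (ZMod 2) := mulEquivOfPrimeCardEq hcard (by simp)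
  let f₁ : GOg →* Multiplicative (ZMod 2) := s.toMonoidHom.comp ((QuotientGroup.mk' _).comp μ)
  have h1 : ∀ g : GOg, f₁ g = 1 ↔ ∃ a : Fˣ, ∀ v, q (mv (g : GL ι F) v) = (a : F) * a * q v := fun g => by
    show s (QuotientGroup.mk' _ (μ g)) = 1 ↔ _
    rw [EmbeddingLike.map_eq_one_iff, QuotientGroup.mk'_apply, QuotientGroup.eq_one_iff]
    constructor
    · rintro ⟨a, ha⟩
      exact ⟨a, fun v => by rw [hμ, ← ha, powMonoidHom_apply, Units.val_pow_eq_pow_val, _root_.sq]⟩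
    · rintro ⟨a, ha⟩
      refine ⟨a, Units.ext ?_⟩
      have := ha v₀
      rw [hμ, hv₀, mul_one, mul_one] at this
      rw [powMonoidHom_apply, Units.val_pow_eq_pow_val, this, _root_.sq]
  let f : GOg →* Multiplicative (ZMod 2 × ZMod 2) :=
    MonoidHom.mk' (fun g => Multiplicative.ofAdd (Multiplicative.toAdd (f₁ g), Multiplicative.toAdd (par g)))
      fun g h => by
        simp only [map_mul, toAdd_mul]
        rfl
  have hfst : ∀ g, (Multiplicative.toAdd (f g)).1 = Multiplicative.toAdd (f₁ g) := fun g => rfl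
  have hsnd : ∀ g, (Multiplicative.toAdd (f g)).2 = Multiplicative.toAdd (par g) := fun g => rfl
  refine ⟨f, ?_, fun g => ?_, fun g => ?_, fun g => ?_⟩
  · rintro ⟨x, y⟩
    obtain ⟨c, hc⟩ := ((QuotientGroup.mk_surjective).comp Function.surjective_id) (s.symm (Multiplicative.ofAdd x))
    obtain ⟨g₀, hg₀, hP₀⟩ := hE.p_mult c
    obtain ⟨w, hw⟩ := hE.exists_value_one
    obtain ⟨r, hr, -⟩ := Cfsg.Agent.Orth.exists_reflection q (v := w) (by rw [hw]; exact one_ne_zero)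
    have hrP : ¬ P (r : GL ι F) := hE.p_refl w _ (by rw [hw]; exact one_ne_zero) hr
    let G₀ : GOg := ⟨g₀, c, hg₀⟩
    let R : GOg := ⟨r, 1, fun v => by rw [Units.val_one, one_mul]; exact mem_isometry.1 r.2 v⟩
    have hR1 : f₁ R = 1 := (h1 R).2 ⟨1, fun v => by simpa using mem_isometry.1 r.2 v⟩
    have hG1 : f₁ G₀ = Multiplicative.ofAdd x := by
      show s (QuotientGroup.mk' _ (μ G₀)) = _
      have hμ0 : μ G₀ = c := Units.ext (by
        have := hμ G₀ v₀
        rw [show q (mv (G₀ : GL ι F) v₀) = (c : F) * q v₀ from hg₀ v₀, hv₀, mul_one, mul_one] at this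
        exact this.symm)
      rw [hμ0, QuotientGroup.mk'_apply, show (QuotientGroup.mk c : SqCls F) = s.symm (Multiplicative.ofAdd x) from hc]
      exact s.apply_symm_apply _
    have hGp : par G₀ = 1 := (hpar _).2 hP₀
    have hRp : Multiplicative.toAdd (par R) = 1 := by
      rcases zmod2_cases (Multiplicative.toAdd (par R)) with e | e
      · exact absurd ((hpar R).1 (Multiplicative.toAdd.injective e)) hrP
      · exact e
    rcases zmod2_cases y with rfl | rfl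
    · exact ⟨G₀, Multiplicative.toAdd.injective (Prod.ext (by rw [hfst, hG1]; rfl) (by rw [hsnd, hGp]; rfl))⟩
    · refine ⟨G₀ * R, Multiplicative.toAdd.injective (Prod.ext ?_ ?_)⟩
      · rw [hfst, map_mul, hR1, mul_one, hG1]; rfl
      · rw [hsnd, map_mul, hGp, one_mul, hRp]; rfl
  · rw [← h1, ← hpar, ← toAdd_eq_zero, Prod.ext_iff, hfst, hsnd]
    exact and_congr toAdd_eq_zero toAdd_eq_zero
  · rw [hsnd, toAdd_eq_zero]; exact hpar g
  · rw [hfst, toAdd_eq_zero]; exact h1 g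

theorem EvenType.pgo_range : Cfsg.pgoAut F (⇑q) = (conjGO (Q := ⇑q)).range := by
  refine le_antisymm ?_ ?_
  · rw [Cfsg.pgoAut, Cfsg.autSubgroupOf, Subgroup.closure_le]
    rintro β ⟨g, hg, hβ⟩
    exact ⟨⟨g, hg⟩, (semi_eq_of_induced _ hβ).symm⟩
  · rintro _ ⟨g, rfl⟩
    exact Subgroup.subset_closure ⟨g, g.2, induced_semi _⟩

/-- The spinor character, with the parity. -/
theorem EvenType.exists_spin : ∃ χ : Cfsg.isometryGroup F (⇑q) →* SpinVal F,
    χ.ker = Cfsg.Omega F (⇑q) ∧ Function.Surjective χ ∧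
    (∀ (g : Cfsg.isometryGroup F (⇑q)) (v : ι → F), q v ≠ 0 →
      ((g : GL ι F) : Matrix ι ι F) = Cfsg.reflectionMatrix (⇑q) v → χ g = reflVal q v) ∧
    (∀ g : Cfsg.isometryGroup F (⇑q), (χ g).1 = 1 ↔ P (g : GL ι F)) ∧
    (∀ g : Cfsg.isometryGroup F (⇑q), (χ g).1 = 1 ↔ (g : GL ι F) ∈ Cfsg.specialIsometryGL F (⇑q)) := by
  have h7 := hE.seven
  have hq : Fintype.card F ≠ 2 ∨ Fintype.card ι ≠ 4 := Or.inr (by omega)
  obtain ⟨χ, hker, hsurj, hχ⟩ := Cfsg.Agent.Orth.exists_matrix_spinor q hE.nondeg (by omega) hq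
  have hdet := Cfsg.Agent.Orth.det_eq_sgn q hE.nondeg hq χ hχ
  refine ⟨χ, hker, hsurj, hχ, fun g => ?_, fun g => ?_⟩
  · have hg : g ∈ Subgroup.closure {g : ↥(Cfsg.isometryGroup F (⇑q)) | ∃ v : ι → F, q v ≠ 0 ∧
        ((g : GL ι F) : Matrix ι ι F) = Cfsg.reflectionMatrix (⇑q) v} := by
      rw [Cfsg.Agent.Orth.closure_reflections_eq_top q hE.nondeg hq]; exact Subgroup.mem_top g
    induction hg using Subgroup.closure_induction with
    | mem x hx =>
      obtain ⟨v, hv, hxv⟩ := hx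
      refine iff_of_false ?_ (hE.p_refl v _ hv hxv)
      rw [hχ x v hv hxv]
      simp [reflVal]
    | one => simpa using hE.p_one
    | mul x y _ _ hx hy =>
      have hx1 : (χ x).1 = 1 ↔ P (x : GL ι F) := hx
      have hy1 : (χ y).1 = 1 ↔ P (y : GL ι F) := hy
      rw [Subgroup.coe_mul, hE.p_mul _ _ (isPair_iso x.2) (isPair_iso y.2), ← hx1, ← hy1, map_mul, Prod.fst_mul]
      generalize (χ x).1 = a
      generalize (χ y).1 = b
      revert a b
      decide
    | inv x _ hx =>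
      have h := hE.p_mul (x : GL ι F) ((x⁻¹ : Cfsg.isometryGroup F (⇑q)) : GL ι F) (isPair_iso x.2)
        (isPair_iso (x⁻¹).2)
      rw [show (x : GL ι F) * ((x⁻¹ : Cfsg.isometryGroup F (⇑q)) : GL ι F) = 1 from mul_inv_cancel _,
        iff_true_left hE.p_one] at h
      have hx1 : (χ x).1 = 1 ↔ P (x : GL ι F) := hx
      rw [map_inv, Prod.fst_inv, inv_eq_one, hx1]
      tauto
  · rw [Cfsg.specialIsometryGL, Subgroup.mem_inf, and_iff_right g.2]
    show _ ↔ Matrix.GeneralLinearGroup.det (g : GL ι F) = 1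
    rw [Units.ext_iff]
    show _ ↔ ((g : GL ι F) : Matrix ι ι F).det = 1
    rw [hdet]
    rcases zmod2_cases (Multiplicative.toAdd (χ g).1) with he | he
    · rw [he, sgn, if_pos rfl]
      exact iff_of_true (toAdd_eq_zero.1 he) rfl
    · rw [he, sgn, if_neg one_ne_zero]
      exact iff_of_false (fun h => by rw [h] at he; exact zero_ne_one he)
        fun h => hE.two (by linear_combination -h)

/-- The image of the special orthogonal group. -/
theorem EvenType.conj_mem_pso (g : GOg) : conjGO g ∈ Cfsg.psoAut F (⇑q) ↔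
    ((∃ a : Fˣ, ∀ v, q (mv (g : GL ι F) v) = (a : F) * a * q v) ∧ P (g : GL ι F)) := by
  obtain ⟨χ, -, -, -, hPar, hSO⟩ := hE.exists_spin
  constructor
  · intro h
    have key : ∀ β ∈ Cfsg.psoAut F (⇑q), ∃ (k : Cfsg.isometryGroup F (⇑q)), P (k : GL ι F) ∧
        β = semi (k : GL ι F) 1 (isPair_iso k.2) := by
      intro β hβ
      induction hβ using Subgroup.closure_induction with
      | mem x hx =>
        obtain ⟨k, hk, hi⟩ := hx
        exact ⟨⟨k, hk.1⟩, (hPar _).1 ((hSO _).2 hk), semi_eq_of_induced _ hi⟩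
      | one => exact ⟨1, hE.p_one, (semi_one' _).symm⟩
      | mul x y _ _ hx hy =>
        obtain ⟨k, hk, rfl⟩ := hx
        obtain ⟨l, hl, rfl⟩ := hy
        exact ⟨k * l, (hE.p_mul _ _ (isPair_iso k.2) (isPair_iso l.2)).2 (iff_of_true hk hl), semi_mul_one _ _⟩
      | inv x _ hx =>
        obtain ⟨k, hk, rfl⟩ := hx
        refine ⟨k⁻¹, ?_, semi_inv_one _⟩
        have h := hE.p_mul (k : GL ι F) ((k⁻¹ : Cfsg.isometryGroup F (⇑q)) : GL ι F) (isPair_iso k.2)
          (isPair_iso (k⁻¹).2)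
        rw [show (k : GL ι F) * ((k⁻¹ : Cfsg.isometryGroup F (⇑q)) : GL ι F) = 1 from mul_inv_cancel _,
          iff_true_left hE.p_one, iff_true_left hk] at h
        exact h
    obtain ⟨k, hk, e⟩ := key _ h
    obtain ⟨-, a, ha⟩ := semi_eq_semi hE.geo hE.seven _ _ e
    constructor
    · refine ⟨a, fun v => ?_⟩
      rw [ha, mv_mul, scal_mv, QuadraticMap.map_smul, smul_eq_mul, mem_isometry.1 k.2]
    · rw [ha, hE.p_mul _ _ (isPair_scal a) (isPair_iso k.2)]
      exact iff_of_true (hE.p_scal a) hk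
  · rintro ⟨⟨a, ha⟩, hP⟩
    have hiso : scal a⁻¹ * (g : GL ι F) ∈ Cfsg.isometryGroup F (⇑q) := mem_isometry.2 fun z => by
      rw [mv_mul, scal_mv, QuadraticMap.map_smul, smul_eq_mul, ha, Units.val_inv_eq_inv_val]
      field_simp
    have hP' : P (scal a⁻¹ * (g : GL ι F)) := (hE.p_mul _ _ (isPair_scal a⁻¹) (pair_go g)).2
      (iff_of_true (hE.p_scal a⁻¹) hP)
    have e : conjGO g = semi (scal a⁻¹ * (g : GL ι F)) 1 (isPair_iso hiso) := by
      rw [← semi_mul_one (isPair_scal a⁻¹) (pair_go g), semi_scal, one_mul]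
      rfl
    rw [e]
    exact Subgroup.subset_closure
      ⟨_, (hSO ⟨_, hiso⟩).1 ((hPar ⟨_, hiso⟩).2 hP'), induced_semi _⟩

/-- `G̃ / PSO` is elementary abelian of order four. -/
theorem EvenType.pgo_pso : ∃ φ : ↥(Cfsg.pgoAut F (⇑q)) →* Multiplicative (ZMod 2 × ZMod 2),
    Function.Surjective φ ∧ φ.ker = (Cfsg.psoAut F (⇑q)).subgroupOf (Cfsg.pgoAut F (⇑q)) := by
  obtain ⟨f, hf, h1, -, -⟩ := hE.exists_out
  obtain ⟨φ, h2, h3, -⟩ := exists_quot conjGO f hf (Cfsg.psoAut F (⇑q))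
    fun g => (h1 g).trans (hE.conj_mem_pso g).symm
  rw [hE.pgo_range]
  exact ⟨φ, h2, h3⟩

theorem EvenType.inn_le_pso : Cfsg.Inn POm ≤ Cfsg.psoAut F (⇑q) := by
  obtain ⟨χ, hker, -, -, -, hSO⟩ := hE.exists_spin
  rintro _ ⟨x, rfl⟩
  obtain ⟨A, rfl, -⟩ := inn_eq x
  rw [inner_eq_semi]
  refine Subgroup.subset_closure ⟨gl A, (hSO A.1).1 ?_, induced_semi _⟩
  rw [show χ A.1 = 1 from hker.symm.le A.2]
  rfl

/-- The inner automorphisms among the isometries. -/
theorem EvenType.iso_mem_inn {χ : Cfsg.isometryGroup F (⇑q) →* SpinVal F}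
    (hker : χ.ker = Cfsg.Omega F (⇑q)) (k : Cfsg.isometryGroup F (⇑q)) :
    semi (k : GL ι F) 1 (isPair_iso k.2) ∈ Cfsg.Inn POm ↔
      ∃ n : Cfsg.isometryGroup F (⇑q), ((n : GL ι F) = 1 ∨ (n : GL ι F) = scal (-1)) ∧ χ k = χ n := by
  constructor
  · rintro ⟨x, hx⟩
    obtain ⟨A, rfl, -⟩ := inn_eq x
    rw [inner_eq_semi] at hx
    obtain ⟨-, a, ha⟩ := semi_eq_semi hE.geo hE.seven _ _ hx.symm
    obtain ⟨n, hn⟩ : ∃ n : Cfsg.isometryGroup F (⇑q), n = k * (A.1)⁻¹ := ⟨_, rfl⟩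
    refine ⟨n, ?_, ?_⟩
    · have hn' : (n : GL ι F) = scal a := by
        rw [hn, Subgroup.coe_mul, Subgroup.coe_inv, ha, mul_inv_cancel_right]
      obtain ⟨v, hv⟩ := hE.exists_value_one
      have e := mem_isometry.1 n.2 v
      rw [hn', scal_mv, QuadraticMap.map_smul, smul_eq_mul, hv, mul_one] at e
      rcases mul_self_eq_one_iff.1 e with e1 | e1
      · exact Or.inl (by rw [hn', show a = 1 from Units.ext e1]; exact map_one _)
      · exact Or.inr (by rw [hn', show a = -1 from Units.ext (by simpa using e1)])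
    · rw [hn, map_mul, map_inv, show χ A.1 = 1 from hker.symm.le A.2, inv_one, mul_one]
  · rintro ⟨n, hn, e⟩
    have hA : n⁻¹ * k ∈ Cfsg.Omega F (⇑q) := by
      rw [← hker, MonoidHom.mem_ker, map_mul, map_inv, e, inv_mul_cancel]
    refine ⟨QuotientGroup.mk' _ ⟨_, hA⟩, ?_⟩
    rw [inner_eq_semi]
    rcases hn with hn | hn
    · exact semi_congr _ _ (by show (n : GL ι F)⁻¹ * k = k; rw [hn, inv_one, one_mul]) rfl
    · have hp : Cfsg.IsSemisimilarityPair (⇑q) (scal (-1) : GL ι F) 1 := hn ▸ isPair_iso n.2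
      have e2 : semi (n : GL ι F) 1 (isPair_iso n.2) = 1 :=
        (semi_congr _ hp hn rfl).trans (semi_scal _ _)
      rw [← one_mul (semi (gl ⟨n⁻¹ * k, hA⟩) 1 _), ← e2, semi_mul_one]
      exact semi_congr _ _ (by show (n : GL ι F) * ((n : GL ι F)⁻¹ * k) = k; rw [mul_inv_cancel_left]) rfl

/-- When `-1 ∉ Ω` the image of the special orthogonal group is the inner automorphism group. -/
theorem EvenType.pso_eq_inn
    (hneg : ¬ ∃ g : Cfsg.isometryGroup F (⇑q), g ∈ Cfsg.Omega F (⇑q) ∧ ((g : GL ι F) : Matrix ι ι F) = -1) :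
    Cfsg.psoAut F (⇑q) = Cfsg.Inn POm := by
  refine le_antisymm ?_ hE.inn_le_pso
  obtain ⟨χ, hker, -, -, -, hSO⟩ := hE.exists_spin
  rw [Cfsg.psoAut, Cfsg.autSubgroupOf, Subgroup.closure_le]
  rintro β ⟨g, hg, hβ⟩
  obtain ⟨k, rfl⟩ : ∃ k : Cfsg.isometryGroup F (⇑q), (k : GL ι F) = g := ⟨⟨g, hg.1⟩, rfl⟩
  rw [semi_eq_of_induced (isPair_iso k.2) hβ]
  refine (hE.iso_mem_inn hker k).2 ?_
  by_cases h1 : χ k = 1
  · exact ⟨1, Or.inl rfl, by rw [h1, map_one]⟩
  have hm1 : (scal (-1) : GL ι F) ∈ Cfsg.isometryGroup F (⇑q) := mem_isometry.2 fun z => by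
    rw [scal_mv, QuadraticMap.map_smul]; simp
  refine ⟨⟨_, hm1⟩, Or.inr rfl, ?_⟩
  have hn : χ ⟨_, hm1⟩ ≠ 1 := fun e => hneg ⟨⟨_, hm1⟩, hker ▸ MonoidHom.mem_ker.2 e, by
    ext i j
    rcases eq_or_ne i j with rfl | hij <;> simp [scal, Matrix.scalar_apply, *]⟩
  have hsn : (χ ⟨_, hm1⟩).1 = 1 := (hSO _).2 ⟨hm1, by
    show Matrix.GeneralLinearGroup.det (scal (-1) : GL ι F) = 1
    rw [det_scal, hE.even.neg_one_pow]⟩
  have hk1 : (χ k).1 = 1 := (hSO k).2 hg
  refine Prod.ext (hk1.trans hsn.symm) (eq_of_card_two (Cfsg.Agent.Orth.card_sqCls_le.2.1 hE.two) ?_)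
  exact iff_of_false (fun e => h1 (Prod.ext hk1 e)) fun e => hn (Prod.ext hsn e)

/-- When `-1 ∈ Ω` the inner automorphisms among the special isometries are given by the spinor norm. -/
theorem EvenType.mem_inn_of_neg
    (hneg : ∃ g : Cfsg.isometryGroup F (⇑q), g ∈ Cfsg.Omega F (⇑q) ∧ ((g : GL ι F) : Matrix ι ι F) = -1)
    {χ : Cfsg.isometryGroup F (⇑q) →* SpinVal F} (hker : χ.ker = Cfsg.Omega F (⇑q))
    (k : Cfsg.isometryGroup F (⇑q)) :
    semi (k : GL ι F) 1 (isPair_iso k.2) ∈ Cfsg.Inn POm ↔ χ k = 1 := by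
  rw [hE.iso_mem_inn hker]
  constructor
  · rintro ⟨n, hn, e⟩
    rw [e]
    rcases hn with hn | hn
    · rw [show n = 1 from Subtype.ext hn, map_one]
    · obtain ⟨g, hg, hgm⟩ := hneg
      rw [show n = g from Subtype.ext (hn.trans (Units.ext (by
        rw [hgm]; ext i j; rcases eq_or_ne i j with rfl | hij <;> simp [scal, Matrix.scalar_apply, *])))]
      exact hker.symm.le hg
  · intro e
    exact ⟨1, Or.inl rfl, by rw [e, map_one]⟩

/-- The index of the inner automorphism group in the image of the special orthogonal group. -/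
theorem EvenType.relIndex_pso :
    ((∃ g : Cfsg.isometryGroup F (⇑q), g ∈ Cfsg.Omega F (⇑q) ∧ ((g : GL ι F) : Matrix ι ι F) = -1) →
      (Cfsg.Inn POm).relIndex (Cfsg.psoAut F (⇑q)) = 2) ∧
    ((¬ ∃ g : Cfsg.isometryGroup F (⇑q), g ∈ Cfsg.Omega F (⇑q) ∧ ((g : GL ι F) : Matrix ι ι F) = -1) →
      (Cfsg.Inn POm).relIndex (Cfsg.psoAut F (⇑q)) = 1) := by
  refine ⟨fun hneg => ?_, fun hneg => by rw [hE.pso_eq_inn hneg, Subgroup.relIndex_self]⟩
  obtain ⟨χ, hker, hsurj, -, -, hSO⟩ := hE.exists_spin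
  let SO := Cfsg.specialIsometryGL F (⇑q)
  let incl : SO →* Cfsg.isometryGroup F (⇑q) := Subgroup.inclusion inf_le_left
  have hrange : Cfsg.psoAut F (⇑q) = (conjHom SO inf_le_left).range := by
    refine le_antisymm ?_ ?_
    · rw [Cfsg.psoAut, Cfsg.autSubgroupOf, Subgroup.closure_le]
      rintro β ⟨g, hg, hβ⟩
      exact ⟨⟨g, hg⟩, (semi_eq_of_induced _ hβ).symm⟩
    · rintro _ ⟨g, rfl⟩
      exact Subgroup.subset_closure ⟨g, g.2, induced_semi _⟩
  have hs : Function.Surjective ((MonoidHom.snd _ _).comp (χ.comp incl)) := fun y => by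
    obtain ⟨k, hk⟩ := hsurj (1, y)
    exact ⟨⟨(k : GL ι F), (hSO k).1 (by rw [hk])⟩, congrArg Prod.snd hk⟩
  obtain ⟨φ, hφs, hφk, -⟩ := exists_quot (conjHom SO inf_le_left) _ hs (Cfsg.Inn POm) fun g => by
    show (χ (incl g)).2 = 1 ↔ _
    rw [show conjHom SO inf_le_left g = semi ((incl g : Cfsg.isometryGroup F (⇑q)) : GL ι F) 1
      (isPair_iso (incl g).2) from rfl, hE.mem_inn_of_neg hneg hker]
    exact ⟨fun e => Prod.ext ((hSO _).2 g.2) e, fun e => by rw [e]; rfl⟩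
  rw [hrange, Subgroup.relIndex, ← hφk, Subgroup.index_ker, MonoidHom.range_eq_top.2 hφs, Subgroup.card_top]
  exact Cfsg.Agent.Orth.card_sqCls_le.2.1 hE.two

end Cfsg.Agent.AutPOmega
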