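import Cfsg.Agent.Lib.AutPOmega.EvenQuot

/-!
The similarity group and the inner-diagonal group modulo the inner automorphisms.
-/

set_option autoImplicit false

namespace Cfsg.Agent.AutPOmega

open Matrix QuadraticMap
open Cfsg.Agent.Orth (SpinVal SqCls sqc reflVal sgn)
open Cfsg.Agent.Transvec (mv mv_mul mv_inj mv_inv_mv mv_mv_inv ext_mv)
open Cfsg.Agent.Transvec.Orth (mem_isometry)

/-- A group of order four with a non-trivial square is cyclic. -/
theorem equiv_zmod_four {G : Type*} [Group G] (h : Nat.card G = 4) {a : G} (ha : a * a ≠ 1) :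
    Nonempty (G ≃* Multiplicative (ZMod 4)) := by
  haveI : Finite G := Nat.finite_of_card_ne_zero (by omega)
  have hd := orderOf_dvd_natCard a
  rw [h] at hd
  have ho : orderOf a = 4 := by
    have h4 : orderOf a ∈ ({1, 2, 4} : Finset ℕ) := by
      have : orderOf a ∈ Nat.divisors 4 := Nat.mem_divisors.2 ⟨hd, by norm_num⟩
      simpa [show Nat.divisors 4 = {1, 2, 4} by decide] using this
    simp only [Finset.mem_insert, Finset.mem_singleton] at h4
    rcases h4 with e | e | e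
    · exact absurd (by rw [orderOf_eq_one_iff.1 e, one_mul]) ha
    · exact absurd (by rw [← pow_two, ← e, pow_orderOf_eq_one]) ha
    · exact e
  have hc : IsCyclic G := isCyclic_of_orderOf_eq_card a (by rw [ho, h])
  exact ⟨((zmodCyclicMulEquiv hc).symm).trans (by rw [h])⟩

/-- A group of order four with trivial squares is elementary abelian. -/
theorem equiv_klein {G : Type*} [Group G] (h : Nat.card G = 4) (hsq : ∀ x : G, x * x = 1) :
    Nonempty (G ≃* Multiplicative (ZMod 2 × ZMod 2)) := by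
  haveI : IsKleinFour G := ⟨h, by
    refine Nat.dvd_antisymm (Monoid.exponent_dvd_of_forall_pow_eq_one fun x => by rw [pow_two, hsq]) ?_
    rcases (Nat.prime_two.eq_one_or_self_of_dvd _ (Monoid.exponent_dvd_of_forall_pow_eq_one
      fun x : G => by rw [pow_two, hsq])) with e | e
    · exfalso
      haveI : Subsingleton G := Monoid.exp_eq_one_iff.1 e
      rw [Nat.card_of_subsingleton (1 : G)] at h
      omega
    · rw [e]⟩
  haveI : IsKleinFour (Multiplicative (ZMod 2 × ZMod 2)) := inferInstance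
  exact IsKleinFour.nonempty_mulEquiv

variable {ι : Type} [Fintype ι] [DecidableEq ι] {F : Type*} [Field F]
  [Fintype F] {q : QuadraticForm F (ι → F)} {P : GL ι F → Prop} (hE : EvenType q P)
include hE

set_option quotPrecheck false in
local notation "POm" => Cfsg.POmega F (⇑q)
set_option quotPrecheck false in
local notation "GOg" => Cfsg.Geo.quadSimilarityGroup (F := F) (⇑q)
set_option quotPrecheck false in
local notation "NegOmega" => (∃ g : Cfsg.isometryGroup F (⇑q),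
  g ∈ Cfsg.Omega F (⇑q) ∧ ((g : GL ι F) : Matrix ι ι F) = -1)

theorem EvenType.inndiag_quot_one (hneg : ¬ NegOmega) {I : Subgroup (MulAut POm)}
    (hI : ∀ β, β ∈ I ↔ ∃ (g : GL ι F) (hg : Cfsg.IsSemisimilarityPair (⇑q) g 1), P g ∧ β = semi g 1 hg) :
    ∃ φ : ↥I →* Multiplicative (ZMod 2), Function.Surjective φ ∧ φ.ker = (Cfsg.Inn POm).subgroupOf I := by
  obtain ⟨f, hf, h1, h2, -⟩ := hE.exists_out
  let G₁ : Subgroup GOg :=
    ((AddMonoidHom.toMultiplicative (AddMonoidHom.snd (ZMod 2) (ZMod 2))).comp f).ker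
  have hG₁ : ∀ g : GOg, g ∈ G₁ ↔ P (g : GL ι F) := fun g => by
    rw [← h2]
    exact Iff.rfl
  have hr : (conjGO.comp G₁.subtype).range = I := by
    ext β
    rw [hI, MonoidHom.mem_range]
    constructor
    · rintro ⟨g, rfl⟩
      exact ⟨(g.1 : GL ι F), pair_go g.1, (hG₁ g.1).1 g.2, rfl⟩
    · rintro ⟨g, hg, hP, rfl⟩
      exact ⟨⟨⟨g, go_of_pair hg⟩, (hG₁ _).2 hP⟩, rfl⟩
  let f₁ : G₁ →* Multiplicative (ZMod 2) :=
    ((AddMonoidHom.toMultiplicative (AddMonoidHom.fst (ZMod 2) (ZMod 2))).comp f).comp G₁.subtype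
  obtain ⟨φ, hs, hk, -⟩ := exists_quot (conjGO.comp G₁.subtype) f₁ (fun y => by
    obtain ⟨g, hg⟩ := hf (Multiplicative.ofAdd (Multiplicative.toAdd y, 0))
    exact ⟨⟨g, (hG₁ g).2 ((h2 g).1 (by rw [hg]; rfl))⟩, by show Multiplicative.ofAdd (Multiplicative.toAdd (f g)).1 = y; rw [hg]; rfl⟩)
    (Cfsg.Inn POm) fun g => by
      show Multiplicative.ofAdd (Multiplicative.toAdd (f g.1)).1 = 1 ↔ conjGO g.1 ∈ _
      rw [← hE.pso_eq_inn hneg, hE.conj_mem_pso, ← h1 g.1, ofAdd_eq_one, ← toAdd_eq_zero (α := ZMod 2 × ZMod 2),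
        Prod.ext_iff, Prod.fst_zero, Prod.snd_zero]
      exact ⟨fun e => ⟨e, (h2 _).2 ((hG₁ g.1).1 g.2)⟩, fun e => e.1⟩
  rw [← hr]
  exact ⟨φ, hs, hk⟩

theorem EvenType.pgo_quot_one (hneg : ¬ NegOmega) :
    ∃ φ : ↥(Cfsg.pgoAut F (⇑q)) →* Multiplicative (ZMod 2 × ZMod 2), Function.Surjective φ ∧
      φ.ker = (Cfsg.Inn POm).subgroupOf (Cfsg.pgoAut F (⇑q)) := by
  rw [← hE.pso_eq_inn hneg]
  exact hE.pgo_pso

omit hE

/-- An extension of a four-group by a group of order two, read through elements of a covering group. -/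
theorem eight_structure {G : Type*} [Group G] (M : Subgroup G) [M.Normal]
    (f₀ : G →* Multiplicative (ZMod 2 × ZMod 2)) (hf : Function.Surjective f₀) {A R Z : G}
    (hM : ∀ x ∈ M, f₀ x = 1) (hA : f₀ A = Multiplicative.ofAdd (1, 0)) (hR : f₀ R = Multiplicative.ofAdd (0, 1))
    (hR2 : R * R ∈ M) (hZ : Z ∉ M) (hZ2 : Z * Z ∈ M) (hcomm : R * A * R⁻¹ * A⁻¹ = Z)
    (hker : ∀ y, f₀ y = 1 → y ∈ M ∨ Z⁻¹ * y ∈ M) :
    Nonempty (G ⧸ M ≃* DihedralGroup 4) ∧
    ∀ (H : Subgroup G), (∀ x, x ∈ H ↔ (Multiplicative.toAdd (f₀ x)).2 = 0) →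
      (A * A ∉ M → ∃ ψ : ↥H →* Multiplicative (ZMod 4), Function.Surjective ψ ∧ ψ.ker = M.subgroupOf H) ∧
      (A * A ∈ M → ∃ ψ : ↥H →* Multiplicative (ZMod 2 × ZMod 2),
        Function.Surjective ψ ∧ ψ.ker = M.subgroupOf H) := by
  classical
  obtain ⟨cls, hclsdef⟩ : ∃ cls : G →* G ⧸ M, cls = QuotientGroup.mk' M := ⟨_, rfl⟩
  have hm : ∀ x, cls x = 1 ↔ x ∈ M := fun x => by rw [hclsdef]; exact QuotientGroup.eq_one_iff x
  have hsurj : Function.Surjective cls := hclsdef ▸ QuotientGroup.mk'_surjective M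
  obtain ⟨f, hfc⟩ : ∃ f : G ⧸ M →* Multiplicative (ZMod 2 × ZMod 2), ∀ x, f (cls x) = f₀ x :=
    ⟨QuotientGroup.lift M f₀ fun x hx => hM x hx, fun x => by rw [hclsdef]; exact QuotientGroup.lift_mk' M _ x⟩
  have kerf : ∀ x, f x = 1 → x = 1 ∨ x = cls Z := fun x hx => by
    obtain ⟨y, rfl⟩ := hsurj x
    rcases hker y (by rw [← hfc, hx]) with e | e
    · exact Or.inl ((hm y).2 e)
    · refine Or.inr ?_
      rw [← hm, map_mul, map_inv, inv_mul_eq_one] at e
      exact e.symm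
  have hz1 : cls Z ≠ 1 := fun e => hZ ((hm Z).1 e)
  have hz2 : cls Z * cls Z = 1 := by rw [← map_mul, hm]; exact hZ2
  have hr2 : cls R * cls R = 1 := by rw [← map_mul, hm]; exact hR2
  have hri : (cls R)⁻¹ = cls R := inv_eq_of_mul_eq_one_right hr2
  have hfz : f (cls Z) = 1 := by
    rw [hfc, ← hcomm, map_mul, map_mul, map_mul, map_inv, map_inv, hA, hR]; decide
  have hzc : cls R * cls A * (cls R)⁻¹ * (cls A)⁻¹ = cls Z := by
    rw [← hcomm, map_mul, map_mul, map_mul, map_inv, map_inv]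
  have hfs : Function.Surjective f := fun y => by
    obtain ⟨x, rfl⟩ := hf y
    exact ⟨cls x, hfc x⟩
  have hkc : Nat.card f.ker = 2 := by
    rw [Nat.card_eq_two_iff]
    refine ⟨1, ⟨cls Z, hfz⟩, fun e => hz1 (congrArg Subtype.val e).symm, Set.eq_univ_iff_forall.2 fun x => ?_⟩
    rcases kerf x.1 x.2 with e | e
    · exact Or.inl (Subtype.ext e)
    · exact Or.inr (Subtype.ext e)
  have hcard : Nat.card (G ⧸ M) = 8 := by
    rw [← f.ker.card_mul_index, hkc, Subgroup.index_ker, MonoidHom.range_eq_top.2 hfs, Subgroup.card_top]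
    simp
  refine ⟨?_, fun H hH => ?_⟩
  · obtain ⟨a, ha2, hRa, hfa⟩ : ∃ a, a * a = cls Z ∧ cls R * a * (cls R)⁻¹ = a⁻¹ ∧
        (Multiplicative.toAdd (f a)).1 = 1 := by
      rcases kerf (cls A * cls A) (by rw [map_mul, hfc, hA]; decide) with e | e
      · have hAi : (cls A)⁻¹ = cls A := inv_eq_of_mul_eq_one_right e
        refine ⟨cls R * cls A, ?_, ?_, by rw [map_mul, hfc, hfc, hR, hA]; decide⟩
        · rw [← hzc, hri, hAi, ← mul_assoc]
        · rw [_root_.mul_inv_rev, hri, hAi, ← mul_assoc, hr2, one_mul]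
      · refine ⟨cls A, e, ?_, by rw [hfc, hA]; rfl⟩
        have h3 : cls R * cls A * (cls R)⁻¹ = cls Z * cls A := by rw [← hzc, inv_mul_cancel_right]
        rw [h3, eq_inv_iff_mul_eq_one, mul_assoc, e, hz2]
    have ho : orderOf a = 4 := orderOf_eq_prime_pow (p := 2) (n := 1)
      (by rw [pow_one, pow_two, ha2]; exact hz1)
      (by rw [show 2 ^ (1 + 1) = 2 + 2 from rfl, pow_add, pow_two, ha2, hz2])
    have hfa2 : f a * f a = 1 := by rw [← map_mul, ha2, hfz]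
    have hmem : cls R ∉ Subgroup.zpowers a := by
      rintro ⟨k, hk⟩
      change a ^ k = cls R at hk
      rcases Int.even_or_odd k with ⟨j, rfl⟩ | ⟨j, rfl⟩
      · have := congrArg f hk
        rw [_root_.zpow_add, ← (Commute.refl a).mul_zpow, map_zpow, map_mul, hfc, hR, hfa2,
          _root_.one_zpow] at this
        exact absurd this (by decide)
      · have := congrArg f hk
        rw [_root_.zpow_add_one, two_mul, _root_.zpow_add, ← (Commute.refl a).mul_zpow, map_mul, map_zpow,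
          map_mul, hfa2, _root_.one_zpow, one_mul, hfc, hR] at this
        rw [this] at hfa
        exact absurd hfa (by decide)
    have htop : Subgroup.closure ({a, cls R} : Set _) = ⊤ := by
      haveI : Finite (G ⧸ M) := Nat.finite_of_card_ne_zero (by omega)
      apply Subgroup.eq_top_of_card_eq
      obtain ⟨e⟩ := TwoLift.dihedral_equiv ho hr2 hRa hmem rfl
      rw [Nat.card_congr e.toEquiv, DihedralGroup.nat_card, hcard]
    obtain ⟨e⟩ := TwoLift.dihedral_equiv ho hr2 hRa hmem htop.symm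
    exact ⟨Subgroup.topEquiv.symm.trans e⟩
  · obtain ⟨p, hp⟩ : ∃ p : G ⧸ M →* Multiplicative (ZMod 2),
        ∀ x, p x = Multiplicative.ofAdd (Multiplicative.toAdd (f x)).2 :=
      ⟨(AddMonoidHom.toMultiplicative (AddMonoidHom.snd (ZMod 2) (ZMod 2))).comp f, fun x => rfl⟩
    have hps : Function.Surjective p := fun y => by
      rcases zmod2_cases (Multiplicative.toAdd y) with e | e
      · exact ⟨1, (map_one p).trans (Multiplicative.toAdd.injective e.symm)⟩
      · exact ⟨cls R, by rw [hp, hfc, hR]; exact Multiplicative.toAdd.injective e.symm⟩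
    have hcard4 : Nat.card p.ker = 4 := by
      have := p.ker.card_mul_index
      rw [Subgroup.index_ker, MonoidHom.range_eq_top.2 hps, Subgroup.card_top, hcard,
        show Nat.card (Multiplicative (ZMod 2)) = 2 by simp] at this
      omega
    have hpk : ∀ x, x ∈ p.ker ↔ (Multiplicative.toAdd (f x)).2 = 0 := fun x => by
      rw [MonoidHom.mem_ker, hp, ofAdd_eq_one]
    have key : ∀ {B : Type} [Group B], (p.ker ≃* B) →
        ∃ ψ : ↥H →* B, Function.Surjective ψ ∧ ψ.ker = M.subgroupOf H := fun {B} _ e => by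
      have hmemp : ∀ x : ↥H, cls x.1 ∈ p.ker := fun x => by rw [hpk, hfc]; exact (hH _).1 x.2
      let c : ↥H →* p.ker := (cls.comp H.subtype).codRestrict _ hmemp
      have hc : Function.Surjective c := fun y => by
        obtain ⟨x, hx⟩ := hsurj y.1
        have hxH : x ∈ H := (hH x).2 (by rw [← hfc, hx]; exact (hpk _).1 y.2)
        exact ⟨⟨x, hxH⟩, Subtype.ext hx⟩
      refine ⟨e.toMonoidHom.comp c, e.surjective.comp hc, ?_⟩
      ext x
      simp only [MonoidHom.mem_ker, MonoidHom.comp_apply, MulEquiv.coe_toMonoidHom,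
        EmbeddingLike.map_eq_one_iff, Subgroup.mem_subgroupOf, ← hm]
      exact ⟨fun h => congrArg Subtype.val h, fun h => Subtype.ext h⟩
    have hAm : cls A ∈ p.ker := by rw [hpk, hfc, hA]; rfl
    constructor
    · intro hne
      obtain ⟨e⟩ := equiv_zmod_four hcard4 (a := ⟨cls A, hAm⟩) fun e => hne ((hm _).1 (by
        rw [map_mul]; exact congrArg Subtype.val e))
      exact key e
    · intro h1
      have hA2 : cls A * cls A = 1 := by rw [← map_mul, hm]; exact h1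
      have hAZ : cls A * cls Z * (cls A)⁻¹ = cls Z := by
        rcases kerf (cls A * cls Z * (cls A)⁻¹) (by
          rw [map_mul, map_mul, hfz, mul_one, map_inv, mul_inv_cancel]) with e | e
        · rw [mul_inv_eq_one, mul_eq_left] at e
          exact absurd e hz1
        · exact e
      obtain ⟨e⟩ := equiv_klein hcard4 fun ⟨x, hx⟩ => Subtype.ext <| by
        show x * x = 1
        have hx2 : (Multiplicative.toAdd (f x)).2 = 0 := (hpk x).1 hx
        rcases zmod2_cases (Multiplicative.toAdd (f x)).1 with e1 | e1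
        · rcases kerf x (Multiplicative.toAdd.injective (Prod.ext e1 hx2)) with rfl | rfl
          · exact one_mul 1
          · exact hz2
        · rcases kerf (x * cls A) (by
            rw [map_mul, hfc, hA, show f x = Multiplicative.ofAdd (1, 0) from
              Multiplicative.toAdd.injective (Prod.ext e1 hx2)]
            decide) with e | e
          · rw [eq_inv_of_mul_eq_one_left e, ← _root_.mul_inv_rev, hA2, inv_one]
          · have hxA : x = cls Z * cls A := by rw [← e, mul_assoc, hA2, mul_one]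
            have hc' : cls A * cls Z = cls Z * cls A := mul_inv_eq_iff_eq_mul.1 hAZ
            rw [hxA, mul_assoc, ← mul_assoc (cls A), hc', ← mul_assoc, ← mul_assoc, hz2, one_mul, hA2]
      exact key e

include hE

/-- The data of the eight-element quotient. -/
theorem EvenType.pgo_data (hneg : NegOmega) {c : Fˣ} (hc : ¬ IsSquare (c : F)) {g : GL ι F}
    (hg : ∀ v, q (mv g v) = (c : F) * q v) (hP : P g) {k : Cfsg.isometryGroup F (⇑q)}
    (hk : g * g = scal c * (k : GL ι F)) {χ : Cfsg.isometryGroup F (⇑q) →* SpinVal F}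
    (hker : χ.ker = Cfsg.Omega F (⇑q))
    (hrefl : ∀ (g : Cfsg.isometryGroup F (⇑q)) (v : ι → F), q v ≠ 0 →
      ((g : GL ι F) : Matrix ι ι F) = Cfsg.reflectionMatrix (⇑q) v → χ g = reflVal q v) :
    ∃ (f₀ : GOg →* Multiplicative (ZMod 2 × ZMod 2)) (A R Z : GOg),
      Function.Surjective f₀ ∧ (∀ x, conjGO x ∈ Cfsg.Inn POm → f₀ x = 1) ∧
      f₀ A = Multiplicative.ofAdd (1, 0) ∧ f₀ R = Multiplicative.ofAdd (0, 1) ∧
      conjGO (R * R) ∈ Cfsg.Inn POm ∧ conjGO Z ∉ Cfsg.Inn POm ∧ conjGO (Z * Z) ∈ Cfsg.Inn POm ∧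
      R * A * R⁻¹ * A⁻¹ = Z ∧ (∀ y, f₀ y = 1 → conjGO y ∈ Cfsg.Inn POm ∨ conjGO (Z⁻¹ * y) ∈ Cfsg.Inn POm) ∧
      (conjGO (A * A) ∈ Cfsg.Inn POm ↔ χ k = 1) ∧
      ∀ x : GOg, (Multiplicative.toAdd (f₀ x)).2 = 0 ↔ P (x : GL ι F) := by
  obtain ⟨f₀, hf, h1, h2, h3⟩ := hE.exists_out
  obtain ⟨v, hv⟩ := hE.exists_value_one
  have hv0 : q v ≠ 0 := by rw [hv]; exact one_ne_zero
  obtain ⟨r, hr, -⟩ := Cfsg.Agent.Orth.exists_reflection q hv0
  have hgv : q (mv g v) = (c : F) := by rw [hg, hv, mul_one]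
  obtain ⟨r', hr', -⟩ := Cfsg.Agent.Orth.exists_reflection q (v := mv g v) (by rw [hgv]; exact c.ne_zero)
  have hrv : ∀ (r : Cfsg.isometryGroup F (⇑q)) (v : ι → F),
      ((r : GL ι F) : Matrix ι ι F) = Cfsg.reflectionMatrix (⇑q) v →
      ∀ x, mv (r : GL ι F) x = x - (polar q x v / q v) • v := fun r v hr x => by
    show ((r : GL ι F) : Matrix ι ι F) *ᵥ x = _
    rw [hr, Cfsg.Agent.Orth.reflectionMatrix_mulVec]
  have hconj : g * (r : GL ι F) * g⁻¹ = (r' : GL ι F) := ext_mv fun x => by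
    rw [mv_mul, mv_mul, hrv r v hr, hrv r' _ hr']
    have hpol : polar q x (mv g v) = (c : F) * polar q (mv g⁻¹ x) v := by
      conv_lhs => rw [← mv_mv_inv g x]
      simp only [polar, ← Cfsg.Agent.Transvec.mv_add, hg]
      ring
    rw [Cfsg.Agent.Transvec.mv_sub, Cfsg.Agent.Transvec.mv_smul, mv_mv_inv, hpol, hg,
      mul_div_mul_left _ _ c.ne_zero]
  have hr2 : r * r = 1 := Subtype.ext (ext_mv fun x => by
    rw [Subgroup.coe_mul, mv_mul, hrv r v hr, hrv r v hr, Subgroup.coe_one, Cfsg.Agent.Transvec.mv_one,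
      sub_eq_add_neg x, ← neg_smul, polar_add_left, polar_smul_left, polar_self, hv]
    ext i
    simp
    ring)
  obtain ⟨G₀, hG₀⟩ : ∃ G₀ : GOg, (G₀ : GL ι F) = g := ⟨⟨g, c, hg⟩, rfl⟩
  obtain ⟨mk, hmkc⟩ : ∃ mk : Cfsg.isometryGroup F (⇑q) →* GOg, ∀ k : Cfsg.isometryGroup F (⇑q), (mk k : GL ι F) = k :=
    ⟨MonoidHom.mk' (fun k => ⟨k, 1, fun v => by rw [Units.val_one, one_mul]; exact mem_isometry.1 k.2 v⟩)
      fun k l => Subtype.ext rfl, fun k => rfl⟩
  obtain ⟨R₀, hR₀⟩ : ∃ R₀, R₀ = mk r := ⟨_, rfl⟩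
  have hR₀c : (R₀ : GL ι F) = r := by rw [hR₀, hmkc]
  have hconjmk : ∀ k : Cfsg.isometryGroup F (⇑q), conjGO (mk k) = semi (k : GL ι F) 1 (isPair_iso k.2) :=
    fun k => semi_congr _ _ (hmkc k) rfl
  have hiso : ∀ k : Cfsg.isometryGroup F (⇑q), conjGO (mk k) ∈ Cfsg.Inn POm ↔ χ k = 1 := fun k => by
    rw [hconjmk]
    exact hE.mem_inn_of_neg hneg hker k
  have hrinv : (r : GL ι F)⁻¹ = (r : GL ι F) := by
    rw [← Subgroup.coe_inv, inv_eq_of_mul_eq_one_right hr2]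
  have hcomm : R₀ * G₀ * R₀⁻¹ * G₀⁻¹ = mk (r * r') := Subtype.ext (by
    simp only [Subgroup.coe_mul, Subgroup.coe_inv, hR₀c, hG₀, hmkc]
    rw [hrinv, ← hconj]
    group)
  have hχZ : χ (r * r') = (1, sqc F (c : F)) := by
    rw [map_mul, hrefl r v hv0 hr, hrefl r' _ (by rw [hgv]; exact c.ne_zero) hr']
    refine Prod.ext (by show Multiplicative.ofAdd (1 : ZMod 2) * Multiplicative.ofAdd 1 = 1; decide) ?_
    show sqc F (q v) * sqc F (q (mv g v)) = _
    rw [hv, hgv, Cfsg.Agent.Orth.sqc_one, one_mul]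
  refine ⟨f₀, G₀, R₀, mk (r * r'), hf, fun x hx => (h1 x).2 ((hE.conj_mem_pso x).1 (hE.inn_le_pso hx)),
    ?_, ?_, ?_, ?_, ?_, hcomm, ?_, ?_, h2⟩
  · have hns : ¬ ∃ a : Fˣ, ∀ v, q (mv (G₀ : GL ι F) v) = (a : F) * a * q v := by
      rintro ⟨a, ha⟩
      refine hc ⟨a, ?_⟩
      have := ha v
      rwa [hG₀, hgv, hv, mul_one] at this
    refine Multiplicative.toAdd.injective (Prod.ext ?_ ((h2 _).2 (by rw [hG₀]; exact hP)))
    exact (zmod2_cases _).resolve_left fun e => hns ((h3 G₀).1 e)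
  · refine Multiplicative.toAdd.injective (Prod.ext ((h3 R₀).2 ⟨1, fun w => ?_⟩) ?_)
    · rw [hR₀c]; simpa using mem_isometry.1 r.2 w
    · exact (zmod2_cases _).resolve_left fun e => hE.p_refl v _ hv0 hr (hR₀c ▸ (h2 R₀).1 e)
  · rw [hR₀, ← mk.map_mul, hiso, hr2, χ.map_one]
  · rw [hiso, hχZ]
    exact fun e => hc ((Cfsg.Agent.Orth.sqc_eq_one_iff c.ne_zero).1 (congrArg Prod.snd e))
  · rw [← mk.map_mul, hiso, χ.map_mul, hχZ]
    exact Prod.ext (one_mul 1) (Cfsg.Agent.Orth.sqc_mul_self c.ne_zero)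
  · intro y hy
    rw [h1] at hy
    obtain ⟨⟨a, ha⟩, hy⟩ := hy
    have hiso' : scal a⁻¹ * (y : GL ι F) ∈ Cfsg.isometryGroup F (⇑q) := mem_isometry.2 fun z => by
      rw [mv_mul, scal_mv, QuadraticMap.map_smul, smul_eq_mul, ha, Units.val_inv_eq_inv_val]
      field_simp
    obtain ⟨l, hl⟩ : ∃ l : Cfsg.isometryGroup F (⇑q), (l : GL ι F) = scal a⁻¹ * (y : GL ι F) := ⟨⟨_, hiso'⟩, rfl⟩
    have e : conjGO y = conjGO (mk l) := by
      rw [conjGO_apply, conjGO_apply, ← one_mul (semi (y : GL ι F) 1 _), ← semi_scal a⁻¹ (isPair_scal a⁻¹),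
        semi_mul_one]
      exact semi_congr _ _ (hl.symm.trans (hmkc l).symm) rfl
    have hPl : (χ l).1 = 1 := by
      obtain ⟨χ', hker', -, hrefl', hPar', -⟩ := hE.exists_spin
      have he : χ' = χ := MonoidHom.eq_of_eqOn_dense (Cfsg.Agent.Orth.closure_reflections_eq_top q hE.nondeg
        (Or.inr (by have := hE.seven; omega))) fun x ⟨w, hw, hxw⟩ => by rw [hrefl' x w hw hxw, hrefl x w hw hxw]
      rw [← he, hPar', hl, hE.p_mul _ _ (isPair_scal a⁻¹) (pair_go y)]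
      exact iff_of_true (hE.p_scal a⁻¹) hy
    by_cases h0 : χ l = 1
    · exact Or.inl (e ▸ (hiso l).2 h0)
    · refine Or.inr ?_
      rw [conjGO.map_mul, e, ← conjGO.map_mul, show (mk (r * r'))⁻¹ * mk l = mk ((r * r')⁻¹ * l) by
          rw [mk.map_mul _ l, mk.map_inv], hiso, map_mul, map_inv, inv_mul_eq_one, hχZ]
      refine (Prod.ext hPl (eq_of_card_two (Cfsg.Agent.Orth.card_sqCls_le.2.1 hE.two) (iff_of_false ?_ ?_))).symm
      · exact fun e => h0 (Prod.ext hPl e)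
      · exact fun e => hc ((Cfsg.Agent.Orth.sqc_eq_one_iff c.ne_zero).1 e)
  · rw [← hiso k]
    refine iff_of_eq (congrArg (· ∈ Cfsg.Inn POm) ?_)
    rw [conjGO_apply, conjGO_apply, ← one_mul (semi (((mk k) : GOg) : GL ι F) 1 _),
      ← semi_scal c (isPair_scal c), semi_mul_one]
    exact semi_congr _ _ (by rw [Subgroup.coe_mul, hG₀, hmkc, hk]) rfl

theorem EvenType.pgo_quot_two (hneg : NegOmega) :
    ∃ φ : ↥(Cfsg.pgoAut F (⇑q)) →* DihedralGroup 4, Function.Surjective φ ∧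
      φ.ker = (Cfsg.Inn POm).subgroupOf (Cfsg.pgoAut F (⇑q)) := by
  obtain ⟨c₀, hc₀⟩ := FiniteField.exists_nonsquare (F := F) (fun h => hE.two (by
    haveI := ringChar.of_eq h; exact CharTwo.two_eq_zero))
  obtain ⟨g, hg, hP⟩ := hE.p_mult (Units.mk0 c₀ fun e => hc₀ (e ▸ IsSquare.zero))
  obtain ⟨χ, hker, -, hrefl, -, -⟩ := hE.exists_spin
  have hk : scal (Units.mk0 c₀ fun e => hc₀ (e ▸ IsSquare.zero))⁻¹ * (g * g) ∈
      Cfsg.isometryGroup F (⇑q) := mem_isometry.2 fun z => by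
    rw [mv_mul, scal_mv, QuadraticMap.map_smul, smul_eq_mul, mv_mul, hg, hg, Units.val_inv_eq_inv_val]
    rw [Units.val_mk0]; field_simp; exact mul_div_cancel_left₀ _ (fun e => hc₀ (e ▸ IsSquare.zero))
  obtain ⟨f₀, A, R, Z, hf, hM, hA, hR, hR2, hZ, hZ2, hcomm, hk', -, -⟩ := hE.pgo_data hneg hc₀ hg hP
    (k := ⟨_, hk⟩) (by rw [← mul_assoc, ← map_mul, mul_inv_cancel, map_one, one_mul]) hker hrefl
  obtain ⟨⟨e⟩, -⟩ := eight_structure ((Cfsg.Inn POm).comap conjGO) f₀ hf hM hA hR hR2 hZ hZ2 hcomm hk'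
  obtain ⟨φ, h1, h2, -⟩ := exists_quot conjGO (e.toMonoidHom.comp (QuotientGroup.mk' _))
    (e.surjective.comp (QuotientGroup.mk'_surjective _)) (Cfsg.Inn POm) fun x => by
      rw [MonoidHom.comp_apply, MulEquiv.coe_toMonoidHom, EmbeddingLike.map_eq_one_iff, QuotientGroup.mk'_apply,
        QuotientGroup.eq_one_iff, Subgroup.mem_comap]
  rw [hE.pgo_range]
  exact ⟨φ, h1, h2⟩

theorem EvenType.inndiag_quot_two (hneg : NegOmega) {I : Subgroup (MulAut POm)}
    (hI : ∀ β, β ∈ I ↔ ∃ (g : GL ι F) (hg : Cfsg.IsSemisimilarityPair (⇑q) g 1), P g ∧ β = semi g 1 hg)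
    {c : Fˣ} (hc : ¬ IsSquare (c : F)) {g : GL ι F} (hg : ∀ v, q (mv g v) = (c : F) * q v) (hP : P g)
    {k : Cfsg.isometryGroup F (⇑q)} (hk : g * g = scal c * (k : GL ι F))
    {χ : Cfsg.isometryGroup F (⇑q) →* SpinVal F} (hker : χ.ker = Cfsg.Omega F (⇑q))
    (hrefl : ∀ (g : Cfsg.isometryGroup F (⇑q)) (v : ι → F), q v ≠ 0 →
      ((g : GL ι F) : Matrix ι ι F) = Cfsg.reflectionMatrix (⇑q) v → χ g = reflVal q v) :
    (χ k ≠ 1 → ∃ φ : ↥I →* Multiplicative (ZMod 4), Function.Surjective φ ∧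
      φ.ker = (Cfsg.Inn POm).subgroupOf I) ∧
    (χ k = 1 → ∃ φ : ↥I →* Multiplicative (ZMod 2 × ZMod 2), Function.Surjective φ ∧
      φ.ker = (Cfsg.Inn POm).subgroupOf I) := by
  obtain ⟨f₀, A, R, Z, hf, hM, hA, hR, hR2, hZ, hZ2, hcomm, hk', hAA, hpar⟩ :=
    hE.pgo_data hneg hc hg hP hk hker hrefl
  obtain ⟨-, hH⟩ := eight_structure ((Cfsg.Inn POm).comap conjGO) f₀ hf hM hA hR hR2 hZ hZ2 hcomm hk'
  obtain ⟨H, hHdef⟩ : ∃ H : Subgroup GOg, H =
      ((AddMonoidHom.toMultiplicative (AddMonoidHom.snd (ZMod 2) (ZMod 2))).comp f₀).ker := ⟨_, rfl⟩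
  have hHm : ∀ x, x ∈ H ↔ (Multiplicative.toAdd (f₀ x)).2 = 0 := fun x => by rw [hHdef]; exact Iff.rfl
  have hr : (conjGO.comp H.subtype).range = I := by
    ext β
    rw [hI, MonoidHom.mem_range]
    constructor
    · rintro ⟨x, rfl⟩
      exact ⟨(x.1 : GL ι F), pair_go x.1, (hpar x.1).1 ((hHm x.1).1 x.2), rfl⟩
    · rintro ⟨g, hg, hP, rfl⟩
      exact ⟨⟨⟨g, go_of_pair hg⟩, (hHm _).2 ((hpar _).2 hP)⟩, rfl⟩
  obtain ⟨h4, h22⟩ := hH H hHm
  subst hr
  constructor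
  · intro hne
    obtain ⟨ψ, hψ, hψk⟩ := h4 (fun e => hne (hAA.1 e))
    obtain ⟨φ, h1, h2, -⟩ := exists_quot (conjGO.comp H.subtype) ψ hψ (Cfsg.Inn POm) fun x => by
      rw [← MonoidHom.mem_ker, hψk]; rfl
    exact ⟨φ, h1, h2⟩
  · intro h1
    obtain ⟨ψ, hψ, hψk⟩ := h22 (hAA.2 h1)
    obtain ⟨φ, h1, h2, -⟩ := exists_quot (conjGO.comp H.subtype) ψ hψ (Cfsg.Inn POm) fun x => by
      rw [← MonoidHom.mem_ker, hψk]; rfl
    exact ⟨φ, h1, h2⟩

end Cfsg.Agent.AutPOmega
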