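import Cfsg.Agent.Lib.AutPOmega.EvenClasses
import Cfsg.Agent.Lib.AutPOmega.EvenInstances
import Cfsg.Agent.Lib.Orthogonal.OmegaTheory

/-!
Centralisers of standard field automorphisms in inner-diagonal groups of even-dimensional orthogonal groups:
base change from the fixed field.
-/

set_option autoImplicit false

namespace Cfsg.Agent.AutPOmega

open Matrix QuadraticMap
open Cfsg.Agent.Orth (SpinVal SqCls sqc reflVal)
open Cfsg.Agent.Transvec (mv mv_mul mv_inj mv_inv_mv mv_mv_inv ext_mv)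
open Cfsg.Agent.Transvec.Orth (mem_isometry)

section Parity

variable {ι : Type} [Fintype ι] [DecidableEq ι] {F : Type*} [Field F]

/-- A notion of class-preserving similarity. -/
structure Par (q : QuadraticForm F (ι → F)) (P : GL ι F → Prop) : Prop where
  nondeg : (polarBilin q).Nondegenerate
  seven : 7 ≤ Fintype.card ι
  p_one : P 1
  p_mul : ∀ g h, Cfsg.IsSemisimilarityPair (⇑q) g 1 → Cfsg.IsSemisimilarityPair (⇑q) h 1 → (P (g * h) ↔ (P g ↔ P h))
  p_scal : ∀ a : Fˣ, P (scal a)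
  p_refl : ∀ (v : ι → F) (r : GL ι F), q v ≠ 0 → (r : Matrix ι ι F) = Cfsg.reflectionMatrix (⇑q) v → ¬ P r

variable [Fintype F] {q : QuadraticForm F (ι → F)} {P : GL ι F → Prop} (hP : Par q P)
include hP

theorem Par.geo : Geo.IsNondegenerateQuadraticForm (⇑q) := geo_of q hP.nondeg

theorem Par.p_inv {g : GL ι F} (hg : Cfsg.IsSemisimilarityPair (⇑q) g 1) : P g⁻¹ ↔ P g := by
  have h := hP.p_mul g g⁻¹ hg (pair_inv hg)
  rw [mul_inv_cancel, iff_true_left hP.p_one] at h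
  exact h.symm

/-- The class-preserving similarities. -/
def Par.simP : Subgroup (GL ι F) where
  carrier := {g | Cfsg.IsSemisimilarityPair (⇑q) g 1 ∧ P g}
  one_mem' := ⟨⟨1, fun v => by simp⟩, hP.p_one⟩
  mul_mem' {g h} hg hh := ⟨pair_mul hg.1 hh.1, (hP.p_mul g h hg.1 hh.1).2 (iff_of_true hg.2 hh.2)⟩
  inv_mem' {g} hg := ⟨pair_inv hg.1, (hP.p_inv hg.1).2 hg.2⟩

/-- Their action. -/
noncomputable def Par.act : hP.simP →* MulAut (Cfsg.POmega F (⇑q)) :=
  MonoidHom.mk' (fun g => semi (g : GL ι F) 1 g.2.1) fun g h => (semi_mul_one g.2.1 h.2.1).symm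

theorem Par.range_act {I : Subgroup (MulAut (Cfsg.POmega F (⇑q)))}
    (hI : ∀ β, β ∈ I ↔ ∃ (g : GL ι F) (hg : Cfsg.IsSemisimilarityPair (⇑q) g 1), P g ∧ β = semi g 1 hg) :
    hP.act.range = I := by
  ext β
  rw [hI]
  exact ⟨fun ⟨g, hg⟩ => ⟨g, g.2.1, g.2.2, hg.symm⟩, fun ⟨g, hg, hp, e⟩ => ⟨⟨g, hg, hp⟩, e.symm⟩⟩

theorem Par.act_eq_one_iff (g : hP.simP) : hP.act g = 1 ↔ ∃ a : Fˣ, (g : GL ι F) = scal a := by
  obtain ⟨p, hp⟩ := CharP.exists F
  haveI : Fact p.Prime := ⟨CharP.char_is_prime F p⟩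
  constructor
  · intro h
    obtain ⟨-, a, ha0, ha⟩ := semi_eq_one_imp hP.geo hP.seven p _ h
    exact ⟨Units.mk0 a ha0, eq_scal (a := Units.mk0 a ha0) ha⟩
  · rintro ⟨a, ha⟩
    exact (semi_congr _ (isPair_scal a) ha rfl).trans (semi_scal a _)

theorem Par.fst_iff {χ : Cfsg.isometryGroup F (⇑q) →* SpinVal F}
    (hrefl : ∀ (g : Cfsg.isometryGroup F (⇑q)) (v : ι → F), q v ≠ 0 →
      ((g : GL ι F) : Matrix ι ι F) = Cfsg.reflectionMatrix (⇑q) v → χ g = reflVal q v)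
    (k : Cfsg.isometryGroup F (⇑q)) : (χ k).1 = 1 ↔ P (k : GL ι F) := by
  have h7 := hP.seven
  have hk : k ∈ Subgroup.closure {g : ↥(Cfsg.isometryGroup F (⇑q)) | ∃ v : ι → F, q v ≠ 0 ∧
      ((g : GL ι F) : Matrix ι ι F) = Cfsg.reflectionMatrix (⇑q) v} := by
    rw [Cfsg.Agent.Orth.closure_reflections_eq_top q hP.nondeg (Or.inr (by omega))]; exact Subgroup.mem_top k
  induction hk using Subgroup.closure_induction with
  | mem r hr =>
    obtain ⟨v, hv, hrv⟩ := hr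
    rw [hrefl r v hv hrv]
    exact iff_of_false (show Multiplicative.ofAdd (1 : ZMod 2) ≠ 1 by decide) (hP.p_refl v _ hv hrv)
  | one => rw [map_one]; exact iff_of_true rfl hP.p_one
  | mul x y _ _ hx hy =>
    rw [map_mul, Subgroup.coe_mul, hP.p_mul _ _ (isPair_iso x.2) (isPair_iso y.2), Prod.fst_mul]
    refine Iff.trans ?_ (iff_congr hx hy)
    generalize (χ x).1 = s
    generalize (χ y).1 = t
    revert s t
    decide
  | inv x _ hx =>
    rw [map_inv, Subgroup.coe_inv, hP.p_inv (isPair_iso x.2), Prod.fst_inv, inv_eq_one]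
    exact hx

omit hP in
/-- The group of inner automorphisms consists of class-preserving similarities. -/
theorem Par.inn_le (hP : Par q P) : Cfsg.Inn (Cfsg.POmega F (⇑q)) ≤ hP.act.range := by
  have h7 := hP.seven
  obtain ⟨χ, hker, -, hrefl⟩ := Cfsg.Agent.Orth.exists_matrix_spinor q hP.nondeg (by omega) (Or.inr (by omega))
  rintro _ ⟨x, rfl⟩
  obtain ⟨A, rfl, -⟩ := inn_eq x
  rw [inner_eq_semi]
  refine ⟨⟨gl A, isPair_iso (A : Cfsg.isometryGroup F (⇑q)).2, ?_⟩, rfl⟩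
  refine (hP.fst_iff hrefl A.1).1 ?_
  rw [show χ A.1 = 1 from hker.symm.le A.2]
  rfl

/-- An element of `Ω` times a scalar acts as an inner automorphism. -/
theorem Par.mem_inn {k : Cfsg.isometryGroup F (⇑q)} (hk : k ∈ Cfsg.Omega F (⇑q)) (a : Fˣ) (g : hP.simP)
    (hg : (g : GL ι F) = scal a * (k : GL ι F)) : hP.act g ∈ Cfsg.Inn (Cfsg.POmega F (⇑q)) := by
  refine ⟨QuotientGroup.mk' _ ⟨k, hk⟩, ?_⟩
  rw [inner_eq_semi]
  refine ((semi_mul_one (isPair_scal a) (isPair_iso k.2)).trans (semi_congr _ g.2.1 hg.symm rfl)).symm.trans ?_ |>.symm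
  rw [semi_scal, one_mul]

end Parity

section BaseChange

variable {ι : Type} [Fintype ι] [DecidableEq ι] {F : Type*} [Field F] {F₀ : Type*} [Field F₀]

/-- Compatible forms and parities over a field extension. -/
structure Base (q : QuadraticForm F (ι → F)) (P : GL ι F → Prop) (q₀ : QuadraticForm F₀ (ι → F₀))
    (P₀ : GL ι F₀ → Prop) (φ : F₀ →+* F) : Prop where
  par : Par q P
  par₀ : Par q₀ P₀
  compat : ∀ v : ι → F₀, q (φ ∘ v) = φ (q₀ v)
  mult : ∀ c : F₀ˣ, ∃ g₀ : GL ι F₀, (∀ v, q₀ (mv g₀ v) = (c : F₀) * q₀ v) ∧ P₀ g₀ ∧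
    P (Matrix.GeneralLinearGroup.map φ g₀)

variable [Fintype F] [Fintype F₀] {q : QuadraticForm F (ι → F)} {P : GL ι F → Prop}
  {q₀ : QuadraticForm F₀ (ι → F₀)} {P₀ : GL ι F₀ → Prop} {φ : F₀ →+* F} (hB : Base q P q₀ P₀ φ)
include hB

theorem Base.map_pair {g : GL ι F₀} (hg : Cfsg.IsSemisimilarityPair (⇑q₀) g 1) :
    Cfsg.IsSemisimilarityPair (⇑q) (Matrix.GeneralLinearGroup.map φ g) 1 :=
  pair_baseChange φ hB.compat hg

theorem Base.map_iso (k : Cfsg.isometryGroup F₀ (⇑q₀)) :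
    Matrix.GeneralLinearGroup.map φ (k : GL ι F₀) ∈ Cfsg.isometryGroup F (⇑q) :=
  mem_isometry.2 fun v => (quad_baseChange φ hB.compat (c := 1)
    (fun v => by rw [one_mul]; exact mem_isometry.1 k.2 v) v).trans (by rw [map_one, one_mul])

/-- Base change on isometries. -/
def Base.isoHom : Cfsg.isometryGroup F₀ (⇑q₀) →* Cfsg.isometryGroup F (⇑q) :=
  ((Matrix.GeneralLinearGroup.map φ).comp (Cfsg.isometryGroup F₀ (⇑q₀)).subtype).codRestrict _ hB.map_iso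

theorem Base.isoHom_coe (k : Cfsg.isometryGroup F₀ (⇑q₀)) :
    (hB.isoHom k : GL ι F) = Matrix.GeneralLinearGroup.map φ (k : GL ι F₀) := rfl

theorem Base.map_refl {v : ι → F₀} {r : GL ι F₀}
    (hr : (r : Matrix ι ι F₀) = Cfsg.reflectionMatrix (⇑q₀) v) :
    ((Matrix.GeneralLinearGroup.map φ r : GL ι F) : Matrix ι ι F) = Cfsg.reflectionMatrix (⇑q) (φ ∘ v) := by
  rw [← reflectionMatrix_baseChange φ hB.compat v, ← hr]
  rfl

theorem Base.pres {g : GL ι F₀} (hg : Cfsg.IsSemisimilarityPair (⇑q₀) g 1) :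
    P (Matrix.GeneralLinearGroup.map φ g) ↔ P₀ g := by
  have key : ∀ k : Cfsg.isometryGroup F₀ (⇑q₀), P (hB.isoHom k : GL ι F) ↔ P₀ (k : GL ι F₀) := by
    intro k
    have h7 := hB.par₀.seven
    have hk : k ∈ Subgroup.closure {g : ↥(Cfsg.isometryGroup F₀ (⇑q₀)) | ∃ v : ι → F₀, q₀ v ≠ 0 ∧
        ((g : GL ι F₀) : Matrix ι ι F₀) = Cfsg.reflectionMatrix (⇑q₀) v} := by
      rw [Cfsg.Agent.Orth.closure_reflections_eq_top q₀ hB.par₀.nondeg (Or.inr (by omega))]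
      exact Subgroup.mem_top k
    induction hk using Subgroup.closure_induction with
    | mem r hr =>
      obtain ⟨v, hv, hrv⟩ := hr
      exact iff_of_false (hB.par.p_refl (φ ∘ v) _ (by rw [hB.compat]; exact (map_ne_zero φ).2 hv) (hB.map_refl hrv))
        (hB.par₀.p_refl v _ hv hrv)
    | one => rw [map_one]; exact iff_of_true hB.par.p_one hB.par₀.p_one
    | mul x y _ _ hx hy =>
      rw [map_mul, Subgroup.coe_mul, Subgroup.coe_mul, hB.par.p_mul _ _ (isPair_iso (hB.isoHom x).2) (isPair_iso (hB.isoHom y).2),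
        hB.par₀.p_mul _ _ (isPair_iso x.2) (isPair_iso y.2)]
      exact iff_congr hx hy
    | inv x _ hx =>
      rw [map_inv, Subgroup.coe_inv, Subgroup.coe_inv, hB.par.p_inv (isPair_iso (hB.isoHom x).2), hB.par₀.p_inv (isPair_iso x.2)]
      exact hx
  obtain ⟨c, hc⟩ := id hg
  obtain ⟨h, hh, hh0, hhP⟩ := hB.mult c
  have hhp : Cfsg.IsSemisimilarityPair (⇑q₀) h 1 := ⟨c, hh⟩
  have hk : h⁻¹ * g ∈ Cfsg.isometryGroup F₀ (⇑q₀) := mem_isometry.2 fun v => by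
    refine mul_left_cancel₀ c.ne_zero ?_
    rw [← hh, mv_mul, mv_mv_inv]
    exact hc v
  obtain ⟨k, hkdef⟩ : ∃ k : Cfsg.isometryGroup F₀ (⇑q₀), (k : GL ι F₀) = h⁻¹ * g := ⟨⟨_, hk⟩, rfl⟩
  rw [show g = h * (k : GL ι F₀) by rw [hkdef, mul_inv_cancel_left], map_mul,
    hB.par.p_mul _ _ (hB.map_pair hhp) (hB.map_pair (isPair_iso k.2)), hB.par₀.p_mul _ _ hhp (isPair_iso k.2)]
  exact iff_congr (iff_of_true hhP hh0) (key k)

/-- Base change of class-preserving similarities. -/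
def Base.simHom : hB.par₀.simP →* hB.par.simP :=
  ((Matrix.GeneralLinearGroup.map φ).comp hB.par₀.simP.subtype).codRestrict _
    fun g => ⟨hB.map_pair g.2.1, (hB.pres g.2.1).2 g.2.2⟩

theorem Base.simHom_coe (g : hB.par₀.simP) :
    (hB.simHom g : GL ι F) = Matrix.GeneralLinearGroup.map φ (g : GL ι F₀) := rfl

variable {σ : F ≃+* F} (hfix : ∀ a, a ∈ φ.range ↔ σ a = a)
  (hσ : Cfsg.IsSemisimilarityPair (⇑q) (1 : GL ι F) σ)
include hfix

theorem Base.mapGL_simHom (g : hB.par₀.simP) : mapGL σ (hB.simHom g : GL ι F) = (hB.simHom g : GL ι F) :=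
  Units.ext (Matrix.ext fun i j => (hfix _).1 ⟨_, rfl⟩)

omit hfix in
theorem Base.commute_iff (g : hB.par.simP) : Commute (hB.par.act g) (semi 1 σ hσ) ↔
    ∃ a : Fˣ, (g : GL ι F) = scal a * mapGL σ (g : GL ι F) := by
  have e1 : hB.par.act g * semi 1 σ hσ = semi ((g : GL ι F) * mapGL 1 1) (1 * σ) (isPair_comp g.2.1 hσ) :=
    semi_mul _ _
  have e2 : semi 1 σ hσ * hB.par.act g = semi (1 * mapGL σ (g : GL ι F)) (σ * 1) (isPair_comp hσ g.2.1) :=
    semi_mul _ _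
  constructor
  · intro h
    have e3 := e1.symm.trans (h.eq.trans e2)
    obtain ⟨-, a, ha⟩ := semi_eq_semi hB.par.geo hB.par.seven _ _ e3
    refine ⟨a, ?_⟩
    rwa [map_one, mul_one, one_mul] at ha
  · rintro ⟨a, ha⟩
    have hs : Cfsg.IsSemisimilarityPair (⇑q) (scal a : GL ι F) 1 := isPair_scal a
    have e3 := semi_mul hs (isPair_comp hσ g.2.1)
    rw [semi_scal, one_mul] at e3
    show _ = _
    rw [e1, e2, e3]
    refine semi_congr _ _ ?_ ?_
    · rw [map_one, mul_one, mapGL_one, one_mul, ← ha]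
    · simp

/-- A centralising similarity is a scalar times one over the fixed field. -/
theorem Base.exists_base (g : hB.par.simP) (h : Commute (hB.par.act g) (semi 1 σ hσ)) :
    ∃ (t : Fˣ) (g₀ : hB.par₀.simP), (g : GL ι F) = scal t * (hB.simHom g₀ : GL ι F) := by
  obtain ⟨c, hc⟩ := (hB.commute_iff hσ g).1 h
  have hit : ∀ k, (g : GL ι F) = scal (∏ i ∈ Finset.range k, Units.map (σ ^ i : F ≃+* F).toMonoidHom c) *
      mapGL (σ ^ k) (g : GL ι F) := by
    intro k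
    induction k with
    | zero =>
      rw [Finset.prod_range_zero, pow_zero, mapGL_one]
      exact ((congrArg (· * (g : GL ι F)) (map_one _)).trans (one_mul _)).symm
    | succ k ih =>
      conv_lhs => rw [ih, hc, map_mul, mapGL_scal, ← mapGL_comp, ← pow_succ]
      rw [Finset.prod_range_succ, ← mul_assoc]
      exact congrArg (· * mapGL (σ ^ (k + 1)) (g : GL ι F)) (map_mul _ _ _).symm
  have hN : AutPSL.normHom σ c = 1 := by
    have h1 := hit (orderOf σ)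
    rw [pow_orderOf_eq_one, mapGL_one, right_eq_mul, ← AutPSL.normHom_eq] at h1
    obtain ⟨i⟩ : Nonempty ι := Fintype.card_pos_iff.1 (by have := hB.par.seven; omega)
    have h2 := congrArg (fun u : GL ι F => mv u (Pi.single i 1) i) h1
    simp only [scal_mv, Transvec.mv_one, Pi.smul_apply, Pi.single_eq_same, smul_eq_mul, mul_one] at h2
    exact Units.ext h2
  obtain ⟨t, ht⟩ := AutPSL.exists_div_of_normHom_eq_one σ hN
  obtain ⟨g', hg'⟩ : ∃ g', g' = scal t⁻¹ * (g : GL ι F) := ⟨_, rfl⟩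
  have hfixed : mapGL σ g' = g' := by
    rw [hg', map_mul, mapGL_scal, map_inv]
    conv_rhs => rw [hc, ← mul_assoc]
    refine congrArg (· * mapGL σ (g : GL ι F)) (Eq.trans ?_ (map_mul _ _ _))
    refine congrArg _ ?_
    rw [eq_inv_mul_iff_mul_eq, mul_inv_eq_iff_eq_mul, ht]
  have hent : ∀ i j, (g' : Matrix ι ι F) i j ∈ φ.range := fun i j =>
    (hfix _).2 (congrArg (fun u : GL ι F => (u : Matrix ι ι F) i j) hfixed)
  choose A hA using hent
  have hmap : (Matrix.of A).map φ = (g' : Matrix ι ι F) := Matrix.ext hA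
  have hdet : (Matrix.of A).det ≠ 0 := fun e => by
    have h1 := RingHom.map_det φ (Matrix.of A)
    rw [e, map_zero, RingHom.mapMatrix_apply, hmap] at h1
    exact (Matrix.GeneralLinearGroup.det g').ne_zero h1.symm
  obtain ⟨g₀, hg₀⟩ : ∃ g₀ : GL ι F₀, Matrix.GeneralLinearGroup.map φ g₀ = g' :=
    ⟨Matrix.GeneralLinearGroup.mkOfDetNeZero _ hdet, Units.ext hmap⟩
  have hgp : Cfsg.IsSemisimilarityPair (⇑q) g' 1 := hg' ▸ pair_mul (isPair_scal _) g.2.1
  have hP' : P g' := hg' ▸ (hB.par.p_mul _ _ (isPair_scal _) g.2.1).2 (iff_of_true (hB.par.p_scal _) g.2.2)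
  obtain ⟨μ, hμ⟩ := id hgp
  have hm : ∀ v : ι → F₀, φ (q₀ (mv g₀ v)) = (μ : F) * φ (q₀ v) := fun v => by
    rw [← hB.compat, ← hB.compat, show (φ : F₀ → F) ∘ mv g₀ v = mv g' (φ ∘ v) from
      funext fun i => by rw [← hg₀]; exact RingHom.map_mulVec φ _ v i]
    exact hμ _
  haveI : Nonempty ι := Fintype.card_pos_iff.1 (by have := hB.par.seven; omega)
  obtain ⟨v₀, hv₀⟩ := Cfsg.Agent.Orth.exists_ne_zero_value (V := ι → F₀) hB.par₀.nondeg
  obtain ⟨μ₀, hμ₀⟩ : ∃ μ₀ : F₀, μ₀ = q₀ (mv g₀ v₀) / q₀ v₀ := ⟨_, rfl⟩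
  have hμe : φ μ₀ = μ := by
    rw [hμ₀, map_div₀, hm, mul_div_assoc, div_self ((map_ne_zero φ).2 hv₀), mul_one]
  have hg₀p : Cfsg.IsSemisimilarityPair (⇑q₀) g₀ 1 :=
    ⟨Units.mk0 μ₀ fun e => μ.ne_zero (by rw [← hμe, e, map_zero]), fun v => φ.injective (by
      rw [map_mul]; show φ (q₀ (mv g₀ v)) = _; rw [hm, Units.val_mk0, hμe]; rfl)⟩
  refine ⟨t, ⟨g₀, hg₀p, (hB.pres hg₀p).1 (hg₀ ▸ hP')⟩, ?_⟩
  rw [hB.simHom_coe, hg₀, hg', ← mul_assoc, ← map_mul]
  exact ((congrArg (· * (g : GL ι F)) (congrArg _ (mul_inv_cancel t))).trans (by rw [map_one, one_mul])).symm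

theorem Base.commute_simHom (g : hB.par₀.simP) : Commute (hB.par.act (hB.simHom g)) (semi 1 σ hσ) :=
  (hB.commute_iff hσ _).2 ⟨1, by rw [hB.mapGL_simHom hfix g]; exact ((congrArg (· * _) (map_one _)).trans (one_mul _)).symm⟩

/-- The centraliser of a standard field automorphism. -/
theorem Base.centralizer {I : Subgroup (MulAut (Cfsg.POmega F (⇑q)))}
    (hI : ∀ β, β ∈ I ↔ ∃ (g : GL ι F) (hg : Cfsg.IsSemisimilarityPair (⇑q) g 1), P g ∧ β = semi g 1 hg)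
    {I₀ : Subgroup (MulAut (Cfsg.POmega F₀ (⇑q₀)))}
    (hI₀ : ∀ β, β ∈ I₀ ↔ ∃ (g : GL ι F₀) (hg : Cfsg.IsSemisimilarityPair (⇑q₀) g 1), P₀ g ∧ β = semi g 1 hg) :
    Nonempty (↥(I ⊓ Subgroup.centralizer {semi 1 σ hσ}) ≃* ↥I₀) := by
  let Θ : hB.par₀.simP →* MulAut (Cfsg.POmega F (⇑q)) := hB.par.act.comp hB.simHom
  have hker : Θ.ker = hB.par₀.act.ker := by
    ext g
    rw [MonoidHom.mem_ker, MonoidHom.mem_ker, MonoidHom.comp_apply, hB.par.act_eq_one_iff, hB.par₀.act_eq_one_iff]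
    constructor
    · rintro ⟨a, ha⟩
      have hent : ∀ i j, φ ((g : GL ι F₀) i j) = Matrix.scalar ι (a : F) i j := fun i j =>
        congrArg (fun u : GL ι F => (u : Matrix ι ι F) i j) ha
      obtain ⟨i⟩ : Nonempty ι := Fintype.card_pos_iff.1 (by have := hB.par.seven; omega)
      have hii := hent i i
      rw [Matrix.scalar_apply, Matrix.diagonal_apply_eq] at hii
      refine ⟨Units.mk0 ((g : GL ι F₀) i i) fun e => a.ne_zero (by rw [← hii, e, map_zero]),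
        Units.ext (Matrix.ext fun k l => φ.injective ?_)⟩
      show φ ((g : GL ι F₀) k l) = φ (Matrix.scalar ι ((g : GL ι F₀) i i) k l)
      rw [hent]
      rcases eq_or_ne k l with rfl | hkl
      · simp [Matrix.scalar_apply, hii]
      · simp [Matrix.scalar_apply, hkl]
    · rintro ⟨a, ha⟩
      exact ⟨Units.map φ.toMonoidHom a, by
        rw [hB.simHom_coe, ha]
        refine Units.ext (Matrix.ext fun k l => ?_)
        show φ (Matrix.scalar ι (a : F₀) k l) = Matrix.scalar ι (φ a) k l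
        rcases eq_or_ne k l with rfl | hkl
        · simp [Matrix.scalar_apply]
        · simp [Matrix.scalar_apply, hkl]⟩
  have hrange : Θ.range = I ⊓ Subgroup.centralizer {semi 1 σ hσ} := by
    refine le_antisymm ?_ ?_
    · rintro _ ⟨g, rfl⟩
      exact ⟨(hB.par.range_act hI).le ⟨_, rfl⟩,
        Subgroup.mem_centralizer_singleton_iff.2 (hB.commute_simHom hfix hσ g).eq⟩
    · rintro β ⟨hβ, hc⟩
      obtain ⟨g, rfl⟩ := (hB.par.range_act hI).ge hβ
      obtain ⟨t, g₀, hg₀⟩ := hB.exists_base hfix hσ g (Subgroup.mem_centralizer_singleton_iff.1 hc)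
      refine ⟨g₀, ?_⟩
      have e := semi_mul_one (isPair_scal (q := q) t) (hB.simHom g₀).2.1
      rw [semi_scal, one_mul] at e
      exact e.trans (semi_congr _ g.2.1 hg₀.symm rfl)
  exact ⟨(MulEquiv.subgroupCongr hrange.symm).trans ((QuotientGroup.quotientKerEquivRange Θ).symm.trans
    ((QuotientGroup.quotientMulEquivOfEq hker).trans ((QuotientGroup.quotientKerEquivRange hB.par₀.act).trans
      (MulEquiv.subgroupCongr (hB.par₀.range_act hI₀)))))⟩

/-- When every multiplier class comes from the fixed field the class is not split. -/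
theorem Base.split_one (hsq : ∀ x : F, x ≠ 0 → ∃ c : F₀ˣ, IsSquare (x * φ c))
    {I : Subgroup (MulAut (Cfsg.POmega F (⇑q)))}
    (hI : ∀ β, β ∈ I ↔ ∃ (g : GL ι F) (hg : Cfsg.IsSemisimilarityPair (⇑q) g 1), P g ∧ β = semi g 1 hg) :
    Cfsg.splitClassCount I (Cfsg.Inn (Cfsg.POmega F (⇑q))) (semi 1 σ hσ) = 1 := by
  have h7 := hB.par.seven
  obtain ⟨χ, hker, -, hrefl⟩ := Cfsg.Agent.Orth.exists_matrix_spinor q hB.par.nondeg (by omega) (Or.inr (by omega))
  rw [← hB.par.range_act hI, AutPSL.splitClassCount_eq hB.par.act _ hB.par.inn_le (semi 1 σ hσ)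
    (1 : hB.par.simP →* PUnit.{1}) (fun _ => ⟨1, rfl⟩) fun g => iff_of_true rfl ?_]
  · exact Nat.card_unique
  obtain ⟨μ, hμ⟩ := id g.2.1
  have hμ' : ∀ v, q (mv (g : GL ι F) v) = (μ : F) * q v := hμ
  obtain ⟨c, a, ha⟩ := hsq μ μ.ne_zero
  have ha0 : a ≠ 0 := fun e => mul_ne_zero μ.ne_zero ((map_ne_zero φ).2 c.ne_zero) (by rw [ha, e, zero_mul])
  obtain ⟨h₀, hh, hh0, hhP⟩ := hB.mult c
  let h : hB.par₀.simP := ⟨h₀, ⟨c, hh⟩, hh0⟩
  have hk : scal (Units.mk0 a ha0)⁻¹ * ((g : GL ι F) * (hB.simHom h : GL ι F)) ∈ Cfsg.isometryGroup F (⇑q) :=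
    mem_isometry.2 fun v => by
      rw [mv_mul, scal_mv, QuadraticMap.map_smul, smul_eq_mul, mv_mul, Units.val_inv_eq_inv_val, Units.val_mk0,
        hμ', hB.simHom_coe, quad_baseChange φ hB.compat hh,
        ← mul_assoc (μ : F), ha]
      field_simp
  obtain ⟨k, hkdef⟩ : ∃ k : Cfsg.isometryGroup F (⇑q),
      (k : GL ι F) = scal (Units.mk0 a ha0)⁻¹ * ((g : GL ι F) * (hB.simHom h : GL ι F)) := ⟨⟨_, hk⟩, rfl⟩
  have hkP : P (k : GL ι F) := by
    rw [hkdef, hB.par.p_mul _ _ (isPair_scal _) (pair_mul g.2.1 (hB.simHom h).2.1),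
      hB.par.p_mul _ _ g.2.1 (hB.simHom h).2.1]
    exact iff_of_true (hB.par.p_scal _) (iff_of_true g.2.2 (hB.simHom h).2.2)
  obtain ⟨u, hu⟩ := QuotientGroup.mk_surjective (χ k).2
  rw [← Cfsg.Agent.Orth.sqc_unit] at hu
  obtain ⟨c₁, b, hb⟩ := hsq u u.ne_zero
  have hn : 2 ≤ Module.finrank F₀ (ι → F₀) := by rw [Module.finrank_fintype_fun_eq_card]; omega
  obtain ⟨v, hv⟩ := Cfsg.Agent.Orth.exists_value hB.par₀.nondeg hn (c₁ : F₀)
  obtain ⟨w, hw⟩ := Cfsg.Agent.Orth.exists_value hB.par₀.nondeg hn 1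
  have hv0 : q₀ v ≠ 0 := by rw [hv]; exact c₁.ne_zero
  have hw0 : q₀ w ≠ 0 := by rw [hw]; exact one_ne_zero
  obtain ⟨rv, hrv, -⟩ := Cfsg.Agent.Orth.exists_reflection q₀ hv0
  obtain ⟨rw', hrw, -⟩ := Cfsg.Agent.Orth.exists_reflection q₀ hw0
  have hP₁ : P₀ ((rv * rw' : Cfsg.isometryGroup F₀ (⇑q₀)) : GL ι F₀) := by
    rw [Subgroup.coe_mul, hB.par₀.p_mul _ _ (isPair_iso rv.2) (isPair_iso rw'.2)]
    exact iff_of_false (hB.par₀.p_refl v _ hv0 hrv) (hB.par₀.p_refl w _ hw0 hrw)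
  let k₀ : hB.par₀.simP := ⟨_, isPair_iso (rv * rw').2, hP₁⟩
  have hχ₁ : χ (hB.isoHom (rv * rw')) = (1, sqc F (φ c₁)) := by
    rw [map_mul, map_mul, hrefl _ (φ ∘ v) (by rw [hB.compat]; exact (map_ne_zero φ).2 hv0) (hB.map_refl hrv),
      hrefl _ (φ ∘ w) (by rw [hB.compat]; exact (map_ne_zero φ).2 hw0) (hB.map_refl hrw)]
    refine Prod.ext (show Multiplicative.ofAdd (1 : ZMod 2) * Multiplicative.ofAdd 1 = 1 by decide) ?_
    show sqc F (q _) * sqc F (q _) = _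
    rw [hB.compat, hB.compat, hv, hw, map_one, Cfsg.Agent.Orth.sqc_one, mul_one]
  have hΩ : k * hB.isoHom (rv * rw') ∈ Cfsg.Omega F (⇑q) := by
    rw [← hker, MonoidHom.mem_ker, map_mul, hχ₁]
    refine Prod.ext ?_ ?_
    · show (χ k).1 * 1 = 1
      rw [mul_one, (hB.par.fst_iff hrefl k).2 hkP]
    · show (χ k).2 * sqc F (φ c₁) = 1
      rw [← hu, ← Cfsg.Agent.Orth.sqc_mul u.ne_zero ((map_ne_zero φ).2 c₁.ne_zero),
        Cfsg.Agent.Orth.sqc_eq_one_iff (mul_ne_zero u.ne_zero ((map_ne_zero φ).2 c₁.ne_zero))]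
      exact ⟨b, hb⟩
  refine ⟨g * (hB.simHom (h * k₀)), (hB.simHom (h * k₀))⁻¹, hB.par.mem_inn hΩ (Units.mk0 a ha0) _ ?_, ?_,
    (mul_inv_cancel_right _ _).symm⟩
  · rw [Subgroup.coe_mul, Subgroup.coe_mul, hkdef, hB.isoHom_coe, hB.simHom_coe, hB.simHom_coe]
    show (g : GL ι F) * Matrix.GeneralLinearGroup.map φ (h₀ * ((rv * rw' : Cfsg.isometryGroup F₀ (⇑q₀)) : GL ι F₀)) =
      scal (Units.mk0 a ha0) * (scal (Units.mk0 a ha0)⁻¹ * ((g : GL ι F) * Matrix.GeneralLinearGroup.map φ h₀) *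
        Matrix.GeneralLinearGroup.map φ ((rv * rw' : Cfsg.isometryGroup F₀ (⇑q₀)) : GL ι F₀))
    rw [map_mul, ← mul_assoc, ← mul_assoc (scal (Units.mk0 a ha0)), ← mul_assoc (scal (Units.mk0 a ha0))]
    have e : scal (Units.mk0 a ha0) * scal (Units.mk0 a ha0)⁻¹ = (1 : GL ι F) :=
      (map_mul _ _ _).symm.trans ((congrArg _ (mul_inv_cancel _)).trans (map_one _))
    rw [e, one_mul]
  · rw [map_inv]
    exact (hB.commute_simHom hfix hσ _).inv_left

end BaseChange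

end Cfsg.Agent.AutPOmega
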