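import Cfsg.Agent.Lib.AutPOmega.GraphField
import Cfsg.Agent.Lib.AutPOmega.SpinorApps
import Cfsg.Agent.Lib.AutPOmega.EvenFinal

/-!
The model of a graph-field involution: a minus form over a quadratic subfield, hyperbolic over the whole field.
-/

set_option autoImplicit false

namespace Cfsg.Agent.AutPOmega

open Matrix QuadraticMap
open Cfsg.Agent.Orth (SpinVal SqCls sqc reflVal qMinus qPlus)
open Cfsg.Agent.Transvec (mv mv_mul mv_inj mv_inv_mv mv_mv_inv ext_mv)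
open Cfsg.Agent.Transvec.Orth (mem_isometry)

section NotPres

variable {m : ℕ} {F : Type*} [Field F] [Fintype F]

local notation "Qp" => Cfsg.quadFormPlus m F

/-- The linear part of a graph-field automorphism interchanges the classes. -/
theorem not_pres_graphfield (hm : 5 ≤ m) {g : GL (Fin m ⊕ Fin m) F} {σ : F ≃+* F}
    (hg : Cfsg.IsSemisimilarityPair Qp g σ) (hx : Cfsg.IsGraphFieldAutClassPOmegaPlus m (semi g σ hg)) :
    ¬ Cfsg.PreservesSingularClasses Qp (g : Matrix (Fin m ⊕ Fin m) (Fin m ⊕ Fin m) F) := by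
  have h7 : 7 ≤ Fintype.card (Fin m ⊕ Fin m) := by simp; omega
  obtain ⟨p, hp⟩ := CharP.exists F
  haveI : Fact p.Prime := ⟨CharP.char_is_prime F p⟩
  obtain ⟨α, γ, φ, σ', v, ρ, hσ', hv, -, hρ, hγ, hφ, e⟩ := hx
  obtain ⟨hρp, hρn⟩ := presP_refl hv hρ
  have hD : 9 ≤ Fintype.card (Fin m ⊕ Fin m) ∨ ∀ U : Submodule F (Fin m ⊕ Fin m → F),
      (∀ x ∈ U, Qp x = 0) → Module.finrank F U ≤ 3 := Or.inl (by simp; omega)
  obtain ⟨h, τ, hh, rfl⟩ := exists_semi (geo_plus m) h7 p hD α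
  rw [semi_eq_of_induced hρp hγ, semi_eq_of_induced (isPair_field_plus σ') fun s s' hs => hφ s s' (by simpa using hs),
    mul_inv_eq_iff_eq_mul, semi_mul, semi_mul, semi_mul] at e
  obtain ⟨-, a, ha⟩ := semi_eq_semi (geo_plus m) h7 _ _ e
  have hh1 := pair_linear hh (isPair_field_plus τ⁻¹)
  have hg1 := pair_linear hg (isPair_field_plus σ⁻¹)
  obtain ⟨Kτ, hKτ, -⟩ := AutPSL.exists_fixed_field τ
  obtain ⟨Kσ, hKσ, -⟩ := AutPSL.exists_fixed_field σ'
  obtain ⟨hτg, hτi⟩ := presP_map hKτ hg1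
  obtain ⟨hσh, hσi⟩ := presP_map hKσ hh1
  simp only [mapGL_one, mul_one, one_mul] at ha
  have h1 := presP_mul hh1 hτg
  have hs : Cfsg.IsSemisimilarityPair Qp (scal a : GL (Fin m ⊕ Fin m) F) 1 := by
    rw [← Cfsg.Agent.Orth.coe_qPlus]; exact isPair_scal a
  have h2 := presP_mul hs (pair_mul hρp hσh)
  have h3 := presP_mul hρp hσh
  have h4 := presP_scal (m := m) a
  rw [ha, h2, h3, hτi, hσi] at h1
  intro hgp
  by_cases hH : Cfsg.PreservesSingularClasses Qp (h : Matrix (Fin m ⊕ Fin m) (Fin m ⊕ Fin m) F)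
  · exact hρn (((h1.2 (iff_of_true hH hgp)).1 h4).2 hH)
  · exact hH ((h1.1 (iff_of_true h4 (iff_of_false hρn hH))).2 hgp)

end NotPres

section Arith

variable {F₀ F : Type*} [Field F₀] [Field F] [Fintype F₀] [Fintype F] (φ : F₀ →+* F)

theorem finrank_two (hcard : Fintype.card F = Fintype.card F₀ ^ 2) :
    letI := φ.toAlgebra
    Module.finrank F₀ F = 2 := by
  letI := φ.toAlgebra
  haveI : Module.Finite F₀ F := Module.Finite.of_finite
  have h := Module.natCard_eq_pow_finrank (K := F₀) (V := F)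
  rw [Nat.card_eq_fintype_card, Nat.card_eq_fintype_card, hcard] at h
  exact (Nat.pow_right_injective Fintype.one_lt_card h).symm

/-- The base field consists of squares of a quadratic extension. -/
theorem isSquare_base (hcard : Fintype.card F = Fintype.card F₀ ^ 2) (x : F₀) : IsSquare (φ x) := by
  by_cases h2 : (2 : F) = 0
  · haveI : CharP F 2 := CharTwo.of_one_ne_zero_of_two_eq_zero one_ne_zero h2
    exact FiniteField.isSquare_of_char_two (ringChar.eq F 2) _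
  rcases eq_or_ne x 0 with rfl | hx
  · rw [map_zero]; exact IsSquare.zero
  have hF : ringChar F ≠ 2 := fun h => h2 (by haveI := ringChar.of_eq h; exact CharTwo.two_eq_zero)
  have hodd : Fintype.card F % 2 = 1 := FiniteField.odd_card_of_char_ne_two hF
  rw [hcard, Nat.pow_mod] at hodd
  obtain ⟨j, hj⟩ : Odd (Fintype.card F₀) := by
    rw [Nat.odd_iff]
    rcases Nat.mod_two_eq_zero_or_one (Fintype.card F₀) with h | h <;> simp_all
  rw [FiniteField.isSquare_iff hF ((map_ne_zero φ).2 hx), ← map_pow, hcard, hj,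
    show (2 * j + 1) ^ 2 / 2 = (2 * j) * (j + 1) from by
      rw [show (2 * j + 1) ^ 2 = 2 * ((2 * j) * (j + 1)) + 1 by ring]; omega, pow_mul]
  have h := FiniteField.pow_card_sub_one_eq_one x hx
  rw [hj, Nat.add_sub_cancel] at h
  rw [h, one_pow, map_one]

/-- When is a square root of a non-square of the base field a square? -/
theorem isSquare_root_iff (h2 : (2 : F) ≠ 0) (hcard : Fintype.card F = Fintype.card F₀ ^ 2) {c : F₀}
    (hc : ¬ IsSquare c) {s : F} (hs : s * s = φ c) : IsSquare s ↔ Fintype.card F₀ % 4 = 3 := by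
  have hc0 : c ≠ 0 := fun e => hc (e ▸ IsSquare.zero)
  have hs0 : s ≠ 0 := fun e => (map_ne_zero φ).2 hc0 (by rw [← hs, e, zero_mul])
  have h20 : (2 : F₀) ≠ 0 := fun e => h2 (by rw [← map_ofNat φ, e, map_zero])
  have hF₀ : ringChar F₀ ≠ 2 := fun h => h20 (by haveI := ringChar.of_eq h; exact CharTwo.two_eq_zero)
  have hF : ringChar F ≠ 2 := fun h => h2 (by haveI := ringChar.of_eq h; exact CharTwo.two_eq_zero)
  obtain ⟨j, hj⟩ : Odd (Fintype.card F₀) := Nat.odd_iff.2 (FiniteField.odd_card_of_char_ne_two hF₀)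
  have hcj : c ^ j = -1 := by
    rcases FiniteField.pow_dichotomy hF₀ hc0 with h | h <;>
      rw [show Fintype.card F₀ / 2 = j by omega] at h
    · exact absurd ((FiniteField.isSquare_iff hF₀ hc0).2 (by rw [show Fintype.card F₀ / 2 = j by omega]; exact h)) hc
    · exact h
  rw [FiniteField.isSquare_iff hF hs0, hcard, hj,
    show (2 * j + 1) ^ 2 / 2 = 2 * (j * (j + 1)) from by
      rw [show (2 * j + 1) ^ 2 = 2 * (2 * (j * (j + 1))) + 1 by ring]; omega,
    pow_mul, pow_two, hs, pow_mul, ← map_pow, hcj, map_neg, map_one]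
  have hneg : (-1 : F) ≠ 1 := fun e => h2 (by linear_combination -e)
  rcases Nat.even_or_odd (j + 1) with he | ho
  · rw [he.neg_one_pow]
    obtain ⟨i, hi⟩ := he
    exact iff_of_true rfl (by omega)
  · rw [ho.neg_one_pow]
    obtain ⟨i, hi⟩ := ho
    exact iff_of_false hneg (by omega)

end Arith

section Model

universe u v

variable {n : ℕ} {F : Type u} [Field F] [Fintype F] {F₀ : Type v} [Field F₀] [Fintype F₀] (φ : F₀ →+* F)
  {a₀ b₀ : F₀}

local notation "Jn" => (Fin n ⊕ Fin n) ⊕ Fin 2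
local notation "qM" => qMinus F n (φ a₀) (φ b₀)

omit [Fintype F] [Fintype F₀] in
theorem map_formula {g₀ : GL Jn F₀} {c z₀ z₁ : F₀}
    (hv : ∀ v, mv g₀ v = ext2 1 c (fun z => (z₀ * z.1 + -(b₀ * z₁) * z.2, z₁ * z.1 + (z₀ + a₀ * z₁) * z.2)) v)
    (x : Jn → F) :
    mv (Matrix.GeneralLinearGroup.map φ g₀) x = ext2 1 (φ c) (fun z =>
      (φ z₀ * z.1 + -(φ b₀ * φ z₁) * z.2, φ z₁ * z.1 + (φ z₀ + φ a₀ * φ z₁) * z.2)) x := by
  have hcol : ∀ i j : Jn, ((Matrix.GeneralLinearGroup.map φ g₀ : GL Jn F) : Matrix Jn Jn F) i j =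
      φ (mv g₀ (Pi.single j 1) i) := fun i j => by
    show φ ((g₀ : Matrix Jn Jn F₀) i j) = _
    simp [mv]
  funext i
  show (((Matrix.GeneralLinearGroup.map φ g₀ : GL Jn F) : Matrix Jn Jn F) *ᵥ x) i = _
  rw [Matrix.mulVec, dotProduct]
  simp only [hcol, hv, Fintype.sum_sum_type, Fin.sum_univ_two]
  rcases i with (i | i) | i
  · simp [ext2, Pi.single_apply, apply_ite φ]
  · simp [ext2, Pi.single_apply, apply_ite φ]
  · fin_cases i <;> simp [ext2]

theorem base_hyp (hcard : Fintype.card F = Fintype.card F₀ ^ 2)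
    (hab₀ : ∀ z₁ z₂ : F₀, z₁ ^ 2 + a₀ * z₁ * z₂ + b₀ * z₂ ^ 2 = 0 → z₁ = 0 ∧ z₂ = 0) (hn : 3 ≤ n) :
    Hyperbolic qM (n + 1) ∧
    Base qM (fun g : GL Jn F => Cfsg.PreservesSingularClasses (⇑qM) (g : Matrix Jn Jn F))
      (qMinus F₀ n a₀ b₀)
      (fun g : GL Jn F₀ => Cfsg.PreservesSingularClassesMinus n a₀ b₀ (g : Matrix Jn Jn F₀)) φ := by
  letI := φ.toAlgebra
  have hK := finrank_two φ hcard
  have hH : Hyperbolic qM (n + 1) := hyp_minus (F := F₀) F hK hab₀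
  refine ⟨hH, ?_⟩
  refine ⟨⟨hH.nondeg, by simp; omega, pres_one hH, fun g h hg hh => pres_mul hH hg hh, fun t => pres_scal hH t,
    fun v r hv hr => (not_pres_refl hH hv hr).2⟩, par_minus hab₀ hn, minus_compat φ, fun c => ?_⟩
  obtain ⟨z₀, z₁, g₀, hz, h1, h2, hv⟩ := exists_minus_mult (m := n) hab₀ c
  refine ⟨g₀, h1, h2, ?_⟩
  have hp : Cfsg.IsSemisimilarityPair (Cfsg.quadFormMinus n F₀ a₀ b₀) g₀ 1 := by
    rw [← Cfsg.Agent.Orth.coe_qMinus]; exact ⟨c, h1⟩
  obtain ⟨K', _, _, hK', h⟩ := h2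
  exact (presM_iff (F := F₀) F hK hab₀ hp hK').1 h

/-- The spinor class of the rescaled standard similarity. -/
theorem scaled_spinor (h2 : (2 : F) ≠ 0)
    {χ : Cfsg.isometryGroup F (⇑qM) →* SpinVal F}
    (hrefl : ∀ (g : Cfsg.isometryGroup F (⇑qM)) (v : Jn → F), qM v ≠ 0 →
      ((g : GL Jn F) : Matrix Jn Jn F) = Cfsg.reflectionMatrix (⇑qM) v → χ g = reflVal qM v)
    {g₀ : GL Jn F₀} {c z₀ z₁ : F₀} (hz : z₀ ^ 2 + a₀ * z₀ * z₁ + b₀ * z₁ ^ 2 = c)
    (hv : ∀ v, mv g₀ v = ext2 1 c (fun z => (z₀ * z.1 + -(b₀ * z₁) * z.2, z₁ * z.1 + (z₀ + a₀ * z₁) * z.2)) v)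
    {s : Fˣ} (hs : (s : F) * s = φ c) (hu : 2 * (s : F) + φ (2 * z₀ + a₀ * z₁) ≠ 0) :
    ∃ k : Cfsg.isometryGroup F (⇑qM), Matrix.GeneralLinearGroup.map φ g₀ = scal s * (k : GL Jn F) ∧
      (χ k).2 = sqc F (2 * (s : F) + φ (2 * z₀ + a₀ * z₁)) * sqc F (s : F) ^ (n + 1) := by
  obtain ⟨A, hA⟩ : ∃ A, A = φ a₀ := ⟨_, rfl⟩
  obtain ⟨B, hB⟩ : ∃ B, B = φ b₀ := ⟨_, rfl⟩
  obtain ⟨Z, hZ⟩ : ∃ Z, Z = φ z₀ := ⟨_, rfl⟩
  obtain ⟨Y, hY⟩ : ∃ Y, Y = φ z₁ := ⟨_, rfl⟩
  have hc : (s : F) * s = Z ^ 2 + A * Z * Y + B * Y ^ 2 := by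
    rw [hs, ← hz, hA, hB, hZ, hY]; simp
  have hu' : 2 * (s : F) + φ (2 * z₀ + a₀ * z₁) = 2 * (s : F) + (2 * Z + A * Y) := by
    rw [hA, hZ, hY]; simp [map_ofNat]
  rw [hu'] at hu ⊢
  let W : (Fin n → Fˣ) →* (Jn → Fˣ) :=
    { toFun := fun d => Sum.elim (Sum.elim d (fun i => (d i)⁻¹)) 1
      map_one' := funext fun k => by rcases k with (k | k) | k <;> simp
      map_mul' := fun d d' => funext fun k => by rcases k with (k | k) | k <;> simp [mul_comm] }
  have hW : ∀ d z, qM (fun k => (W d k : F) * z k) = qM z := fun d z => by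
    rw [Cfsg.Agent.Orth.coe_qMinus]
    simp [Cfsg.quadFormMinus, W]
    exact Finset.sum_congr rfl fun i _ => by
      have := (d i).ne_zero
      field_simp
  obtain ⟨T, -, hT⟩ := exists_diag_hom qM W hW
  obtain ⟨v, hvdef⟩ : ∃ v : Jn → F, v = Pi.single (Sum.inr 0) 1 := ⟨_, rfl⟩
  obtain ⟨w, hwdef⟩ : ∃ w : Jn → F, w = Sum.elim (fun _ => (0 : F)) ![Z + (s : F), Y] := ⟨_, rfl⟩
  have hqv : qM v = 1 := by
    rw [Cfsg.Agent.Orth.coe_qMinus, hvdef]; simp [Cfsg.quadFormMinus]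
  have hqw : qM w = (s : F) * (2 * (s : F) + (2 * Z + A * Y)) := by
    rw [Cfsg.Agent.Orth.coe_qMinus, hwdef]
    simp [Cfsg.quadFormMinus, ← hA, ← hB]
    linear_combination -hc
  have hqw0 : qM w ≠ 0 := by rw [hqw]; exact mul_ne_zero s.ne_zero hu
  obtain ⟨r, hr, -⟩ := Cfsg.Agent.Orth.exists_reflection qM (v := v) (by rw [hqv]; exact one_ne_zero)
  obtain ⟨r', hr', -⟩ := Cfsg.Agent.Orth.exists_reflection qM (v := w) hqw0
  have hrv : ∀ (r : Cfsg.isometryGroup F (⇑qM)) (v : Jn → F),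
      ((r : GL Jn F) : Matrix Jn Jn F) = Cfsg.reflectionMatrix (⇑qM) v →
      ∀ x, mv (r : GL Jn F) x = x - (polar qM x v / qM v) • v := fun r v hr x => by
    show ((r : GL Jn F) : Matrix Jn Jn F) *ᵥ x = _
    rw [hr, Cfsg.Agent.Orth.reflectionMatrix_mulVec]
  have hpv : ∀ x : Jn → F, polar qM x v = 2 * x (.inr 0) + A * x (.inr 1) := fun x => by
    simp only [polar, Cfsg.Agent.Orth.coe_qMinus, hvdef, ← hA]
    simp [Cfsg.quadFormMinus, ← hA]
    ring
  have hpw : ∀ x : Jn → F, polar qM x w =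
      x (.inr 0) * (2 * (Z + s) + A * Y) + x (.inr 1) * (A * (Z + s) + 2 * B * Y) := fun x => by
    simp only [polar, Cfsg.Agent.Orth.coe_qMinus, hwdef]
    simp [Cfsg.quadFormMinus, ← hA, ← hB]
    ring
  refine ⟨r' * (r * T fun _ => s⁻¹), ext_mv fun x => ?_, ?_⟩
  · rw [mv_mul, scal_mv, map_formula φ hv, Subgroup.coe_mul, Subgroup.coe_mul, mv_mul, mv_mul, hrv r' w hr',
      hrv r v hr, hqv, div_one, show mv (T (fun _ => s⁻¹) : GL Jn F) x = fun k => (W (fun _ => s⁻¹) k : F) * x k from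
        funext (hT _ x), hpw, hpv, hqw]
    obtain ⟨U, hU⟩ : ∃ U, U = 2 * (s : F) + (2 * Z + A * Y) := ⟨_, rfl⟩
    rw [← hU] at hu ⊢
    have hs0 := s.ne_zero
    funext i
    rcases i with (i | i) | i
    · simp [ext2, W, hwdef, hvdef]
    · simp [ext2, W, hwdef, hvdef]
      rw [← hs]; ring
    · fin_cases i
      · simp [ext2, W, hwdef, hvdef, ← hA, ← hB, ← hZ, ← hY]
        field_simp
        subst hU
        linear_combination (A * x (.inr 1)) * hc
      · simp [ext2, W, hwdef, hvdef, ← hA, ← hB, ← hZ, ← hY]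
        field_simp
        subst hU
        linear_combination (-2 * x (.inr 1)) * hc
  · rw [map_mul, map_mul, hrefl r v (by rw [hqv]; exact one_ne_zero) hr, hrefl r' w hqw0 hr',
      spin_diag qM hrefl (fun i => Sum.inl (Sum.inl i)) (fun i => Sum.inl (Sum.inr i))
        (fun i j => by simp) (fun i j e => by simpa using e) (fun i j e => by simpa using e)
        (fun i s => by
          rw [Cfsg.Agent.Orth.coe_qMinus]
          simp [Cfsg.quadFormMinus, Pi.single_apply])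
        (fun z i s => by
          simp only [polar, Cfsg.Agent.Orth.coe_qMinus]
          simp [Cfsg.quadFormMinus, Pi.single_apply, add_mul, mul_add, Finset.sum_add_distrib]
          ring)
        T (fun d z i => by rw [hT]; rfl) (fun d z i => by rw [hT]; rfl)
        (fun d z j hj => by
          rcases j with (j | j) | j
          · exact absurd rfl (hj j).1
          · exact absurd rfl (hj j).2
          · rw [hT]; simp [W]) s⁻¹]
    show sqc F (qM w) * (sqc F (qM v) * sqc F ((s⁻¹ : Fˣ) : F) ^ n) = _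
    rw [hqw, hqv, Cfsg.Agent.Orth.sqc_one, one_mul, Cfsg.Agent.Orth.sqc_mul s.ne_zero hu, pow_succ']
    have e : sqc F ((s⁻¹ : Fˣ) : F) = sqc F (s : F) := by
      rw [Cfsg.Agent.Orth.sqc_unit, Cfsg.Agent.Orth.sqc_unit, QuotientGroup.eq]
      exact ⟨s, by rw [powMonoidHom_apply, inv_inv, pow_two]⟩
    rw [e, mul_comm (sqc F (s : F)) (sqc F _), mul_assoc]

end Model

end Cfsg.Agent.AutPOmega
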