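import Cfsg.Agent.Lib.AutPOmega.PlusDiag
import Cfsg.Agent.Lib.AutPOmega.GraphFieldModel
import Cfsg.Agent.Lib.AutPOmega.GraphSplit

/-!
Standard field automorphisms of the plus type: centralisers and split classes.
-/

set_option autoImplicit false

namespace Cfsg.Agent.AutPOmega

open Matrix QuadraticMap
open Cfsg.Agent.Orth (SpinVal SqCls sqc reflVal qPlus)
open Cfsg.Agent.Transvec (mv mv_mul mv_inj mv_inv_mv mv_mv_inv ext_mv)
open Cfsg.Agent.Transvec.Orth (mem_isometry)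

universe u v

variable {m : ℕ} {F : Type u} [Field F] [Fintype F] {F₀ : Type v} [Field F₀] [Fintype F₀] (φ : F₀ →+* F)
  {σ : F ≃+* F} (hfix : ∀ a, a ∈ φ.range ↔ σ a = a)

include hfix

theorem field_plus_centralizer (hm : 4 ≤ m) :
    Nonempty (↥(Cfsg.inndiagPOmegaPlus m F ⊓ Subgroup.centralizer {semi 1 σ (isPair_field_plus (m := m) σ)}) ≃*
      ↥(Cfsg.inndiagPOmegaPlus m F₀)) := by
  have hB := base_plus (m := m) φ hm
  have hgen : ∀ (R : (Fin m ⊕ Fin m → F) → F) (R₀ : (Fin m ⊕ Fin m → F₀) → F₀), ⇑(qPlus F m) = R → ⇑(qPlus F₀ m) = R₀ →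
      ∀ (I : Subgroup (MulAut (Cfsg.POmega F R))) (I₀ : Subgroup (MulAut (Cfsg.POmega F₀ R₀))),
      (∀ β, β ∈ I ↔ ∃ (g : GL (Fin m ⊕ Fin m) F) (hg : Cfsg.IsSemisimilarityPair R g 1),
        Cfsg.PreservesSingularClasses (Cfsg.quadFormPlus m F) (g : Matrix _ _ F) ∧ β = semi g 1 hg) →
      (∀ β, β ∈ I₀ ↔ ∃ (g : GL (Fin m ⊕ Fin m) F₀) (hg : Cfsg.IsSemisimilarityPair R₀ g 1),
        Cfsg.PreservesSingularClasses (Cfsg.quadFormPlus m F₀) (g : Matrix _ _ F₀) ∧ β = semi g 1 hg) →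
      ∀ hs : Cfsg.IsSemisimilarityPair R (1 : GL (Fin m ⊕ Fin m) F) σ,
        Nonempty (↥(I ⊓ Subgroup.centralizer {semi 1 σ hs}) ≃* ↥I₀) := by
    rintro R R₀ rfl rfl I I₀ hI hI₀ hs
    exact hB.centralizer hfix hs hI hI₀
  exact hgen _ _ (Cfsg.Agent.Orth.coe_qPlus m) (Cfsg.Agent.Orth.coe_qPlus m) _ _
    (fun _ => mem_inndiag_plus) (fun _ => mem_inndiag_plus) _

theorem field_plus_split_one (hm : 4 ≤ m) (hsq : ∀ x : F, x ≠ 0 → ∃ c : F₀ˣ, IsSquare (x * φ c)) :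
    Cfsg.splitClassCount (Cfsg.inndiagPOmegaPlus m F) (Cfsg.Inn (Cfsg.POmega F (Cfsg.quadFormPlus m F)))
      (semi 1 σ (isPair_field_plus (m := m) σ)) = 1 := by
  have hB := base_plus (m := m) φ hm
  have hgen : ∀ (R : (Fin m ⊕ Fin m → F) → F), ⇑(qPlus F m) = R →
      ∀ (I : Subgroup (MulAut (Cfsg.POmega F R))),
      (∀ β, β ∈ I ↔ ∃ (g : GL (Fin m ⊕ Fin m) F) (hg : Cfsg.IsSemisimilarityPair R g 1),
        Cfsg.PreservesSingularClasses (Cfsg.quadFormPlus m F) (g : Matrix _ _ F) ∧ β = semi g 1 hg) →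
      ∀ hs : Cfsg.IsSemisimilarityPair R (1 : GL (Fin m ⊕ Fin m) F) σ,
        Cfsg.splitClassCount I (Cfsg.Inn (Cfsg.POmega F R)) (semi 1 σ hs) = 1 := by
    rintro R rfl I hI hs
    exact hB.split_one hfix hs hsq hI
  exact hgen _ (Cfsg.Agent.Orth.coe_qPlus m) _ (fun _ => mem_inndiag_plus) _

theorem field_plus_split_two (hm : 4 ≤ m) (h2 : (2 : F) ≠ 0) (hcard : Fintype.card F = Fintype.card F₀ ^ 2) :
    Cfsg.splitClassCount (Cfsg.inndiagPOmegaPlus m F) (Cfsg.Inn (Cfsg.POmega F (Cfsg.quadFormPlus m F)))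
      (semi 1 σ (isPair_field_plus (m := m) σ)) =
      if Odd m ∧ Fintype.card F₀ % 4 = 1 then 2 else 4 := by
  have hB := base_plus (m := m) φ hm
  obtain ⟨χ, hker, -, hrefl⟩ := Cfsg.Agent.Orth.exists_matrix_spinor (qPlus F m)
    (Cfsg.Agent.Orth.qPlus_nondeg m) (by simp; omega) (Or.inr (by simp; omega))
  have h20 : (2 : F₀) ≠ 0 := fun e => h2 (by rw [← map_ofNat φ, e, map_zero])
  have hodd0 : Odd (Fintype.card F₀) := Nat.odd_iff.2 (FiniteField.odd_card_of_char_ne_two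
    fun h => h20 (by haveI := ringChar.of_eq h; exact CharTwo.two_eq_zero))
  have hodd : Odd (Fintype.card F) := hcard ▸ hodd0.pow
  obtain ⟨c₀, hc₀⟩ := FiniteField.exists_nonsquare (F := F₀) (fun h => h20 (by
    haveI := ringChar.of_eq h; exact CharTwo.two_eq_zero))
  have hc₀0 : c₀ ≠ 0 := fun e => hc₀ (e ▸ IsSquare.zero)
  obtain ⟨s, hs⟩ := isSquare_base φ hcard c₀
  have hs0 : s ≠ 0 := fun e => (map_ne_zero φ).2 hc₀0 (by rw [hs, e, zero_mul])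
  obtain ⟨S, hS⟩ : ∃ S : Fˣ, (S : F) = s := ⟨Units.mk0 s hs0, rfl⟩
  obtain ⟨T, -, hT⟩ := exists_diag_hom (qPlus F m) ((plusWt m F).comp ((MonoidHom.id (Fin m → Fˣ)).prod 1))
    fun e z => by
      rw [show (fun k => ((((plusWt m F).comp ((MonoidHom.id (Fin m → Fˣ)).prod 1)) e k : Fˣ) : F) * z k) =
          mv (diagSim m F (e, 1)) z from funext fun k => (mv_diagSim (e, 1) z k).symm,
        Cfsg.Agent.Orth.coe_qPlus, quad_diagSim, Units.val_one, one_mul]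
  have hχ : (χ (T fun _ => S⁻¹)).2 = sqc F (S : F) ^ m := by
    rw [spin_diag (qPlus F m) hrefl Sum.inl Sum.inr (fun i j => Sum.inl_ne_inr) Sum.inl_injective
      Sum.inr_injective (fun i s => by
        rw [Cfsg.Agent.Orth.coe_qPlus]
        simp [Cfsg.quadFormPlus, Pi.single_apply])
      (fun z i s => by
        simp only [polar, Cfsg.Agent.Orth.coe_qPlus]
        simp [Cfsg.quadFormPlus, Pi.single_apply, add_mul, mul_add, Finset.sum_add_distrib]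
        ring)
      T (fun d z i => by rw [hT]; rfl) (fun d z i => by rw [hT]; simp [plusWt])
      (fun d z j hj => by rcases j with j | j; exacts [absurd rfl (hj j).1, absurd rfl (hj j).2]) S⁻¹]
    show sqc F ((S⁻¹ : Fˣ) : F) ^ m = _
    congr 1
    rw [Cfsg.Agent.Orth.sqc_unit, Cfsg.Agent.Orth.sqc_unit, QuotientGroup.eq]
    exact ⟨S, by rw [powMonoidHom_apply, inv_inv, pow_two]⟩
  obtain ⟨h₀, hh₀, hh₀'⟩ : ∃ h₀ : hB.par₀.simP, (h₀ : GL (Fin m ⊕ Fin m) F₀) = diagSim m F₀ (1, Units.mk0 c₀ hc₀0) ∧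
      ∀ v, qPlus F₀ m (mv (h₀ : GL (Fin m ⊕ Fin m) F₀) v) = c₀ * qPlus F₀ m v :=
    ⟨⟨_, by rw [Cfsg.Agent.Orth.coe_qPlus]; exact pair_diagSim _, pres_diagSim _⟩, rfl,
      (by rw [Cfsg.Agent.Orth.coe_qPlus]; exact quad_diagSim _ :
        ∀ v, qPlus F₀ m (mv (diagSim m F₀ (1, Units.mk0 c₀ hc₀0)) v) = c₀ * qPlus F₀ m v)⟩
  have hk₁ : (hB.simHom h₀ : GL (Fin m ⊕ Fin m) F) = scal S * (T (fun _ => S⁻¹) : GL (Fin m ⊕ Fin m) F) := by
    rw [hB.simHom_coe, hh₀, map_diagSim]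
    refine ext_mv fun z => funext fun k => ?_
    rw [mv_diagSim, mv_mul, scal_mv, Pi.smul_apply, hT, smul_eq_mul]
    rcases k with k | k
    · simp [plusWt]
    · simp [plusWt, hS, hs, mul_assoc]
  have hσ : Cfsg.IsSemisimilarityPair (⇑(qPlus F m)) (1 : GL (Fin m ⊕ Fin m) F) σ := by
    rw [Cfsg.Agent.Orth.coe_qPlus]; exact isPair_field_plus σ
  have hkey := hB.split_two hfix hσ (isSquare_base φ hcard)
    (fun c => ⟨diagSim m F (1, c), fun v => by rw [Cfsg.Agent.Orth.coe_qPlus]; exact quad_diagSim _ v,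
      pres_diagSim _⟩) h2 hker hrefl (c₀ := Units.mk0 c₀ hc₀0) hc₀ (h₀ := h₀) hh₀'
    (s := S) (k₁ := T fun _ => S⁻¹) hk₁
  have hcl : (χ (T fun _ => S⁻¹)).2 = 1 ↔ ¬ (Odd m ∧ Fintype.card F₀ % 4 = 1) := by
    rw [hχ]
    by_cases hsS : IsSquare (S : F)
    · rw [(Cfsg.Agent.Orth.sqc_eq_one_iff S.ne_zero).2 hsS, one_pow]
      have h3 := (isSquare_root_iff φ h2 hcard hc₀ hs.symm).1 (hS ▸ hsS)
      exact iff_of_true rfl fun h => by omega
    · rw [sqc_pow_eq_one hsS]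
      have h3 : ¬ Fintype.card F₀ % 4 = 3 := fun h => hsS (hS.symm ▸ (isSquare_root_iff φ h2 hcard hc₀ hs.symm).2 h)
      have h4 : Fintype.card F₀ % 4 = 1 := by obtain ⟨j, hj⟩ := hodd0; omega
      rw [← Nat.not_odd_iff_even]
      simp [h4]
  rw [hcl, ne_eq, hcl, not_not] at hkey
  have hgen : ∀ (R : (Fin m ⊕ Fin m → F) → F), ⇑(qPlus F m) = R →
      ∀ (I : Subgroup (MulAut (Cfsg.POmega F R))),
      (∀ β, β ∈ I ↔ ∃ (g : GL (Fin m ⊕ Fin m) F) (hg : Cfsg.IsSemisimilarityPair R g 1),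
        Cfsg.PreservesSingularClasses (Cfsg.quadFormPlus m F) (g : Matrix _ _ F) ∧ β = semi g 1 hg) →
      ∀ hs : Cfsg.IsSemisimilarityPair R (1 : GL (Fin m ⊕ Fin m) F) σ,
        (¬ (Odd m ∧ Fintype.card F₀ % 4 = 1) →
          I ⊓ Subgroup.centralizer {semi 1 σ hs} ≤ Cfsg.Inn (Cfsg.POmega F R)) ∧
        ((Odd m ∧ Fintype.card F₀ % 4 = 1) →
          Cfsg.splitClassCount I (Cfsg.Inn (Cfsg.POmega F R)) (semi 1 σ hs) = 2) := by
    rintro R rfl I hI hs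
    rw [← hB.par.range_act hI]
    exact hkey
  obtain ⟨hA, hC⟩ := hgen _ (Cfsg.Agent.Orth.coe_qPlus m) _ (fun _ => mem_inndiag_plus)
    (isPair_field_plus (m := m) σ)
  by_cases hc : Odd m ∧ Fintype.card F₀ % 4 = 1
  · rw [if_pos hc, hC hc]
  rw [if_neg hc]
  obtain ⟨-, -, -, -, -, -, h4, h22⟩ := final_plus (F := F) hodd hm
  have hN : ¬ (Odd m ∧ Fintype.card F % 4 = 3) := fun h => by
    have : Fintype.card F % 4 = 1 := by
      obtain ⟨j, hj⟩ := hodd0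
      rw [hcard, hj, show (2 * j + 1) ^ 2 = 4 * (j * j + j) + 1 by ring]; omega
    omega
  have fin : ∀ (A : Type) [CommGroup A] (θ : ↥(Cfsg.inndiagPOmegaPlus m F) →* A),
      Function.Surjective θ → θ.ker = (Cfsg.Inn (Cfsg.POmega F (Cfsg.quadFormPlus m F))).subgroupOf
        (Cfsg.inndiagPOmegaPlus m F) → Nat.card A = 4 →
      Cfsg.splitClassCount (Cfsg.inndiagPOmegaPlus m F) (Cfsg.Inn (Cfsg.POmega F (Cfsg.quadFormPlus m F)))
        (semi 1 σ (isPair_field_plus (m := m) σ)) = 4 := by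
    intro A _ θ hθ hθk hA4
    rw [split_index _ _ inn_le_plus _ θ hθ hθk]
    have hbot : ((Subgroup.centralizer {semi 1 σ (isPair_field_plus (m := m) σ)}).subgroupOf
        (Cfsg.inndiagPOmegaPlus m F)).map θ = ⊥ := (Subgroup.eq_bot_iff_forall _).2 (by
      rintro _ ⟨z, hz, rfl⟩
      exact MonoidHom.mem_ker.1 (hθk ▸ hA hc ⟨z.2, hz⟩))
    rw [hbot, Subgroup.index_bot, hA4]
  rcases Nat.even_or_odd m with he | ho
  · obtain ⟨θ, hθ, hθk⟩ := h22 hN he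
    exact fin _ θ hθ hθk (by rw [Nat.card_eq_fintype_card]; rfl)
  · obtain ⟨θ, hθ, hθk⟩ := h4 hN (Nat.not_even_iff_odd.2 ho)
    exact fin _ θ hθ hθk (by rw [Nat.card_eq_fintype_card]; rfl)

end Cfsg.Agent.AutPOmega
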