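import Cfsg.Agent.Lib.AutPOmega.Involution
import Mathlib.LinearAlgebra.Eigenspace.Zero
import Mathlib.RingTheory.Artinian.Module

/-!
Isometries commuting with a fixed-point-free isometry of odd order are proper.
-/

set_option autoImplicit false

namespace Cfsg.Agent.AutPOmega

open Matrix Module

section Module

variable {K : Type*} [Field K] {V : Type*} [AddCommGroup V] [Module K V] [FiniteDimensional K V]

/-- The determinant of a translate of an isometry. -/
theorem det_translate {B : LinearMap.BilinForm K V} (hB : B.Nondegenerate) {Y : Module.End K V}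
    (hY : ∀ u v, B (Y u) (Y v) = B u v) :
    Y.det * Y.det = 1 ∧ ∀ t : K, (Y + t • 1).det * Y.det = (1 + t • Y).det := by
  let b := Module.finBasis K V
  have hne : (LinearMap.BilinForm.toMatrix b B).det ≠ 0 :=
    (LinearMap.BilinForm.nondegenerate_iff_det_ne_zero b).1 hB
  have e1 : B.comp Y Y = B := LinearMap.ext fun u => LinearMap.ext fun v => hY u v
  have e2 : ∀ t : K, B.comp (Y + t • 1) Y = B.comp LinearMap.id (1 + t • Y) := fun t =>
    LinearMap.ext fun u => LinearMap.ext fun v => by
      simp [hY, map_add, LinearMap.BilinForm.comp_apply]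
  constructor
  · have h := congrArg (fun T => (LinearMap.BilinForm.toMatrix b T).det) e1
    simp only [LinearMap.BilinForm.toMatrix_comp b b, Matrix.det_mul, Matrix.det_transpose,
      LinearMap.det_toMatrix] at h
    exact mul_right_cancel₀ hne (by linear_combination h)
  · intro t
    have h := congrArg (fun T => (LinearMap.BilinForm.toMatrix b T).det) (e2 t)
    simp only [LinearMap.BilinForm.toMatrix_comp b b, Matrix.det_mul, Matrix.det_transpose,
      LinearMap.det_toMatrix, LinearMap.det_id] at h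
    exact mul_right_cancel₀ hne (by linear_combination h)

theorem det_ne_zero_of_injective {T : Module.End K V} (h : ∀ v, T v = 0 → v = 0) : T.det ≠ 0 := fun e => by
  have := LinearMap.det_eq_zero_iff_ker_ne_bot.1 e
  exact this (LinearMap.ker_eq_bot'.2 h)

theorem det_eq_one_of_no_neg {B : LinearMap.BilinForm K V} (hB : B.Nondegenerate) {Y : Module.End K V}
    (hY : ∀ u v, B (Y u) (Y v) = B u v) (h : ∀ v, Y v = -v → v = 0) : Y.det = 1 := by
  have e := (det_translate hB hY).2 1
  rw [one_smul, one_smul, add_comm 1 Y] at e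
  refine (mul_eq_left₀ (det_ne_zero_of_injective fun v hv => h v ?_)).1 e
  rw [LinearMap.add_apply, Module.End.one_apply] at hv
  exact eq_neg_of_add_eq_zero_left hv

theorem even_finrank_of_free {B : LinearMap.BilinForm K V} (h2 : (2 : K) ≠ 0) (hB : B.Nondegenerate)
    {G : Module.End K V} (hG : ∀ u v, B (G u) (G v) = B u v) {r : ℕ} (hr : Odd r) (hGr : G ^ r = 1)
    (hfree : ∀ v, G v = v → v = 0) : Even (finrank K V) := by
  obtain ⟨h1, h2'⟩ := det_translate hB hG
  have hd : G.det = 1 := by
    have e : G.det ^ r = 1 := by rw [← map_pow, hGr, map_one]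
    obtain ⟨j, rfl⟩ := hr
    rwa [pow_succ, pow_mul, pow_two, h1, one_pow, one_mul] at e
  have e := h2' (-1)
  rw [hd, mul_one, show (1 + (-1 : K) • G) = (-1 : K) • (G + (-1 : K) • (1 : Module.End K V)) by
    rw [smul_add, smul_smul, neg_one_mul, neg_neg, one_smul, add_comm],
    LinearMap.det_smul] at e
  have hne : (G + (-1 : K) • (1 : Module.End K V)).det ≠ 0 := det_ne_zero_of_injective fun v hv => hfree v (by
    simpa [← sub_eq_add_neg, sub_eq_zero] using hv)
  rcases Nat.even_or_odd (finrank K V) with h | h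
  · exact h
  · rw [h.neg_one_pow, neg_one_mul] at e
    exact absurd (mul_left_cancel₀ hne (by linear_combination e : _ * (2 : K) = _ * 0)) h2

/-- The main lemma. -/
theorem det_eq_one_of_comm {B : LinearMap.BilinForm K V} (h2 : (2 : K) ≠ 0) (hB : B.Nondegenerate)
    {G Y : Module.End K V} (hG : ∀ u v, B (G u) (G v) = B u v) (hY : ∀ u v, B (Y u) (Y v) = B u v)
    (hcomm : ∀ v, G (Y v) = Y (G v)) {r : ℕ} (hr : Odd r) (hGr : G ^ r = 1) (hfree : ∀ v, G v = v → v = 0) :
    Y.det = 1 := by
  obtain ⟨A, hA⟩ : ∃ A : Module.End K V, A = Y + 1 := ⟨_, rfl⟩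
  obtain ⟨n₀, hn₀⟩ := Filter.eventually_atTop.1 (LinearMap.eventually_isCompl_ker_pow_range_pow A)
  obtain ⟨n, hn⟩ : ∃ n, n = n₀ + 1 := ⟨_, rfl⟩
  have hc := hn₀ n (by omega)
  obtain ⟨N, hN⟩ : ∃ N, N = LinearMap.ker (A ^ n) := ⟨_, rfl⟩
  obtain ⟨M, hM⟩ : ∃ M, M = LinearMap.range (A ^ n) := ⟨_, rfl⟩
  rw [← hN, ← hM] at hc
  have hYA : ∀ m : ℕ, ∀ v, (A ^ m) (Y v) = Y ((A ^ m) v) := fun m => by
    induction m with
    | zero => simp
    | succ m ih => intro v; rw [pow_succ', Module.End.mul_apply, Module.End.mul_apply, ih, hA]; simp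
  have hGA : ∀ m : ℕ, ∀ v, (A ^ m) (G v) = G ((A ^ m) v) := fun m => by
    induction m with
    | zero => simp
    | succ m ih => intro v; rw [pow_succ', Module.End.mul_apply, Module.End.mul_apply, ih, hA]; simp [hcomm]
  have hYN : ∀ v ∈ N, Y v ∈ N := fun v hv => by
    rw [hN, LinearMap.mem_ker] at hv ⊢
    rw [hYA, hv, map_zero]
  have hYM : ∀ v ∈ M, Y v ∈ M := fun v hv => by
    rw [hM, LinearMap.mem_range] at hv ⊢
    obtain ⟨w, rfl⟩ := hv
    exact ⟨Y w, hYA n w⟩
  have hGN : ∀ v ∈ N, G v ∈ N := fun v hv => by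
    rw [hN, LinearMap.mem_ker] at hv ⊢
    rw [hGA, hv, map_zero]
  have hadj : ∀ m : ℕ, ∀ u, (A ^ m) u = 0 → ∀ z, B u ((A ^ m) z) = 0 := fun m => by
    induction m with
    | zero => intro u hu z; rw [pow_zero, Module.End.one_apply] at hu; rw [hu]; simp
    | succ m ih =>
      intro u hu z
      have hYinj : Function.Injective Y := (injective_iff_map_eq_zero Y).2 fun v hv => by
        refine hB.1 v fun w => ?_
        rw [← hY, hv, map_zero, LinearMap.zero_apply]
      obtain ⟨u', rfl⟩ := LinearMap.injective_iff_surjective.1 hYinj u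
      have e : B (Y u') ((A ^ (m + 1)) z) = B (A u') ((A ^ m) z) := by
        rw [pow_succ', Module.End.mul_apply, hA]
        simp only [LinearMap.add_apply, Module.End.one_apply, map_add, hY]
        ring
      rw [e]
      refine ih _ ?_ z
      have h1 : (A ^ (m + 1)) u' = 0 := hYinj (by rw [← hYA, hu, map_zero])
      rwa [pow_succ, Module.End.mul_apply] at h1
  have horth : ∀ u ∈ N, ∀ w ∈ M, B u w = 0 := fun u hu w hw => by
    rw [hN, LinearMap.mem_ker] at hu
    rw [hM, LinearMap.mem_range] at hw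
    obtain ⟨z, rfl⟩ := hw
    exact hadj n u hu z
  have horth' : ∀ w ∈ M, ∀ u ∈ N, B w u = 0 := fun w hw u hu => by
    rw [hM, LinearMap.mem_range] at hw
    obtain ⟨z, rfl⟩ := hw
    rw [hN, LinearMap.mem_ker] at hu
    have hflip : ∀ m : ℕ, ∀ u, (A ^ m) u = 0 → ∀ z, B ((A ^ m) z) u = 0 := fun m => by
      induction m with
      | zero => intro u hu z; rw [pow_zero, Module.End.one_apply] at hu; rw [hu]; simp
      | succ m ih =>
        intro u hu z
        have hYinj : Function.Injective Y := (injective_iff_map_eq_zero Y).2 fun v hv => by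
          refine hB.1 v fun w => ?_
          rw [← hY, hv, map_zero, LinearMap.zero_apply]
        obtain ⟨u', rfl⟩ := LinearMap.injective_iff_surjective.1 hYinj u
        have e : B ((A ^ (m + 1)) z) (Y u') = B ((A ^ m) z) (A u') := by
          rw [pow_succ', Module.End.mul_apply, hA]
          simp only [LinearMap.add_apply, Module.End.one_apply, map_add, hY]
          ring
        rw [e]
        refine ih _ ?_ z
        have h1 : (A ^ (m + 1)) u' = 0 := hYinj (by rw [← hYA, hu, map_zero])
        rwa [pow_succ, Module.End.mul_apply] at h1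
    exact hflip n u hu z
  have hnd : ∀ (S T : Submodule K V), IsCompl S T → (∀ u ∈ S, ∀ w ∈ T, B u w = 0) → (∀ u ∈ T, ∀ w ∈ S, B u w = 0) →
      (B.restrict S).Nondegenerate := by
    intro S T hST h1 h2
    refine ⟨fun x hx => Subtype.ext (hB.1 (x : V) fun y => ?_), fun x hx => Subtype.ext (hB.2 (x : V) fun y => ?_)⟩
    · obtain ⟨u, hu, w, hw, rfl⟩ := Submodule.mem_sup.1 (hST.sup_eq_top.symm.le (Submodule.mem_top : y ∈ ⊤))
      rw [map_add, h1 _ x.2 w hw, add_zero]
      exact hx ⟨u, hu⟩
    · obtain ⟨u, hu, w, hw, rfl⟩ := Submodule.mem_sup.1 (hST.sup_eq_top.symm.le (Submodule.mem_top : y ∈ ⊤))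
      rw [map_add, LinearMap.add_apply, h2 w hw _ x.2, add_zero]
      exact hx ⟨u, hu⟩
  have hdN : (Y.restrict hYN).det = 1 := by
    have hev := even_finrank_of_free h2 (hnd N M hc horth horth') (G := G.restrict hGN)
      (fun u v => hG u v) hr (by
        rw [Module.End.pow_restrict]
        refine LinearMap.ext fun v => Subtype.ext ?_
        show (G ^ r) (v : V) = _
        rw [hGr]; rfl)
      (fun v hv => Subtype.ext (hfree _ (congrArg Subtype.val hv)))
    obtain ⟨T, hT⟩ : ∃ T : Module.End K N, T = Y.restrict hYN + 1 := ⟨_, rfl⟩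
    have hnil : IsNilpotent T := ⟨n, LinearMap.ext fun v => Subtype.ext (by
      have key : ∀ m : ℕ, ∀ v : N, ((T ^ m) v : V) = (A ^ m) (v : V) := fun m => by
        induction m with
        | zero => simp
        | succ m ih => intro v; rw [pow_succ', pow_succ', Module.End.mul_apply, Module.End.mul_apply, ← ih, hT, hA]; rfl
      rw [key]
      exact (LinearMap.mem_ker.1 (hN.le v.2)).trans rfl)⟩
    have h := LinearMap.eval_charpoly T 1
    rw [hnil.charpoly_eq_X_pow_finrank, Polynomial.eval_pow, Polynomial.eval_X, one_pow, map_one] at h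
    rw [show Y.restrict hYN = (-1 : K) • (1 - T) by rw [hT]; simp, LinearMap.det_smul, ← h, mul_one,
      hev.neg_one_pow]
  have hdM : (Y.restrict hYM).det = 1 := det_eq_one_of_no_neg (hnd M N hc.symm horth' horth) (fun u v => hY u v)
    fun v hv => by
      have h1 : A (v : V) = 0 := by
        rw [hA, LinearMap.add_apply, Module.End.one_apply, show Y (v : V) = -(v : V) from congrArg Subtype.val hv]
        exact neg_add_cancel (v : V)
      have h2 : (v : V) ∈ N := by
        rw [hN, LinearMap.mem_ker, hn, pow_succ, Module.End.mul_apply, h1, map_zero]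
      exact Subtype.ext (Submodule.disjoint_def.1 hc.disjoint _ h2 v.2)
  let e := Submodule.prodEquivOfIsCompl N M hc
  have hf : Y = (e : _ →ₗ[K] V).comp
      (((Y.restrict hYN).prodMap (Y.restrict hYM)).comp (e.symm : V →ₗ[K] _)) := by
    refine LinearMap.ext fun x => ?_
    obtain ⟨⟨u, w⟩, rfl⟩ := e.surjective x
    simp only [LinearMap.comp_apply, LinearEquiv.coe_coe, e.symm_apply_apply, LinearMap.prodMap_apply]
    show Y ((u : V) + (w : V)) = Y u + Y w
    rw [map_add]
  rw [hf, LinearMap.det_conj, LinearMap.det_prodMap, hdN, hdM, one_mul]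

end Module

end Cfsg.Agent.AutPOmega
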