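import Cfsg.Agent.Lib.AutPOmega.Main
import Cfsg.Agent.Lib.Orthogonal.Counts

/-!
The three standard forms: non-degeneracy and their totally singular subspaces.
-/

set_option autoImplicit false

namespace Cfsg.Agent.AutPOmega

open Cfsg.Agent.Transvec Cfsg.Agent.Transvec.Orth

variable {F : Type*} [Field F]

theorem geo_of {ι : Type} [Fintype ι] (Q : QuadraticForm F (ι → F))
    (hQ : (QuadraticMap.polarBilin Q).Nondegenerate) : Geo.IsNondegenerateQuadraticForm (⇑Q) := by
  refine ⟨fun c v => by rw [QuadraticMap.map_smul, smul_eq_mul, sq],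
    ⟨fun x y v => QuadraticMap.polar_add_left Q x y v,
      fun c x v => by rw [QuadraticMap.polar_smul_left, smul_eq_mul],
      fun v x y => QuadraticMap.polar_add_right Q v x y,
      fun c v x => by rw [QuadraticMap.polar_smul_right, smul_eq_mul]⟩, fun v hv => ?_⟩
  suffices h : ∃ x, QuadraticMap.polar Q x v ≠ 0 from
    ⟨h, h.imp fun x hx => by rwa [QuadraticMap.polar_comm]⟩
  by_contra h
  push Not at h
  exact hv (hQ.2 v fun x => h x)

theorem geo_odd (h2 : (2 : F) ≠ 0) (m : ℕ) :
    Geo.IsNondegenerateQuadraticForm (Cfsg.quadFormOdd m F) := by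
  rw [← Cfsg.Agent.Orth.coe_qOdd]
  exact geo_of _ (Cfsg.Agent.Orth.qOdd_nondeg h2 m)

theorem geo_plus (m : ℕ) : Geo.IsNondegenerateQuadraticForm (Cfsg.quadFormPlus m F) := by
  rw [← Cfsg.Agent.Orth.coe_qPlus]
  exact geo_of _ (Cfsg.Agent.Orth.qPlus_nondeg m)

theorem geo_minus [Finite F] {a b : F}
    (hab : ∀ z₁ z₂ : F, z₁ ^ 2 + a * z₁ * z₂ + b * z₂ ^ 2 = 0 → z₁ = 0 ∧ z₂ = 0) (m : ℕ) :
    Geo.IsNondegenerateQuadraticForm (Cfsg.quadFormMinus m F a b) := by
  rw [← Cfsg.Agent.Orth.coe_qMinus]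
  exact geo_of _ (Cfsg.Agent.Orth.qMinus_nondeg hab m)

/-- Totally singular subspaces of the minus-type space have dimension at most `m`. -/
theorem finrank_singular_minus [Finite F] {a b : F}
    (hab : ∀ z₁ z₂ : F, z₁ ^ 2 + a * z₁ * z₂ + b * z₂ ^ 2 = 0 → z₁ = 0 ∧ z₂ = 0) (m : ℕ)
    (U : Submodule F ((Fin m ⊕ Fin m) ⊕ Fin 2 → F))
    (hU : ∀ x ∈ U, Cfsg.quadFormMinus m F a b x = 0) : Module.finrank F U ≤ m := by
  have hQ := geo_minus hab m
  -- coordinates along the two halves
  let Y : ((Fin m ⊕ Fin m) ⊕ Fin 2 → F) →ₗ[F] (Fin m → F) :=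
    LinearMap.funLeft F F (Sum.inl ∘ Sum.inr)
  let X : ((Fin m ⊕ Fin m) ⊕ Fin 2 → F) →ₗ[F] (Fin m → F) :=
    LinearMap.funLeft F F (Sum.inl ∘ Sum.inl)
  let K : Submodule F U := LinearMap.ker (Y.comp U.subtype)
  have hK : ∀ k : K, (k : U).1 ∘ Sum.inr = 0 := fun k => by
    have hy : ∀ i, (k : U).1 (.inl (.inr i)) = 0 := fun i => congrFun (LinearMap.mem_ker.1 k.2) i
    have h1 := hU _ (k : U).2
    simp only [Cfsg.quadFormMinus, hy, mul_zero, Finset.sum_const_zero, zero_add] at h1
    obtain ⟨e1, e2⟩ := hab _ _ h1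
    funext j
    fin_cases j <;> assumption
  have hinj : Function.Injective ((X.comp U.subtype).comp K.subtype) := by
    intro k k' e
    refine Subtype.ext (Subtype.ext (funext fun i => ?_))
    rcases i with (i | i) | i
    · exact congrFun e i
    · exact (congrFun (LinearMap.mem_ker.1 k.2) i).trans (congrFun (LinearMap.mem_ker.1 k'.2) i).symm
    · exact (congrFun (hK k) i).trans (congrFun (hK k') i).symm
  -- the second half is annihilated by the first
  obtain ⟨R, hR⟩ : ∃ R, R = LinearMap.range (Y.comp U.subtype) := ⟨_, rfl⟩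
  obtain ⟨L, hL⟩ : ∃ L, L = LinearMap.range ((X.comp U.subtype).comp K.subtype) := ⟨_, rfl⟩
  let T : L →ₗ[F] Module.Dual F (Fin m → F) :=
    (dotProductEquiv F (Fin m)).toLinearMap.comp L.subtype
  have hT : LinearMap.range T ≤ R.dualAnnihilator := by
    rintro _ ⟨⟨x, hx⟩, rfl⟩
    rw [Submodule.mem_dualAnnihilator]
    intro y hy
    rw [hR] at hy
    obtain ⟨u, rfl⟩ := hy
    rw [hL] at hx
    obtain ⟨k, rfl⟩ := hx
    have hz := hK k
    have hy0 : ∀ i, (k : U).1 (.inl (.inr i)) = 0 := fun i => congrFun (LinearMap.mem_ker.1 k.2) i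
    have h1 := hU _ (U.add_mem (k : U).2 u.2)
    have h2 := hU _ u.2
    have e0 : (k : U).1 (.inr 0) = 0 := congrFun hz 0
    have e1 : (k : U).1 (.inr 1) = 0 := congrFun hz 1
    simp only [Cfsg.quadFormMinus, Pi.add_apply, hy0, e0, e1, zero_add, add_mul,
      Finset.sum_add_distrib] at h1 h2
    show ((X.comp U.subtype).comp K.subtype k) ⬝ᵥ (Y.comp U.subtype u) = 0
    simp only [dotProduct, X, Y, LinearMap.comp_apply, LinearMap.funLeft_apply, Submodule.subtype_apply,
      Function.comp_apply]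
    linear_combination h1 - h2
  have hTinj : Function.Injective T := fun x y e =>
    Subtype.ext ((dotProductEquiv F (Fin m)).injective e)
  have h1 := Submodule.finrank_mono hT
  rw [LinearMap.finrank_range_of_inj hTinj] at h1
  have h2 := Subspace.finrank_add_finrank_dualAnnihilator_eq R
  rw [Module.finrank_fin_fun] at h2
  have h3 : Module.finrank F L = Module.finrank F K := by
    rw [hL, LinearMap.finrank_range_of_inj hinj]
  have h4 := (Y.comp U.subtype).finrank_range_add_finrank_ker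
  rw [← hR] at h4
  change Module.finrank F R + Module.finrank F K = Module.finrank F U at h4
  omega

/-- In dimension seven there are no totally singular subspaces of dimension four. -/
theorem finrank_singular_seven {ι : Type} [Fintype ι] [DecidableEq ι] {Q : (ι → F) → F}
    (hQ : Geo.IsNondegenerateQuadraticForm Q) (h7 : Fintype.card ι = 7) (U : Submodule F (ι → F))
    (hU : ∀ x ∈ U, Q x = 0) : Module.finrank F U ≤ 3 := by
  have h := finrank_totally_orth_le hQ (nondeg_top hQ) (le_top : U ≤ ⊤) fun x hx y hy => by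
    have := hU _ (U.add_mem hx hy)
    rwa [Transvec.Orth.q_add hQ, hU x hx, hU y hy, zero_add, zero_add] at this
  rw [finrank_top, Module.finrank_pi, h7] at h
  omega

end Cfsg.Agent.AutPOmega

namespace Cfsg.Agent.AutPOmega

theorem two_ne_zero_of_odd {F : Type*} [Field F] [Fintype F] (hodd : Odd (Fintype.card F)) : (2 : F) ≠ 0 :=
  Ring.two_ne_zero fun h => by
    have := FiniteField.even_card_iff_char_two.1 h
    rw [Nat.odd_iff] at hodd
    omega

end Cfsg.Agent.AutPOmega
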