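import Cfsg.Agent.Lib.AutPOmega.Basic

/-!
Transitivity on singular points, the radical of the stabiliser of a point and the root groups of singular lines.
-/

set_option autoImplicit false

namespace Cfsg.Agent.AutPOmega

open Matrix Cfsg.Agent.Transvec Cfsg.Agent.Transvec.Orth

variable {ι : Type} [Fintype ι] [DecidableEq ι] {F : Type*} [Field F] {Q : (ι → F) → F}

local notation "Vι" => ι → F
local notation "Om" => Cfsg.Omega F Q

/-- The radical of the stabiliser of a point. -/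
def rad (Q : (ι → F) → F) (e : Vι) : Subgroup (Cfsg.Omega F Q) where
  carrier := {s | act s e = e ∧ ∀ w, pol Q w e = 0 → ∃ l : F, act s w = w + l • e}
  one_mem' := ⟨act_one e, fun w _ => ⟨0, by rw [act_one]; simp⟩⟩
  mul_mem' := by
    rintro s t ⟨hs, hs'⟩ ⟨ht, ht'⟩
    refine ⟨by rw [act_mul, ht, hs], fun w hw => ?_⟩
    obtain ⟨k, hk⟩ := ht' w hw
    obtain ⟨l, hl⟩ := hs' w hw
    exact ⟨l + k, by rw [act_mul, hk, act_add, act_smul, hl, hs, add_assoc, ← add_smul]⟩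
  inv_mem' := by
    rintro s ⟨hs, hs'⟩
    have hi : act s⁻¹ e = e := by
      conv_lhs => rw [← hs]
      exact act_inv_act s e
    refine ⟨hi, fun w hw => ?_⟩
    obtain ⟨l, hl⟩ := hs' w hw
    refine ⟨-l, act_inj s ?_⟩
    rw [act_act_inv, act_add, act_smul, hl, hs, add_assoc, ← add_smul, add_neg_cancel, zero_smul,
      add_zero]

theorem mem_rad {e : Vι} {s : Om} :
    s ∈ rad Q e ↔ act s e = e ∧ ∀ w, pol Q w e = 0 → ∃ l : F, act s w = w + l • e := Iff.rfl

theorem rad_conj {e : Vι} (t : Om) {s : Om} (hs : s ∈ rad Q e) :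
    t * s * t⁻¹ ∈ rad Q (act t e) := by
  refine ⟨by rw [act_mul, act_mul, act_inv_act, hs.1], fun w hw => ?_⟩
  obtain ⟨l, hl⟩ := hs.2 (act t⁻¹ w) (by rw [← act_pol t, act_act_inv]; exact hw)
  exact ⟨l, by rw [act_mul, act_mul, hl, act_add, act_smul, act_act_inv]⟩

/-- The root group of a singular line. -/
def root (Q : (ι → F) → F) (u v : Vι) : Subgroup (Cfsg.Omega F Q) := rad Q u ⊓ rad Q v

theorem root_conj {u v : Vι} (t : Om) {s : Om} (hs : s ∈ root Q u v) :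
    t * s * t⁻¹ ∈ root Q (act t u) (act t v) :=
  ⟨rad_conj t hs.1, rad_conj t hs.2⟩

/-- The weight of an element relative to a pair. -/
def wt (e f : Vι) (s : Om) : Vι := proj Q e f (act s f)

variable (hQ : Geo.IsNondegenerateQuadraticForm Q)
include hQ

theorem rad_smul {a : F} (ha : a ≠ 0) (e : Vι) : rad Q (a • e) = rad Q e := by
  ext s
  simp only [mem_rad, act_smul, pol_smul_right hQ, mul_eq_zero, ha, false_or]
  constructor
  · rintro ⟨h1, h2⟩
    refine ⟨smul_right_injective _ ha h1, fun w hw => ?_⟩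
    obtain ⟨l, hl⟩ := h2 w hw
    exact ⟨l * a, by rw [hl, smul_smul]⟩
  · rintro ⟨h1, h2⟩
    refine ⟨by rw [h1], fun w hw => ?_⟩
    obtain ⟨l, hl⟩ := h2 w hw
    exact ⟨l / a, by rw [hl, smul_smul, div_mul_cancel₀ _ ha]⟩

theorem siegel_mem_rad {e y : Vι} {s : Om} (he : Q e = 0) (hy : pol Q e y = 0)
    (hs : IsSiegel Q (gl s) e y) : s ∈ rad Q e := by
  refine ⟨?_, fun w hw => ⟨-(pol Q w y), ?_⟩⟩
  · show mv _ e = e
    rw [hs, pol_self_sing hQ he, hy]; simp
  · show mv _ w = _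
    rw [hs, hw]; simp [sub_eq_add_neg]

theorem proj_of_mem {e f v : Vι} (hv : v ∈ perp hQ e f) : proj Q e f v = v := by
  simp [proj, hv.1, hv.2]

theorem proj_e {e f : Vι} (hp : Pair Q e f) : proj Q e f e = 0 := by
  simp [proj, pol_self_sing hQ hp.1, hp.2.2]

theorem proj_f {e f : Vι} (hp : Pair Q e f) : proj Q e f f = 0 := by
  simp [proj, pol_self_sing hQ hp.2.1, Orth.pol_comm f e, hp.2.2]

theorem coord {e f v : Vι} (hp : Pair Q e f) (hv : v ∈ perp hQ e f) {a b : F} {x : Vι}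
    (hx : x = a • e + b • f + v) : pol Q x f = a ∧ pol Q x e = b ∧ proj Q e f x = v := by
  subst hx
  obtain ⟨he, hf, hef⟩ := hp
  have h1 : pol Q (a • e + b • f + v) f = a := by
    rw [pol_add_left hQ, pol_add_left hQ, pol_smul_left hQ, pol_smul_left hQ, hef,
      pol_self_sing hQ hf, hv.2]; ring
  have h2 : pol Q (a • e + b • f + v) e = b := by
    rw [pol_add_left hQ, pol_add_left hQ, pol_smul_left hQ, pol_smul_left hQ, Orth.pol_comm f e, hef,
      pol_self_sing hQ he, hv.1]; ring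
  refine ⟨h1, h2, ?_⟩
  rw [proj, h1, h2]; abel

theorem proj_add (e f x y : Vι) : proj Q e f (x + y) = proj Q e f x + proj Q e f y := by
  simp only [proj, pol_add_left hQ, add_smul]; abel

theorem proj_smul (e f : Vι) (c : F) (x : Vι) : proj Q e f (c • x) = c • proj Q e f x := by
  simp only [proj, pol_smul_left hQ, smul_sub, mul_smul]

theorem wt_mem {e f : Vι} (hp : Pair Q e f) (s : Om) : wt e f s ∈ perp hQ e f := proj_mem hQ hp _

variable [Finite F] (h5 : 5 ≤ Fintype.card ι)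

omit [Finite F] in
theorem perp_mem_pol {e f v : Vι} (hv : v ∈ perp hQ e f) : pol Q e v = 0 := by
  rw [Orth.pol_comm]; exact hv.1

include h5

theorem exists_wt {e f v : Vι} (hp : Pair Q e f) (hv : v ∈ perp hQ e f) :
    ∃ s ∈ rad Q e, IsSiegel Q (gl s) e v ∧ wt e f s = v ∧ act s f = (-Q v) • e + (1 : F) • f + v := by
  obtain ⟨s, hs⟩ := exists_om hQ h5 hp.1 (perp_mem_pol hQ hv)
  have hsf : act s f = (-Q v) • e + (1 : F) • f + v := by
    show mv _ f = _
    rw [hs, Orth.pol_comm f e, hp.2.2, Orth.pol_comm f v, hv.2]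
    module
  exact ⟨s, siegel_mem_rad hQ hp.1 (perp_mem_pol hQ hv) hs, hs, (coord hQ hp hv hsf).2.2, hsf⟩

theorem isSiegel_wt {e f : Vι} (hp : Pair Q e f) {s : Om} (hs : s ∈ rad Q e) :
    IsSiegel Q (gl s) e (wt e f s) ∧ act s f = (-Q (wt e f s)) • e + (1 : F) • f + wt e f s := by
  obtain ⟨u, hu, hus, huw, huf⟩ := exists_wt hQ h5 hp (wt_mem hQ hp s)
  obtain ⟨x, hx⟩ : ∃ x, x = act s f := ⟨_, rfl⟩
  have hxe : pol Q x e = 1 := by
    rw [hx]
    conv_lhs => arg 3; rw [← hs.1]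
    rw [act_pol, Orth.pol_comm, hp.2.2]
  have hxq := q_decomp hQ hp x
  have hq0 : Q x = 0 := by rw [hx, act_q (Q := Q), hp.2.1]
  rw [hq0, hxe, mul_one] at hxq
  have hxf : act s f = act u f := by
    rw [huf, wt, ← hx]
    conv_lhs => rw [decomp hQ e f x, hxe, show pol Q x f = -Q (proj Q e f x) by linear_combination -hxq]
  suffices h : s = u by rw [h]; exact ⟨huw.symm ▸ hus, huw.symm ▸ huf⟩
  obtain ⟨w, hw⟩ : ∃ w, w = u⁻¹ * s := ⟨_, rfl⟩
  have hwr : w ∈ rad Q e := hw ▸ mul_mem (inv_mem hu) hs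
  have hwf : act w f = f := by rw [hw, act_mul, hxf, act_inv_act]
  have hw1 : w = 1 := ext_act fun y => by
    rw [act_one]
    obtain ⟨l, hl⟩ := hwr.2 (proj Q e f y) (proj_mem hQ hp y).1
    have e1 := act_pol w (proj Q e f y) f
    rw [hl, hwf, (proj_mem hQ hp y).2, pol_add_left hQ, (proj_mem hQ hp y).2, pol_smul_left hQ,
      hp.2.2, zero_add, mul_one] at e1
    rw [e1, zero_smul, add_zero] at hl
    conv_lhs => rw [decomp hQ e f y, act_add, act_add, act_smul, act_smul, hwr.1, hwf, hl]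
    exact (decomp hQ e f y).symm
  exact (inv_mul_eq_one.1 (hw ▸ hw1)).symm

theorem wt_inj {e f : Vι} (hp : Pair Q e f) {s t : Om} (hs : s ∈ rad Q e) (ht : t ∈ rad Q e)
    (h : wt e f s = wt e f t) : s = t :=
  Subtype.ext (Subtype.ext (isSiegel_unique (isSiegel_wt hQ h5 hp hs).1 (h ▸ (isSiegel_wt hQ h5 hp ht).1)))

theorem wt_mul {e f : Vι} (hp : Pair Q e f) {s t : Om} (hs : s ∈ rad Q e) (ht : t ∈ rad Q e) :
    wt e f (s * t) = wt e f s + wt e f t := by
  have hm := add_mem (wt_mem hQ hp s) (wt_mem hQ hp t)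
  obtain ⟨u, -, hu, huw, -⟩ := exists_wt hQ h5 hp hm
  have e1 : s * t = u := Subtype.ext (Subtype.ext (isSiegel_unique
    (isSiegel_mul hQ hp.1 (perp_mem_pol hQ (wt_mem hQ hp s)) (perp_mem_pol hQ (wt_mem hQ hp t))
      (isSiegel_wt hQ h5 hp hs).1 (isSiegel_wt hQ h5 hp ht).1) hu))
  rw [e1, huw]

omit h5 [Finite F] in
theorem wt_one {e f : Vι} (hp : Pair Q e f) : wt e f (1 : Om) = 0 := by
  rw [wt, act_one, proj_f hQ hp]

theorem rad_commute {e f : Vι} (hp : Pair Q e f) {s t : Om} (hs : s ∈ rad Q e) (ht : t ∈ rad Q e) :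
    Commute s t :=
  wt_inj hQ h5 hp (mul_mem hs ht) (mul_mem ht hs) (by
    rw [wt_mul hQ h5 hp hs ht, wt_mul hQ h5 hp ht hs, add_comm])

theorem act_W {e f : Vι} (hp : Pair Q e f) {s : Om} (hs : s ∈ rad Q e) {w : Vι}
    (hw : w ∈ perp hQ e f) : act s w = w + (-pol Q w (wt e f s)) • e := by
  show mv _ w = _
  rw [(isSiegel_wt hQ h5 hp hs).1, hw.1]
  module

theorem rad_pow {e f : Vι} (hp : Pair Q e f) (p : ℕ) [CharP F p] {s : Om} (hs : s ∈ rad Q e) :
    s ^ p = 1 := by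
  have hpow : ∀ k : ℕ, wt e f (s ^ k) = (k : F) • wt e f s := fun k => by
    induction k with
    | zero => simp [wt_one hQ hp]
    | succ k ih => rw [pow_succ, wt_mul hQ h5 hp (pow_mem hs k) hs, ih, Nat.cast_succ, add_smul, one_smul]
  exact wt_inj hQ h5 hp (pow_mem hs p) (one_mem _) (by rw [hpow, CharP.cast_eq_zero, zero_smul, wt_one hQ hp])

theorem exists_pair {e : Vι} (he0 : e ≠ 0) (he : Q e = 0) : ∃ f, Pair Q e f := by
  obtain ⟨d, -, hd, hed⟩ := Orth.exists_partner hQ (nondeg_top hQ) Submodule.mem_top he0 he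
  exact ⟨d, he, hd, hed⟩

omit [Finite F] h5 in
theorem Pair.ne_zero {e f : Vι} (hp : Pair Q e f) : e ≠ 0 := fun e0 => by
  have := hp.2.2
  rw [e0, pol_zero_left hQ] at this
  exact zero_ne_one this

theorem exists_point {e f y : Vι} (hp : Pair Q e f) (hy : Q y = 0) (hye : pol Q y e = 1) :
    ∃ s ∈ rad Q e, act s f = y ∧ wt e f s = proj Q e f y := by
  obtain ⟨s, hs, -, hw, hsf⟩ := exists_wt hQ h5 hp (proj_mem hQ hp y)
  refine ⟨s, hs, ?_, hw⟩
  have hq := q_decomp hQ hp y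
  rw [hy, hye, mul_one] at hq
  rw [hsf]
  conv_rhs => rw [decomp hQ e f y, hye, show pol Q y f = -Q (proj Q e f y) by linear_combination -hq]

/-- The elements of the root group. -/
theorem mem_root_iff {e f v : Vι} (hp : Pair Q e f) (hv : v ∈ perp hQ e f) (hvq : Q v = 0) (hv0 : v ≠ 0)
    {s : Om} : s ∈ root Q e v ↔ s ∈ rad Q e ∧ ∃ r : F, wt e f s = r • v := by
  have hvn := perp_nondeg' hQ hp
  obtain ⟨b, hb, hbq, hvb⟩ := Orth.exists_partner hQ hvn hv hv0 hvq
  constructor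
  · rintro ⟨hs, hs'⟩
    refine ⟨hs, pol Q (wt e f s) b, sub_eq_zero.1 ?_⟩
    obtain ⟨g, hg⟩ : ∃ g, g = wt e f s := ⟨_, rfl⟩
    have hgm : g ∈ perp hQ e f := hg ▸ wt_mem hQ hp s
    have hsf := (isSiegel_wt hQ h5 hp hs).2
    rw [← hg] at hsf ⊢
    obtain ⟨l, hl⟩ := hs'.2 f (by rw [Orth.pol_comm]; exact hv.2)
    have e1 := congrArg (proj Q e f) hl
    rw [hsf, (coord hQ hp hgm rfl).2.2, proj_add hQ, proj_smul hQ, proj_f hQ hp, zero_add,
      proj_of_mem hQ hv] at e1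
    rw [e1, pol_smul_left hQ, hvb, mul_one, sub_self]
  · rintro ⟨hs, r, hr⟩
    refine ⟨hs, ?_⟩
    have hev : pol Q e v = 0 := perp_mem_pol hQ hv
    obtain ⟨hS, -⟩ := isSiegel_wt hQ h5 hp hs
    rw [hr] at hS
    have hact : ∀ x, act s x = x + (pol Q x e * r) • v - (r * pol Q x v) • e := fun x => by
      show mv _ x = _
      rw [hS, q_smul_sing hQ hvq, pol_smul_right hQ, zero_mul, add_zero, smul_smul]
    refine ⟨?_, fun w hw => ⟨pol Q w e * r, ?_⟩⟩
    · rw [hact, Orth.pol_comm v e, hev, pol_self_sing hQ hvq]; simp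
    · rw [hact, hw]; simp

/-- Transitivity on the singular vectors of a subspace, fixing its orthogonal. -/
theorem exists_map {X : Submodule F Vι} (hX : Nondeg Q X) (hX5 : 5 ≤ Module.finrank F X) {u w : Vι}
    (huX : u ∈ X) (hwX : w ∈ X) (hu0 : u ≠ 0) (hw0 : w ≠ 0) (hu : Q u = 0) (hw : Q w = 0) :
    ∃ s : Om, act s u = w ∧ ∀ z, (∀ x ∈ X, pol Q z x = 0) → act s z = z := by
  have key : ∀ u w : Vι, u ∈ X → w ∈ X → u ≠ 0 → Q u = 0 → Q w = 0 → (∀ k : F, w ≠ k • u) →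
      ∃ s : Om, act s u = w ∧ ∀ z, (∀ x ∈ X, pol Q z x = 0) → act s z = z := by
    intro u w huX hwX hu0 hu hw hind
    obtain ⟨v, hvX, hv, huv, hwv⟩ := exists_sing_pol hQ hX hX5 huX hwX hu0 hu hw hind
    obtain ⟨y, hy, hy', hmove⟩ := exists_move_along hQ hv (hu.trans hw.symm) huv hwv
    obtain ⟨s, hs⟩ := exists_om hQ h5 hv hy
    exact ⟨s, hmove _ hs, fun z hz => isSiegel_fix hQ hs (hz _ hvX)
      (hz _ (hy' ▸ X.sub_mem hwX huX))⟩
  by_cases hind : ∀ k : F, w ≠ k • u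
  · exact key u w huX hwX hu0 hu hw hind
  push Not at hind
  obtain ⟨k, hk⟩ := hind
  obtain ⟨z, hzX, hz, huz⟩ := Orth.exists_partner hQ hX huX hu0 hu
  have hz0 : z ≠ 0 := fun e => by rw [e, pol_zero_right hQ] at huz; exact zero_ne_one huz
  have hzu : ∀ a : F, z ≠ a • u := fun a e => by
    rw [e, pol_smul_right hQ, pol_self_sing hQ hu, mul_zero] at huz; exact zero_ne_one huz
  have hwz : ∀ a : F, w ≠ a • z := fun a e => by
    have := congrArg (fun x => pol Q u x) (hk.symm.trans e)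
    simp only [pol_smul_right hQ, pol_self_sing hQ hu, huz, mul_zero, mul_one] at this
    rw [← this, zero_smul] at e
    exact hw0 e
  obtain ⟨s, hs, hsf⟩ := key u z huX hzX hu0 hu hz hzu
  obtain ⟨t, ht, htf⟩ := key z w hzX hwX hz0 hz hw hwz
  exact ⟨t * s, by rw [act_mul, hs, ht], fun x hx => by rw [act_mul, hsf x hx, htf x hx]⟩

/-- Transitivity on hyperbolic pairs. -/
theorem exists_pair_map {a b e f : Vι} (hab : Pair Q a b) (hp : Pair Q e f) :
    ∃ s : Om, act s a = e ∧ act s b = f := by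
  obtain ⟨s, hs, -⟩ := exists_map hQ h5 (nondeg_top hQ) (top_five hQ h5) Submodule.mem_top
    Submodule.mem_top (Pair.ne_zero hQ hab) (Pair.ne_zero hQ hp) hab.1 hp.1
  obtain ⟨u, hu, huf, -⟩ := exists_point hQ h5 hp (y := act s b) (by rw [act_q (Q := Q), hab.2.1])
    (by rw [← hs, act_pol, Orth.pol_comm, hab.2.2])
  refine ⟨u⁻¹ * s, ?_, by rw [act_mul, ← huf, act_inv_act]⟩
  rw [act_mul, hs]
  exact (inv_mem hu).1

end Cfsg.Agent.AutPOmega
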