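import Cfsg.Agent.Lib.AutPOmega.MinusField
import Cfsg.Agent.Lib.LinearBlock.RestrictScalars
import Mathlib.LinearAlgebra.Dimension.Free

/-!
For odd m the hermitian norm x ↦ h(x, x) on K^m is a form of minus type over the fixed field: a totally singular
subspace W of half dimension would carry an alternating form whose radical is a K-subspace, hence of even
F-dimension, so W would have even dimension.
-/

set_option autoImplicit false

namespace Cfsg.Agent.AutPOmega

open Module QuadraticMap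
open Cfsg.Agent.LBRestrict (herm_add_left herm_add_right herm_smul_left herm_smul_right herm_swap herm_nondeg
  powAdd rho rho_injective rho_apply)

variable {K F : Type*} [Field K] [Field F] [Algebra F K] [Fintype K] [Fintype F] {m q : ℕ}

theorem finrank_singular_ne (hm : Odd m) (hι : ∀ c : F, (algebraMap F K c) ^ q = algebraMap F K c)
    (hfix : ∀ x : K, x ^ q = x → ∃ c, algebraMap F K c = x) (hadd : ∀ x y : K, (x + y) ^ q = x ^ q + y ^ q)
    (hinv : ∀ x : K, (x ^ q) ^ q = x) {t : K} (ht : t ^ q ≠ t) (hK : finrank F K = 2)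
    (Q : QuadraticForm F (Fin m → K)) (hQ : (polarBilin Q).Nondegenerate)
    (hb : ∀ x, algebraMap F K (Q x) = Cfsg.hermForm m K q x x)
    (W : Submodule F (Fin m → K)) (hW : ∀ w ∈ W, Q w = 0) : finrank F W ≠ m := by
  intro hd
  classical
  have hinj := (algebraMap F K).injective
  have hdim : finrank F (Fin m → K) = 2 * m := by
    rw [Module.finrank_pi_fintype]; simp [hK, mul_comm]
  have hpol : ∀ x y, algebraMap F K (polar Q x y) = Cfsg.hermForm m K q x y + Cfsg.hermForm m K q y x :=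
    fun x y => by
      rw [polar, map_sub, map_sub, hb, hb, hb, herm_add_left, herm_add_right hadd, herm_add_right hadd]
      ring
  have hWW : ∀ x ∈ W, ∀ y ∈ W, Cfsg.hermForm m K q x y + Cfsg.hermForm m K q y x = 0 := fun x hx y hy => by
    rw [← hpol, Cfsg.Agent.Orth.b_eq_zero_of_singular hW hx hy, map_zero]
  obtain ⟨δ, hδ⟩ : ∃ δ : K, δ = t ^ q - t := ⟨_, rfl⟩
  have hδ0 : δ ≠ 0 := by rw [hδ]; exact sub_ne_zero.2 ht
  have hδq : δ ^ q = -δ := by
    show powAdd hadd δ = -δ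
    rw [hδ, map_sub]
    show (t ^ q) ^ q - t ^ q = _
    rw [hinv]; ring
  have hfix' : ∀ x y : W, ∃ c : F, algebraMap F K c = δ * Cfsg.hermForm m K q (x : Fin m → K) y := fun x y => by
    refine hfix _ ?_
    rw [mul_pow, herm_swap hadd hinv, hδq]
    linear_combination (-δ) * hWW x x.2 y y.2
  choose β₀ hβ₀ using hfix'
  let β : LinearMap.BilinForm F W := LinearMap.mk₂ F β₀
    (fun x x' y => hinj (by rw [map_add, hβ₀, hβ₀, hβ₀, Submodule.coe_add, herm_add_left]; ring))
    (fun a x y => hinj (by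
      rw [smul_eq_mul, map_mul, hβ₀, hβ₀, SetLike.val_smul, ← algebraMap_smul K a (x : Fin m → K), herm_smul_left]; ring))
    (fun x y y' => hinj (by rw [map_add, hβ₀, hβ₀, hβ₀, Submodule.coe_add, herm_add_right hadd]; ring))
    (fun a x y => hinj (by
      rw [smul_eq_mul, map_mul, hβ₀, hβ₀, SetLike.val_smul, ← algebraMap_smul K a (y : Fin m → K), herm_smul_right, hι]
      ring))
  have halt : β.IsAlt := fun x => hinj (by
    show algebraMap F K (β₀ x x) = _
    rw [hβ₀, ← hb, hW _ x.2, map_zero, mul_zero])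
  have hperp : Cfsg.Agent.Orth.perp Q W = W :=
    Cfsg.Agent.Orth.IsMaxSing.perp_eq (m := m) ⟨hd, hW⟩ hQ hdim
  let R' : Submodule K (Fin m → K) :=
    { carrier := {x | x ∈ W ∧ ∀ w ∈ W, Cfsg.hermForm m K q x w = 0}
      add_mem' := fun {x y} hx hy => ⟨W.add_mem hx.1 hy.1, fun w hw => by
        rw [herm_add_left, hx.2 w hw, hy.2 w hw, add_zero]⟩
      zero_mem' := ⟨W.zero_mem, fun w _ => by simp [Cfsg.hermForm]⟩
      smul_mem' := fun a x hx => by
        have h0 : ∀ w ∈ W, Cfsg.hermForm m K q (a • x) w = 0 := fun w hw => by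
          rw [herm_smul_left, hx.2 w hw, mul_zero]
        refine ⟨?_, h0⟩
        rw [← hperp]
        intro w hw
        refine hinj ?_
        rw [hpol, h0 w hw, map_zero, ← herm_swap hadd hinv, h0 w hw, add_zero]
        exact map_zero (powAdd hadd) }
  obtain ⟨R, hR⟩ : ∃ R : Submodule F W, R = (R'.restrictScalars F).comap W.subtype := ⟨_, rfl⟩
  have hRmem : ∀ x, x ∈ R ↔ ∀ y, β x y = 0 := fun x => by
    rw [hR, Submodule.mem_comap, Submodule.restrictScalars_mem]
    refine ⟨fun h y => hinj ?_, fun h => ⟨x.2, fun w hw => ?_⟩⟩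
    · show algebraMap F K (β₀ x y) = _
      rw [hβ₀, show Cfsg.hermForm m K q (x : Fin m → K) y = 0 from h.2 y y.2, mul_zero, map_zero]
    · have h1 := congrArg (algebraMap F K) (h ⟨w, hw⟩)
      rw [show β x ⟨w, hw⟩ = β₀ x ⟨w, hw⟩ from rfl, hβ₀, map_zero] at h1
      exact (mul_eq_zero.1 h1).resolve_left hδ0
  have heven := Cfsg.Agent.Orth.even_rank_alt β halt R hRmem
  have hRdim : finrank F R = 2 * finrank K R' := by
    rw [hR, (Submodule.comapSubtypeEquivOfLe (p := R'.restrictScalars F) (q := W) fun x hx => hx.1).finrank_eq,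
      ← hK]
    exact (Module.finrank_mul_finrank F K R').symm
  have hle := Submodule.finrank_le R
  rw [hd] at heven hle
  obtain ⟨k, hk⟩ := heven
  obtain ⟨l, hl⟩ := hm
  omega

theorem gu_minus (hm : Odd m) (hι : ∀ c : F, (algebraMap F K c) ^ q = algebraMap F K c)
    (hfix : ∀ x : K, x ^ q = x → ∃ c, algebraMap F K c = x) (hadd : ∀ x y : K, (x + y) ^ q = x ^ q + y ^ q)
    (hinv : ∀ x : K, (x ^ q) ^ q = x) {t : K} (ht : t ^ q ≠ t) (hK : finrank F K = 2) {a c : F}
    (hac : ∀ z₁ z₂ : F, z₁ ^ 2 + a * z₁ * z₂ + c * z₂ ^ 2 = 0 → z₁ = 0 ∧ z₂ = 0) :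
    ∃ φ : ↥(Cfsg.GU m K q) →* ↥(Cfsg.isometryGroup F (Cfsg.quadFormMinus (m - 1) F a c)),
      Function.Injective φ := by
  classical
  have hs : ∀ x : Fin m → K, ∃ b, algebraMap F K b = Cfsg.hermForm m K q x x := fun x =>
    hfix _ (herm_swap hadd hinv x x)
  choose b hb using hs
  have hinj := (algebraMap F K).injective
  have hpol : ∀ x y, algebraMap F K (QuadraticMap.polar b x y)
      = Cfsg.hermForm m K q x y + Cfsg.hermForm m K q y x := fun x y => by
    rw [QuadraticMap.polar, map_sub, map_sub, hb, hb, hb, herm_add_left, herm_add_right hadd, herm_add_right hadd]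
    ring
  let Q : QuadraticForm F (Fin m → K) := QuadraticMap.ofPolar b
    (fun a x => hinj (by
      rw [smul_eq_mul, map_mul, hb, hb, ← algebraMap_smul K a x, herm_smul_left, herm_smul_right, hι, map_mul]; ring))
    (fun x x' y => hinj (by rw [map_add, hpol, hpol, hpol, herm_add_left, herm_add_right hadd]; ring))
    (fun a x y => hinj (by
      rw [smul_eq_mul, map_mul, hpol, hpol, ← algebraMap_smul K a x, herm_smul_left, herm_smul_right, hι]; ring))
  have hQ : (QuadraticMap.polarBilin Q).Nondegenerate := Cfsg.Agent.Orth.nondeg_of fun x hx =>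
    herm_nondeg ht hinv x (-1) (by ring) fun y => by
      have h1 : algebraMap F K (QuadraticMap.polar b x y) = 0 := by
        rw [show QuadraticMap.polar b x y = 0 from hx y, map_zero]
      rw [hpol] at h1
      linear_combination h1
  have hdim : finrank F (Fin m → K) = 2 * m := by
    rw [Module.finrank_pi_fintype]; simp [hK, mul_comm]
  rcases Cfsg.Agent.LBQuad.classify_even hQ hdim with ⟨e, he⟩ | ⟨ζ, hζ, e, he⟩
  · exfalso
    have hU := Cfsg.Agent.Orth.isMaxSing_left (F := F) (m := m)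
    refine finrank_singular_ne hm hι hfix hadd hinv ht hK Q hQ (fun x => hb x)
      ((LinearMap.range (Cfsg.Agent.Orth.leftEmb F m)).map e.symm.toLinearMap) ?_
      ((LinearEquiv.finrank_eq (Submodule.equivMapOfInjective _ e.symm.injective _)).symm.trans hU.1)
    rintro _ ⟨u, hu, rfl⟩
    show Q (e.symm u) = 0
    rw [he, e.apply_symm_apply]
    exact hU.2 u hu
  obtain ⟨e₂, he₂⟩ := exists_bin_equiv (F := F) (Cfsg.Agent.LBQuad.bin_aniso hζ) hac
  obtain ⟨E, hE⟩ := Cfsg.Agent.LBQuad.exists_padCongr (k := m - 1) e₂ he₂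
  obtain ⟨e', he'⟩ : ∃ e' : (Fin m → K) ≃ₗ[F] ((Fin (m - 1) ⊕ Fin (m - 1)) ⊕ Fin 2 → F),
      ∀ v, Q v = Cfsg.Agent.Orth.qMinus F (m - 1) a c (e' v) := ⟨e.trans E, fun v => (he v).trans (hE _)⟩
  let f : ((Fin m → K) →ₗ[F] (Fin m → K)) ≃ₐ[F]
      Matrix ((Fin (m - 1) ⊕ Fin (m - 1)) ⊕ Fin 2) ((Fin (m - 1) ⊕ Fin (m - 1)) ⊕ Fin 2) F :=
    (e'.conjAlgEquiv F).trans LinearMap.toMatrixAlgEquiv'
  let ρ := rho F ((Units.coeHom _).comp (Cfsg.GU m K q).subtype)
  have hap : ∀ g x, (f (ρ g)).mulVec x = e' (ρ g (e'.symm x)) := fun g x => by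
    rw [show f (ρ g) = LinearMap.toMatrix' (e'.conj (ρ g)) from rfl, LinearMap.toMatrix'_mulVec]; rfl
  let φ₀ : ↥(Cfsg.GU m K q) →* GL ((Fin (m - 1) ⊕ Fin (m - 1)) ⊕ Fin 2) F :=
    (f.toAlgHom.toMonoidHom.comp ρ).toHomUnits
  refine ⟨φ₀.codRestrict _ fun g => Cfsg.Agent.Orth.mem_isometryGroup.2 fun x => ?_, fun g h hgh =>
    rho_injective (F := F) (f := (Units.coeHom _).comp (Cfsg.GU m K q).subtype)
    (fun g h hgh => Subtype.ext (Units.ext hgh)) ?_⟩
  · show Cfsg.quadFormMinus (m - 1) F a c ((f (ρ g)).mulVec x) = _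
    rw [hap, ← Cfsg.Agent.Orth.coe_qMinus, ← he']
    conv_rhs => rw [← e'.apply_symm_apply x, ← he']
    refine hinj ?_
    show algebraMap F K (b _) = algebraMap F K (b _)
    rw [hb, hb, rho_apply]
    exact g.2 _ _
  · exact f.injective (congrArg (fun z : ↥(Cfsg.isometryGroup F (Cfsg.quadFormMinus (m - 1) F a c)) =>
      ((z : GL ((Fin (m - 1) ⊕ Fin (m - 1)) ⊕ Fin 2) F) :
        Matrix ((Fin (m - 1) ⊕ Fin (m - 1)) ⊕ Fin 2) ((Fin (m - 1) ⊕ Fin (m - 1)) ⊕ Fin 2) F)) hgh)

end Cfsg.Agent.AutPOmega
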