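import Cfsg.Agent.Lib.AutPOmega.MinusBase
import Cfsg.Agent.Lib.AutPOmega.GraphSplit

/-!
Graph-field automorphisms of the plus type: transport between index types, and split counts over a quadratic
extension.
-/

set_option autoImplicit false

namespace Cfsg.Agent.AutPOmega

open Matrix QuadraticMap
open Cfsg.Agent.Orth (SpinVal SqCls sqc reflVal qMinus)
open Cfsg.Agent.Transvec (mv mv_mul mv_inj mv_inv_mv mv_mv_inv ext_mv)
open Cfsg.Agent.Transvec.Orth (mem_isometry)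

section Transport

variable {ι κ : Type} [Fintype ι] [DecidableEq ι] [Fintype κ] [DecidableEq κ] {F : Type*} [Field F]

/-- Conjugation by a linear equivalence between coordinate spaces. -/
theorem exists_gl_conj (E : (ι → F) ≃ₗ[F] (κ → F)) :
    ∃ C : GL ι F ≃* GL κ F, ∀ M v, mv (C M) (E v) = E (mv M v) := by
  obtain ⟨f, hf⟩ : ∃ f : Matrix ι ι F ≃* Matrix κ κ F,
      ∀ M v, f M *ᵥ E v = E (M *ᵥ v) := by
    refine ⟨{
      toFun := fun M => LinearMap.toMatrix' ((E : (ι → F) →ₗ[F] (κ → F)).comp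
        ((Matrix.toLin' M).comp (E.symm : (κ → F) →ₗ[F] (ι → F))))
      invFun := fun M => LinearMap.toMatrix' ((E.symm : (κ → F) →ₗ[F] (ι → F)).comp
        ((Matrix.toLin' M).comp (E : (ι → F) →ₗ[F] (κ → F))))
      left_inv := fun M => by
        apply Matrix.toLin'.injective
        ext v
        simp
      right_inv := fun M => by
        apply Matrix.toLin'.injective
        ext v
        simp
      map_mul' := fun M N => by
        apply Matrix.toLin'.injective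
        ext v
        simp [Matrix.toLin'_mul] }, fun M v => ?_⟩
    simp
  exact ⟨Units.mapEquiv f, fun M v => hf _ v⟩

variable {Q : (ι → F) → F} {Q' : (κ → F) → F}

theorem pair_conj_iff {E : (ι → F) ≃ₗ[F] (κ → F)} {c : F} (hc : c ≠ 0) (hR : ∀ v, Q' (E v) = c * Q v)
    {g : GL ι F} {g' : GL κ F} (h : ∀ v, mv g' (E v) = E (mv g v)) :
    Cfsg.IsSemisimilarityPair Q' g' 1 ↔ Cfsg.IsSemisimilarityPair Q g 1 := by
  constructor
  · rintro ⟨μ, hμ⟩
    refine ⟨μ, fun v => mul_left_cancel₀ hc ?_⟩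
    show c * Q (mv g v) = c * ((μ : F) * Q v)
    rw [← hR, ← h, show Q' (mv g' (E v)) = μ * Q' (E v) from hμ _, hR, mul_left_comm]
  · rintro ⟨μ, hμ⟩
    refine ⟨μ, fun w => ?_⟩
    obtain ⟨v, rfl⟩ := E.surjective w
    show Q' (mv g' (E v)) = (μ : F) * Q' (E v)
    rw [h, hR, hR, show Q (mv g v) = μ * Q v from hμ _, mul_left_comm]

/-- Similar forms on different index types have isomorphic groups. -/
theorem exists_transportE [Finite F] {E : (ι → F) ≃ₗ[F] (κ → F)} {C : GL ι F ≃* GL κ F}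
    (hC : ∀ M v, mv (C M) (E v) = E (mv M v)) {c : F} (hc : c ≠ 0) (hR : ∀ v, Q' (E v) = c * Q v) :
    ∃ Ψ : Cfsg.POmega F Q ≃* Cfsg.POmega F Q', ∀ (g : GL ι F) (g' : GL κ F) (τ : F ≃+* F)
      (hg : Cfsg.IsSemisimilarityPair Q g τ) (hg' : Cfsg.IsSemisimilarityPair Q' g' τ),
      (∀ v, sm g' τ (E v) = E (sm g τ v)) → MulAut.congr Ψ (semi g τ hg) = semi g' τ hg' := by
  have hiso : (Cfsg.isometryGroup F Q).map C.toMonoidHom = Cfsg.isometryGroup F Q' := by
    ext M'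
    obtain ⟨M, rfl⟩ := C.surjective M'
    rw [Subgroup.mem_map]
    constructor
    · rintro ⟨N, hN, e⟩
      obtain rfl := C.injective e
      refine mem_isometry.2 fun w => ?_
      obtain ⟨v, rfl⟩ := E.surjective w
      rw [hC, hR, hR, mem_isometry.1 hN]
    · intro h
      exact ⟨M, mem_isometry.2 fun v => mul_left_cancel₀ hc
        (by rw [← hR, ← hC, mem_isometry.1 h, hR]), rfl⟩
  let I : Cfsg.isometryGroup F Q ≃* Cfsg.isometryGroup F Q' :=
    ((Cfsg.isometryGroup F Q).equivMapOfInjective C.toMonoidHom C.injective).trans (MulEquiv.subgroupCongr hiso)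
  have hmap : (Cfsg.Omega F Q).map I.toMonoidHom = Cfsg.Omega F Q' := by
    show (commutator _).map _ = commutator _
    rw [commutator_def, Subgroup.map_commutator, Subgroup.map_top_of_surjective _ I.surjective, ← commutator_def]
  let J : Cfsg.Omega F Q ≃* Cfsg.Omega F Q' :=
    ((Cfsg.Omega F Q).equivMapOfInjective I.toMonoidHom I.injective).trans (MulEquiv.subgroupCongr hmap)
  have hJ : ∀ s, gl (J s) = C (gl s) := fun s => rfl
  have hcen : (Subgroup.center (Cfsg.Omega F Q)).map J.toMonoidHom = Subgroup.center (Cfsg.Omega F Q') := by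
    ext y
    simp only [Subgroup.mem_map, Subgroup.mem_center_iff]
    constructor
    · rintro ⟨x, hx, rfl⟩ z
      obtain ⟨w, rfl⟩ := J.surjective z
      show J w * J x = J x * J w
      rw [← map_mul, ← map_mul, hx]
    · intro h
      obtain ⟨x, rfl⟩ := J.surjective y
      exact ⟨x, fun z => J.injective (by rw [map_mul, map_mul]; exact h _), rfl⟩
  refine ⟨QuotientGroup.congr _ _ J hcen, fun g g' τ hg hg' e => MulEquiv.ext fun y => ?_⟩
  obtain ⟨x, rfl⟩ := (QuotientGroup.congr _ _ J hcen).surjective y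
  show QuotientGroup.congr _ _ J hcen (semi g τ hg ((QuotientGroup.congr _ _ J hcen).symm
    (QuotientGroup.congr _ _ J hcen x))) = _
  rw [MulEquiv.symm_apply_apply]
  induction x using QuotientGroup.induction_on with
  | _ s =>
    show QuotientGroup.mk' _ (J (conjOm g τ hg s)) = QuotientGroup.mk' _ (conjOm g' τ hg' (J s))
    refine congrArg _ (Subtype.ext (Subtype.ext ?_))
    show gl (J (conjOm g τ hg s)) = conjGL g' τ (gl (J s))
    rw [hJ, hJ]
    show C (conjGL g τ (gl s)) = _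
    refine ext_mv fun w => ?_
    obtain ⟨u, rfl⟩ := E.surjective w
    obtain ⟨v, rfl⟩ := sm_surj g τ u
    rw [hC, mv_conjGL, ← e, ← e, mv_conjGL, hC]

end Transport

section Model

variable {ι : Type} [Fintype ι] [DecidableEq ι] {F : Type*} [Field F]

theorem map_scal {F₀ : Type*} [Field F₀] (φ : F₀ →+* F) (a : F₀ˣ) :
    Matrix.GeneralLinearGroup.map φ (scal a : GL ι F₀) = scal (Units.map φ.toMonoidHom a) :=
  Units.ext (Matrix.ext fun i j => by
    show φ (Matrix.scalar ι (a : F₀) i j) = Matrix.scalar ι (φ a) i j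
    rcases eq_or_ne i j with rfl | h
    · simp [Matrix.scalar_apply]
    · simp [Matrix.scalar_apply, h])

theorem sqCls_eq [Finite F] {x y : SqCls F} (hx : x ≠ 1) (hy : y ≠ 1) : x = y := by
  classical
  by_contra h
  haveI := Fintype.ofFinite (SqCls F)
  have h3 : ({x, y, 1} : Finset (SqCls F)).card = 3 := Finset.card_eq_three.2 ⟨x, y, 1, h, hx, hy, rfl⟩
  have h2 := (Cfsg.Agent.Orth.card_sqCls_le (F := F)).1
  rw [Nat.card_eq_fintype_card] at h2
  have := Finset.card_le_univ ({x, y, 1} : Finset (SqCls F))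
  omega

variable [Fintype F] {q : QuadraticForm F (ι → F)} {P : GL ι F → Prop}

/-- The square class of the multiplier. -/
theorem Par.exists_mult_hom (hP : Par q P) :
    ∃ D : hP.simP →* SqCls F, ∀ (g : hP.simP) (μ : F),
      (∀ v, q (mv (g : GL ι F) v) = μ * q v) → D g = sqc F μ := by
  haveI : Nonempty ι := Fintype.card_pos_iff.1 (by have := hP.seven; omega)
  obtain ⟨v₀, hv₀⟩ := Cfsg.Agent.Orth.exists_ne_zero_value (V := ι → F) hP.nondeg
  have huniq : ∀ (g : hP.simP) (μ : F), (∀ v, q (mv (g : GL ι F) v) = μ * q v) → (g.2.1.choose : F) = μ :=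
    fun g μ hμ => mul_right_cancel₀ hv₀ ((g.2.1.choose_spec v₀).symm.trans (hμ v₀))
  refine ⟨MonoidHom.mk' (fun g => sqc F (g.2.1.choose : F)) fun g h => ?_, fun g μ hμ => ?_⟩
  · rw [huniq (g * h) ((g.2.1.choose : F) * h.2.1.choose) fun v => ?_,
      Cfsg.Agent.Orth.sqc_mul (Units.ne_zero _) (Units.ne_zero _)]
    have e1 : q (mv (g : GL ι F) (mv (h : GL ι F) v)) = (g.2.1.choose : F) * q (mv (h : GL ι F) v) :=
      g.2.1.choose_spec _
    have e2 : q (mv (h : GL ι F) v) = (h.2.1.choose : F) * q v := h.2.1.choose_spec _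
    rw [Subgroup.coe_mul, mv_mul, e1, e2, mul_assoc]
  · show sqc F _ = _
    rw [huniq g μ hμ]

variable {F₀ : Type*} [Field F₀] [Fintype F₀]
  {q₀ : QuadraticForm F₀ (ι → F₀)} {P₀ : GL ι F₀ → Prop} {φ : F₀ →+* F} (hB : Base q P q₀ P₀ φ)
  {σ : F ≃+* F} (hfix : ∀ a, a ∈ φ.range ↔ σ a = a)
  (hσ : Cfsg.IsSemisimilarityPair (⇑q) (1 : GL ι F) σ)
include hB hfix

/-- The split count when every element of the base field is a square: it is read off the spinor norm of a
rescaled similarity of non-square multiplier. -/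
theorem Base.split_two (hsq0 : ∀ x : F₀, IsSquare (φ x))
    (hmult : ∀ c : Fˣ, ∃ g : GL ι F, (∀ v, q (mv g v) = (c : F) * q v) ∧ P g)
    (h2 : (2 : F) ≠ 0) {χ : Cfsg.isometryGroup F (⇑q) →* SpinVal F} (hker : χ.ker = Cfsg.Omega F (⇑q))
    (hrefl : ∀ (g : Cfsg.isometryGroup F (⇑q)) (v : ι → F), q v ≠ 0 →
      ((g : GL ι F) : Matrix ι ι F) = Cfsg.reflectionMatrix (⇑q) v → χ g = reflVal q v)
    {c₀ : F₀ˣ} (hc₀ : ¬ IsSquare (c₀ : F₀)) {h₀ : hB.par₀.simP}
    (hh₀ : ∀ v, q₀ (mv (h₀ : GL ι F₀) v) = (c₀ : F₀) * q₀ v) {s : Fˣ}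
    {k₁ : Cfsg.isometryGroup F (⇑q)}
    (hk₁ : (hB.simHom h₀ : GL ι F) = scal s * (k₁ : GL ι F)) :
    ((χ k₁).2 = 1 → hB.par.act.range ⊓ Subgroup.centralizer {semi 1 σ hσ} ≤ Cfsg.Inn (Cfsg.POmega F (⇑q))) ∧
    ((χ k₁).2 ≠ 1 →
      Cfsg.splitClassCount hB.par.act.range (Cfsg.Inn (Cfsg.POmega F (⇑q))) (semi 1 σ hσ) = 2) := by
  haveI : Nonempty ι := Fintype.card_pos_iff.1 (by have := hB.par.seven; omega)
  have h7 := hB.par₀.seven
  obtain ⟨D, hD⟩ := hB.par.exists_mult_hom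
  have hkey : ∀ k₀ : Cfsg.isometryGroup F₀ (⇑q₀), (χ (hB.isoHom k₀)).2 = 1 := by
    intro k₀
    have hk : k₀ ∈ Subgroup.closure {g : ↥(Cfsg.isometryGroup F₀ (⇑q₀)) | ∃ v : ι → F₀, q₀ v ≠ 0 ∧
        ((g : GL ι F₀) : Matrix ι ι F₀) = Cfsg.reflectionMatrix (⇑q₀) v} := by
      rw [Cfsg.Agent.Orth.closure_reflections_eq_top q₀ hB.par₀.nondeg (Or.inr (by omega))]
      exact Subgroup.mem_top k₀
    induction hk using Subgroup.closure_induction with
    | mem r hr =>
      obtain ⟨v, hv, hrv⟩ := hr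
      have hv' : q (φ ∘ v) ≠ 0 := by rw [hB.compat]; exact (map_ne_zero φ).2 hv
      rw [hrefl _ _ hv' (hB.map_refl hrv)]
      show sqc F (q (φ ∘ v)) = 1
      rw [Cfsg.Agent.Orth.sqc_eq_one_iff hv', hB.compat]
      exact hsq0 _
    | one => rw [map_one, map_one]; rfl
    | mul x y _ _ hx hy => rw [map_mul, map_mul, Prod.snd_mul, hx, hy, one_mul]
    | inv x _ hx => rw [map_inv, map_inv, Prod.snd_inv, hx, inv_one]
  -- a descended similarity is an inner automorphism times a power of the distinguished one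
  have hsqm : ∀ (g : hB.par₀.simP) (a : F₀ˣ), (∀ v, q₀ (mv (g : GL ι F₀) v) = (a : F₀) * a * q₀ v) →
      hB.par.act (hB.simHom g) ∈ Cfsg.Inn (Cfsg.POmega F (⇑q)) := by
    intro g a ha
    have hiso : scal a⁻¹ * (g : GL ι F₀) ∈ Cfsg.isometryGroup F₀ (⇑q₀) := mem_isometry.2 fun v => by
      rw [mv_mul, scal_mv, QuadraticMap.map_smul, smul_eq_mul, ha, Units.val_inv_eq_inv_val]
      have := a.ne_zero
      field_simp
    obtain ⟨k₀, hk₀⟩ : ∃ k₀ : Cfsg.isometryGroup F₀ (⇑q₀), (k₀ : GL ι F₀) = scal a⁻¹ * (g : GL ι F₀) :=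
      ⟨⟨_, hiso⟩, rfl⟩
    have hk₀P : P₀ (k₀ : GL ι F₀) := by
      rw [hk₀, hB.par₀.p_mul _ _ (isPair_scal _) g.2.1]
      exact iff_of_true (hB.par₀.p_scal _) g.2.2
    have hΩ : hB.isoHom k₀ ∈ Cfsg.Omega F (⇑q) := by
      rw [← hker, MonoidHom.mem_ker]
      exact Prod.ext ((hB.par.fst_iff hrefl _).2 ((hB.pres (isPair_iso k₀.2)).2 hk₀P)) (hkey k₀)
    refine hB.par.mem_inn hΩ (Units.map φ.toMonoidHom a) _ ?_
    rw [hB.simHom_coe, hB.isoHom_coe, hk₀, ← map_scal φ a, ← map_mul, ← mul_assoc, ← map_mul, mul_inv_cancel,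
      map_one, one_mul]
  have hkP : P (k₁ : GL ι F) := by
    have h := (hB.simHom h₀).2.2
    rw [hk₁, hB.par.p_mul _ _ (isPair_scal _) (isPair_iso k₁.2)] at h
    exact h.1 (hB.par.p_scal _)
  have hc20 : (2 : F₀) ≠ 0 := fun e => h2 (by rw [← map_ofNat φ, e, map_zero])
  refine ⟨fun hk => ?_, fun hk => ?_⟩
  · have hh1 : hB.par.act (hB.simHom h₀) ∈ Cfsg.Inn (Cfsg.POmega F (⇑q)) := by
      refine hB.par.mem_inn (k := k₁) ?_ s _ hk₁
      rw [← hker, MonoidHom.mem_ker]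
      exact Prod.ext ((hB.par.fst_iff hrefl _).2 hkP) hk
    rintro β ⟨hβ, hc⟩
    obtain ⟨g, rfl⟩ := hβ
    obtain ⟨t, g₀, hg₀⟩ := hB.exists_base hfix hσ g (Subgroup.mem_centralizer_singleton_iff.1 hc)
    have e : hB.par.act g = hB.par.act (hB.simHom g₀) := by
      have e := semi_mul_one (isPair_scal (q := q) t) (hB.simHom g₀).2.1
      rw [semi_scal, one_mul] at e
      exact (e.trans (semi_congr _ g.2.1 hg₀.symm rfl)).symm
    rw [e]
    obtain ⟨μ, hμ⟩ := id g₀.2.1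
    have hμ' : ∀ v, q₀ (mv (g₀ : GL ι F₀) v) = (μ : F₀) * q₀ v := hμ
    by_cases hsμ : IsSquare (μ : F₀)
    · obtain ⟨a, ha⟩ := hsμ
      exact hsqm g₀ (Units.mk0 a fun h => μ.ne_zero (by rw [ha, h, zero_mul])) fun v => by simp only [hμ', Units.val_mk0, ha]
    · obtain ⟨a, ha⟩ := (Cfsg.Agent.Orth.isSquare_mul_nonsquare hc20 μ.ne_zero c₀.ne_zero hc₀).2 hsμ
      have ha0 : a ≠ 0 := fun h => mul_ne_zero μ.ne_zero c₀.ne_zero (by rw [ha, h, zero_mul])
      have hinv : ∀ v, q₀ (mv ((h₀⁻¹ : hB.par₀.simP) : GL ι F₀) v) = (c₀ : F₀)⁻¹ * q₀ v := fun v => by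
        have h := hh₀ (mv ((h₀⁻¹ : hB.par₀.simP) : GL ι F₀) v)
        rw [Subgroup.coe_inv, mv_mv_inv] at h
        rw [Subgroup.coe_inv, h, inv_mul_cancel_left₀ c₀.ne_zero]
      have hg : hB.par.act (hB.simHom (h₀⁻¹ * g₀)) ∈ Cfsg.Inn (Cfsg.POmega F (⇑q)) :=
        hsqm _ (Units.mk0 (a / c₀) (div_ne_zero ha0 c₀.ne_zero)) fun v => by
          rw [Subgroup.coe_mul, mv_mul, hinv, hμ', Units.val_mk0]
          have := c₀.ne_zero
          field_simp
          linear_combination q₀ v * ha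
      have := mul_mem hh1 hg
      rwa [← map_mul, ← map_mul, mul_inv_cancel_left] at this
  · rw [AutPSL.splitClassCount_eq (Q := SqCls F) hB.par.act _ hB.par.inn_le (semi 1 σ hσ) D ?_ ?_]
    · exact (Cfsg.Agent.Orth.card_sqCls_le (F := F)).2.1 h2
    · intro x
      obtain ⟨u, rfl⟩ := QuotientGroup.mk_surjective x
      obtain ⟨g, hg, hgP⟩ := hmult u
      exact ⟨⟨g, ⟨u, hg⟩, hgP⟩, (hD _ _ hg).trans (Cfsg.Agent.Orth.sqc_unit u)⟩
    intro g
    constructor
    · intro hDg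
      obtain ⟨μ, hμ⟩ := id g.2.1
      have hμ' : ∀ v, q (mv (g : GL ι F) v) = (μ : F) * q v := hμ
      rw [hD g μ hμ', Cfsg.Agent.Orth.sqc_eq_one_iff μ.ne_zero] at hDg
      obtain ⟨a, ha⟩ := hDg
      have ha0 : a ≠ 0 := fun h => μ.ne_zero (by rw [ha, h, zero_mul])
      have hiso : scal (Units.mk0 a ha0)⁻¹ * (g : GL ι F) ∈ Cfsg.isometryGroup F (⇑q) :=
        mem_isometry.2 fun v => by
          rw [mv_mul, scal_mv, QuadraticMap.map_smul, smul_eq_mul, hμ', ha, Units.val_inv_eq_inv_val, Units.val_mk0]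
          field_simp
      obtain ⟨k, hk'⟩ : ∃ k : Cfsg.isometryGroup F (⇑q), (k : GL ι F) = scal (Units.mk0 a ha0)⁻¹ * (g : GL ι F) :=
        ⟨⟨_, hiso⟩, rfl⟩
      have hkP' : P (k : GL ι F) := by
        rw [hk', hB.par.p_mul _ _ (isPair_scal _) g.2.1]
        exact iff_of_true (hB.par.p_scal _) g.2.2
      have hgk : (g : GL ι F) = scal (Units.mk0 a ha0) * (k : GL ι F) := by
        rw [hk', ← mul_assoc, ← map_mul, mul_inv_cancel, map_one, one_mul]
      by_cases hk2 : (χ k).2 = 1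
      · refine ⟨g, 1, hB.par.mem_inn (k := k) ?_ _ _ hgk, by rw [map_one]; exact Commute.one_left _, (mul_one g).symm⟩
        rw [← hker, MonoidHom.mem_ker]
        exact Prod.ext ((hB.par.fst_iff hrefl _).2 hkP') hk2
      · refine ⟨g * (hB.simHom h₀)⁻¹, hB.simHom h₀, hB.par.mem_inn (k := k * k₁⁻¹) ?_ (Units.mk0 a ha0 * s⁻¹) _ ?_,
          hB.commute_simHom hfix hσ h₀, (inv_mul_cancel_right _ _).symm⟩
        · rw [← hker, MonoidHom.mem_ker, map_mul, map_inv]
          refine Prod.ext ?_ ?_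
          · show (χ k).1 * (χ k₁).1⁻¹ = 1
            rw [(hB.par.fst_iff hrefl _).2 hkP', (hB.par.fst_iff hrefl _).2 hkP, inv_one, one_mul]
          · show (χ k).2 * (χ k₁).2⁻¹ = 1
            rw [sqCls_eq hk2 hk, mul_inv_cancel]
        · have e2 : (scal (Units.mk0 a ha0 * s⁻¹) : GL ι F) = scal (Units.mk0 a ha0) * (scal s)⁻¹ :=
            (map_mul _ _ _).trans (congrArg _ (map_inv _ _))
          rw [Subgroup.coe_mul, Subgroup.coe_inv, hgk, hk₁, Subgroup.coe_mul, Subgroup.coe_inv, e2]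
          have e : Commute (scal s : GL ι F)⁻¹ ((k : GL ι F) * (k₁ : GL ι F)⁻¹) :=
            (show Commute (scal s : GL ι F) _ from scal_mul_comm s _).inv_left
          calc scal (Units.mk0 a ha0) * (k : GL ι F) * (scal s * (k₁ : GL ι F))⁻¹
              = scal (Units.mk0 a ha0) * (((k : GL ι F) * (k₁ : GL ι F)⁻¹) * (scal s)⁻¹) := by group
            _ = _ := by rw [← e.eq]; simp only [mul_assoc]
    · rintro ⟨t, c, ht, hc, rfl⟩
      rw [map_mul]
      obtain ⟨x, hx⟩ := ht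
      obtain ⟨A, rfl, -⟩ := inn_eq x
      rw [inner_eq_semi] at hx
      obtain ⟨-, a, ha⟩ := semi_eq_semi hB.par.geo hB.par.seven _ _ hx.symm
      have hDt : D t = 1 := by
        rw [hD t ((a : F) * a) fun v => by
          rw [ha, mv_mul, scal_mv, QuadraticMap.map_smul, smul_eq_mul, mem_isometry.1 (A : Cfsg.isometryGroup F (⇑q)).2],
          Cfsg.Agent.Orth.sqc_eq_one_iff (mul_ne_zero a.ne_zero a.ne_zero)]
        exact IsSquare.mul_self _
      obtain ⟨t', g₀, hg₀⟩ := hB.exists_base hfix hσ c hc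
      obtain ⟨μ, hμ⟩ := id g₀.2.1
      have hDc : D c = 1 := by
        rw [hD c ((t' : F) * t' * φ μ) fun v => by
          rw [hg₀, mv_mul, scal_mv, QuadraticMap.map_smul, smul_eq_mul, hB.simHom_coe,
            quad_baseChange φ hB.compat (fun v => hμ v)]
          ring,
          Cfsg.Agent.Orth.sqc_eq_one_iff (mul_ne_zero (mul_ne_zero t'.ne_zero t'.ne_zero) ((map_ne_zero φ).2 μ.ne_zero))]
        exact (IsSquare.mul_self _).mul (hsq0 _)
      rw [hDt, hDc, one_mul]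

end Model

end Cfsg.Agent.AutPOmega
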