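import Cfsg.Agent.Lib.AutPOmega.Outer

/-!
The order of the automorphism group of `PΩ(Q)` when every scalar is a multiplier and every field automorphism
occurs in a semisimilarity.
-/

set_option autoImplicit false

namespace Cfsg.Agent.AutPOmega

open Matrix Cfsg.Agent.Transvec Cfsg.Agent.Transvec.Orth

variable {ι : Type} [Fintype ι] [DecidableEq ι] {F : Type*} [Field F] {Q : (ι → F) → F}

local notation "POm" => Cfsg.POmega F Q
local notation "GOg" => Cfsg.Geo.quadSimilarityGroup (F := F) Q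

theorem pair_go (g : GOg) : Cfsg.IsSemisimilarityPair Q (g : GL ι F) 1 := by
  obtain ⟨c, hc⟩ := g.2
  exact ⟨c, fun v => hc v⟩

theorem go_of_pair {g : GL ι F} (hg : Cfsg.IsSemisimilarityPair Q g 1) : g ∈ GOg := by
  obtain ⟨c, hc⟩ := hg
  exact ⟨c, fun v => hc v⟩

variable [Finite F]

/-- Conjugation by similarities. -/
noncomputable def conjGO : GOg →* MulAut POm :=
  MonoidHom.mk' (fun g => semi (g : GL ι F) 1 (pair_go g)) fun g g' => by
    rw [semi_mul]
    exact semi_congr _ _ (by rw [mapGL_one]; rfl) (one_mul 1).symm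

theorem conjGO_apply (g : GOg) : conjGO g = semi (g : GL ι F) 1 (pair_go g) := rfl

variable (hQ : Geo.IsNondegenerateQuadraticForm Q) (h7 : 7 ≤ Fintype.card ι)
include hQ h7

theorem scal_mem_go (a : Fˣ) : (scal a : GL ι F) ∈ GOg :=
  ⟨a ^ 2, fun v => by
    show Q (mv (scal a) v) = _
    rw [scal_mv, Transvec.Orth.q_smul hQ, Units.val_pow_eq_pow_val]⟩

theorem card_ker_conjGO : Nat.card (conjGO (Q := Q)).ker = Nat.card Fˣ := by
  obtain ⟨p, hp⟩ := CharP.exists F
  haveI : Fact p.Prime := ⟨CharP.char_is_prime F p⟩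
  obtain ⟨i⟩ : Nonempty ι := Fintype.card_pos_iff.1 (by omega)
  refine (Nat.card_eq_of_bijective (fun a : Fˣ => (⟨⟨scal a, scal_mem_go hQ h7 a⟩, semi_scal a _⟩ :
    (conjGO (Q := Q)).ker)) ⟨fun a b e => ?_, fun g => ?_⟩).symm
  · have e1 := congrArg (fun g : (conjGO (Q := Q)).ker => mv ((g : GOg) : GL ι F) (Pi.single i 1) i) e
    simp only [scal_mv, Pi.smul_apply, Pi.single_eq_same, smul_eq_mul, mul_one] at e1
    exact Units.ext e1
  · obtain ⟨-, a, ha0, ha⟩ := semi_eq_one_imp hQ h7 p _ g.2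
    exact ⟨Units.mk0 a ha0, Subtype.ext (Subtype.ext (eq_scal (a := Units.mk0 a ha0) ha).symm)⟩

theorem card_go (hmu : ∀ c : Fˣ, ∃ g : GL ι F, ∀ v, Q (mv g v) = (c : F) * Q v) :
    Nat.card GOg = Nat.card Fˣ * Nat.card (Cfsg.isometryGroup F Q) := by
  obtain ⟨v₀, -, hv₀⟩ := exists_anisotropic hQ (nondeg_top hQ) (by
    intro e
    have h := congrArg (fun U : Submodule F (ι → F) => Module.finrank F U) e
    simp only [finrank_top, Module.finrank_pi, finrank_bot] at h
    omega)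
  have huniq : ∀ {c d : Fˣ} {g : GL ι F}, (∀ v, Q (mv g v) = (c : F) * Q v) →
      (∀ v, Q (mv g v) = (d : F) * Q v) → c = d := fun {c d g} h1 h2 =>
    Units.ext (mul_right_cancel₀ hv₀ ((h1 v₀).symm.trans (h2 v₀)))
  choose mu hmu' using fun g : GOg => g.2
  let μ : GOg →* Fˣ := MonoidHom.mk' mu fun g g' => huniq (fun v => hmu' (g * g') v) fun v => by
    show Q (mv ((g : GL ι F) * (g' : GL ι F)) v) = _
    rw [mv_mul]
    refine (hmu' g _).trans ?_
    rw [show Q (mv (g' : GL ι F) v) = _ from hmu' g' v, Units.val_mul, mul_assoc]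
  have hsurj : Function.Surjective μ := fun c => by
    obtain ⟨g, hg⟩ := hmu c
    exact ⟨⟨g, c, hg⟩, huniq (hmu' _) hg⟩
  have hker : Nat.card μ.ker = Nat.card (Cfsg.isometryGroup F Q) := by
    refine Nat.card_eq_of_bijective (fun g => (⟨((g : GOg) : GL ι F), mem_isometry.2 fun v => ?_⟩ :
      Cfsg.isometryGroup F Q)) ⟨fun a b e => Subtype.ext (Subtype.ext (congrArg Subtype.val e :)), fun h => ?_⟩
    · have e : mu (g : GOg) = 1 := g.2
      refine (hmu' (g : GOg) v).trans ?_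
      rw [e, Units.val_one, one_mul]
    · have h1 : ∀ v, Q (mv (h : GL ι F) v) = ((1 : Fˣ) : F) * Q v := fun v => by
        rw [Units.val_one, one_mul]; exact mem_isometry.1 h.2 v
      exact ⟨⟨⟨(h : GL ι F), 1, h1⟩, huniq (hmu' _) h1⟩, rfl⟩
  rw [← μ.ker.card_mul_index, Subgroup.index_ker, MonoidHom.range_eq_top.2 hsurj, Subgroup.card_top,
    hker, mul_comm]

theorem card_range_conjGO (hmu : ∀ c : Fˣ, ∃ g : GL ι F, ∀ v, Q (mv g v) = (c : F) * Q v) :
    Nat.card (conjGO (Q := Q)).range = Nat.card (Cfsg.isometryGroup F Q) := by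
  have e := Subgroup.card_mul_index (conjGO (Q := Q)).ker
  rw [Subgroup.index_ker, card_ker_conjGO hQ h7, card_go hQ h7 hmu] at e
  exact Nat.eq_of_mul_eq_mul_left Nat.card_pos e

variable (hD : 9 ≤ Fintype.card ι ∨
  ∀ U : Submodule F (ι → F), (∀ x ∈ U, Q x = 0) → Module.finrank F U ≤ 3)
include hD

/-- The field part of an automorphism. -/
theorem exists_fieldHom (hfield : ∀ τ : F ≃+* F, ∃ g, Cfsg.IsSemisimilarityPair Q g τ) :
    ∃ Φ : MulAut POm →* (F ≃+* F), Function.Surjective Φ ∧ Φ.ker = (conjGO (Q := Q)).range ∧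
      ∀ g τ (hg : Cfsg.IsSemisimilarityPair Q g τ), Φ (semi g τ hg) = τ := by
  obtain ⟨p, hp⟩ := CharP.exists F
  haveI : Fact p.Prime := ⟨CharP.char_is_prime F p⟩
  choose gg tt hh ee using fun β : MulAut POm => exists_semi hQ h7 p hD β
  have huniq : ∀ g τ (hg : Cfsg.IsSemisimilarityPair Q g τ), tt (semi g τ hg) = τ := fun g τ hg =>
    (semi_eq_semi hQ h7 _ _ (ee (semi g τ hg)).symm).1
  let Φ : MulAut POm →* (F ≃+* F) := MonoidHom.mk' tt fun β γ => by
    conv_lhs => rw [ee β, ee γ, semi_mul]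
    exact huniq _ _ _
  refine ⟨Φ, fun τ => ?_, ?_, huniq⟩
  · obtain ⟨g, hg⟩ := hfield τ
    exact ⟨semi g τ hg, huniq g τ hg⟩
  ext β
  constructor
  · intro hβ
    have e : tt β = 1 := hβ
    have hg : Cfsg.IsSemisimilarityPair Q (gg β) 1 := e ▸ hh β
    refine ⟨⟨gg β, go_of_pair hg⟩, ?_⟩
    rw [conjGO_apply]
    exact (semi_congr _ _ rfl e.symm).trans (ee β).symm
  · rintro ⟨g, rfl⟩
    exact huniq _ _ (pair_go g)

theorem card_aut_general (p f : ℕ) [Fact p.Prime] [Fintype F] (hF : Fintype.card F = p ^ f)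
    (hmu : ∀ c : Fˣ, ∃ g : GL ι F, ∀ v, Q (mv g v) = (c : F) * Q v)
    (hfield : ∀ τ : F ≃+* F, ∃ g, Cfsg.IsSemisimilarityPair Q g τ) :
    Nat.card (MulAut POm) = f * Nat.card (Cfsg.isometryGroup F Q) := by
  obtain ⟨Φ, hs, hker, -⟩ := exists_fieldHom hQ h7 hD hfield
  obtain ⟨E⟩ := AutPSL.exists_ringAut_equiv (F := F) p f hF
  rw [← Φ.ker.card_mul_index, Subgroup.index_ker, MonoidHom.range_eq_top.2 hs, Subgroup.card_top,
    hker, card_range_conjGO hQ h7 hmu, Nat.card_congr E.toEquiv, Nat.card_congr Multiplicative.toAdd,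
    Nat.card_zmod, mul_comm]

end Cfsg.Agent.AutPOmega
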