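import Cfsg.Agent.Lib.AutPOmega.MinusField
import Cfsg.Agent.Lib.AutPOmega.Semigroup
import Cfsg.Agent.Lib.AutPOmega.Descent

/-!
The inner-diagonal groups of the even-dimensional orthogonal groups.
-/

set_option autoImplicit false

namespace Cfsg.Agent.AutPOmega

open Matrix QuadraticMap
open Cfsg.Agent.Orth (qPlus qMinus IsMaxSing)
open Cfsg.Agent.Transvec (mv mv_mul)

section General

variable {ι : Type} [Fintype ι] [DecidableEq ι] {F : Type*} [Field F] [Finite F]

/-- Composition of similarities. -/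
theorem pair_mul {Q : (ι → F) → F} {g h : GL ι F} (hg : Cfsg.IsSemisimilarityPair Q g 1)
    (hh : Cfsg.IsSemisimilarityPair Q h 1) : Cfsg.IsSemisimilarityPair Q (g * h) 1 := by
  simpa [mapGL_one] using isPair_comp hg hh

theorem pair_inv {Q : (ι → F) → F} {g : GL ι F} (hg : Cfsg.IsSemisimilarityPair Q g 1) :
    Cfsg.IsSemisimilarityPair Q g⁻¹ 1 := by
  simpa [mapGL_one] using isPair_inv hg

theorem semi_mul_one {Q : (ι → F) → F} {g h : GL ι F} (hg : Cfsg.IsSemisimilarityPair Q g 1)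
    (hh : Cfsg.IsSemisimilarityPair Q h 1) :
    semi g 1 hg * semi h 1 hh = semi (g * h) 1 (pair_mul hg hh) := by
  rw [semi_mul]
  exact semi_congr _ _ (by rw [mapGL_one]) (mul_one 1)

theorem semi_inv_one {Q : (ι → F) → F} {g : GL ι F} (hg : Cfsg.IsSemisimilarityPair Q g 1) :
    (semi g 1 hg)⁻¹ = semi g⁻¹ 1 (pair_inv hg) := by
  refine inv_eq_of_mul_eq_one_right ?_
  rw [semi_mul_one]
  exact (semi_congr _ ⟨1, fun v => by simp⟩ (mul_inv_cancel g) rfl).trans (semi_one' _)

/-- A generated group of induced automorphisms is the set of generators. -/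
theorem autSubgroup_mem {Q : (ι → F) → F} (P : GL ι F → Prop) (h1 : P 1)
    (hmul : ∀ g h, Cfsg.IsSemisimilarityPair Q g 1 → Cfsg.IsSemisimilarityPair Q h 1 → P g → P h → P (g * h))
    (hinv : ∀ g, Cfsg.IsSemisimilarityPair Q g 1 → P g → P g⁻¹)
    {β : MulAut (Cfsg.POmega F Q)} :
    β ∈ Cfsg.autSubgroupOf (fun β => ∃ g : GL ι F, g ∈ Geo.quadSimilarityGroup (F := F) Q ∧ P g ∧
        Cfsg.IsInducedBySemilinearPOmega Q g (RingEquiv.refl F) β) ↔
      ∃ (g : GL ι F) (hg : Cfsg.IsSemisimilarityPair Q g 1), P g ∧ β = semi g 1 hg := by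
  constructor
  · intro h
    induction h using Subgroup.closure_induction with
    | mem x hx =>
      obtain ⟨g, hg, hP, hi⟩ := hx
      exact ⟨g, pair_go ⟨g, hg⟩, hP, semi_eq_of_induced _ hi⟩
    | one => exact ⟨1, ⟨1, fun v => by simp⟩, h1, (semi_one' _).symm⟩
    | mul x y _ _ hx hy =>
      obtain ⟨g, hg, hP, rfl⟩ := hx
      obtain ⟨g', hg', hP', rfl⟩ := hy
      exact ⟨g * g', pair_mul hg hg', hmul g g' hg hg' hP hP', semi_mul_one hg hg'⟩
    | inv x _ hx =>
      obtain ⟨g, hg, hP, rfl⟩ := hx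
      exact ⟨g⁻¹, pair_inv hg, hinv g hg hP, semi_inv_one hg⟩
  · rintro ⟨g, hg, hP, rfl⟩
    exact Subgroup.subset_closure ⟨g, go_of_pair hg, hP, induced_semi hg⟩

variable {K : Type*} [Field K]

omit [Finite F] in
/-- Base change of a similarity. -/
theorem quad_baseChange (φ : F →+* K) {q : QuadraticForm F (ι → F)} {qK : QuadraticForm K (ι → K)}
    (hc : ∀ v : ι → F, qK (φ ∘ v) = φ (q v)) {g : GL ι F} {c : F} (h : ∀ v, q (mv g v) = c * q v) (v : ι → K) :
    qK (mv (Matrix.GeneralLinearGroup.map φ g) v) = φ c * qK v := by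
  refine congrArg (fun Q : QuadraticForm K (ι → K) => Q v) (quad_ext_sub (K := φ.fieldRange)
    (q₁ := qK.comp (Matrix.toLin' ((Matrix.GeneralLinearGroup.map φ g : GL ι K) : Matrix ι ι K)))
    (q₂ := φ c • qK) fun u => ?_)
  choose w hw using fun i => (u i).2
  have hu : incK φ.fieldRange u = φ ∘ w := funext fun i => (hw i).symm
  show qK (mv (Matrix.GeneralLinearGroup.map φ g) (incK φ.fieldRange u)) = φ c * qK (incK φ.fieldRange u)
  rw [hu, show mv (Matrix.GeneralLinearGroup.map φ g) (φ ∘ w) = φ ∘ mv g w from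
    funext fun i => (RingHom.map_mulVec φ (g : Matrix ι ι F) w i).symm, hc, hc, h, map_mul]

omit [Finite F] in
theorem pair_baseChange (φ : F →+* K) {q : QuadraticForm F (ι → F)} {qK : QuadraticForm K (ι → K)}
    (hc : ∀ v : ι → F, qK (φ ∘ v) = φ (q v)) {g : GL ι F} (hg : Cfsg.IsSemisimilarityPair (⇑q) g 1) :
    Cfsg.IsSemisimilarityPair (⇑qK) (Matrix.GeneralLinearGroup.map φ g) 1 := by
  obtain ⟨c, h⟩ := hg
  refine ⟨Units.map φ.toMonoidHom c, fun v => ?_⟩
  exact quad_baseChange φ hc (fun v => h v) v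

omit [Finite F] in
/-- Base change of a reflection. -/
theorem reflectionMatrix_baseChange (φ : F →+* K) {q : QuadraticForm F (ι → F)} {qK : QuadraticForm K (ι → K)}
    (hc : ∀ v : ι → F, qK (φ ∘ v) = φ (q v)) (v : ι → F) :
    (Cfsg.reflectionMatrix (⇑q) v).map φ = Cfsg.reflectionMatrix (⇑qK) (φ ∘ v) := by
  have hpol : ∀ j, φ (Cfsg.polarVec (⇑q) v j) = Cfsg.polarVec (⇑qK) (φ ∘ v) j := fun j => by
    have e : (φ ∘ Pi.single j (1 : F) : ι → K) = Pi.single j 1 := funext fun i => by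
      rcases eq_or_ne i j with rfl | h <;> simp [*]
    simp only [Cfsg.polarVec, QuadraticMap.polar]
    rw [← e, show (φ ∘ v + φ ∘ Pi.single j (1 : F) : ι → K) = φ ∘ (v + Pi.single j 1) from
      funext fun i => (map_add φ _ _).symm, hc, hc, hc, map_sub, map_sub]
  ext i j
  simp only [Cfsg.reflectionMatrix, Matrix.map_apply, Matrix.sub_apply, Matrix.smul_apply,
    Matrix.vecMulVec_apply, smul_eq_mul, map_sub, map_mul, map_inv₀, hpol, hc, Function.comp_apply]
  rcases eq_or_ne i j with rfl | h <;> simp [*]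

/-- A semilinear bijection as an additive equivalence. -/
noncomputable def smEquiv (g : GL ι F) (τ : F ≃+* F) : (ι → F) ≃+ (ι → F) :=
  AddEquiv.ofBijective (AddMonoidHom.mk' (sm g τ) (sm_add g τ)) ⟨fun _ _ => sm_inj g τ, sm_surj g τ⟩

theorem smEquiv_apply (g : GL ι F) (τ : F ≃+* F) (v : ι → F) : smEquiv g τ v = sm g τ v := rfl

omit [Finite F] in
theorem sm_conj (g h : GL ι F) (τ : F ≃+* F) (v : ι → F) :
    sm h τ (mv g v) = mv (h * mapGL τ g * h⁻¹) (sm h τ v) := by
  rw [sm, sm, ← mv_mapGL, ← mv_mul, ← mv_mul, inv_mul_cancel_right]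

/-- Conjugation by a semisimilarity respects the parity. -/
theorem pres_conj {q q' : QuadraticForm F (ι → F)} {n : ℕ} (hH : Hyperbolic q n) (hH' : Hyperbolic q' n)
    {h g : GL ι F} {τ : F ≃+* F} {c : F} (hc : ∀ v, q' (sm h τ v) = c * τ (q v))
    (hg : Cfsg.IsSemisimilarityPair (⇑q) g 1)
    (hg' : Cfsg.IsSemisimilarityPair (⇑q') (h * mapGL τ g * h⁻¹) 1) :
    Cfsg.PreservesSingularClasses (⇑q') ((h * mapGL τ g * h⁻¹ : GL ι F) : Matrix ι ι F) ↔
      Cfsg.PreservesSingularClasses (⇑q) (g : Matrix ι ι F) :=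
  (pres_transfer hH hH' τ (smEquiv h τ) (fun t v => sm_smul h τ t v) ⟨c, hc⟩ hg hg' fun v => sm_conj g h τ v).symm

end General

section Plus

variable {m : ℕ} {F : Type*} [Field F]

local notation "Ip" => Fin m ⊕ Fin m
local notation "Qp" => Cfsg.quadFormPlus m F
local notation "POm" => Cfsg.POmega F (Cfsg.quadFormPlus m F)
local notation "Pres" g => Cfsg.PreservesSingularClasses (Cfsg.quadFormPlus m F) ((g : GL (Fin m ⊕ Fin m) F) : Matrix (Fin m ⊕ Fin m) (Fin m ⊕ Fin m) F)

theorem hyp_plus : Hyperbolic (qPlus F m) m :=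
  ⟨Cfsg.Agent.Orth.qPlus_nondeg m, by simp; ring, _, Cfsg.Agent.Orth.isMaxSing_left⟩

theorem plus_quad_map {K : Type*} [Field K] (f : F →+* K) (v : Ip → F) :
    Cfsg.quadFormPlus m K (fun i => f (v i)) = f (Qp v) := by
  simp [Cfsg.quadFormPlus, map_sum]

theorem isPair_field_plus (τ : F ≃+* F) : Cfsg.IsSemisimilarityPair Qp 1 τ :=
  ⟨1, fun v => by
    rw [Units.val_one, Matrix.one_mulVec, Units.val_one, one_mul]
    exact plus_quad_map τ.toRingHom v⟩

variable [Finite F]

theorem presP_mul {g h : GL Ip F} (hg : Cfsg.IsSemisimilarityPair Qp g 1)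
    (hh : Cfsg.IsSemisimilarityPair Qp h 1) : (Pres (g * h)) ↔ ((Pres g) ↔ (Pres h)) := by
  have := pres_mul (hyp_plus (F := F) (m := m)) (g := g) (h := h)
  rw [Cfsg.Agent.Orth.coe_qPlus] at this
  exact this hg hh

theorem presP_inv {g : GL Ip F} (hg : Cfsg.IsSemisimilarityPair Qp g 1) : (Pres g⁻¹) ↔ (Pres g) := by
  have := pres_inv (hyp_plus (F := F) (m := m)) (g := g)
  rw [Cfsg.Agent.Orth.coe_qPlus] at this
  exact this hg

theorem presP_one : Pres (1 : GL (Fin m ⊕ Fin m) F) := by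
  have := pres_one (hyp_plus (F := F) (m := m))
  rwa [Cfsg.Agent.Orth.coe_qPlus] at this

theorem presP_scal (a : Fˣ) : Pres (scal a : GL (Fin m ⊕ Fin m) F) := by
  have := pres_scal (hyp_plus (F := F) (m := m)) a
  rwa [Cfsg.Agent.Orth.coe_qPlus] at this

theorem presP_refl {v : Ip → F} (hv : Qp v ≠ 0) {r : GL Ip F}
    (hr : (r : Matrix Ip Ip F) = Cfsg.reflectionMatrix Qp v) :
    Cfsg.IsSemisimilarityPair Qp r 1 ∧ ¬ (Pres r) := by
  have := not_pres_refl (hyp_plus (F := F) (m := m)) (v := v) (r := r)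
  rw [Cfsg.Agent.Orth.coe_qPlus] at this
  exact this hv hr

theorem presP_omega (s : Cfsg.Omega F Qp) : Pres (gl s) := by
  have := pres_omega (hyp_plus (F := F) (m := m))
  rw [Cfsg.Agent.Orth.coe_qPlus] at this
  exact this s

theorem presP_conj {h g : GL Ip F} {τ : F ≃+* F} (hh : Cfsg.IsSemisimilarityPair Qp h τ)
    (hg : Cfsg.IsSemisimilarityPair Qp g 1)
    (hg' : Cfsg.IsSemisimilarityPair Qp (h * mapGL τ g * h⁻¹) 1) :
    (Pres (h * mapGL τ g * h⁻¹)) ↔ (Pres g) := by
  obtain ⟨c, hc⟩ := hh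
  have := pres_conj (hyp_plus (F := F) (m := m)) hyp_plus (h := h) (g := g) (τ := τ) (c := c)
  rw [Cfsg.Agent.Orth.coe_qPlus] at this
  exact this hc hg hg'

theorem mem_inndiag_plus {β : MulAut POm} : β ∈ Cfsg.inndiagPOmegaPlus m F ↔
    ∃ (g : GL Ip F) (hg : Cfsg.IsSemisimilarityPair Qp g 1), (Pres g) ∧ β = semi g 1 hg :=
  autSubgroup_mem (fun g => Pres g) presP_one
    (fun _ _ hg hh a b => (presP_mul hg hh).2 (iff_of_true a b)) fun _ hg a => (presP_inv hg).2 a

theorem inn_le_plus : Cfsg.Inn POm ≤ Cfsg.inndiagPOmegaPlus m F := by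
  rintro _ ⟨x, rfl⟩
  obtain ⟨A, rfl, -⟩ := inn_eq x
  exact mem_inndiag_plus.2 ⟨gl A, isPair_iso (A : Cfsg.isometryGroup F Qp).2, presP_omega A, inner_eq_semi A⟩

end Plus

section Minus

variable {m : ℕ} {F : Type*} [Field F] [Finite F] {a b : F}

local notation "Jv" => (Fin m ⊕ Fin m) ⊕ Fin 2
local notation "Qm" => Cfsg.quadFormMinus m F a b

omit [Finite F] in
theorem minus_quad_map {K : Type*} [Field K] (f : F →+* K) (v : Jv → F) :
    Cfsg.quadFormMinus m K (f a) (f b) (f ∘ v) = f (Qm v) := by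
  simp [Cfsg.quadFormMinus, map_sum]

variable (K : Type*) [Field K] [Algebra F K] [Finite K] (hK : Module.finrank F K = 2)
  (hab : ∀ z₁ z₂ : F, z₁ ^ 2 + a * z₁ * z₂ + b * z₂ ^ 2 = 0 → z₁ = 0 ∧ z₂ = 0)
include hK hab

/-- Over a quadratic extension the minus form is hyperbolic. -/
theorem hyp_minus : Hyperbolic (qMinus K m (algebraMap F K a) (algebraMap F K b)) (m + 1) := by
  obtain ⟨a', ha'⟩ : ∃ a', a' = algebraMap F K a := ⟨_, rfl⟩
  obtain ⟨b', hb'⟩ : ∃ b', b' = algebraMap F K b := ⟨_, rfl⟩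
  have hd : a' ^ 2 - 4 * b' ≠ 0 := by
    intro e
    refine Cfsg.Agent.Orth.disc_ne hab ((algebraMap F K).injective ?_)
    rw [map_sub, map_mul, map_pow, map_ofNat, map_zero, ← ha', ← hb', e]
  have hnd : (polarBilin (Cfsg.Agent.Orth.qBin K a' b')).Nondegenerate := by
    have key : ∀ v, (∀ w, polar (Cfsg.Agent.Orth.qBin K a' b') v w = 0) → v = 0 := fun v hv => by
      have h0 := hv ![1, 0]
      have h1 := hv ![0, 1]
      simp [Cfsg.Agent.Orth.polar_qBin] at h0 h1
      have e0 : v 0 = 0 := (mul_eq_zero.1 (show (a' ^ 2 - 4 * b') * v 0 = 0 by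
        linear_combination a' * h1 - 2 * b' * h0)).resolve_left hd
      have e1 : v 1 = 0 := (mul_eq_zero.1 (show (a' ^ 2 - 4 * b') * v 1 = 0 by
        linear_combination a' * h0 - 2 * h1)).resolve_left hd
      funext i
      fin_cases i
      exacts [e0, e1]
    exact ⟨key, fun v h => key v fun u => by rw [polar_comm]; exact h u⟩
  obtain ⟨z, hz⟩ := exists_root_ext (K := K) hab (dvd_of_eq hK.symm)
  rw [← ha', ← hb'] at hz ⊢
  refine ⟨Cfsg.Agent.Orth.qPad_nondeg hnd m, by simp; ring, ?_⟩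
  let L : (Fin m → K) × K →ₗ[K] (Jv → K) :=
    { toFun := fun p => Sum.elim (Sum.elim p.1 0) ![p.2 * z, p.2]
      map_add' := fun p p' => funext fun i => by
        rcases i with (i | i) | i
        · simp
        · simp
        · fin_cases i <;> simp [add_mul]
      map_smul' := fun c p => funext fun i => by
        rcases i with (i | i) | i
        · simp
        · simp
        · fin_cases i <;> simp [mul_assoc] }
  have hinj : Function.Injective L := fun p p' e =>
    Prod.ext (funext fun i => congrFun e (Sum.inl (Sum.inl i))) (congrFun e (Sum.inr 1))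
  refine ⟨LinearMap.range L, ?_, ?_⟩
  · rw [LinearMap.finrank_range_of_inj hinj, Module.finrank_prod, Module.finrank_fin_fun, Module.finrank_self]
  · rintro _ ⟨p, rfl⟩
    rw [Cfsg.Agent.Orth.coe_qMinus]
    simp [Cfsg.quadFormMinus, L]
    linear_combination p.2 ^ 2 * hz

/-- The parity read over a fixed quadratic extension. -/
theorem presM_iff {g : GL Jv F} (hg : Cfsg.IsSemisimilarityPair Qm g 1) {K' : Type*} [Field K'] [Algebra F K']
    (hK' : Module.finrank F K' = 2) :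
    Cfsg.PreservesSingularClasses (Cfsg.quadFormMinus m K' (algebraMap F K' a) (algebraMap F K' b))
        ((g : Matrix Jv Jv F).map (algebraMap F K')) ↔
      Cfsg.PreservesSingularClasses (⇑(qMinus K m (algebraMap F K a) (algebraMap F K b)))
        ((Matrix.GeneralLinearGroup.map (algebraMap F K) g : GL Jv K) : Matrix Jv Jv K) := by
  haveI : FiniteDimensional F K' := Module.finite_of_finrank_pos (by omega)
  haveI : Finite K' := Module.finite_of_finite F
  obtain ⟨e⟩ := nonempty_algEquiv_two (F := F) (K := K) (K' := K') hK hK'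
  let f : (Jv → K) ≃+ (Jv → K') := AddEquiv.arrowCongr (Equiv.refl _) e.toAddEquiv
  have hf : ∀ v i, f v i = e (v i) := fun v i => rfl
  have hq : ∀ v, qMinus K' m (algebraMap F K' a) (algebraMap F K' b) (f v) =
      e (qMinus K m (algebraMap F K a) (algebraMap F K b) v) := fun v => by
    rw [Cfsg.Agent.Orth.coe_qMinus, Cfsg.Agent.Orth.coe_qMinus]
    simp [Cfsg.quadFormMinus, hf, map_sum]
  have hg0 : Cfsg.IsSemisimilarityPair (⇑(qMinus F m a b)) g 1 := by rwa [Cfsg.Agent.Orth.coe_qMinus]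
  rw [← Cfsg.Agent.Orth.coe_qMinus]
  have hc1 : ∀ v : Jv → F, qMinus K m (algebraMap F K a) (algebraMap F K b) (algebraMap F K ∘ v) =
      algebraMap F K (qMinus F m a b v) := fun v => by
    rw [Cfsg.Agent.Orth.coe_qMinus, Cfsg.Agent.Orth.coe_qMinus]
    exact minus_quad_map _ v
  have hc2 : ∀ v : Jv → F, qMinus K' m (algebraMap F K' a) (algebraMap F K' b) (algebraMap F K' ∘ v) =
      algebraMap F K' (qMinus F m a b v) := fun v => by
    rw [Cfsg.Agent.Orth.coe_qMinus, Cfsg.Agent.Orth.coe_qMinus]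
    exact minus_quad_map _ v
  refine (pres_transfer (hyp_minus K hK hab) (hyp_minus K' hK' hab) e.toRingEquiv f (fun t v => funext fun i => by
    rw [hf]; exact map_mul e t (v i)) ⟨1, fun v => by rw [one_mul]; exact hq v⟩
    (pair_baseChange _ hc1 hg0) (pair_baseChange _ hc2 hg0) fun v => funext fun i => ?_).symm
  rw [hf]
  show e (∑ j, algebraMap F K ((g : Matrix Jv Jv F) i j) * v j) =
    ∑ j, algebraMap F K' ((g : Matrix Jv Jv F) i j) * e (v j)
  rw [map_sum]
  exact Finset.sum_congr rfl fun j _ => by rw [map_mul, e.commutes]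

end Minus

section MinusAPI

universe u

variable {m : ℕ} {F : Type u} [Field F] [Finite F] {a b : F}

local notation "Jv" => (Fin m ⊕ Fin m) ⊕ Fin 2
local notation "Qm" => Cfsg.quadFormMinus m F a b
local notation "POm" => Cfsg.POmega F (Cfsg.quadFormMinus m F a b)
local notation "Pres" g => Cfsg.PreservesSingularClassesMinus m a b ((g : GL ((Fin m ⊕ Fin m) ⊕ Fin 2) F) : Matrix ((Fin m ⊕ Fin m) ⊕ Fin 2) ((Fin m ⊕ Fin m) ⊕ Fin 2) F)

theorem exists_quad_ext : ∃ (K : Type u) (_ : Field K) (_ : Algebra F K), Module.finrank F K = 2 ∧ Finite K := by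
  obtain ⟨p, hp⟩ := CharP.exists F
  haveI : Fact p.Prime := ⟨CharP.char_is_prime F p⟩
  let K := FiniteField.Extension F p 2
  exact ⟨ULift.{u} K, inferInstance, inferInstance,
    (ULift.algEquiv (R := F) (A := K)).toLinearEquiv.finrank_eq.trans (FiniteField.finrank_extension F p 2),
    inferInstance⟩

variable (hab : ∀ z₁ z₂ : F, z₁ ^ 2 + a * z₁ * z₂ + b * z₂ ^ 2 = 0 → z₁ = 0 ∧ z₂ = 0)
include hab

/-- The parity can be read over any quadratic extension. -/
theorem presM_K (K : Type u) [Field K] [Algebra F K] [Finite K] (hK : Module.finrank F K = 2)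
    {g : GL Jv F} (hg : Cfsg.IsSemisimilarityPair Qm g 1) :
    (Pres g) ↔ Cfsg.PreservesSingularClasses (⇑(qMinus K m (algebraMap F K a) (algebraMap F K b)))
        ((Matrix.GeneralLinearGroup.map (algebraMap F K) g : GL Jv K) : Matrix Jv Jv K) := by
  constructor
  · rintro ⟨K', _, _, hK', h⟩
    exact (presM_iff K hK hab hg hK').1 h
  · exact fun h => ⟨K, inferInstance, inferInstance, hK, (presM_iff K hK hab hg hK).2 h⟩

omit hab in
theorem minus_compat {L : Type*} [Field L] (φ : F →+* L) (v : Jv → F) :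
    qMinus L m (φ a) (φ b) (φ ∘ v) = φ (qMinus F m a b v) := by
  rw [Cfsg.Agent.Orth.coe_qMinus, Cfsg.Agent.Orth.coe_qMinus]
  exact minus_quad_map φ v

theorem pairK {K : Type*} [Field K] [Algebra F K] {g : GL Jv F} (hg : Cfsg.IsSemisimilarityPair Qm g 1) :
    Cfsg.IsSemisimilarityPair (⇑(qMinus K m (algebraMap F K a) (algebraMap F K b)))
      (Matrix.GeneralLinearGroup.map (algebraMap F K) g) 1 :=
  pair_baseChange _ (minus_compat _) (by rwa [Cfsg.Agent.Orth.coe_qMinus])

theorem presM_mul {g h : GL Jv F} (hg : Cfsg.IsSemisimilarityPair Qm g 1)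
    (hh : Cfsg.IsSemisimilarityPair Qm h 1) : (Pres (g * h)) ↔ ((Pres g) ↔ (Pres h)) := by
  obtain ⟨K, _, _, hK, hfin⟩ := exists_quad_ext (F := F)
  rw [presM_K hab K hK (pair_mul hg hh), presM_K hab K hK hg, presM_K hab K hK hh, map_mul]
  exact pres_mul (hyp_minus K hK hab) (pairK hab hg) (pairK hab hh)

theorem presM_one : Pres (1 : GL ((Fin m ⊕ Fin m) ⊕ Fin 2) F) := by
  obtain ⟨K, _, _, hK, hfin⟩ := exists_quad_ext (F := F)
  rw [presM_K hab K hK ⟨1, fun v => by simp⟩, map_one]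
  exact pres_one (hyp_minus K hK hab)

theorem presM_inv {g : GL Jv F} (hg : Cfsg.IsSemisimilarityPair Qm g 1) : (Pres g⁻¹) ↔ (Pres g) := by
  obtain ⟨K, _, _, hK, hfin⟩ := exists_quad_ext (F := F)
  rw [presM_K hab K hK (pair_inv hg), presM_K hab K hK hg, map_inv]
  exact pres_inv (hyp_minus K hK hab) (pairK hab hg)

theorem presM_scal (c : Fˣ) : Pres (scal c : GL ((Fin m ⊕ Fin m) ⊕ Fin 2) F) := by
  obtain ⟨K, _, _, hK, hfin⟩ := exists_quad_ext (F := F)
  have hp : Cfsg.IsSemisimilarityPair Qm (scal c : GL Jv F) 1 := ⟨c ^ 2, fun v => by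
    show Qm (mv (scal c) v) = _
    rw [scal_mv, ← Cfsg.Agent.Orth.coe_qMinus, QuadraticMap.map_smul, smul_eq_mul, Units.val_pow_eq_pow_val,
      _root_.sq, RingAut.one_apply]⟩
  rw [presM_K hab K hK hp, show Matrix.GeneralLinearGroup.map (algebraMap F K) (scal c : GL Jv F) =
    scal (Units.map (algebraMap F K).toMonoidHom c) from Units.ext (by
      ext i j
      rcases eq_or_ne i j with rfl | hij <;> simp [scal, Matrix.scalar_apply, *])]
  exact pres_scal (hyp_minus K hK hab) _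

theorem presM_refl {v : Jv → F} (hv : Qm v ≠ 0) {r : GL Jv F}
    (hr : (r : Matrix Jv Jv F) = Cfsg.reflectionMatrix Qm v) :
    Cfsg.IsSemisimilarityPair Qm r 1 ∧ ¬ (Pres r) := by
  obtain ⟨K, _, _, hK, hfin⟩ := exists_quad_ext (F := F)
  rw [← Cfsg.Agent.Orth.coe_qMinus] at hv hr ⊢
  obtain ⟨r', hr', -⟩ := Cfsg.Agent.Orth.exists_reflection _ hv
  have hp : Cfsg.IsSemisimilarityPair (⇑(qMinus F m a b)) r 1 :=
    (show r = (r' : GL Jv F) from Units.ext (hr.trans hr'.symm)) ▸ isPair_iso r'.2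
  refine ⟨hp, fun h => ?_⟩
  have hp' : Cfsg.IsSemisimilarityPair Qm r 1 := by rwa [Cfsg.Agent.Orth.coe_qMinus] at hp
  obtain ⟨φ, hφ⟩ : ∃ φ : F →+* K, φ = algebraMap F K := ⟨_, rfl⟩
  have hvK : qMinus K m (algebraMap F K a) (algebraMap F K b) (φ ∘ v) ≠ 0 := by
    rw [hφ, minus_compat]; simpa using hv
  refine (not_pres_refl (hyp_minus K hK hab) hvK
    (r := Matrix.GeneralLinearGroup.map (algebraMap F K) r) ?_).2 ((presM_K hab K hK hp').1 h)
  rw [hφ]
  ext i j
  show algebraMap F K ((r : Matrix Jv Jv F) i j) = _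
  rw [hr, ← reflectionMatrix_baseChange (algebraMap F K) (minus_compat _) v]
  rfl

theorem presM_omega (s : Cfsg.Omega F Qm) : Pres (gl s) := by
  let P : Subgroup (Cfsg.isometryGroup F Qm) :=
    { carrier := {g | Pres (g : GL Jv F)}
      one_mem' := presM_one hab
      mul_mem' := fun {x y} hx hy => (presM_mul hab (isPair_iso x.2) (isPair_iso y.2)).2 (iff_of_true hx hy)
      inv_mem' := fun {x} hx => (presM_inv hab (isPair_iso x.2)).2 hx }
  have h : Cfsg.Omega F Qm ≤ P := by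
    show commutator _ ≤ P
    rw [commutator_def, Subgroup.commutator_le]
    intro x _ y _
    show Pres ((x * y * x⁻¹ * y⁻¹ : Cfsg.isometryGroup F Qm) : GL Jv F)
    have e1 := presM_mul hab (isPair_iso x.2) (isPair_iso y.2)
    have e2 := presM_mul hab (isPair_iso (x * y).2) (isPair_iso (x⁻¹).2)
    have e3 := presM_mul hab (isPair_iso (x * y * x⁻¹).2) (isPair_iso (y⁻¹).2)
    have e4 := presM_inv hab (isPair_iso x.2)
    have e5 := presM_inv hab (isPair_iso y.2)
    simp only [Subgroup.coe_mul, Subgroup.coe_inv] at e1 e2 e3 e4 e5 ⊢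
    rw [e3, e2, e1, e4, e5]
    by_cases hx : Pres (x : GL Jv F) <;> by_cases hy : Pres (y : GL Jv F) <;> simp [hx, hy]
  exact h s.2

/-- Conjugation by a semisimilarity between minus forms respects the parity. -/
theorem presM_conj {a' b' : F} (hab' : ∀ z₁ z₂ : F, z₁ ^ 2 + a' * z₁ * z₂ + b' * z₂ ^ 2 = 0 → z₁ = 0 ∧ z₂ = 0)
    {h g : GL Jv F} {τ : F ≃+* F} {c : F}
    (hc : ∀ v, Cfsg.quadFormMinus m F a' b' (sm h τ v) = c * τ (Qm v))
    (hg : Cfsg.IsSemisimilarityPair Qm g 1)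
    (hg' : Cfsg.IsSemisimilarityPair (Cfsg.quadFormMinus m F a' b') (h * mapGL τ g * h⁻¹) 1) :
    Cfsg.PreservesSingularClassesMinus m a' b' ((h * mapGL τ g * h⁻¹ : GL Jv F) : Matrix Jv Jv F) ↔ (Pres g) := by
  obtain ⟨K, _, _, hK, hfin⟩ := exists_quad_ext (F := F)
  rw [presM_K hab' K hK hg', presM_K hab K hK hg]
  obtain ⟨p, hp⟩ := CharP.exists F
  haveI : Fact p.Prime := ⟨CharP.char_is_prime F p⟩
  haveI : CharP K p := charP_of_injective_algebraMap (algebraMap F K).injective p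
  letI := Fintype.ofFinite F
  letI := Fintype.ofFinite K
  obtain ⟨nF, -, hF⟩ := FiniteField.card F p
  obtain ⟨nK, -, hK'⟩ := FiniteField.card K p
  obtain ⟨φ, hφ, -, hgen⟩ := exists_frob (F := F) p _ hF
  obtain ⟨ψ, hψ, -, -⟩ := exists_frob (F := K) p _ hK'
  obtain ⟨k, hk⟩ := hgen τ
  obtain ⟨T, hT⟩ : ∃ T : K ≃+* K, ∀ x, T (algebraMap F K x) = algebraMap F K (τ x) := by
    refine ⟨ψ ^ k, fun x => ?_⟩
    rw [← hk]
    clear hk
    induction k with
    | zero => simp
    | succ k ih => rw [pow_succ', pow_succ', RingAut.mul_apply, RingAut.mul_apply, ih, hψ, hφ, map_pow]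
  obtain ⟨Φ, hΦ⟩ : ∃ Φ : GL Jv F →* GL Jv K, Φ = Matrix.GeneralLinearGroup.map (algebraMap F K) := ⟨_, rfl⟩
  rw [← hΦ]
  have hmap : Φ (mapGL τ g) = mapGL T (Φ g) := by
    rw [hΦ]
    exact Units.ext (Matrix.ext fun i j => (hT _).symm)
  have hcK : ∀ v, qMinus K m (algebraMap F K a') (algebraMap F K b') (sm (Φ h) T v) =
      algebraMap F K c * T (qMinus K m (algebraMap F K a) (algebraMap F K b) v) := by
    have htw : ∀ v, qMinus K m (algebraMap F K a) (algebraMap F K b) v =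
        T.symm (qMinus K m (algebraMap F K (τ a)) (algebraMap F K (τ b)) (⇑T ∘ v)) := fun v => by
      rw [Cfsg.Agent.Orth.coe_qMinus, Cfsg.Agent.Orth.coe_qMinus, ← hT, ← hT]
      rw [show Cfsg.quadFormMinus m K (T (algebraMap F K a)) (T (algebraMap F K b)) (⇑T ∘ v) =
        T (Cfsg.quadFormMinus m K (algebraMap F K a) (algebraMap F K b) v) from minus_quad_map T.toRingHom v,
        T.symm_apply_apply]
    intro v
    rw [htw, T.apply_symm_apply, sm, hΦ]
    refine congrArg (fun Q : QuadraticForm K (Jv → K) => Q (⇑T ∘ v)) (quad_ext_sub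
      (K := (algebraMap F K).fieldRange)
      (q₁ := (qMinus K m (algebraMap F K a') (algebraMap F K b')).comp
        (Matrix.toLin' ((Matrix.GeneralLinearGroup.map (algebraMap F K) h : GL Jv K) : Matrix Jv Jv K)))
      (q₂ := algebraMap F K c • qMinus K m (algebraMap F K (τ a)) (algebraMap F K (τ b))) fun u => ?_)
    choose w hw using fun i => (u i).2
    have hu : incK (algebraMap F K).fieldRange u = algebraMap F K ∘ w := funext fun i => (hw i).symm
    show qMinus K m _ _ (mv (Matrix.GeneralLinearGroup.map (algebraMap F K) h)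
      (incK (algebraMap F K).fieldRange u)) = algebraMap F K c * qMinus K m _ _ (incK _ u)
    rw [hu, show mv (Matrix.GeneralLinearGroup.map (algebraMap F K) h) (algebraMap F K ∘ w) =
        algebraMap F K ∘ mv h w from
      funext fun i => (RingHom.map_mulVec (algebraMap F K) (h : Matrix Jv Jv F) w i).symm,
      minus_compat, minus_compat, ← map_mul, Cfsg.Agent.Orth.coe_qMinus, Cfsg.Agent.Orth.coe_qMinus]
    congr 1
    have := hc (τ.symm ∘ w)
    rw [sm, show (⇑τ ∘ ⇑τ.symm ∘ w) = w from funext fun i => τ.apply_symm_apply _] at this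
    rw [this]
    congr 1
    rw [show Cfsg.quadFormMinus m F (τ a) (τ b) w =
      Cfsg.quadFormMinus m F (τ a) (τ b) (τ.toRingHom ∘ (τ.symm ∘ w)) from
        congrArg _ (funext fun i => (τ.apply_symm_apply _).symm)]
    exact (minus_quad_map τ.toRingHom _).symm
  rw [map_mul, map_mul, map_inv, hmap]
  exact pres_conj (hyp_minus K hK hab) (hyp_minus K hK hab') hcK (hΦ ▸ pairK hab hg)
    (by rw [← hmap, ← map_inv, ← map_mul, ← map_mul, hΦ]; exact pairK hab' hg')

theorem mem_inndiag_minus {β : MulAut POm} : β ∈ Cfsg.inndiagPOmegaMinus m F a b ↔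
    ∃ (g : GL Jv F) (hg : Cfsg.IsSemisimilarityPair Qm g 1), (Pres g) ∧ β = semi g 1 hg :=
  autSubgroup_mem (fun g => Pres g) (presM_one hab)
    (fun _ _ hg hh x y => (presM_mul hab hg hh).2 (iff_of_true x y)) fun _ hg x => (presM_inv hab hg).2 x

theorem inn_le_minus : Cfsg.Inn POm ≤ Cfsg.inndiagPOmegaMinus m F a b := by
  rintro _ ⟨x, rfl⟩
  obtain ⟨A, rfl, -⟩ := inn_eq x
  exact (mem_inndiag_minus hab).2
    ⟨gl A, isPair_iso (A : Cfsg.isometryGroup F Qm).2, presM_omega hab A, inner_eq_semi A⟩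

end MinusAPI

end Cfsg.Agent.AutPOmega
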