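import Cfsg.Agent.Lib.AutPOmega.EvenFinal
import Mathlib.FieldTheory.KummerPolynomial
import Mathlib.LinearAlgebra.Determinant
import Mathlib.LinearAlgebra.Matrix.BilinearForm
import Mathlib.LinearAlgebra.Matrix.Charpoly.Coeff

/-!
Linear algebra of elements with scalar square.
-/

set_option autoImplicit false

namespace Cfsg.Agent.AutPOmega

open Matrix Module QuadraticMap
open Cfsg.Agent.Transvec (mv mv_mul mv_inj mv_inv_mv mv_mv_inv ext_mv)

variable {ι : Type} [Fintype ι] [DecidableEq ι] {F : Type*} [Field F]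

/-- The determinant of a root of a non-square scalar. -/
theorem det_of_sq_eq {M : Matrix ι ι F} {l : F} (hl : ¬ IsSquare l) (hM : M * M = l • 1) {k : ℕ}
    (hn : Fintype.card ι = 2 * k) : M.det = (-l) ^ k := by
  obtain ⟨r, hr⟩ : ∃ r : Polynomial F, r = Polynomial.X ^ 2 - Polynomial.C l := ⟨_, rfl⟩
  have hirr : Irreducible r := hr ▸ X_pow_sub_C_irreducible_of_prime Nat.prime_two
    fun b hb => hl ⟨b, by rw [← hb, pow_two]⟩
  have hr1 : r.Monic := hr ▸ Polynomial.monic_X_pow_sub_C l two_ne_zero
  have hsq : (M.map Polynomial.C) * (M.map Polynomial.C) = (Polynomial.C l) • (1 : Matrix ι ι (Polynomial F)) := by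
    rw [← Matrix.map_mul, hM]
    ext i j
    by_cases h : i = j <;> simp [Matrix.smul_apply, h]
  have hprod : Matrix.charmatrix M * (Matrix.scalar ι Polynomial.X + M.map Polynomial.C) =
      r • (1 : Matrix ι ι (Polynomial F)) := by
    rw [Matrix.charmatrix]
    show (Matrix.scalar ι Polynomial.X - M.map Polynomial.C) * _ = _
    have hc : Matrix.scalar ι (Polynomial.X : Polynomial F) * M.map Polynomial.C =
        M.map Polynomial.C * Matrix.scalar ι (Polynomial.X : Polynomial F) :=
      (Matrix.scalar_commute _ (fun r' => Commute.all _ r') _).eq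
    rw [sub_mul, mul_add, mul_add, hc, add_sub_add_comm, hsq, hr, sub_smul]
    rw [show Matrix.scalar ι (Polynomial.X : Polynomial F) * Matrix.scalar ι Polynomial.X =
      (Polynomial.X ^ 2 : Polynomial F) • (1 : Matrix ι ι (Polynomial F)) by
        rw [← map_mul, Matrix.smul_one_eq_diagonal, ← pow_two, Matrix.scalar_apply]]
    abel
  have hdvd : M.charpoly ∣ r ^ Fintype.card ι := ⟨(Matrix.scalar ι Polynomial.X + M.map Polynomial.C).det, by
    rw [Matrix.charpoly, ← Matrix.det_mul, hprod, Matrix.det_smul, Matrix.det_one, mul_one]⟩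
  obtain ⟨i, -, hi⟩ := (dvd_prime_pow hirr.prime _).1 hdvd
  have heq : M.charpoly = r ^ i := Polynomial.eq_of_monic_of_associated M.charpoly_monic (hr1.pow i) hi
  have hik : i = k := by
    have h1 := M.charpoly_natDegree_eq_dim
    rw [heq, Polynomial.natDegree_pow, hr, Polynomial.natDegree_X_pow_sub_C, hn] at h1
    omega
  have h0 := Matrix.det_eq_sign_charpoly_coeff M
  rw [heq, hik, hn, pow_mul, neg_one_sq, one_pow, one_mul, Polynomial.coeff_zero_eq_eval_zero,
    Polynomial.eval_pow, hr] at h0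
  rw [h0]
  simp

/-- The eigenspace of a sign. -/
def eig (g : GL ι F) (ε : F) : Submodule F (ι → F) where
  carrier := {x | mv g x = ε • x}
  zero_mem' := by simp [mv]
  add_mem' {x y} hx hy := by
    show mv g (x + y) = ε • (x + y)
    rw [Cfsg.Agent.Transvec.mv_add, hx, hy, smul_add]
  smul_mem' a x hx := by
    show mv g (a • x) = ε • (a • x)
    rw [Cfsg.Agent.Transvec.mv_smul, hx, smul_comm]

theorem mem_eig {g : GL ι F} {ε : F} {x : ι → F} : x ∈ eig g ε ↔ mv g x = ε • x := Iff.rfl

theorem eig_data (h2 : (2 : F) ≠ 0) {g : GL ι F} (hg : g * g = 1) :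
    IsCompl (eig g 1) (eig g (-1)) ∧
    (g : Matrix ι ι F).det = (-1) ^ finrank F (eig g (-1)) ∧
    finrank F (eig g 1) + finrank F (eig g (-1)) = Fintype.card ι := by
  have hgg : ∀ x, mv g (mv g x) = x := fun x => by rw [← mv_mul, hg, Cfsg.Agent.Transvec.mv_one]
  have hc : IsCompl (eig g 1) (eig g (-1)) := by
    constructor
    · rw [disjoint_iff, Submodule.eq_bot_iff]
      rintro x ⟨hx, hy⟩
      rw [SetLike.mem_coe, mem_eig] at hx hy
      rw [hx] at hy
      have : (2 : F) • x = 0 := by rw [two_smul]; nth_rw 1 [← one_smul F x]; rw [hy]; simp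
      exact (smul_eq_zero.1 this).resolve_left h2
    · refine codisjoint_iff.2 (eq_top_iff.2 fun x _ => Submodule.mem_sup.2
        ⟨(2 : F)⁻¹ • (x + mv g x), ?_, (2 : F)⁻¹ • (x - mv g x), ?_, ?_⟩)
      · rw [mem_eig, Cfsg.Agent.Transvec.mv_smul, Cfsg.Agent.Transvec.mv_add, hgg, one_smul, add_comm]
      · rw [mem_eig, Cfsg.Agent.Transvec.mv_smul, Cfsg.Agent.Transvec.mv_sub, hgg, smul_comm,
          show ((-1 : F) • (x - mv g x)) = mv g x - x by simp]
      · rw [← smul_add, show x + mv g x + (x - mv g x) = (2 : F) • x by rw [two_smul]; abel, inv_smul_smul₀ h2]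
  refine ⟨hc, ?_, ?_⟩
  · rw [← LinearMap.det_toLin']
    let e := Submodule.prodEquivOfIsCompl _ _ hc
    have hf : Matrix.toLin' (g : Matrix ι ι F) = (e : _ →ₗ[F] (ι → F)).comp
        (((LinearMap.id : (eig g 1) →ₗ[F] (eig g 1)).prodMap
          ((-1 : F) • (LinearMap.id : (eig g (-1)) →ₗ[F] (eig g (-1))))).comp (e.symm : (ι → F) →ₗ[F] _)) := by
      refine LinearMap.ext fun x => ?_
      obtain ⟨⟨u, w⟩, rfl⟩ := e.surjective x
      simp only [LinearMap.comp_apply, LinearEquiv.coe_coe, e.symm_apply_apply, LinearMap.prodMap_apply,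
        LinearMap.id_coe, id_eq, LinearMap.smul_apply]
      rw [Matrix.toLin'_apply]
      show mv g ((u : ι → F) + (w : ι → F)) = (u : ι → F) + (((-1 : F) • w : eig g (-1)) : ι → F)
      rw [Cfsg.Agent.Transvec.mv_add, mem_eig.1 u.2, mem_eig.1 w.2, one_smul, Submodule.coe_smul]
    rw [hf, LinearMap.det_conj, LinearMap.det_prodMap, LinearMap.det_id, LinearMap.det_smul, LinearMap.det_id,
      one_mul, mul_one]
  · rw [Submodule.finrank_add_eq_of_isCompl hc, Module.finrank_fintype_fun_eq_card]

/-- A similarity of a non-degenerate space has square multiplier power. -/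
theorem isSquare_mult_pow {V : Type*} [AddCommGroup V] [Module F V] [FiniteDimensional F V]
    {B : LinearMap.BilinForm F V} (hB : B.Nondegenerate) (L : V →ₗ[F] V) {c : F}
    (h : ∀ x y, B (L x) (L y) = c * B x y) : IsSquare (c ^ finrank F V) := by
  let b := Module.finBasis F V
  have e : B.comp L L = c • B := LinearMap.ext fun x => LinearMap.ext fun y => h x y
  have h1 := congrArg (fun T => (LinearMap.BilinForm.toMatrix b T).det) e
  simp only [LinearMap.BilinForm.toMatrix_comp b b, map_smul, Matrix.det_mul, Matrix.det_transpose,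
    Matrix.det_smul, Fintype.card_fin] at h1
  have hne : (LinearMap.BilinForm.toMatrix b B).det ≠ 0 :=
    (LinearMap.BilinForm.nondegenerate_iff_det_ne_zero b).1 hB
  exact ⟨(LinearMap.toMatrix b b L).det, mul_right_cancel₀ hne (by rw [← h1]; ring)⟩

variable {q : QuadraticForm F (ι → F)} (hq : (polarBilin q).Nondegenerate) (h2 : (2 : F) ≠ 0)
include h2

omit [Fintype ι] [DecidableEq ι] in
theorem sing_of_polar {x : ι → F} (h : polar q x x = 0) : q x = 0 := by
  rw [polar_self, two_smul, ← two_mul] at h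
  exact (mul_eq_zero.1 h).resolve_left h2

include hq

/-- The eigenspaces of an isometric involution are orthogonal and non-degenerate. -/
theorem eig_nondeg {g : GL ι F} (hg : g * g = 1) (hiso : ∀ v, q (mv g v) = q v) {ε : F} (hε : ε = 1 ∨ ε = -1) :
    (∀ x ∈ eig g ε, ∀ y ∈ eig g (-ε), polar q x y = 0) ∧
    (polarBilin (q.comp (eig g ε).subtype)).Nondegenerate := by
  have horth : ∀ x ∈ eig g ε, ∀ y ∈ eig g (-ε), polar q x y = 0 := fun x hx y hy => by
    have : polar q (mv g x) (mv g y) = polar q x y := by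
      simp only [polar, ← Cfsg.Agent.Transvec.mv_add, hiso]
    rw [mem_eig.1 hx, mem_eig.1 hy, polar_smul_left, polar_smul_right, smul_eq_mul, smul_eq_mul] at this
    have he : ε * ε = 1 := by rcases hε with rfl | rfl <;> ring
    exact mul_left_cancel₀ h2 (by linear_combination -this - (polar q x y) * he)
  refine ⟨horth, ?_⟩
  have key : ∀ x : eig g ε, (∀ y : eig g ε, polar (q.comp (eig g ε).subtype) x y = 0) → x = 0 := by
    intro x hx
    refine Subtype.ext (hq.1 (x : ι → F) fun y => ?_)
    obtain ⟨hc, -, -⟩ := eig_data h2 hg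
    have hc' : IsCompl (eig g ε) (eig g (-ε)) := by
      rcases hε with rfl | rfl
      · exact hc
      · rw [neg_neg]; exact hc.symm
    obtain ⟨u, hu, w, hw, rfl⟩ := Submodule.mem_sup.1 (hc'.sup_eq_top.symm.le (Submodule.mem_top : y ∈ ⊤))
    show polar q (x : ι → F) (u + w) = 0
    rw [polar_add_right, horth _ x.2 w hw, add_zero]
    exact hx ⟨u, hu⟩
  refine ⟨fun x hx => key x hx, fun x hx => key x fun y => ?_⟩
  rw [polar_comm]
  exact hx y

omit h2 in
/-- An element with non-square scalar square has a non-singular vector orthogonal to its image. -/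
theorem exists_orth_image [Fintype F] (h2 : (2 : F) ≠ 0) (h7 : 7 ≤ Fintype.card ι) {g : GL ι F} {l : Fˣ}
    (hl : ¬ IsSquare (l : F)) (hgg : g * g = scal l) (hm : ∀ v, q (mv g v) = (l : F) * q v) :
    ∃ w, q w ≠ 0 ∧ polar q w (mv g w) = 0 := by
  have hg2 : ∀ x, mv g (mv g x) = (l : F) • x := fun x => by rw [← mv_mul, hgg, scal_mv]
  have hadj : ∀ x y, polar q (mv g x) y = polar q x (mv g y) := fun x y => by
    have h : polar q (mv g x) (mv g (mv g y)) = (l : F) * polar q x (mv g y) := by
      simp only [polar, ← Cfsg.Agent.Transvec.mv_add, hm]; ring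
    rw [hg2, polar_smul_right, smul_eq_mul] at h
    exact mul_left_cancel₀ l.ne_zero h
  obtain ⟨G, hG⟩ : ∃ G : (ι → F) →ₗ[F] (ι → F), ∀ x, G x = mv g x :=
    ⟨Matrix.toLin' (g : Matrix ι ι F), fun x => Matrix.toLin'_apply _ _⟩
  let Q' : QuadraticForm F (ι → F) := LinearMap.BilinMap.toQuadraticMap ((polarBilin q).compl₂ G)
  have hQ' : ∀ x, Q' x = polar q x (mv g x) := fun x => by rw [← hG]; rfl
  have hp' : ∀ x y, polar Q' x y = 2 * polar q x (mv g y) := fun x y => by
    simp only [polar, hQ', Cfsg.Agent.Transvec.mv_add]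
    have hs : polar q y (mv g x) = polar q x (mv g y) := by rw [← hadj, polar_comm]
    simp only [polar] at hs
    have e1 := polar_add_left q x y (mv g x + mv g y)
    have e2 := polar_add_right q x (mv g x) (mv g y)
    have e3 := polar_add_right q y (mv g x) (mv g y)
    simp only [polar] at e1 e2 e3
    linear_combination e1 + e2 + e3 + hs
  have hQn : (polarBilin Q').Nondegenerate := by
    have key : ∀ x, (∀ y, polar Q' x y = 0) → x = 0 := fun x hx => hq.1 x fun y => by
      obtain ⟨z, rfl⟩ : ∃ z, mv g z = y := ⟨mv g⁻¹ y, mv_mv_inv g y⟩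
      exact (mul_eq_zero.1 ((hp' x z).symm.trans (hx z))).resolve_left h2
    exact ⟨fun x hx => key x hx, fun x hx => key x fun y => by rw [polar_comm]; exact hx y⟩
  obtain ⟨e, he0, he⟩ := Cfsg.Agent.Orth.exists_singular hQn
    (by rw [Module.finrank_fintype_fun_eq_card]; omega)
  obtain ⟨f, hef, hf⟩ := Cfsg.Agent.Orth.exists_partner hQn he0 he
  by_contra hno
  push_neg at hno
  have hall : ∀ w, Q' w = 0 → q w = 0 := fun w hw => by
    by_contra h
    exact hno w h ((hQ' w).symm.trans hw)
  obtain ⟨β, hβ⟩ : ∃ β, β = polar q e f := ⟨_, rfl⟩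
  obtain ⟨W, hW⟩ : ∃ W, W = Cfsg.Agent.Orth.perp Q' (Submodule.span F {e, f}) := ⟨_, rfl⟩
  have hWq : ∀ u ∈ W, q u = β * Q' u := by
    intro u hu
    rw [hW, Cfsg.Agent.Orth.mem_perp] at hu
    have ue := hu e (Submodule.subset_span (by simp))
    have uf := hu f (Submodule.subset_span (by simp))
    have hz : ∀ s : F, s * s = 1 → q (e + (-(Q' u)) • f + s • u) = 0 := fun s hs => hall _ (by
      rw [QuadraticMap.map_add (⇑Q'), QuadraticMap.map_add (⇑Q'), QuadraticMap.map_smul, QuadraticMap.map_smul,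
        polar_add_left, polar_smul_left]
      simp only [polar_smul_right, smul_eq_mul, he, hf, hef, ue, uf]
      linear_combination Q' u * hs)
    have z1 := hz 1 (one_mul 1)
    have z2 := hz (-1) (by ring)
    rw [QuadraticMap.map_add (⇑q), QuadraticMap.map_add (⇑q), QuadraticMap.map_smul, QuadraticMap.map_smul,
      polar_add_left, polar_smul_left] at z1 z2
    simp only [polar_smul_right, smul_eq_mul, hall e he, hall f hf, ← hβ] at z1 z2
    exact mul_left_cancel₀ h2 (by linear_combination z1 + z2)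
  obtain ⟨A, hA⟩ : ∃ A : (ι → F) →ₗ[F] (ι → F), ∀ y, A y = y - (2 * β) • mv g y :=
    ⟨LinearMap.id - (2 * β) • G, fun y => by simp [hG]⟩
  have hAi : Function.Injective A := (injective_iff_map_eq_zero A).2 fun y hy => by
    rw [hA, sub_eq_zero] at hy
    have h3 := congrArg (mv g) hy
    rw [Cfsg.Agent.Transvec.mv_smul, hg2, smul_smul] at h3
    have h4 : y = ((2 * β) * (2 * β) * (l : F)) • y := by
      conv_lhs => rw [hy, h3]
      rw [smul_smul]; ring_nf
    by_contra hy0
    have h5 : (1 : F) = (2 * β) * (2 * β) * (l : F) := by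
      have : ((1 : F) - (2 * β) * (2 * β) * (l : F)) • y = 0 := by rw [sub_smul, one_smul, ← h4, sub_self]
      exact sub_eq_zero.1 ((smul_eq_zero.1 this).resolve_right hy0)
    have hb : (2 * β) ≠ 0 := fun e0 => one_ne_zero (h5.trans (by rw [e0]; ring))
    exact hl ⟨(2 * β)⁻¹, by rw [← mul_inv]; exact eq_inv_of_mul_eq_one_left (by linear_combination -h5)⟩
  have hle : W.map A ≤ Cfsg.Agent.Orth.perp q W := by
    rintro _ ⟨y, hy, rfl⟩
    rw [Cfsg.Agent.Orth.mem_perp]
    intro x hx
    have h : polar q x y = β * polar Q' x y := by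
      simp only [polar]; rw [hWq _ (W.add_mem hx hy), hWq x hx, hWq y hy]; ring
    rw [hA, polar_sub_right, polar_smul_right, smul_eq_mul, h, hp']
    ring
  have h3 : finrank F (W.map A) = finrank F W := (Submodule.equivMapOfInjective A hAi W).finrank_eq.symm
  have h4 := Submodule.finrank_mono hle
  have h5 := Cfsg.Agent.Orth.finrank_perp_eq hq W
  have h6 := Cfsg.Agent.Orth.finrank_perp_eq hQn (Submodule.span F {e, f})
  have h7' : finrank F (Submodule.span F ({e, f} : Set (ι → F))) ≤ 2 := by
    classical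
    refine (finrank_span_le_card ({e, f} : Set (ι → F))).trans ?_
    rw [Set.toFinset_card]
    exact (Fintype.card_of_finset' {e, f} (by simp)).le.trans Finset.card_le_two
  rw [← hW] at h6
  rw [Module.finrank_fintype_fun_eq_card] at h5 h6
  omega

end Cfsg.Agent.AutPOmega
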