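import Cfsg.Agent.Lib.AutPOmega.Roots

/-!
Singular lines of an orthogonal space, their root groups and when these commute.
-/

set_option autoImplicit false

namespace Cfsg.Agent.AutPOmega

open Matrix Cfsg.Agent.Transvec Cfsg.Agent.Transvec.Orth

variable {ι : Type} [Fintype ι] [DecidableEq ι] {F : Type*} [Field F] {Q : (ι → F) → F}

local notation "Vι" => ι → F
local notation "Om" => Cfsg.Omega F Q
local notation "POm" => Cfsg.POmega F Q
local notation "π" => QuotientGroup.mk' (Subgroup.center (Cfsg.Omega F Q))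

/-- A totally singular line, given by a basis. -/
def Line (Q : (ι → F) → F) (u v : Vι) : Prop :=
  Q u = 0 ∧ Q v = 0 ∧ pol Q u v = 0 ∧ ∀ a b : F, a • u + b • v = 0 → a = 0 ∧ b = 0

/-- Membership in the plane of two vectors. -/
def InL (u v z : Vι) : Prop := ∃ a b : F, z = a • u + b • v

theorem inL_left (u v : Vι) : InL u v u := ⟨1, 0, by simp⟩

theorem inL_right (u v : Vι) : InL u v v := ⟨0, 1, by simp⟩

theorem InL.add {u v x y : Vι} (hx : InL u v x) (hy : InL u v y) : InL u v (x + y) := by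
  obtain ⟨a, b, rfl⟩ := hx
  obtain ⟨c, d, rfl⟩ := hy
  exact ⟨a + c, b + d, by module⟩

theorem InL.smul {u v x : Vι} (hx : InL u v x) (k : F) : InL u v (k • x) := by
  obtain ⟨a, b, rfl⟩ := hx
  exact ⟨k * a, k * b, by module⟩

theorem InL.mono {u v x y z : Vι} (hx : InL u v x) (hy : InL u v y) (hz : InL x y z) : InL u v z := by
  obtain ⟨a, b, rfl⟩ := hz
  exact (hx.smul a).add (hy.smul b)

theorem Line.symm {u v : Vι} (h : Line Q u v) : Line Q v u :=
  ⟨h.2.1, h.1, by rw [Orth.pol_comm]; exact h.2.2.1, fun a b e =>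
    And.symm (h.2.2.2 b a (by rwa [add_comm]))⟩

theorem Line.left_ne_zero {u v : Vι} (h : Line Q u v) : u ≠ 0 := fun e =>
  one_ne_zero (h.2.2.2 1 0 (by rw [e, smul_zero, zero_smul, add_zero])).1

theorem Line.right_ne_zero {u v : Vι} (h : Line Q u v) : v ≠ 0 := h.symm.left_ne_zero

theorem Line.det_ne_zero {u v : Vι} (h : Line Q u v) {a b c d : F}
    (hind : ∀ k l : F, k • (a • u + b • v) + l • (c • u + d • v) = 0 → k = 0 ∧ l = 0) :
    a * d - b * c ≠ 0 := by
  intro e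
  obtain ⟨h1, h2⟩ := hind d (-b) (by linear_combination (norm := module) e • u)
  obtain ⟨h3, h4⟩ := hind (-c) a (by linear_combination (norm := module) e • v)
  rw [neg_eq_zero] at h2 h3
  subst h1 h2 h3 h4
  exact one_ne_zero (hind 1 0 (by simp)).1

/-- Two independent vectors of a line span it. -/
theorem Line.inL_trans {u v x y z : Vι} (h : Line Q u v) (hx : InL u v x) (hy : InL u v y)
    (hind : ∀ k l : F, k • x + l • y = 0 → k = 0 ∧ l = 0) (hz : InL u v z) : InL x y z := by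
  obtain ⟨a, b, rfl⟩ := hx
  obtain ⟨c, d, rfl⟩ := hy
  obtain ⟨k, hk⟩ : ∃ k, k = a * d - b * c := ⟨_, rfl⟩
  have hk0 : k ≠ 0 := hk ▸ h.det_ne_zero hind
  refine InL.mono (u := a • u + b • v) (v := c • u + d • v) ⟨d / k, -b / k, ?_⟩ ⟨-c / k, a / k, ?_⟩ hz
  · calc u = (k⁻¹ * (a * d - b * c)) • u := by rw [← hk, inv_mul_cancel₀ hk0, one_smul]
      _ = _ := by simp only [div_eq_mul_inv]; module
  · calc v = (k⁻¹ * (a * d - b * c)) • v := by rw [← hk, inv_mul_cancel₀ hk0, one_smul]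
      _ = _ := by simp only [div_eq_mul_inv]; module

theorem Line.act {u v : Vι} (h : Line Q u v) (t : Om) :
    Line Q (AutPOmega.act t u) (AutPOmega.act t v) :=
  ⟨by rw [act_q (Q := Q), h.1], by rw [act_q (Q := Q), h.2.1], by rw [act_pol, h.2.2.1],
    fun a b e => h.2.2.2 a b (act_inj t (by rw [act_add, act_smul, act_smul, e, act_zero]))⟩

/-- The element of a root group with parameter `r`. -/
def IsTr (Q : (ι → F) → F) (u v : Vι) (r : F) (s : Cfsg.Omega F Q) : Prop :=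
  ∀ y, act s y = y + r • (pol Q y u • v - pol Q y v • u)

theorem isTr_unique {u v : Vι} {r : F} {s t : Om} (hs : IsTr Q u v r s) (ht : IsTr Q u v r t) :
    s = t :=
  ext_act fun y => by rw [hs, ht]

variable (hQ : Geo.IsNondegenerateQuadraticForm Q)
include hQ

theorem inL_sing {u v z : Vι} (h : Line Q u v) (hz : InL u v z) : Q z = 0 := by
  obtain ⟨a, b, rfl⟩ := hz
  rw [Orth.q_add hQ, q_smul_sing hQ h.1, q_smul_sing hQ h.2.1, pol_smul_left hQ, pol_smul_right hQ,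
    h.2.2.1]
  ring

theorem inL_orth {u v z w : Vι} (h : Line Q u v) (hz : InL u v z) (hw : InL u v w) :
    pol Q z w = 0 := by
  have h1 := inL_sing hQ h (hz.add hw)
  rwa [Orth.q_add hQ, inL_sing hQ h hz, inL_sing hQ h hw, zero_add, zero_add] at h1

theorem Line.sub {u v : Vι} (h : Line Q u v) {x y : Vι} (hx : InL u v x) (hy : InL u v y)
    (hind : ∀ k l : F, k • x + l • y = 0 → k = 0 ∧ l = 0) : Line Q x y :=
  ⟨inL_sing hQ h hx, inL_sing hQ h hy, inL_orth hQ h hx hy, hind⟩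

theorem isTr_basis {u v : Vι} {a b c d r : F} {s : Om} :
    IsTr Q (a • u + b • v) (c • u + d • v) r s ↔ IsTr Q u v (r * (a * d - b * c)) s := by
  refine forall_congr' fun y => ?_
  rw [pol_add_right hQ, pol_add_right hQ, pol_smul_right hQ, pol_smul_right hQ, pol_smul_right hQ,
    pol_smul_right hQ]
  constructor <;> intro e <;> rw [e] <;> module

theorem isTr_mem_root {u v : Vι} (h : Line Q u v) {r : F} {s : Om} (hs : IsTr Q u v r s) :
    s ∈ root Q u v := by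
  refine ⟨⟨?_, fun w hw => ⟨-(r * pol Q w v), ?_⟩⟩, ⟨?_, fun w hw => ⟨r * pol Q w u, ?_⟩⟩⟩
  · rw [hs, pol_self_sing hQ h.1, h.2.2.1]; simp
  · rw [hs, hw]; module
  · rw [hs, pol_self_sing hQ h.2.1, Orth.pol_comm v u, h.2.2.1]; simp
  · rw [hs, hw]; module

theorem Line.of_frame {e f v : Vι} (hp : Pair Q e f) (hv : v ∈ perp hQ e f) (hvq : Q v = 0)
    (hv0 : v ≠ 0) : Line Q e v := by
  refine ⟨hp.1, hvq, perp_mem_pol hQ hv, fun a b e0 => ?_⟩
  have h1 := congrArg (fun x => pol Q x f) e0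
  simp only [pol_add_left hQ, pol_smul_left hQ, hp.2.2, hv.2, pol_zero_left hQ, mul_zero, add_zero,
    mul_one] at h1
  refine ⟨h1, (smul_eq_zero.1 ?_).resolve_right hv0⟩
  rwa [h1, zero_smul, zero_add] at e0

variable [Finite F] (h7 : 7 ≤ Fintype.card ι)

omit [Finite F] in
theorem exists_dual_pair {u v : Vι} (h : Line Q u v) : ∃ w, pol Q w u = 1 ∧ pol Q w v = 0 := by
  obtain ⟨φ, hφ, hφ'⟩ := exists_dual (W := Submodule.span F {v}) (u := u) fun hm => by
    obtain ⟨k, hk⟩ := Submodule.mem_span_singleton.1 hm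
    exact one_ne_zero (h.2.2.2 1 (-k) (by rw [one_smul, neg_smul, hk, add_neg_cancel])).1
  obtain ⟨z, -, hz⟩ := Orth.exists_rep hQ (nondeg_top hQ) φ
  exact ⟨z, by rw [Orth.pol_comm, ← hz u Submodule.mem_top, hφ'],
    by rw [Orth.pol_comm, ← hz v Submodule.mem_top, hφ v (Submodule.mem_span_singleton_self v)]⟩

omit [Finite F] in
theorem Line.frame {u v : Vι} (h : Line Q u v) : ∃ f, Pair Q u f ∧ v ∈ perp hQ u f := by
  obtain ⟨z, hz1, hz2⟩ := exists_dual_pair hQ h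
  refine ⟨z - Q z • u, ⟨h.1, ?_, ?_⟩, ?_, ?_⟩
  · rw [Orth.q_sub hQ, Orth.q_smul hQ, h.1, pol_smul_right hQ, hz1]; ring
  · rw [pol_sub_right hQ, pol_smul_right hQ, pol_self_sing hQ h.1, Orth.pol_comm, hz1]; ring
  · rw [Orth.pol_comm]; exact h.2.2.1
  · rw [pol_sub_right hQ, pol_smul_right hQ, Orth.pol_comm v u, h.2.2.1, Orth.pol_comm v z, hz2]; ring

include h7

theorem exists_tr {u v : Vι} (h : Line Q u v) (r : F) : ∃ s : Om, IsTr Q u v r s := by
  obtain ⟨f, hp, hv⟩ := h.frame hQ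
  obtain ⟨s, -, hS, -, -⟩ := exists_wt hQ (h5' hQ h7) hp (Submodule.smul_mem _ r hv)
  refine ⟨s, fun y => ?_⟩
  show mv _ y = _
  rw [hS, q_smul_sing hQ h.2.1, pol_smul_right hQ]
  module

theorem mem_root_iff' {u v : Vι} (h : Line Q u v) {s : Om} :
    s ∈ root Q u v ↔ ∃ r, IsTr Q u v r s := by
  refine ⟨fun hs => ?_, fun ⟨r, hr⟩ => isTr_mem_root hQ h hr⟩
  obtain ⟨f, hp, hv⟩ := h.frame hQ
  obtain ⟨hs', r, hr⟩ := (mem_root_iff hQ (h5' hQ h7) hp hv h.2.1 h.right_ne_zero).1 hs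
  obtain ⟨hS, -⟩ := isSiegel_wt hQ (h5' hQ h7) hp hs'
  rw [hr] at hS
  refine ⟨r, fun y => ?_⟩
  show mv _ y = _
  rw [hS, q_smul_sing hQ h.2.1, pol_smul_right hQ]
  module

theorem root_basis {u v x y : Vι} (h : Line Q u v) (hx : InL u v x) (hy : InL u v y)
    (hind : ∀ k l : F, k • x + l • y = 0 → k = 0 ∧ l = 0) : root Q x y = root Q u v := by
  have h' := h.sub hQ hx hy hind
  obtain ⟨a, b, rfl⟩ := hx
  obtain ⟨c, d, rfl⟩ := hy
  have hk := h.det_ne_zero hind
  ext s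
  rw [mem_root_iff' hQ h7 h', mem_root_iff' hQ h7 h]
  constructor
  · rintro ⟨r, hr⟩
    exact ⟨_, (isTr_basis hQ).1 hr⟩
  · rintro ⟨r, hr⟩
    exact ⟨r / (a * d - b * c), (isTr_basis hQ).2 (by rwa [div_mul_cancel₀ _ hk])⟩

/-- A point of a line completes to a basis. -/
theorem Line.exists_basis {u v z : Vι} (h : Line Q u v) (hz : InL u v z) (hz0 : z ≠ 0) :
    ∃ w, InL u v w ∧ Line Q z w ∧ root Q z w = root Q u v := by
  obtain ⟨a, b, rfl⟩ := id hz
  by_cases ha : a = 0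
  · have hb : b ≠ 0 := fun e => hz0 (by rw [ha, e]; simp)
    have hind : ∀ k l : F, k • (a • u + b • v) + l • u = 0 → k = 0 ∧ l = 0 := fun k l e => by
      obtain ⟨h1, h2⟩ := h.2.2.2 (k * a + l) (k * b) (by linear_combination (norm := module) e)
      have hk := (mul_eq_zero.1 h2).resolve_right hb
      exact ⟨hk, by simpa [hk] using h1⟩
    exact ⟨u, inL_left u v, h.sub hQ hz (inL_left u v) hind, root_basis hQ h7 h hz (inL_left u v) hind⟩
  · have hind : ∀ k l : F, k • (a • u + b • v) + l • v = 0 → k = 0 ∧ l = 0 := fun k l e => by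
      obtain ⟨h1, h2⟩ := h.2.2.2 (k * a) (k * b + l) (by linear_combination (norm := module) e)
      have hk := (mul_eq_zero.1 h1).resolve_right ha
      exact ⟨hk, by simpa [hk] using h2⟩
    exact ⟨v, inL_right u v, h.sub hQ hz (inL_right u v) hind,
      root_basis hQ h7 h hz (inL_right u v) hind⟩

theorem root_le_rad {u v z : Vι} (h : Line Q u v) (hz : InL u v z) (hz0 : z ≠ 0) :
    root Q u v ≤ rad Q z := by
  obtain ⟨w, -, -, hw⟩ := h.exists_basis hQ h7 hz hz0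
  rw [← hw]
  exact inf_le_left

omit h7 [Finite F] in
/-- Commuting root elements belong to lines which meet or are orthogonal. -/
theorem meet_or_perp {u v x y : Vι} (h1 : Line Q u v) (h2 : Line Q x y) {r r' : F} (hr : r ≠ 0)
    (hr' : r' ≠ 0) {s t : Om} (hs : IsTr Q u v r s) (ht : IsTr Q x y r' t) (hc : Commute s t) :
    (∃ z, z ≠ 0 ∧ InL u v z ∧ InL x y z) ∨
      (pol Q x u = 0 ∧ pol Q x v = 0 ∧ pol Q y u = 0 ∧ pol Q y v = 0) := by
  by_cases hm : ∃ z, z ≠ 0 ∧ InL u v z ∧ InL x y z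
  · exact Or.inl hm
  refine Or.inr ?_
  have hkey : ∀ w, pol Q (r' • (pol Q w x • y - pol Q w y • x)) u = 0 ∧
      pol Q (r' • (pol Q w x • y - pol Q w y • x)) v = 0 := by
    intro w
    obtain ⟨T, hT⟩ : ∃ T, T = r' • (pol Q w x • y - pol Q w y • x) := ⟨_, rfl⟩
    obtain ⟨S, hS⟩ : ∃ S, S = r • (pol Q w u • v - pol Q w v • u) := ⟨_, rfl⟩
    obtain ⟨ST, hST⟩ : ∃ ST, ST = r • (pol Q T u • v - pol Q T v • u) := ⟨_, rfl⟩
    obtain ⟨TS, hTS⟩ : ∃ TS, TS = r' • (pol Q S x • y - pol Q S y • x) := ⟨_, rfl⟩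
    have e1 : act (s * t) w = w + S + (T + ST) := by
      rw [act_mul, ht w, ← hT, act_add, hs w, ← hS, hs T, ← hST]
    have e2 : act (t * s) w = w + T + (S + TS) := by
      rw [act_mul, hs w, ← hS, act_add, ht w, ← hT, ht S, ← hTS]
    rw [hc.eq] at e1
    have e3 : ST = TS := by linear_combination (norm := module) e1.symm.trans e2
    have h0 : ST = 0 := by
      by_contra h0
      exact hm ⟨ST, h0, ⟨-(r * pol Q T v), r * pol Q T u, by rw [hST]; module⟩,
        ⟨-(r' * pol Q S y), r' * pol Q S x, by rw [e3, hTS]; module⟩⟩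
    obtain ⟨a1, a2⟩ := h1.2.2.2 (-(r * pol Q T v)) (r * pol Q T u)
      (by rw [← h0, hST]; module)
    rw [← hT]
    exact ⟨(mul_eq_zero.1 a2).resolve_left hr, (mul_eq_zero.1 (neg_eq_zero.1 a1)).resolve_left hr⟩
  obtain ⟨w, hw1, hw2⟩ := exists_dual_pair hQ h2
  obtain ⟨w', hw1', hw2'⟩ := exists_dual_pair hQ h2.symm
  obtain ⟨a1, a2⟩ := hkey w
  obtain ⟨b1, b2⟩ := hkey w'
  rw [hw1, hw2] at a1 a2
  rw [hw1', hw2'] at b1 b2
  simp only [one_smul, zero_smul, sub_zero, zero_sub, pol_smul_left hQ, pol_neg_left hQ,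
    mul_eq_zero, hr', false_or, neg_eq_zero] at a1 a2 b1 b2
  exact ⟨b1, b2, a1, a2⟩

end Cfsg.Agent.AutPOmega
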