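import Cfsg.Agent.Lib.AutPOmega.Semi

/-!
Every automorphism of `PΩ` comes from a semisimilarity.
-/

set_option autoImplicit false

namespace Cfsg.Agent.AutPOmega

open Matrix Cfsg.Agent.Transvec Cfsg.Agent.Transvec.Orth

variable {ι : Type} [Fintype ι] [DecidableEq ι] {F : Type*} [Field F] {Q : (ι → F) → F}

local notation "Vι" => ι → F
local notation "Om" => Cfsg.Omega F Q
local notation "POm" => Cfsg.POmega F Q
local notation "π" => QuotientGroup.mk' (Subgroup.center (Cfsg.Omega F Q))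

/-- An element scaling the two vectors of a pair. -/
def IsTor (Q : (ι → F) → F) (e f : Vι) (t : Cfsg.Omega F Q) (d : F) : Prop :=
  d ≠ 0 ∧ act t e = d • e ∧ act t f = d⁻¹ • f

/-- The point of a weight. -/
def pt (Q : (ι → F) → F) (e f w : Vι) : Vι := (-Q w) • e + (1 : F) • f + w

theorem mapGL_comp (τ τ' : F ≃+* F) (g : GL ι F) : mapGL (τ * τ') g = mapGL τ (mapGL τ' g) :=
  Units.ext (Matrix.ext fun _ _ => rfl)

theorem sm_comp (g g' : GL ι F) (τ τ' : F ≃+* F) (x : Vι) :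
    sm g τ (sm g' τ' x) = sm (g * mapGL τ g') (τ * τ') x := by
  rw [sm, sm, sm, mv_mul, show ((τ * τ' : F ≃+* F) : F → F) ∘ x = τ ∘ (τ' ∘ x) from rfl, mv_mapGL]

theorem isPair_comp {g g' : GL ι F} {τ τ' : F ≃+* F} (hg : Cfsg.IsSemisimilarityPair Q g τ)
    (hg' : Cfsg.IsSemisimilarityPair Q g' τ') :
    Cfsg.IsSemisimilarityPair Q (g * mapGL τ g') (τ * τ') := by
  obtain ⟨c, hc⟩ := hg
  obtain ⟨c', hc'⟩ := hg'
  refine ⟨c * Units.map τ.toMonoidHom c', fun v => ?_⟩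
  show Q (sm (g * mapGL τ g') (τ * τ') v) = _
  rw [← sm_comp]
  refine (hc _).trans ?_
  show (c : F) * τ (Q (sm g' τ' v)) = _
  rw [show Q (sm g' τ' v) = (c' : F) * τ' (Q v) from hc' v, map_mul, ← mul_assoc]
  rfl

theorem isPair_iso {g : GL ι F} (hg : g ∈ Cfsg.isometryGroup F Q) : Cfsg.IsSemisimilarityPair Q g 1 :=
  ⟨1, fun v => by
    rw [Units.val_one, one_mul]
    exact mem_isometry.1 hg v⟩

section

variable [Finite F]

theorem semi_mul {g g' : GL ι F} {τ τ' : F ≃+* F} (hg : Cfsg.IsSemisimilarityPair Q g τ)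
    (hg' : Cfsg.IsSemisimilarityPair Q g' τ') :
    semi g τ hg * semi g' τ' hg' = semi (g * mapGL τ g') (τ * τ') (isPair_comp hg hg') :=
  MulEquiv.ext fun x => by
    induction x using QuotientGroup.induction_on with
    | _ s =>
      show semi g τ hg (semi g' τ' hg' (π s)) = semi _ _ _ (π s)
      rw [semi_mk, semi_mk, semi_mk]
      refine congrArg π (ext_act fun x => ?_)
      obtain ⟨y, rfl⟩ := sm_surj (g * mapGL τ g') (τ * τ') x
      rw [act_conjOm]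
      conv_lhs => rw [← sm_comp, act_conjOm, act_conjOm, sm_comp]

theorem inner_eq_semi (A : Om) :
    (MulAut.conj (π A) : MulAut POm) = semi (gl A) 1 (isPair_iso (A : Cfsg.isometryGroup F Q).2) :=
  MulEquiv.ext fun x => by
    induction x using QuotientGroup.induction_on with
    | _ s =>
      show π A * π s * (π A)⁻¹ = semi _ _ _ (π s)
      rw [semi_mk, ← map_mul, ← map_inv, ← map_mul]
      refine congrArg π (ext_act fun x => ?_)
      obtain ⟨y, rfl⟩ := sm_surj (gl A) 1 x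
      rw [act_conjOm]
      show act (A * s * A⁻¹) (act A y) = act A (act s y)
      rw [act_mul, act_mul, act_inv_act]

theorem inner_rel (A : Om) (c : Vι) : Rel (MulAut.conj (π A) : MulAut POm) c (act A c) :=
  (radQ_act A c).symm

end

variable (hQ : Geo.IsNondegenerateQuadraticForm Q)
include hQ

theorem pt_sing {e f w : Vι} (hp : Pair Q e f) (hw : w ∈ perp hQ e f) :
    Q (pt Q e f w) = 0 ∧ pt Q e f w ≠ 0 := by
  obtain ⟨a1, a2, a3⟩ := coord hQ hp hw (x := pt Q e f w) rfl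
  refine ⟨?_, fun e0 => ?_⟩
  · rw [q_decomp hQ hp, a1, a2, a3]; ring
  · rw [e0, pol_zero_left hQ] at a2
    exact zero_ne_one a2

theorem pol_pt {e f w y : Vι} (hp : Pair Q e f) (hw : w ∈ perp hQ e f) :
    pol Q y (pt Q e f w) = pol Q y f + -Q w * pol Q y e + pol Q (proj Q e f y) w := by
  obtain ⟨a1, a2, a3⟩ := coord hQ hp hw (x := pt Q e f w) rfl
  rw [pol_decomp hQ hp y, a1, a2, a3]
  ring

variable [Finite F] (h7 : 7 ≤ Fintype.card ι)
include h7

theorem IsTor.mapsTo {e f : Vι} {t : Om} {d : F} (ht : IsTor Q e f t d) {x : Vι}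
    (hx : x ∈ perp hQ e f) : act t x ∈ perp hQ e f := by
  obtain ⟨hd, he, hf⟩ := ht
  constructor
  · have e1 := act_pol t x e
    rw [he, pol_smul_right hQ, hx.1, mul_eq_zero, or_iff_right hd] at e1
    exact e1
  · have e1 := act_pol t x f
    rw [hf, pol_smul_right hQ, hx.2, mul_eq_zero, or_iff_right (inv_ne_zero hd)] at e1
    exact e1

theorem IsTor.conj_rad {e f : Vι} (hp : Pair Q e f) {t : Om} {d : F} (ht : IsTor Q e f t d) {u : Om}
    (hu : u ∈ rad Q e) :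
    t * u * t⁻¹ ∈ rad Q e ∧ wt e f (t * u * t⁻¹) = d • act t (wt e f u) := by
  obtain ⟨hd, he, hf⟩ := ht
  have h1 := rad_conj t hu
  rw [he, rad_smul hQ hd] at h1
  refine ⟨h1, ?_⟩
  have hti : act t⁻¹ f = d • f := act_inj t (by
    rw [act_act_inv, act_smul, hf, smul_smul, mul_inv_cancel₀ hd, one_smul])
  have hm : act t (wt e f u) ∈ perp hQ e f :=
    IsTor.mapsTo hQ h7 (⟨hd, he, hf⟩ : IsTor Q e f t d) (wt_mem hQ hp u)
  have e1 : act (t * u * t⁻¹) f =
      (d * (-Q (wt e f u) * d)) • e + (d * d⁻¹) • f + d • act t (wt e f u) := by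
    rw [act_mul, act_mul, hti, act_smul, act_smul, (isSiegel_wt hQ (h5' hQ h7) hp hu).2, act_add,
      act_add, act_smul, act_smul, he, hf]
    module
  exact (coord hQ hp (Submodule.smul_mem _ d hm) e1).2.2

/-- A vector of `W` fixed by the Siegel transformations of `W` along `a` is a multiple of `a`. -/
theorem fixed_siegel {e f a b : Vι} (hp : Pair Q e f) (hab : Pair Q a b) (ha : a ∈ perp hQ e f)
    (hb : b ∈ perp hQ e f) {x : Vι} (hx : x ∈ perp hQ e f)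
    (hfix : ∀ s : Om, act s e = e → act s f = f → act s a = a → act s x = x) : ∃ r : F, x = r • a := by
  have h5 := h5' hQ h7
  have key : ∀ y ∈ perp hQ e f ⊓ perp hQ a b,
      pol Q x a • y - (pol Q x y + Q y * pol Q x a) • a = 0 := by
    intro y hy
    obtain ⟨s, hs, hS, -, -⟩ := exists_wt hQ h5 hab hy.2
    have h1 := hfix s (isSiegel_fix hQ hS (perp_mem_pol hQ ha) (perp_mem_pol hQ hy.1))
      (isSiegel_fix hQ hS (by rw [Orth.pol_comm]; exact ha.2) (by rw [Orth.pol_comm]; exact hy.1.2))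
      hs.1
    rw [show act s x = mv (gl s) x from rfl, hS, add_sub_assoc, add_eq_left] at h1
    exact h1
  obtain ⟨hn2, hr2⟩ := nondeg_pair hQ hab.1 hab.2.1 hab.2.2
  have hsub : Submodule.span F ({a, b} : Set Vι) ≤ perp hQ e f :=
    Submodule.span_le.2 (by rintro _ (rfl | rfl); exacts [ha, hb])
  have hZ := nondeg_inf_orth hQ hn2 (perp_nondeg' hQ hp) hsub
  have hd := finrank_inf_orth_add hQ hn2 hsub
  rw [← perp_eq hQ] at hZ hd
  have hxa : pol Q x a = 0 := by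
    obtain ⟨y, hy, hy0⟩ : ∃ y ∈ perp hQ e f ⊓ perp hQ a b, y ≠ 0 := by
      refine (Submodule.ne_bot_iff _).1 fun h => ?_
      have h2 := finrank_perp hQ hp
      rw [hr2, h, finrank_bot] at hd
      omega
    obtain ⟨z, hz, hzy⟩ : ∃ z ∈ perp hQ e f ⊓ perp hQ a b, pol Q y z ≠ 0 := by
      by_contra! hall
      exact hy0 (hZ y hy fun z hz => by rw [Orth.pol_comm]; exact hall z hz)
    have e1 := congrArg (fun w => pol Q w z) (key y hy)
    simp only [pol_sub_left hQ, pol_smul_left hQ, pol_zero_left hQ, perp_mem_pol hQ hz.2,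
      mul_zero, sub_zero] at e1
    exact (mul_eq_zero.1 e1).resolve_right hzy
  have hP : proj Q a b x = 0 := by
    refine hZ _ ⟨sub_mem (sub_mem hx (Submodule.smul_mem _ _ ha)) (Submodule.smul_mem _ _ hb),
      proj_mem hQ hab x⟩ fun y hy => ?_
    have e1 := key y hy
    rw [hxa, mul_zero, add_zero, zero_smul, zero_sub, neg_eq_zero, smul_eq_zero,
      or_iff_left (Pair.ne_zero hQ hab)] at e1
    rw [pol_decomp hQ hab x y, hxa, hy.2.1, hy.2.2, proj_of_mem hQ hy.2] at e1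
    rw [Orth.pol_comm]
    linear_combination e1
  refine ⟨pol Q x b, ?_⟩
  conv_lhs => rw [decomp hQ a b x, hxa, hP, zero_smul, add_zero, add_zero]

variable (p : ℕ) [Fact p.Prime] [CharP F p]
include p

theorem rel_orth {β : MulAut POm} {c c' d d' : Vι} (hc : c ≠ 0 ∧ Q c = 0) (hd : d ≠ 0 ∧ Q d = 0)
    (hc' : c' ≠ 0 ∧ Q c' = 0) (hd' : d' ≠ 0 ∧ Q d' = 0) (h1 : Rel β c c') (h2 : Rel β d d') :
    pol Q c d = 0 ↔ pol Q c' d' = 0 := by
  rw [orth_iff hQ h7 p hc.1 hc.2 hd.1 hd.2, orth_iff hQ h7 p hc'.1 hc'.2 hd'.1 hd'.2, ← h1, ← h2,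
    ← Subgroup.map_inf _ _ β.toMonoidHom β.injective, ne_eq, ne_eq,
    Subgroup.map_eq_bot_iff_of_injective _ (f := β.toMonoidHom) β.injective]

theorem isTor_of_rel {β : MulAut POm} {e f : Vι} (hp : Pair Q e f) (he : Rel β e e) (hf : Rel β f f)
    {s t : Om} (est : β (π s) = π t) (hse : act s e = e) (hsf : act s f = f) :
    ∃ d, IsTor Q e f t d := by
  have he' := rel_compat he est
  have hf' := rel_compat hf est
  rw [hse] at he'
  rw [hsf] at hf'
  have he0 := Pair.ne_zero hQ hp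
  have hf0 := Pair.ne_zero hQ hp.symm
  obtain ⟨a, ha0, ha⟩ := rel_unique hQ h7 p he0 hp.1 (act_ne_zero t he0)
    (by rw [act_q (Q := Q), hp.1]) he he'
  obtain ⟨b, hb0, hb⟩ := rel_unique hQ h7 p hf0 hp.2.1 (act_ne_zero t hf0)
    (by rw [act_q (Q := Q), hp.2.1]) hf hf'
  refine ⟨a, ha0, ha, ?_⟩
  have e1 := act_pol t e f
  rw [ha, hb, pol_smul_left hQ, pol_smul_right hQ, hp.2.2, mul_one] at e1
  rw [hb, eq_inv_of_mul_eq_one_right e1]

/-- The map of weights. -/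
theorem exists_phi {β : MulAut POm} {e f : Vι} (hp : Pair Q e f) (he : Rel β e e) :
    ∃ φ : Vι → Vι, (∀ x ∈ perp hQ e f, φ x ∈ perp hQ e f) ∧
      (∀ x ∈ perp hQ e f, ∀ y ∈ perp hQ e f, φ (x + y) = φ x + φ y) ∧
      (∀ x ∈ perp hQ e f, ∀ y ∈ perp hQ e f, φ x = φ y → x = y) ∧
      (∀ y ∈ perp hQ e f, ∃ x ∈ perp hQ e f, φ x = y) ∧
      ∀ u ∈ rad Q e, ∃ u' ∈ rad Q e, β (π u) = π u' ∧ wt e f u' = φ (wt e f u) := by
  classical
  have h5 := h5' hQ h7
  have he0 := Pair.ne_zero hQ hp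
  have hsec : ∀ x, ∃ u u', x ∈ perp hQ e f →
      u ∈ rad Q e ∧ wt e f u = x ∧ u' ∈ rad Q e ∧ β (π u) = π u' := fun x => by
    by_cases hx : x ∈ perp hQ e f
    · obtain ⟨u, hu, -, hw, -⟩ := exists_wt hQ h5 hp hx
      obtain ⟨u', hu', e1⟩ : β (π u) ∈ radQ Q e :=
        he ▸ Subgroup.mem_map_of_mem β.toMonoidHom (Subgroup.mem_map_of_mem _ hu)
      exact ⟨u, u', fun _ => ⟨hu, hw, hu', e1.symm⟩⟩
    · exact ⟨1, 1, fun h => absurd h hx⟩
  choose sec B' hB using hsec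
  refine ⟨fun x => wt e f (B' x), fun x _ => wt_mem hQ hp _, fun x hx y hy => ?_,
    fun x hx y hy e1 => ?_, fun y hy => ?_, fun u hu => ?_⟩
  · obtain ⟨a1, a2, a3, a4⟩ := hB x hx
    obtain ⟨b1, b2, b3, b4⟩ := hB y hy
    obtain ⟨c1, c2, c3, c4⟩ := hB _ (add_mem hx hy)
    have e1 : sec (x + y) = sec x * sec y :=
      wt_inj hQ h5 hp c1 (mul_mem a1 b1) (by rw [wt_mul hQ h5 hp a1 b1, c2, a2, b2])
    have e2 : B' (x + y) = B' x * B' y := rad_mk_inj hQ h7 p he0 hp.1 he0 hp.1 c3 (mul_mem a3 b3)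
      (by rw [← c4, e1, map_mul, map_mul, map_mul, a4, b4])
    show wt e f (B' (x + y)) = _
    rw [e2, wt_mul hQ h5 hp a3 b3]
  · obtain ⟨a1, a2, a3, a4⟩ := hB x hx
    obtain ⟨b1, b2, b3, b4⟩ := hB y hy
    have e2 := wt_inj hQ h5 hp a3 b3 e1
    rw [← a2, ← b2, rad_mk_inj hQ h7 p he0 hp.1 he0 hp.1 a1 b1
      (β.injective (by rw [a4, b4, e2]))]
  · obtain ⟨v, hv, -, hw, -⟩ := exists_wt hQ h5 hp hy
    obtain ⟨_, ⟨u, hu, rfl⟩, e1⟩ : π v ∈ (radQ Q e).map β.toMonoidHom :=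
      he.symm ▸ Subgroup.mem_map_of_mem _ hv
    refine ⟨_, wt_mem hQ hp u, ?_⟩
    obtain ⟨a1, a2, a3, a4⟩ := hB _ (wt_mem hQ hp u)
    rw [wt_inj hQ h5 hp a1 hu a2] at a4
    show wt e f (B' _) = y
    rw [rad_mk_inj hQ h7 p he0 hp.1 he0 hp.1 a3 hv (a4.symm.trans e1), hw]
  · obtain ⟨a1, a2, a3, a4⟩ := hB _ (wt_mem hQ hp u)
    rw [wt_inj hQ h5 hp a1 hu a2] at a4
    exact ⟨_, a3, a4, rfl⟩

/-- Agreement with a semisimilarity on the radical. -/
theorem exists_semi_rad {β : MulAut POm} {e f : Vι} (hp : Pair Q e f) (he : Rel β e e)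
    (hf : Rel β f f) :
    ∃ (g : GL ι F) (τ : F ≃+* F) (hg : Cfsg.IsSemisimilarityPair Q g τ),
      Rel (semi g τ hg) e e ∧ Rel (semi g τ hg) f f ∧ ∀ u ∈ rad Q e, semi g τ hg (π u) = β (π u) := by
  classical
  have h5 := h5' hQ h7
  have he0 := Pair.ne_zero hQ hp
  obtain ⟨φ, hmem, hadd, hinj, hsurj, hspec⟩ := exists_phi hQ h7 p hp he
  have hφ0 : φ 0 = 0 := by
    have := hadd 0 (zero_mem _) 0 (zero_mem _)
    simpa using this
  have hequiv : ∀ s : Om, act s e = e → act s f = f → ∃ t d', IsTor Q e f t d' ∧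
      ∀ x ∈ perp hQ e f, φ (act s x) = d' • act t (φ x) := by
    intro s hse hsf
    obtain ⟨t, ht⟩ := QuotientGroup.mk'_surjective _ (β (π s))
    obtain ⟨d', hd'⟩ := isTor_of_rel hQ h7 p hp he hf ht.symm hse hsf
    refine ⟨t, d', hd', fun x hx => ?_⟩
    obtain ⟨u, hu, -, hux, -⟩ := exists_wt hQ h5 hp hx
    obtain ⟨u', hu', e1, e2⟩ := hspec u hu
    have hs : IsTor Q e f s 1 := ⟨one_ne_zero, by rw [hse, one_smul], by rw [hsf, inv_one, one_smul]⟩
    obtain ⟨c1, c2⟩ := IsTor.conj_rad hQ h7 hp hs hu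
    obtain ⟨d1, d2⟩ := IsTor.conj_rad hQ h7 hp hd' hu'
    obtain ⟨v', hv', e3, e4⟩ := hspec _ c1
    have e5 : v' = t * u' * t⁻¹ := rad_mk_inj hQ h7 p he0 hp.1 he0 hp.1 hv' d1 (by
      rw [← e3, map_mul, map_mul, map_inv, map_mul, map_mul, map_inv, e1, ← ht, map_mul, map_mul,
        map_inv])
    rw [c2, one_smul, hux] at e4
    rw [← e4, e5, d2, e2, hux]
  -- a pair inside
  obtain ⟨a, b, hab, ha, hb⟩ := exists_perp_pair hQ h7 hp
  have ha0 := Pair.ne_zero hQ hab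
  have hsubW : ∀ x ∈ perp hQ e f, x ∈ Submodule.span F {v | v ∈ perp hQ e f ∧ Q v = 0} :=
    fun x hx => span_singular hQ hab ha hb hx
  choose! φi hφi using hsurj
  have hscal : ∀ r : F, ∃ c : F, ∀ x ∈ perp hQ e f, φ (c • x) = r • φ x := by
    intro r
    obtain ⟨ψ, hψ⟩ : ∃ ψ : Vι → Vι, ψ = fun x => φi (r • φ x) := ⟨_, rfl⟩
    have hψm : ∀ x ∈ perp hQ e f, ψ x ∈ perp hQ e f ∧ φ (ψ x) = r • φ x := fun x hx =>
      hψ ▸ hφi _ (Submodule.smul_mem _ r (hmem x hx))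
    have hcomm : ∀ s : Om, act s e = e → act s f = f → ∀ x ∈ perp hQ e f,
        act s (ψ x) = ψ (act s x) := by
      intro s hse hsf x hx
      have hs : IsTor Q e f s 1 := ⟨one_ne_zero, by rw [hse, one_smul], by rw [hsf, inv_one, one_smul]⟩
      obtain ⟨t, d', -, hd⟩ := hequiv s hse hsf
      have hsx := IsTor.mapsTo hQ h7 hs hx
      refine hinj _ (IsTor.mapsTo hQ h7 hs (hψm x hx).1) _ (hψm _ hsx).1 ?_
      rw [(hψm _ hsx).2, hd _ (hψm x hx).1, (hψm x hx).2, act_smul, hd x hx]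
      exact smul_comm _ _ _
    obtain ⟨c, hc⟩ := fixed_siegel hQ h7 hp hab ha hb (hψm a ha).1 fun s hse hsf hsa => by
      rw [hcomm s hse hsf a ha, hsa]
    refine ⟨c, fun x hx => ?_⟩
    suffices h : ψ x = c • x by rw [← h, (hψm x hx).2]
    have hψadd : ∀ y ∈ perp hQ e f, ∀ z ∈ perp hQ e f, ψ (y + z) = ψ y + ψ z := fun y hy z hz => by
      refine hinj _ (hψm _ (add_mem hy hz)).1 _ (add_mem (hψm y hy).1 (hψm z hz).1) ?_
      rw [(hψm _ (add_mem hy hz)).2, hadd y hy z hz, smul_add, hadd _ (hψm y hy).1 _ (hψm z hz).1,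
        (hψm y hy).2, (hψm z hz).2]
    have hsingv : ∀ y ∈ perp hQ e f, Q y = 0 → ψ y = c • y := by
      intro y hy hyq
      rcases eq_or_ne y 0 with rfl | hy0
      · rw [smul_zero]
        refine hinj _ (hψm 0 (zero_mem _)).1 _ (zero_mem _) ?_
        rw [(hψm 0 (zero_mem _)).2, hφ0, smul_zero]
      obtain ⟨s, hs, hsfix⟩ := exists_map hQ h5 (perp_nondeg' hQ hp)
        (by have := finrank_perp hQ hp; omega) ha hy ha0 hy0 hab.1 hyq
      have hse : act s e = e := hsfix e fun z hz => perp_mem_pol hQ hz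
      have hsf : act s f = f := hsfix f fun z hz => by rw [Orth.pol_comm]; exact hz.2
      rw [← hs, ← hcomm s hse hsf a ha, hc, act_smul]
    have hall : x ∈ perp hQ e f ∧ ∀ k : F, ψ (k • x) = c • (k • x) := by
      refine Submodule.span_induction (p := fun y _ => y ∈ perp hQ e f ∧
        ∀ k : F, ψ (k • y) = c • (k • y)) ?_ ?_ ?_ ?_ (hsubW x hx)
      · exact fun y hy => ⟨hy.1, fun k => hsingv _ (Submodule.smul_mem _ k hy.1) (q_smul_sing hQ hy.2 k)⟩
      · exact ⟨zero_mem _, fun k => hsingv _ (by rw [smul_zero]; exact zero_mem _)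
          (by rw [smul_zero]; exact q_zero hQ)⟩
      · rintro y z - - ⟨hy, hy'⟩ ⟨hz, hz'⟩
        exact ⟨add_mem hy hz, fun k => by
          rw [smul_add, hψadd _ (Submodule.smul_mem _ k hy) _ (Submodule.smul_mem _ k hz), hy', hz',
            ← smul_add]⟩
      · rintro l y - ⟨hy, hy'⟩
        exact ⟨Submodule.smul_mem _ l hy, fun k => by rw [smul_smul k l]; exact hy' _⟩
    simpa using hall.2 1
  choose σf hσ using hscal
  have hφa : φ a ≠ 0 := fun e1 => ha0 (hinj a ha 0 (zero_mem _) (e1.trans hφ0.symm))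
  have huniq : ∀ {r c : F}, φ (c • a) = r • φ a → σf r = c := fun {r c} e1 =>
    smul_left_injective F ha0 (hinj _ (Submodule.smul_mem _ _ ha) _ (Submodule.smul_mem _ _ ha)
      ((hσ r a ha).trans e1.symm))
  let σh : F →+* F :=
    { toFun := σf
      map_one' := huniq (by rw [one_smul, one_smul])
      map_zero' := huniq (by rw [zero_smul, zero_smul, hφ0])
      map_mul' := fun r r' => huniq (by
        rw [mul_smul, hσ r _ (Submodule.smul_mem _ _ ha), hσ r' a ha, mul_smul])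
      map_add' := fun r r' => huniq (by
        rw [add_smul, hadd _ (Submodule.smul_mem _ _ ha) _ (Submodule.smul_mem _ _ ha), hσ r a ha,
          hσ r' a ha, add_smul]) }
  obtain ⟨τ, hτ⟩ : ∃ τ : F ≃+* F, ∀ r, σf (τ r) = r :=
    ⟨(RingEquiv.ofBijective σh (Finite.injective_iff_bijective.1 σh.injective)).symm,
      fun r => (RingEquiv.ofBijective σh _).apply_symm_apply r⟩
  have hsmul : ∀ (r : F), ∀ x ∈ perp hQ e f, φ (r • x) = τ r • φ x := fun r x hx => by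
    rw [← hσ (τ r) x hx, hτ]
  -- singular vectors
  have hpt : ∀ w ∈ perp hQ e f, Rel β (pt Q e f w) (pt Q e f (φ w)) := by
    intro w hw
    obtain ⟨u, hu, -, huw, huf⟩ := exists_wt hQ h5 hp hw
    obtain ⟨u', hu', e1, e2⟩ := hspec u hu
    have h := rel_compat hf e1
    rw [huf, (isSiegel_wt hQ h5 hp hu').2, e2, huw] at h
    exact h
  have hf0 := Pair.ne_zero hQ hp.symm
  have hpolf : ∀ w ∈ perp hQ e f, pol Q f (pt Q e f w) = -Q w := fun w hw => by
    rw [pol_pt hQ hp hw, pol_self_sing hQ hp.2.1, Orth.pol_comm f e, hp.2.2, proj_f hQ hp,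
      pol_zero_left hQ]
    ring
  have hzero : ∀ w ∈ perp hQ e f, (Q w = 0 ↔ Q (φ w) = 0) := by
    intro w hw
    have h1 := pt_sing hQ hp hw
    have h2 := pt_sing hQ hp (hmem w hw)
    have h3 := rel_orth hQ h7 p ⟨hf0, hp.2.1⟩ ⟨h1.2, h1.1⟩ ⟨hf0, hp.2.1⟩ ⟨h2.2, h2.1⟩ hf (hpt w hw)
    rwa [hpolf w hw, hpolf _ (hmem w hw), neg_eq_zero, neg_eq_zero] at h3
  have horth : ∀ x ∈ perp hQ e f, ∀ y ∈ perp hQ e f, Q x = 0 → Q y = 0 →
      (pol Q x y = 0 ↔ pol Q (φ x) (φ y) = 0) := by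
    intro x hx y hy hxq hyq
    have h1 := hzero _ (add_mem hx hy)
    rwa [hadd x hx y hy, Orth.q_add hQ, Orth.q_add hQ, hxq, hyq, (hzero x hx).1 hxq,
      (hzero y hy).1 hyq, zero_add, zero_add, zero_add] at h1
  obtain ⟨c, hc⟩ : ∃ c, c = pol Q (φ a) (φ b) := ⟨_, rfl⟩
  have hc0 : c ≠ 0 := fun e1 => by
    have := (horth a ha b hb hab.1 hab.2.1).2 (hc.symm.trans e1)
    rw [hab.2.2] at this
    exact one_ne_zero this
  have hqa := (hzero a ha).1 hab.1
  have hqb := (hzero b hb).1 hab.2.1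
  obtain ⟨hn2, hr2⟩ := nondeg_pair hQ hab.1 hab.2.1 hab.2.2
  have hsub : Submodule.span F ({a, b} : Set Vι) ≤ perp hQ e f :=
    Submodule.span_le.2 (by rintro _ (rfl | rfl); exacts [ha, hb])
  have hZ := nondeg_inf_orth hQ hn2 (perp_nondeg' hQ hp) hsub
  have hd := finrank_inf_orth_add hQ hn2 hsub
  rw [← perp_eq hQ] at hZ hd
  obtain ⟨a', ha', ha'0, ha'q⟩ := exists_singular hQ (X := perp hQ e f ⊓ perp hQ a b)
    (by have := finrank_perp hQ hp; omega)
  obtain ⟨b', hb', hb'q, hab'⟩ := Orth.exists_partner hQ hZ ha' ha'0 ha'q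
  have hperp : ∀ w ∈ perp hQ e f ⊓ perp hQ a b, pol Q (φ w) (φ a) = 0 ∧ pol Q (φ w) (φ b) = 0 := by
    intro w hw
    refine (Submodule.span_induction (p := fun y _ => y ∈ perp hQ e f ⊓ perp hQ a b ∧
      pol Q (φ y) (φ a) = 0 ∧ pol Q (φ y) (φ b) = 0) ?_ ?_ ?_ ?_
      (span_singular hQ (show Pair Q a' b' from ⟨ha'q, hb'q, hab'⟩) ha' hb' hw)).2
    · exact fun y hy => ⟨hy.1, (horth y hy.1.1 a ha hy.2 hab.1).1 hy.1.2.1,
        (horth y hy.1.1 b hb hy.2 hab.2.1).1 hy.1.2.2⟩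
    · exact ⟨zero_mem _, by rw [hφ0, pol_zero_left hQ], by rw [hφ0, pol_zero_left hQ]⟩
    · rintro y z - - ⟨hy, hy1, hy2⟩ ⟨hz, hz1, hz2⟩
      exact ⟨add_mem hy hz, by rw [hadd y hy.1 z hz.1, pol_add_left hQ, hy1, hz1, add_zero],
        by rw [hadd y hy.1 z hz.1, pol_add_left hQ, hy2, hz2, add_zero]⟩
    · rintro l y - ⟨hy, hy1, hy2⟩
      exact ⟨Submodule.smul_mem _ l hy, by rw [hsmul l y hy.1, pol_smul_left hQ, hy1, mul_zero],
        by rw [hsmul l y hy.1, pol_smul_left hQ, hy2, mul_zero]⟩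
  have hQW' : ∀ w ∈ perp hQ e f ⊓ perp hQ a b, Q (φ w) = c * τ (Q w) := by
    intro w hw
    have hm : w + a + (-Q w) • b ∈ perp hQ e f :=
      add_mem (add_mem hw.1 ha) (Submodule.smul_mem _ _ hb)
    have hz : Q (w + a + (-Q w) • b) = 0 := by
      rw [Orth.q_add hQ, Orth.q_add hQ, q_smul_sing hQ hab.2.1, hab.1, pol_add_left hQ,
        pol_smul_right hQ, pol_smul_right hQ, hw.2.1, hw.2.2, hab.2.2]
      ring
    have h1 := (hzero _ hm).1 hz
    rw [hadd _ (add_mem hw.1 ha) _ (Submodule.smul_mem _ _ hb), hadd w hw.1 a ha, hsmul _ b hb,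
      map_neg, Orth.q_add hQ, Orth.q_add hQ, q_smul_sing hQ hqb, hqa, pol_add_left hQ,
      pol_smul_right hQ, pol_smul_right hQ, (hperp w hw).1, (hperp w hw).2, ← hc] at h1
    linear_combination h1
  have hQW : ∀ x ∈ perp hQ e f, Q (φ x) = c * τ (Q x) := by
    intro x hx
    have hm : proj Q a b x ∈ perp hQ e f ⊓ perp hQ a b :=
      ⟨sub_mem (sub_mem hx (Submodule.smul_mem _ _ ha)) (Submodule.smul_mem _ _ hb),
        proj_mem hQ hab x⟩
    conv_lhs => rw [decomp hQ a b x, hadd _ (add_mem (Submodule.smul_mem _ _ ha)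
      (Submodule.smul_mem _ _ hb)) _ hm.1, hadd _ (Submodule.smul_mem _ _ ha) _
      (Submodule.smul_mem _ _ hb), hsmul _ a ha, hsmul _ b hb]
    rw [q_decomp hQ hab x, Orth.q_add hQ, Orth.q_add hQ, q_smul_sing hQ hqa, q_smul_sing hQ hqb,
      hQW' _ hm, pol_add_left hQ, pol_smul_left hQ, pol_smul_left hQ, pol_smul_left hQ,
      pol_smul_right hQ, ← hc, Orth.pol_comm (φ a), Orth.pol_comm (φ b), (hperp _ hm).1,
      (hperp _ hm).2, map_add, map_mul]
    ring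
  obtain ⟨Φ, hΦ⟩ : ∃ Φ : Vι → Vι, ∀ x, Φ x = (c * τ (pol Q x f)) • e + τ (pol Q x e) • f +
      φ (proj Q e f x) := ⟨_, fun _ => rfl⟩
  obtain ⟨g, hg, hgΦ⟩ := exists_sm_eq τ hc0 Φ
    (fun x y => by
      rw [hΦ, hΦ, hΦ, pol_add_left hQ, pol_add_left hQ, map_add, map_add, proj_add hQ,
        hadd _ (proj_mem hQ hp x) _ (proj_mem hQ hp y)]
      module)
    (fun r x => by
      rw [hΦ, hΦ, pol_smul_left hQ, pol_smul_left hQ, map_mul, map_mul, proj_smul hQ,
        hsmul r _ (proj_mem hQ hp x)]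
      module)
    (fun x => by
      obtain ⟨x1, x2, x3⟩ := coord hQ hp (hmem _ (proj_mem hQ hp x)) (hΦ x)
      rw [q_decomp hQ hp (Φ x), x1, x2, x3, hQW _ (proj_mem hQ hp x), q_decomp hQ hp x, map_add,
        map_mul]
      ring) hQ
  have hge : sm g τ e = c • e := by
    rw [hgΦ, hΦ, hp.2.2, pol_self_sing hQ hp.1, proj_e hQ hp, hφ0]; simp
  have hgf : sm g τ f = f := by
    rw [hgΦ, hΦ, Orth.pol_comm f e, hp.2.2, pol_self_sing hQ hp.2.1, proj_f hQ hp, hφ0]; simp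
  obtain ⟨k, hk0, hk⟩ := pol_sm hQ hg
  refine ⟨g, τ, hg, ?_, ?_, fun u hu => ?_⟩
  · have := rel_semi hQ hg e
    rwa [hge, Rel, radQ_smul hQ hc0] at this
  · have := rel_semi hQ hg f
    rwa [hgf] at this
  have h1 : conjOm g τ hg u ∈ rad Q e := by
    have := conjOm_mem_rad hg hu fun x y e1 => by
      rwa [hk, mul_eq_zero, or_iff_right hk0, map_eq_zero] at e1
    rwa [hge, rad_smul hQ hc0] at this
  obtain ⟨u', hu', e1, e2⟩ := hspec u hu
  rw [e1, semi_mk]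
  refine congrArg π (wt_inj hQ h5 hp h1 hu' ?_)
  obtain ⟨a1, a2, a3⟩ := coord hQ hp (wt_mem hQ hp u) (isSiegel_wt hQ h5 hp hu).2
  have e3 : act (conjOm g τ hg u) f =
      (c * τ (-Q (wt e f u))) • e + (1 : F) • f + φ (wt e f u) := by
    conv_lhs => rw [← hgf, act_conjOm, hgΦ, hΦ, a1, a2, a3, map_one]
  rw [wt, (coord hQ hp (hmem _ (wt_mem hQ hp u)) e3).2.2, e2]

variable (hD : 9 ≤ Fintype.card ι ∨
  ∀ U : Submodule F (ι → F), (∀ x ∈ U, Q x = 0) → Module.finrank F U ≤ 3)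
include hD

/-- An automorphism fixing two points and trivial on the radical is trivial. -/
theorem eq_one_of_trivial {β : MulAut POm} {e f : Vι} (hp : Pair Q e f) (he : Rel β e e)
    (hf : Rel β f f) (hspec : ∀ u ∈ rad Q e, β (π u) = π u) : β = 1 := by
  have h5 := h5' hQ h7
  have he0 := Pair.ne_zero hQ hp
  have hpt : ∀ w ∈ perp hQ e f, Rel β (pt Q e f w) (pt Q e f w) := by
    intro w hw
    obtain ⟨u, hu, -, -, huf⟩ := exists_wt hQ h5 hp hw
    have h := rel_compat hf (hspec u hu)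
    rwa [huf] at h
  have hall : ∀ c : Vι, c ≠ 0 → Q c = 0 → Rel β c c := by
    intro c hc hcq
    by_cases hce : pol Q c e = 0
    swap
    · obtain ⟨k, hk⟩ : ∃ k, k = (pol Q c e)⁻¹ := ⟨_, rfl⟩
      have hk0 : k ≠ 0 := hk ▸ inv_ne_zero hce
      obtain ⟨u, hu, huf, -⟩ := exists_point hQ h5 hp (y := k • c) (q_smul_sing hQ hcq _)
        (by rw [pol_smul_left hQ, hk, inv_mul_cancel₀ hce])
      have h1 := rel_compat hf (hspec u hu)
      rw [huf, Rel, radQ_smul hQ hk0] at h1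
      exact h1
    by_cases hw0 : proj Q e f c = 0
    · have hcd : c = pol Q c f • e := by
        conv_lhs => rw [decomp hQ e f c, hce, hw0, zero_smul, add_zero, add_zero]
      have h0 : pol Q c f ≠ 0 := fun e1 => hc (by rw [hcd, e1, zero_smul])
      rw [hcd]
      exact rel_smul hQ he h0 h0
    obtain ⟨d, hd, hdq, hrel⟩ := exists_rel hQ h7 p hD β hc hcq
    have hde : pol Q d e = 0 :=
      (rel_orth hQ h7 p ⟨hc, hcq⟩ ⟨he0, hp.1⟩ ⟨hd, hdq⟩ ⟨he0, hp.1⟩ hrel he).1 hce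
    have hzero : ∀ v ∈ perp hQ e f, pol Q (proj Q e f c) v = -pol Q c f →
        pol Q (proj Q e f d) v = -pol Q d f := by
      intro v hv e1
      have hy := pt_sing hQ hp hv
      have h0 : pol Q c (pt Q e f v) = 0 := by rw [pol_pt hQ hp hv, hce, e1]; ring
      have h1 := (rel_orth hQ h7 p ⟨hc, hcq⟩ ⟨hy.2, hy.1⟩ ⟨hd, hdq⟩ ⟨hy.2, hy.1⟩ hrel (hpt v hv)).1 h0
      rw [pol_pt hQ hp hv, hde] at h1
      linear_combination h1
    obtain ⟨x, hx, hx1⟩ : ∃ x ∈ perp hQ e f, pol Q (proj Q e f c) x = 1 := by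
      obtain ⟨x, hx, hxc⟩ : ∃ x ∈ perp hQ e f, pol Q (proj Q e f c) x ≠ 0 := by
        by_contra! h
        exact hw0 (perp_nondeg hQ hp (proj_mem hQ hp c) h)
      exact ⟨(pol Q (proj Q e f c) x)⁻¹ • x, Submodule.smul_mem _ _ hx,
        by rw [pol_smul_right hQ, inv_mul_cancel₀ hxc]⟩
    obtain ⟨t, ht⟩ : ∃ t, t = pol Q (proj Q e f d) x := ⟨_, rfl⟩
    have e2 := hzero _ (Submodule.smul_mem _ (-pol Q c f) hx) (by rw [pol_smul_right hQ, hx1, mul_one])
    rw [pol_smul_right hQ, ← ht] at e2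
    have hprop : proj Q e f d = t • proj Q e f c := by
      refine sub_eq_zero.1 (perp_nondeg hQ hp
        (sub_mem (proj_mem hQ hp d) (Submodule.smul_mem _ _ (proj_mem hQ hp c))) fun v hv => ?_)
      obtain ⟨k, hk⟩ : ∃ k, k = -pol Q c f - pol Q (proj Q e f c) v := ⟨_, rfl⟩
      have e1 := hzero (v + k • x) (add_mem hv (Submodule.smul_mem _ _ hx))
        (by rw [pol_add_right hQ, pol_smul_right hQ, hx1, hk]; ring)
      rw [pol_add_right hQ, pol_smul_right hQ, ← ht, hk] at e1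
      rw [pol_sub_left hQ, pol_smul_left hQ]
      linear_combination e1 - e2
    have hdc : d = t • c := by
      conv_lhs => rw [decomp hQ e f d, hde, hprop,
        show pol Q d f = t * pol Q c f by linear_combination e2]
      conv_rhs => rw [decomp hQ e f c, hce]
      module
    have ht0 : t ≠ 0 := fun e1 => hd (by rw [hdc, e1, zero_smul])
    rw [hdc, Rel, radQ_smul hQ ht0] at hrel
    exact hrel
  refine MulEquiv.ext fun x => ?_
  induction x using QuotientGroup.induction_on with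
  | _ s =>
    obtain ⟨t, ht⟩ := QuotientGroup.mk'_surjective _ (β (π s))
    show β (π s) = π s
    rw [← ht]
    refine (QuotientGroup.eq.2 ?_).symm
    rw [mem_center_iff hQ h7]
    refine scalar_of_line hQ h7 (s⁻¹ * t) fun c hc hcq => ?_
    obtain ⟨a, -, ha⟩ := rel_unique hQ h7 p (act_ne_zero s hc) (by rw [act_q (Q := Q), hcq])
      (act_ne_zero t hc) (by rw [act_q (Q := Q), hcq])
      (hall _ (act_ne_zero s hc) (by rw [act_q (Q := Q), hcq])) (rel_compat (hall c hc hcq) ht.symm)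
    exact ⟨a, by rw [act_mul, ha, act_smul, act_inv_act]⟩

/-- Every automorphism comes from a semisimilarity. -/
theorem exists_semi (β : MulAut POm) :
    ∃ (g : GL ι F) (τ : F ≃+* F) (hg : Cfsg.IsSemisimilarityPair Q g τ), β = semi g τ hg := by
  have h5 := h5' hQ h7
  obtain ⟨e, f, hp⟩ := exists_sing hQ h7
  have he0 := Pair.ne_zero hQ hp
  have hf0 := Pair.ne_zero hQ hp.symm
  obtain ⟨d₁, hd₁, hd₁q, hr₁⟩ := exists_rel hQ h7 p hD β he0 hp.1
  obtain ⟨d₂, hd₂, hd₂q, hr₂⟩ := exists_rel hQ h7 p hD β hf0 hp.2.1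
  have h12 : pol Q d₁ d₂ ≠ 0 := fun e1 => by
    have := (rel_orth hQ h7 p ⟨he0, hp.1⟩ ⟨hf0, hp.2.1⟩ ⟨hd₁, hd₁q⟩ ⟨hd₂, hd₂q⟩ hr₁ hr₂).2 e1
    rw [hp.2.2] at this
    exact one_ne_zero this
  obtain ⟨d₃, hd₃⟩ : ∃ d₃, d₃ = (pol Q d₁ d₂)⁻¹ • d₂ := ⟨_, rfl⟩
  have hr₃ : Rel β f d₃ := by
    rw [hd₃, Rel, radQ_smul hQ (inv_ne_zero h12)]
    exact hr₂
  have hp' : Pair Q d₁ d₃ := ⟨hd₁q, hd₃ ▸ q_smul_sing hQ hd₂q _,
    by rw [hd₃, pol_smul_right hQ, inv_mul_cancel₀ h12]⟩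
  obtain ⟨A, hA1, hA2⟩ := exists_pair_map hQ h5 hp' hp
  have he : Rel (MulAut.conj (π A) * β) e e := rel_comp hr₁ (hA1 ▸ inner_rel A d₁)
  have hf : Rel (MulAut.conj (π A) * β) f f := rel_comp hr₃ (hA2 ▸ inner_rel A d₃)
  obtain ⟨g, τ, hg, hge, hgf, hgu⟩ := exists_semi_rad hQ h7 p hp he hf
  have h1 : (semi g τ hg)⁻¹ * (MulAut.conj (π A) * β) = 1 :=
    eq_one_of_trivial hQ h7 p hD hp (rel_comp he (rel_symm hge)) (rel_comp hf (rel_symm hgf))
      fun u hu => by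
        show (semi g τ hg)⁻¹ ((MulAut.conj (π A) * β) (π u)) = π u
        rw [← hgu u hu]
        exact (semi g τ hg).symm_apply_apply _
  have e1 : β = MulAut.conj (π A⁻¹) * semi g τ hg := by
    rw [inv_mul_eq_one.1 h1, map_inv, map_inv, ← mul_assoc, inv_mul_cancel, one_mul]
  rw [inner_eq_semi, semi_mul] at e1
  exact ⟨_, _, _, e1⟩

omit p [Fact (Nat.Prime p)] [CharP F p] in
/-- The semisimilarities induce all automorphisms. -/
theorem gamma_eq_top : Cfsg.gammaPOmega F Q = ⊤ := by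
  obtain ⟨p, hp⟩ := CharP.exists F
  haveI : Fact p.Prime := ⟨CharP.char_is_prime F p⟩
  refine eq_top_iff.2 fun β _ => ?_
  obtain ⟨g, τ, hg, rfl⟩ := exists_semi hQ h7 p hD β
  exact semi_mem_gamma hg

omit hD in
/-- The field automorphism and, up to scalars, the linear map are determined. -/
theorem semi_eq_one_imp {g : GL ι F} {τ : F ≃+* F} (hg : Cfsg.IsSemisimilarityPair Q g τ)
    (h : semi g τ hg = 1) : τ = 1 ∧ ∃ a : F, a ≠ 0 ∧ ∀ x, mv g x = a • x := by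
  obtain ⟨c, hc⟩ := exists_scalar hQ h7 (sm g τ) (sm_add g τ) fun x hx0 hxq => by
    have h1 := rel_semi hQ hg x
    rw [h] at h1
    have hq : Q (sm g τ x) = 0 := by
      obtain ⟨k, hk⟩ := hg
      show Q ((g : Matrix ι ι F) *ᵥ fun i => τ (x i)) = 0
      rw [hk, hxq, map_zero, mul_zero]
    obtain ⟨a, -, ha⟩ := rel_unique hQ h7 p hx0 hxq
      (fun e => hx0 (sm_inj g τ (e.trans (sm_zero g τ).symm))) hq (rel_one x) h1
    exact ⟨a, ha⟩
  obtain ⟨e, f, hp⟩ := exists_sing hQ h7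
  have he0 := Pair.ne_zero hQ hp
  have hc0 : c ≠ 0 := fun e1 => he0 (sm_inj g τ (by rw [sm_zero, hc e hp.1, e1, zero_smul]))
  have hτ : τ = 1 := RingEquiv.ext fun r => by
    have e1 := hc (r • e) (q_smul_sing hQ hp.1 r)
    rw [sm_smul, hc e hp.1, smul_smul, smul_smul] at e1
    exact mul_right_cancel₀ hc0 ((smul_left_injective F he0 e1).trans (mul_comm c r))
  subst hτ
  refine ⟨rfl, c, hc0, fun x => ?_⟩
  exact LinearMap.congr_fun (eq_of_singular hQ h7 (φ := mvLin g) (ψ := c • LinearMap.id)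
    (fun v hv => by simpa [mvLin, mv, sm] using hc v hv)) x

end Cfsg.Agent.AutPOmega
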