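import Cfsg.Agent.Lib.AutPOmega.Semigroup
import Cfsg.Agent.Lib.Orthogonal.POmega

/-!
The minus-type orthogonal groups: similarities of every multiplier, semisimilarities of every field automorphism.
-/

set_option autoImplicit false

namespace Cfsg.Agent.AutPOmega

open Matrix Cfsg.Agent.Transvec Cfsg.Agent.Transvec.Orth

variable {j : ℕ} {F : Type*} [Field F] {a b : F}

local notation "Jv" => (Fin j ⊕ Fin j) ⊕ Fin 2
local notation "Qm" => Cfsg.quadFormMinus j F a b

/-- The binary part of the form. -/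
def binQ (a b : F) (z : F × F) : F := z.1 ^ 2 + a * z.1 * z.2 + b * z.2 ^ 2

/-- Extend a map of the binary part, scaling one half of the hyperbolic part. -/
def ext2 (τ : F ≃+* F) (c : F) (s : F × F → F × F) (v : Jv → F) : Jv → F
  | .inl (.inl i) => τ (v (.inl (.inl i)))
  | .inl (.inr i) => c * τ (v (.inl (.inr i)))
  | .inr k => if k = 0 then (s (v (.inr 0), v (.inr 1))).1 else (s (v (.inr 0), v (.inr 1))).2

theorem q_ext2 (τ : F ≃+* F) (c : F) (s : F × F → F × F)
    (hs : ∀ z, binQ a b (s z) = c * τ (binQ a b z)) (v : Jv → F) : Qm (ext2 τ c s v) = c * τ (Qm v) := by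
  have h := hs (v (.inr 0), v (.inr 1))
  simp only [binQ, map_add, map_mul, map_pow] at h
  simp only [Cfsg.quadFormMinus, ext2, map_add, map_sum, map_mul, map_pow, mul_add,
    show ((1 : Fin 2) = 0) = False by simp, if_false, if_true, Finset.mul_sum]
  have hsum : (∑ i : Fin j, τ (v (.inl (.inl i))) * (c * τ (v (.inl (.inr i))))) =
      ∑ i : Fin j, c * (τ (v (.inl (.inl i))) * τ (v (.inl (.inr i)))) :=
    Finset.sum_congr rfl fun i _ => by ring
  rw [hsum]
  linear_combination h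

theorem ext2_add (τ : F ≃+* F) (c : F) (s : F × F → F × F) (hs : ∀ z w, s (z + w) = s z + s w)
    (x y : Jv → F) : ext2 τ c s (x + y) = ext2 τ c s x + ext2 τ c s y := by
  have h := hs (x (.inr 0), x (.inr 1)) (y (.inr 0), y (.inr 1))
  funext i
  rcases i with (i | i) | i
  · simp [ext2]
  · simp [ext2, mul_add]
  · fin_cases i
    · simpa [ext2] using congrArg Prod.fst h
    · simpa [ext2] using congrArg Prod.snd h

theorem ext2_smul (τ : F ≃+* F) (c : F) (s : F × F → F × F)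
    (hs : ∀ (r : F) z, s (r * z.1, r * z.2) = (τ r * (s z).1, τ r * (s z).2)) (r : F) (x : Jv → F) :
    ext2 τ c s (r • x) = τ r • ext2 τ c s x := by
  have h := hs r (x (.inr 0), x (.inr 1))
  funext i
  rcases i with (i | i) | i
  · simp [ext2]
  · simp [ext2]; ring
  · fin_cases i
    · simpa [ext2] using congrArg Prod.fst h
    · simpa [ext2] using congrArg Prod.snd h

/-- Semisimilarities from binary ones. -/
theorem exists_pair_of_binary [Finite F]
    (hab : ∀ z₁ z₂ : F, z₁ ^ 2 + a * z₁ * z₂ + b * z₂ ^ 2 = 0 → z₁ = 0 ∧ z₂ = 0)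
    (τ : F ≃+* F) {c : F} (hc : c ≠ 0) (p r u w : F)
    (hs : ∀ x y : F, (p * x + r * y) ^ 2 + a * (p * x + r * y) * (u * x + w * y) + b * (u * x + w * y) ^ 2 =
      c * (x ^ 2 + τ a * x * y + τ b * y ^ 2)) :
    ∃ g : GL Jv F, Cfsg.IsSemisimilarityPair Qm g τ ∧
      ∀ v, Qm (sm g τ v) = c * τ (Qm v) ∧
        sm g τ v = ext2 τ c (fun z => (p * τ z.1 + r * τ z.2, u * τ z.1 + w * τ z.2)) v := by
  obtain ⟨g, hg, hgΦ⟩ := exists_sm_eq τ hc
    (ext2 (j := j) τ c fun z => (p * τ z.1 + r * τ z.2, u * τ z.1 + w * τ z.2))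
    (ext2_add τ c _ fun z z' => by simp [mul_add]; constructor <;> ring)
    (ext2_smul τ c _ fun r' z => by simp; constructor <;> ring)
    (q_ext2 τ c _ fun z => by
      simp only [binQ, map_add, map_mul, map_pow]
      linear_combination hs (τ z.1) (τ z.2))
    (geo_minus hab j)
  exact ⟨g, hg, fun v => ⟨by rw [hgΦ]; exact q_ext2 τ c _ (fun z => by
    simp only [binQ, map_add, map_mul, map_pow]
    linear_combination hs (τ z.1) (τ z.2)) v, hgΦ v⟩⟩

variable [Fintype F] (hab : ∀ z₁ z₂ : F, z₁ ^ 2 + a * z₁ * z₂ + b * z₂ ^ 2 = 0 → z₁ = 0 ∧ z₂ = 0)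
include hab

/-- Every scalar is a multiplier. -/
theorem exists_mult_minus (c : Fˣ) : ∃ g : GL Jv F, ∀ v, Qm (mv g v) = (c : F) * Qm v := by
  obtain ⟨z, hz⟩ := Cfsg.Agent.Orth.exists_value (Cfsg.Agent.Orth.qBin_nondeg hab)
    (by rw [Module.finrank_fintype_fun_eq_card]; simp) (c : F)
  rw [Cfsg.Agent.Orth.qBin_apply] at hz
  obtain ⟨g, -, hg⟩ := exists_pair_of_binary (j := j) hab 1 c.ne_zero (z 0) (-(b * z 1)) (z 1)
    (z 0 + a * z 1) (fun x y => by
      rw [← hz, RingAut.one_apply, RingAut.one_apply]; ring)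
  exact ⟨g, fun v => (hg v).1⟩

theorem exists_field_odd (h2 : (2 : F) ≠ 0) (τ : F ≃+* F) :
    ∃ g : GL Jv F, Cfsg.IsSemisimilarityPair Qm g τ := by
  obtain ⟨d, hd⟩ : ∃ d, d = 4 * b - a ^ 2 := ⟨_, rfl⟩
  have hd0 : d ≠ 0 := fun e => Cfsg.Agent.Orth.disc_ne hab (by linear_combination hd - e)
  have hsq : IsSquare (τ d / d) := by
    have hch : ringChar F ≠ 2 := fun h => h2 (by haveI := ringChar.of_eq h; exact CharTwo.two_eq_zero)
    rw [FiniteField.isSquare_iff hch (div_ne_zero ((map_ne_zero τ).2 hd0) hd0), div_pow, ← map_pow]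
    rcases FiniteField.pow_dichotomy hch hd0 with e | e <;> rw [e] <;> simp
  obtain ⟨t, ht⟩ := hsq
  have ht' : t * t * (4 * b - a ^ 2) = 4 * τ b - τ a ^ 2 := by
    rw [← ht, ← hd, div_mul_cancel₀ _ hd0, hd, map_sub, map_mul, map_pow, map_ofNat]
  obtain ⟨x, hx⟩ : ∃ x, x = (τ a - a * t) / 2 := ⟨_, rfl⟩
  have hx2 : 2 * x = τ a - a * t := by rw [hx, mul_div_cancel₀ _ h2]
  obtain ⟨g, hg, -⟩ := exists_pair_of_binary (j := j) hab τ one_ne_zero 1 x 0 t fun X Y => by
    have h4 : (4 : F) ≠ 0 := by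
      intro e
      exact h2 (mul_self_eq_zero.1 (by linear_combination e))
    refine mul_left_cancel₀ h4 ?_
    linear_combination (4 * X * Y + Y ^ 2 * (2 * x + τ a + a * t)) * hx2 + Y ^ 2 * ht'
  exact ⟨g, hg⟩

theorem exists_frob_two [CharP F 2] (φ : F ≃+* F) (hφ : ∀ x, φ x = x ^ 2) :
    ∃ g : GL Jv F, Cfsg.IsSemisimilarityPair Qm g φ ∧
      ∀ v, sm g φ v = ext2 φ 1 (fun z => (1 * φ z.1 + b * φ z.2, 0 * φ z.1 + a * φ z.2)) v := by
  have h2 : (2 : F) = 0 := CharTwo.two_eq_zero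
  obtain ⟨g, hg, hgv⟩ := exists_pair_of_binary (j := j) hab φ one_ne_zero 1 b 0 a fun x y => by
    rw [hφ, hφ]
    linear_combination (b * x * y + b * a ^ 2 * y ^ 2) * h2
  exact ⟨g, hg, fun v => (hgv v).2⟩

omit hab in
/-- The Frobenius map generates the automorphisms of a finite field. -/
theorem exists_frob (p f : ℕ) [Fact p.Prime] (hF : Fintype.card F = p ^ f) :
    ∃ φ : F ≃+* F, (∀ x, φ x = x ^ p) ∧ orderOf φ = f ∧ ∀ τ : F ≃+* F, ∃ k : ℕ, φ ^ k = τ := by
  haveI : CharP F p := charP_of_card_eq_prime_pow (R := F) hF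
  have hbij : Function.Bijective (frobenius F p) :=
    Finite.injective_iff_bijective.1 (frobenius_inj F p)
  obtain ⟨φ, hφ⟩ : ∃ φ : F ≃+* F, ∀ x, φ x = x ^ p :=
    ⟨RingEquiv.ofBijective (frobenius F p) hbij, fun x => rfl⟩
  obtain ⟨E⟩ := AutPSL.exists_ringAut_equiv (F := F) p f hF
  have hf0 : f ≠ 0 := fun e => by
    have : 1 < Fintype.card F := Fintype.one_lt_card
    rw [hF, e, pow_zero] at this
    omega
  haveI : NeZero f := ⟨hf0⟩
  haveI : Finite (F ≃+* F) := Finite.of_equiv _ E.symm.toEquiv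
  have hcard : Nat.card (F ≃+* F) = f := by
    rw [Nat.card_congr E.toEquiv, Nat.card_congr Multiplicative.toAdd, Nat.card_zmod]
  have hpow : ∀ k x, (φ ^ k) x = x ^ p ^ k := fun k x => by
    induction k with
    | zero => simp
    | succ k ih => rw [pow_succ', RingAut.mul_apply, ih, hφ, ← pow_mul, ← pow_succ]
  have hord : orderOf φ = f := by
    refine le_antisymm (hcard ▸ Nat.le_of_dvd Nat.card_pos (orderOf_dvd_natCard φ)) ?_
    have hk : 0 < orderOf φ := orderOf_pos φ
    have hle : Fintype.card F ≤ p ^ orderOf φ := by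
      classical
      have hall : ∀ x : F, x ^ p ^ orderOf φ = x := fun x => by
        rw [← hpow, pow_orderOf_eq_one]; rfl
      have hne : (Polynomial.X ^ p ^ orderOf φ - Polynomial.X : Polynomial F) ≠ 0 :=
        FiniteField.X_pow_card_pow_sub_X_ne_zero F hk.ne' (Fact.out : p.Prime).one_lt
      have hsub : (Finset.univ : Finset F).val ⊆
          (Polynomial.X ^ p ^ orderOf φ - Polynomial.X : Polynomial F).roots := fun x _ =>
        (Polynomial.mem_roots hne).2 (by simp [Polynomial.IsRoot, hall x])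
      have := Multiset.card_le_card ((Multiset.le_iff_subset Finset.univ.nodup).2 hsub)
      refine le_trans this (le_trans (Polynomial.card_roots' _) ?_)
      rw [FiniteField.X_pow_card_pow_sub_X_natDegree_eq F hk.ne' (Fact.out : p.Prime).one_lt]
    rw [hF] at hle
    exact (Nat.pow_le_pow_iff_right (Fact.out : p.Prime).one_lt).1 hle
  refine ⟨φ, hφ, hord, fun τ => ?_⟩
  have htop : Subgroup.zpowers φ = ⊤ := by
    rw [← Subgroup.card_eq_iff_eq_top, Nat.card_zpowers, hord, hcard]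
  exact Submonoid.mem_powers_iff _ _ |>.1 (mem_powers_iff_mem_zpowers.2 (htop.symm ▸ Subgroup.mem_top τ))

/-- Every field automorphism occurs in a semisimilarity. -/
theorem exists_field_minus (p f : ℕ) [Fact p.Prime] (hF : Fintype.card F = p ^ f) (τ : F ≃+* F) :
    ∃ g : GL Jv F, Cfsg.IsSemisimilarityPair Qm g τ := by
  by_cases h2 : (2 : F) = 0
  swap
  · exact exists_field_odd hab h2 τ
  haveI : CharP F p := charP_of_card_eq_prime_pow (R := F) hF
  obtain rfl : p = 2 := (Nat.prime_dvd_prime_iff_eq (Fact.out : p.Prime) Nat.prime_two).1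
    ((CharP.cast_eq_zero_iff F p 2).1 (by exact_mod_cast h2))
  obtain ⟨φ, hφ, -, hgen⟩ := exists_frob 2 f hF
  obtain ⟨g, hg, -⟩ := exists_frob_two (j := j) hab φ hφ
  obtain ⟨k, rfl⟩ := hgen τ
  induction k with
  | zero => exact ⟨1, ⟨1, fun v => by simp⟩⟩
  | succ k ih =>
    obtain ⟨g', hg'⟩ := ih
    exact ⟨_, by rw [pow_succ]; exact isPair_comp hg' hg⟩

theorem hD_minus (hj : 3 ≤ j) : 9 ≤ Fintype.card Jv ∨
    ∀ U : Submodule F (Jv → F), (∀ x ∈ U, Qm x = 0) → Module.finrank F U ≤ 3 := by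
  by_cases h4 : 4 ≤ j
  · exact Or.inl (by simp; omega)
  · exact Or.inr fun U hU => (finrank_singular_minus hab j U hU).trans (by omega)

theorem card_aut_minus (hj : 3 ≤ j) (p f : ℕ) [Fact p.Prime] (hF : Fintype.card F = p ^ f) :
    Nat.card (MulAut (Cfsg.POmega F Qm)) = f * Nat.card (Cfsg.isometryGroup F Qm) :=
  card_aut_general (geo_minus hab j) (by simp; omega) (hD_minus hab hj) p f hF (exists_mult_minus hab)
    (exists_field_minus hab p f hF)

end Cfsg.Agent.AutPOmega
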