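import Cfsg.Agent.Lib.AutPOmega.Parity
import Cfsg.Agent.Lib.LinearBlock.QuadClass
import Mathlib.FieldTheory.Finite.GaloisField
import Mathlib.Algebra.Polynomial.SpecificDegree

/-!
Anisotropic binary forms and quadratic extensions.
-/

set_option autoImplicit false

namespace Cfsg.Agent.AutPOmega

open Polynomial

variable {F : Type*} [Field F] [Finite F] {K : Type*} [Field K] [Algebra F K] [Finite K] {a b : F}

/-- An anisotropic binary form has a root in an extension of even degree. -/
theorem exists_root_ext (hab : ∀ z₁ z₂ : F, z₁ ^ 2 + a * z₁ * z₂ + b * z₂ ^ 2 = 0 → z₁ = 0 ∧ z₂ = 0)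
    (hK : 2 ∣ Module.finrank F K) :
    ∃ z : K, z ^ 2 + algebraMap F K a * z + algebraMap F K b = 0 := by
  obtain ⟨P, hP⟩ : ∃ P : F[X], P = X ^ 2 + C a * X + C b := ⟨_, rfl⟩
  have hdeg : P.natDegree = 2 := by rw [hP]; compute_degree!
  have hP0 : P ≠ 0 := fun e => by rw [e, natDegree_zero] at hdeg; omega
  have hirr : Irreducible P := by
    rw [irreducible_iff_roots_eq_zero_of_degree_le_three (by omega) (by omega)]
    refine Multiset.eq_zero_of_forall_notMem fun x hx => ?_
    rw [mem_roots hP0, IsRoot, hP] at hx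
    simp at hx
    exact one_ne_zero (hab x 1 (by linear_combination hx)).2
  haveI := Fact.mk hirr
  have hfin : Module.finrank F (AdjoinRoot P) = 2 := by
    rw [(AdjoinRoot.powerBasis hP0).finrank, AdjoinRoot.powerBasis_dim, hdeg]
  haveI : FiniteDimensional F (AdjoinRoot P) := (AdjoinRoot.powerBasis hP0).finite
  haveI : Finite (AdjoinRoot P) := Module.finite_of_finite F
  obtain ⟨φ⟩ := FiniteField.nonempty_algHom_of_finrank_dvd (F := F) (K := AdjoinRoot P) (L := K)
    (by rw [hfin]; exact hK)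
  refine ⟨φ (AdjoinRoot.root P), ?_⟩
  have h := congrArg φ (AdjoinRoot.eval₂_root P)
  simp [hP, ← AdjoinRoot.algebraMap_eq, φ.commutes] at h
  exact h

/-- Any two quadratic extensions are isomorphic. -/
theorem nonempty_algEquiv_two {K' : Type*} [Field K'] [Algebra F K'] [Finite K']
    (hK : Module.finrank F K = 2) (hK' : Module.finrank F K' = 2) : Nonempty (K ≃ₐ[F] K') := by
  obtain ⟨φ⟩ := FiniteField.nonempty_algHom_of_finrank_dvd (F := F) (K := K) (L := K') (by rw [hK, hK'])
  haveI : FiniteDimensional F K := Module.finite_of_finrank_pos (by omega)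
  haveI : FiniteDimensional F K' := Module.finite_of_finrank_pos (by omega)
  exact ⟨AlgEquiv.ofBijective φ ⟨φ.injective,
    (LinearMap.injective_iff_surjective_of_finrank_eq_finrank (f := φ.toLinearMap)
      (by rw [hK, hK'])).1 φ.injective⟩⟩

omit [Finite K] in
/-- The conjugate root. -/
theorem conj_root (hab : ∀ z₁ z₂ : F, z₁ ^ 2 + a * z₁ * z₂ + b * z₂ ^ 2 = 0 → z₁ = 0 ∧ z₂ = 0)
    {s : K → K} (hs : ∀ x y, s (x + y) = s x + s y) (hsm : ∀ x y, s (x * y) = s x * s y)
    (hsF : ∀ x : F, s (algebraMap F K x) = algebraMap F K x)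
    (hfix : ∀ x, s x = x → x ∈ (algebraMap F K).range) {z : K}
    (hz : z ^ 2 + algebraMap F K a * z + algebraMap F K b = 0) :
    s z + z = -algebraMap F K a ∧ s z * z = algebraMap F K b := by
  have h0 : s 0 = 0 := by simpa using hsF 0
  have h1 := congrArg s hz
  rw [hs, hs, sq, hsm, hsm, hsF, hsF, h0] at h1
  have hne : s z - z ≠ 0 := fun e => by
    obtain ⟨x, hx⟩ := hfix z (sub_eq_zero.1 e)
    rw [← hx] at hz
    refine one_ne_zero (hab x 1 ((algebraMap F K).injective ?_)).2
    simp only [map_add, map_mul, map_pow, map_one, map_zero]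
    linear_combination hz
  have h2 : s z + z + algebraMap F K a = 0 :=
    (mul_eq_zero.1 (show (s z - z) * (s z + z + algebraMap F K a) = 0 by
      linear_combination h1 - hz)).resolve_left hne
  exact ⟨eq_neg_of_add_eq_zero_left h2, by linear_combination z * h2 - hz⟩

omit K in
/-- An anisotropic binary form is the norm form of a quadratic extension: all of them are isometric. -/
theorem exists_bin_equiv (hab : ∀ z₁ z₂ : F, z₁ ^ 2 + a * z₁ * z₂ + b * z₂ ^ 2 = 0 → z₁ = 0 ∧ z₂ = 0)
    {a' b' : F} (hab' : ∀ z₁ z₂ : F, z₁ ^ 2 + a' * z₁ * z₂ + b' * z₂ ^ 2 = 0 → z₁ = 0 ∧ z₂ = 0) :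
    ∃ e : (Fin 2 → F) ≃ₗ[F] (Fin 2 → F),
      ∀ v, Cfsg.Agent.Orth.qBin F a b v = Cfsg.Agent.Orth.qBin F a' b' (e v) := by
  classical
  obtain ⟨p, hp⟩ := CharP.exists F
  haveI : Fact p.Prime := ⟨CharP.char_is_prime F p⟩
  let K := FiniteField.Extension F p 2
  have hK : Module.finrank F K = 2 := FiniteField.finrank_extension F p 2
  obtain ⟨z, hz⟩ := exists_root_ext (K := K) hab (by rw [hK])
  obtain ⟨z', hz'⟩ := exists_root_ext (K := K) hab' (by rw [hK])
  letI := Fintype.ofFinite F
  obtain ⟨s, hs⟩ : ∃ s : K → K, s = fun x => x ^ Fintype.card F := ⟨_, rfl⟩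
  have hadd : ∀ x y, s (x + y) = s x + s y := fun x y => by
    rw [hs]; exact map_add (FiniteField.frobeniusAlgHom F K) x y
  have hmul : ∀ x y, s (x * y) = s x * s y := fun x y => by rw [hs]; exact mul_pow _ _ _
  have hsF : ∀ x : F, s (algebraMap F K x) = algebraMap F K x := fun x => by
    rw [hs]; simp [← map_pow, FiniteField.pow_card]
  have hfix : ∀ x, s x = x → x ∈ (algebraMap F K).range := fun x hx => by
    rw [hs] at hx
    change x ^ Fintype.card F = x at hx
    by_contra hne
    have hq : 1 < Fintype.card F := Fintype.one_lt_card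
    have hP0 : (X ^ Fintype.card F - X : K[X]) ≠ 0 := FiniteField.X_pow_card_sub_X_ne_zero K hq
    have hsub : (insert x (Finset.univ.image (algebraMap F K))).val ⊆ (X ^ Fintype.card F - X : K[X]).roots := by
      intro y hy
      rw [mem_roots hP0, IsRoot]
      rcases Finset.mem_insert.1 (Finset.mem_def.2 hy) with rfl | hy'
      · simp [hx]
      · obtain ⟨t, -, rfl⟩ := Finset.mem_image.1 hy'
        simp [← map_pow, FiniteField.pow_card]
    have h1 := (Multiset.card_le_card ((Multiset.le_iff_subset (Finset.nodup _)).2 hsub)).trans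
      (card_roots' _)
    rw [FiniteField.X_pow_card_sub_X_natDegree_eq K hq, Finset.card_val, Finset.card_insert_of_notMem (by
        simp only [Finset.mem_image, Finset.mem_univ, true_and]
        exact fun ⟨t, ht⟩ => hne ⟨t, ht⟩),
      Finset.card_image_of_injective _ (algebraMap F K).injective, Finset.card_univ] at h1
    omega
  have mk : ∀ {a b : F}, (∀ z₁ z₂ : F, z₁ ^ 2 + a * z₁ * z₂ + b * z₂ ^ 2 = 0 → z₁ = 0 ∧ z₂ = 0) →
      ∀ z : K, z ^ 2 + algebraMap F K a * z + algebraMap F K b = 0 →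
      ∃ L : (Fin 2 → F) ≃ₗ[F] K, ∀ v, algebraMap F K (Cfsg.Agent.Orth.qBin F a b v) = L v * s (L v) := by
    intro a b hab z hz
    obtain ⟨h1, h2⟩ := conj_root hab hadd hmul hsF hfix hz
    let L₀ : (Fin 2 → F) →ₗ[F] K :=
      (Algebra.linearMap F K).comp (LinearMap.proj 0) - (LinearMap.toSpanSingleton F K z).comp (LinearMap.proj 1)
    have hL : ∀ v, L₀ v = algebraMap F K (v 0) - algebraMap F K (v 1) * z := fun v => by
      simp [L₀, Algebra.smul_def]
    have hval : ∀ v, algebraMap F K (Cfsg.Agent.Orth.qBin F a b v) = L₀ v * s (L₀ v) := fun v => by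
      have e : s (L₀ v) = algebraMap F K (v 0) - algebraMap F K (v 1) * s z := by
        have := hadd (L₀ v) (algebraMap F K (v 1) * z)
        rw [hL, sub_add_cancel, hsF, hmul, hsF] at this
        rw [hL]
        linear_combination -this
      rw [e, hL, Cfsg.Agent.Orth.qBin_apply]
      simp only [map_add, map_mul, map_pow]
      linear_combination algebraMap F K (v 0) * algebraMap F K (v 1) * h1 - algebraMap F K (v 1) ^ 2 * h2
    have hinj : Function.Injective L₀ := (injective_iff_map_eq_zero _).2 fun v hv => by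
      have := hval v
      rw [hv, zero_mul, map_eq_zero] at this
      exact Cfsg.Agent.Orth.qBin_aniso hab this
    haveI : FiniteDimensional F K := Module.finite_of_finrank_pos (by omega)
    have hdim : Module.finrank F (Fin 2 → F) = Module.finrank F K := by
      rw [hK, Module.finrank_fin_fun]
    exact ⟨LinearMap.linearEquivOfInjective L₀ hinj hdim, fun v => hval v⟩
  obtain ⟨L, hL⟩ := mk hab z hz
  obtain ⟨L', hL'⟩ := mk hab' z' hz'
  exact ⟨L.trans L'.symm, fun v => (algebraMap F K).injective (by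
    rw [hL, hL', LinearEquiv.trans_apply, LinearEquiv.apply_symm_apply])⟩

/-- Anisotropy over the fixed field of an automorphism of odd order persists. -/
theorem aniso_of_odd {K₀ : Subfield F} {σ : F ≃+* F} (hK₀ : ∀ x, x ∈ K₀ ↔ σ x = x) (hodd : Odd (orderOf σ))
    {a₀ b₀ : K₀} (hab : ∀ z₁ z₂ : K₀, z₁ ^ 2 + a₀ * z₁ * z₂ + b₀ * z₂ ^ 2 = 0 → z₁ = 0 ∧ z₂ = 0) :
    ∀ z₁ z₂ : F, z₁ ^ 2 + (a₀ : F) * z₁ * z₂ + (b₀ : F) * z₂ ^ 2 = 0 → z₁ = 0 ∧ z₂ = 0 := by
  intro z₁ z₂ h
  rcases eq_or_ne z₂ 0 with rfl | h2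
  · exact ⟨by simpa using h, rfl⟩
  exfalso
  obtain ⟨z, hzdef⟩ : ∃ z, z = z₁ / z₂ := ⟨_, rfl⟩
  have hz : z ^ 2 + (a₀ : F) * z + b₀ = 0 := by
    rw [hzdef]; field_simp; linear_combination h
  have ha : σ (a₀ : F) = a₀ := (hK₀ _).1 a₀.2
  have hb : σ (b₀ : F) = b₀ := (hK₀ _).1 b₀.2
  have hcases : ∀ w : F, w ^ 2 + (a₀ : F) * w + b₀ = 0 → w = z ∨ w = -(a₀ : F) - z := fun w hw => by
    rcases mul_eq_zero.1 (show (w - z) * (w + z + a₀) = 0 by linear_combination hw - hz) with e | e
    · exact Or.inl (sub_eq_zero.1 e)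
    · exact Or.inr (by linear_combination e)
  have hroot : σ z ^ 2 + (a₀ : F) * σ z + b₀ = 0 := by
    have := congrArg σ hz
    rwa [map_add, map_add, map_mul, map_pow, ha, hb, map_zero] at this
  have h2z : σ (σ z) = z := by
    rcases hcases _ hroot with e | e
    · rw [e, e]
    · rw [e, map_sub, map_neg, ha, e]; ring
  have hfix : σ z = z := by
    obtain ⟨k, hk⟩ := hodd
    have hk2 : ∀ j : ℕ, (σ ^ (2 * j)) z = z := fun j => by
      induction j with
      | zero => rfl
      | succ j ih =>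
        rw [show 2 * (j + 1) = 2 * j + 1 + 1 by ring, pow_succ, pow_succ, RingAut.mul_apply,
          RingAut.mul_apply, h2z, ih]
    have h1 : (σ ^ orderOf σ) z = z := by rw [pow_orderOf_eq_one]; rfl
    rwa [hk, pow_succ', RingAut.mul_apply, hk2] at h1
  have := hab ⟨z, (hK₀ z).2 hfix⟩ 1 (Subtype.ext (by push_cast; linear_combination hz))
  exact one_ne_zero this.2

end Cfsg.Agent.AutPOmega
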