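import Cfsg.Agent.Lib.AutPOmega.Minus

/-!
The outer automorphism group of a minus-type orthogonal group in characteristic two is cyclic.
-/

set_option autoImplicit false

namespace Cfsg.Agent.AutPOmega

open Matrix Cfsg.Agent.Transvec Cfsg.Agent.Transvec.Orth

variable {j : ℕ} {F : Type*} [Field F] {a b : F}

local notation "Jv" => (Fin j ⊕ Fin j) ⊕ Fin 2
local notation "Qm" => Cfsg.quadFormMinus j F a b
local notation "POm" => Cfsg.POmega F (Cfsg.quadFormMinus j F a b)

section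

variable {ι : Type} [Fintype ι] [DecidableEq ι] {Q : (ι → F) → F} [Finite F]

/-- Powers of a semisimilarity. -/
theorem semi_iterate {g : GL ι F} {τ : F ≃+* F} (hg : Cfsg.IsSemisimilarityPair Q g τ) (k : ℕ) :
    ∃ (G : GL ι F) (hG : Cfsg.IsSemisimilarityPair Q G (τ ^ k)),
      semi g τ hg ^ k = semi G (τ ^ k) hG ∧ ∀ v, sm G (τ ^ k) v = (sm g τ)^[k] v := by
  induction k with
  | zero =>
    refine ⟨1, ⟨1, fun v => by simp⟩, ?_, fun v => ?_⟩
    · rw [pow_zero]
      exact ((semi_congr _ ⟨1, fun v => by simp⟩ rfl (pow_zero τ)).trans (semi_one' _)).symm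
    · funext i
      simp [sm, mv]
  | succ k ih =>
    obtain ⟨G, hG, e1, e2⟩ := ih
    have hp : Cfsg.IsSemisimilarityPair Q (g * mapGL τ G) (τ ^ (k + 1)) := by
      rw [pow_succ']; exact isPair_comp hg hG
    refine ⟨g * mapGL τ G, hp, ?_, fun v => ?_⟩
    · rw [pow_succ', e1, semi_mul]
      exact semi_congr _ _ rfl (pow_succ' τ k).symm
    · rw [Function.iterate_succ_apply', ← e2, sm_comp, pow_succ']

end

theorem mem_omega_congr {ι : Type} [Fintype ι] [DecidableEq ι] {Q Q' : (ι → F) → F} (e : Q = Q') {G : GL ι F}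
    (h : G ∈ Cfsg.isometryGroup F Q) (h' : G ∈ Cfsg.isometryGroup F Q')
    (hm : (⟨G, h'⟩ : Cfsg.isometryGroup F Q') ∈ Cfsg.Omega F Q') :
    (⟨G, h⟩ : Cfsg.isometryGroup F Q) ∈ Cfsg.Omega F Q := by
  subst e
  exact hm

/-- The trace sum. -/
def trSum (u : F) : ℕ → F
  | 0 => 0
  | k + 1 => trSum u k ^ 2 + u

theorem trSum_add [CharP F 2] (x y : F) (k : ℕ) : trSum (x + y) k = trSum x k + trSum y k := by
  induction k with
  | zero => simp [trSum]
  | succ k ih => simp only [trSum, ih, CharTwo.add_sq]; ring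

theorem trSum_poly [CharP F 2] (u : F) (k : ℕ) :
    trSum u k = ∑ i ∈ Finset.range k, u ^ 2 ^ i := by
  induction k with
  | zero => simp [trSum]
  | succ k ih =>
    rw [trSum, ih, CharTwo.sum_sq, Finset.sum_range_succ' (fun i => u ^ 2 ^ i), pow_zero, pow_one]
    congr 1
    exact Finset.sum_congr rfl fun i _ => by rw [← pow_mul, pow_succ]

variable [Fintype F] (hab : ∀ z₁ z₂ : F, z₁ ^ 2 + a * z₁ * z₂ + b * z₂ ^ 2 = 0 → z₁ = 0 ∧ z₂ = 0)
include hab

theorem trSum_ne_zero [CharP F 2] (f : ℕ) (hf : 1 ≤ f) (hF : Fintype.card F = 2 ^ f) :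
    trSum (b / a ^ 2) f ≠ 0 := by
  classical
  have ha : a ≠ 0 := fun e => Cfsg.Agent.Orth.disc_ne hab (by
    rw [e]; linear_combination (-2 * b) * (CharTwo.two_eq_zero (R := F)))
  obtain ⟨u, hu⟩ : ∃ u, u = b / a ^ 2 := ⟨_, rfl⟩
  rw [← hu]
  intro h0
  let L : F →+ F := AddMonoidHom.mk' (fun t => t ^ 2 + t) fun x y => by
    show (x + y) ^ 2 + (x + y) = _
    rw [CharTwo.add_sq]; ring
  have hnot : u ∉ L.range := by
    rintro ⟨t, ht⟩
    have e : t ^ 2 + t = b / a ^ 2 := ht.trans hu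
    have hb : b = (t ^ 2 + t) * a ^ 2 := by rw [e, div_mul_cancel₀ _ (pow_ne_zero 2 ha)]
    refine one_ne_zero (hab (t * a) 1 ?_).2
    rw [hb]
    linear_combination (t ^ 2 * a ^ 2 + t * a ^ 2) * (CharTwo.two_eq_zero (R := F))
  have hker : Nat.card L.ker ≤ 2 := by
    refine (Nat.card_le_card_of_injective (fun x : L.ker => if (x : F) = 0 then (0 : Fin 2) else 1) ?_).trans
      (by simp)
    intro x y e
    have hor : ∀ z : L.ker, (z : F) = 0 ∨ (z : F) = 1 := fun z => by
      have h : (z : F) * ((z : F) + 1) = 0 := by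
        have := AddMonoidHom.mem_ker.1 z.2
        change (z : F) ^ 2 + (z : F) = 0 at this
        linear_combination this
      rcases mul_eq_zero.1 h with h | h
      · exact Or.inl h
      · exact Or.inr (CharTwo.add_eq_zero.1 h)
    refine Subtype.ext ?_
    rcases hor x with hx | hx <;> rcases hor y with hy | hy <;> simp [hx, hy] at e ⊢
  have hrange : 2 ^ f ≤ 2 * Nat.card L.range := by
    have e := L.ker.card_eq_card_quotient_mul_card_addSubgroup
    rw [Nat.card_congr (QuotientAddGroup.quotientKerEquivRange L).toEquiv, Nat.card_eq_fintype_card (α := F),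
      hF] at e
    rw [e, mul_comm 2]
    exact Nat.mul_le_mul_left _ hker
  let P : Polynomial F := ∑ i ∈ Finset.range f, Polynomial.X ^ 2 ^ i
  have hev : ∀ x, P.eval x = trSum x f := fun x => by
    simp [P, Polynomial.eval_finsetSum, trSum_poly]
  have hP : P ≠ 0 := fun e => by
    have e1 := congrArg (fun q : Polynomial F => q.coeff 1) e
    simp only [P, Polynomial.finsetSum_coeff, Polynomial.coeff_X_pow, Polynomial.coeff_zero] at e1
    rw [Finset.sum_eq_single 0 (fun i _ hi => if_neg (Nat.one_lt_two_pow hi).ne)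
      (fun h => absurd (Finset.mem_range.2 (by omega)) h), if_pos rfl] at e1
    exact one_ne_zero e1
  have hdeg : P.natDegree ≤ 2 ^ (f - 1) := Polynomial.natDegree_sum_le_of_forall_le _ _ fun i hi => by
    rw [Polynomial.natDegree_X_pow]
    exact Nat.pow_le_pow_right two_pos (by rw [Finset.mem_range] at hi; omega)
  have hzero : ∀ x, x = u ∨ x ∈ L.range → P.eval x = 0 := by
    rintro x (rfl | ⟨t, rfl⟩)
    · rw [hev, h0]
    · rw [hev]
      show trSum (t ^ 2 + t) f = 0
      have hsq : ∀ k, trSum (t ^ 2) k + trSum t k = t ^ 2 ^ k + t := fun k => by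
        induction k with
        | zero => simp [trSum, CharTwo.add_self_eq_zero]
        | succ k ih =>
          simp only [trSum]
          rw [pow_succ 2 k, pow_mul, show trSum (t ^ 2) k ^ 2 + t ^ 2 + (trSum t k ^ 2 + t) =
            (trSum (t ^ 2) k + trSum t k) ^ 2 + (t ^ 2 + t) by rw [CharTwo.add_sq]; ring, ih, CharTwo.add_sq]
          linear_combination (t ^ 2) * (CharTwo.two_eq_zero (R := F))
      rw [trSum_add, hsq, ← hF, FiniteField.pow_card, CharTwo.add_self_eq_zero]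
  let R : Finset F := Finset.univ.filter fun x => x ∈ L.range
  have hR : ∀ x, x ∈ R ↔ x ∈ L.range := fun x => by simp [R]
  have hsub : (insert u R).val ⊆ P.roots := fun x hx => by
    refine (Polynomial.mem_roots hP).2 (hzero x ?_)
    rcases Finset.mem_insert.1 hx with h | h
    · exact Or.inl h
    · exact Or.inr ((hR x).1 h)
  have h1 := Multiset.card_le_card ((Multiset.le_iff_subset (Finset.nodup _)).2 hsub)
  have h2 : (insert u R).card = Nat.card L.range + 1 := by
    rw [Finset.card_insert_of_notMem (fun h => hnot ((hR u).1 h)),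
      Nat.subtype_card (p := fun x => x ∈ L.range) R hR]
  rw [Finset.card_val, h2] at h1
  have h3 := h1.trans ((Polynomial.card_roots' P).trans hdeg)
  obtain ⟨f', rfl⟩ : ∃ f', f = f' + 1 := ⟨f - 1, by omega⟩
  rw [Nat.add_sub_cancel] at h3
  rw [pow_succ] at hrange
  omega

/-- The `f`-th power of the lifted Frobenius map is a reflection. -/
theorem frob_pow [CharP F 2] (f : ℕ) (hf : 1 ≤ f) (hF : Fintype.card F = 2 ^ f) {φ : F ≃+* F}
    (hφ : ∀ x, φ x = x ^ 2) {g : GL Jv F}
    (hgv : ∀ v, sm g φ v = ext2 φ 1 (fun z => (1 * φ z.1 + b * φ z.2, 0 * φ z.1 + a * φ z.2)) v)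
    (v : Jv → F) :
    (sm g φ)^[f] v = Cfsg.reflectionMatrix Qm (Pi.single (Sum.inr 0) 1) *ᵥ v := by
  have ha : a ≠ 0 := fun e => Cfsg.Agent.Orth.disc_ne hab (by
    rw [e]; linear_combination (-2 * b) * (CharTwo.two_eq_zero (R := F)))
  have key : ∀ k, ((∀ i, (sm g φ)^[k] v (.inl i) = v (.inl i) ^ 2 ^ k) ∧
      (sm g φ)^[k] v (.inr 1) = a ^ (2 ^ k - 1) * v (.inr 1) ^ 2 ^ k ∧
      (sm g φ)^[k] v (.inr 0) = v (.inr 0) ^ 2 ^ k +
        a * a ^ (2 ^ k - 1) * trSum (b / a ^ 2) k * v (.inr 1) ^ 2 ^ k) := by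
    intro k
    induction k with
    | zero => simp [trSum]
    | succ k ih =>
      obtain ⟨h1, h2, h3⟩ := ih
      have hn : a ^ (2 ^ (k + 1) - 1) = a * (a ^ (2 ^ k - 1)) ^ 2 := by
        rw [← pow_mul, ← pow_succ']
        congr 1
        have : 0 < 2 ^ k := pow_pos two_pos k
        rw [pow_succ]
        omega
      have hk : ∀ x : F, x ^ 2 ^ (k + 1) = (x ^ 2 ^ k) ^ 2 := fun x => by rw [← pow_mul, ← pow_succ]
      rw [Function.iterate_succ_apply', hgv]
      refine ⟨fun i => ?_, ?_, ?_⟩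
      · rw [hk]
        rcases i with i | i <;> simp only [ext2, hφ, h1, one_mul]
      · rw [hn, hk]
        simp only [ext2, show ((1 : Fin 2) = 0) = False by simp, if_false, hφ, h2]
        ring
      · rw [hn, hk, hk, trSum]
        simp only [ext2, if_true, hφ, h2, h3, CharTwo.add_sq, one_mul]
        field_simp
        ring
  obtain ⟨h1, h2, h3⟩ := key f
  have hone : trSum (b / a ^ 2) f = 1 := by
    have e : trSum (b / a ^ 2) f * (trSum (b / a ^ 2) f + 1) = 0 := by
      have hsq : ∀ k, trSum (b / a ^ 2) k ^ 2 + trSum (b / a ^ 2) k = (b / a ^ 2) ^ 2 ^ k + b / a ^ 2 := by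
        intro k
        induction k with
        | zero => simp [trSum, CharTwo.add_self_eq_zero]
        | succ k ih =>
          simp only [trSum]
          rw [pow_succ 2 k, pow_mul, show (trSum (b / a ^ 2) k ^ 2 + b / a ^ 2) ^ 2 + (trSum (b / a ^ 2) k ^ 2 + b / a ^ 2) =
            (trSum (b / a ^ 2) k ^ 2 + trSum (b / a ^ 2) k) ^ 2 + ((b / a ^ 2) ^ 2 + b / a ^ 2) by
              simp only [CharTwo.add_sq]; ring, ih, CharTwo.add_sq]
          linear_combination ((b / a ^ 2) ^ 2) * (CharTwo.two_eq_zero (R := F))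
      have := hsq f
      rw [← hF, FiniteField.pow_card, CharTwo.add_self_eq_zero] at this
      linear_combination this
    rcases mul_eq_zero.1 e with h | h
    · exact absurd h (trSum_ne_zero hab f hf hF)
    · exact CharTwo.add_eq_zero.1 h
  rw [hone, ← hF, FiniteField.pow_card, FiniteField.pow_card,
    FiniteField.pow_card_sub_one_eq_one a ha, mul_one, mul_one] at h3
  rw [← hF, FiniteField.pow_card, FiniteField.pow_card_sub_one_eq_one a ha, one_mul] at h2
  rw [← Cfsg.Agent.Orth.coe_qMinus, Cfsg.Agent.Orth.reflectionMatrix_mulVec]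
  have hq : Cfsg.Agent.Orth.qMinus F j a b (Pi.single (Sum.inr 0) 1) = 1 := by
    rw [Cfsg.Agent.Orth.coe_qMinus]
    simp [Cfsg.quadFormMinus, Pi.single_apply]
  have hpol : QuadraticMap.polar (Cfsg.Agent.Orth.qMinus F j a b) v (Pi.single (Sum.inr 0) 1) =
      a * v (.inr 1) := by
    simp only [QuadraticMap.polar, Cfsg.Agent.Orth.coe_qMinus, Cfsg.quadFormMinus, Pi.add_apply,
      Pi.single_apply]
    simp [CharTwo.add_sq]
    ring
  rw [hq, hpol, div_one]
  funext i
  rcases i with i | i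
  · rw [h1, ← hF, FiniteField.pow_card]
    simp
  · fin_cases i
    · simp [h3, CharTwo.sub_eq_add]
    · simp [h2]

/-- The outer automorphism group. -/
theorem out_minus_two [CharP F 2] (hj : 3 ≤ j) (f : ℕ) (hf : 1 ≤ f) (hF : Fintype.card F = 2 ^ f) :
    IsCyclic (Cfsg.Out POm) ∧ Nat.card (Cfsg.Out POm) = 2 * f := by
  haveI : Fact (2 : ℕ).Prime := ⟨Nat.prime_two⟩
  have hQ := geo_minus hab j
  have hq := Cfsg.Agent.Orth.qMinus_nondeg hab j
  have hn : 7 ≤ Fintype.card Jv := by simp; omega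
  have h2 : (2 : F) = 0 := CharTwo.two_eq_zero
  have hcardO : Nat.card (Cfsg.isometryGroup F Qm) = Nat.card POm * 2 := by
    have h := Cfsg.Agent.Orth.card_pomega hq hn
    rw [Cfsg.Agent.Orth.card_center_one hq hn (Or.inl h2), Cfsg.Agent.Orth.card_spinVal.2 h2,
      Cfsg.Agent.Orth.coe_qMinus] at h
    omega
  have hout : Nat.card (Cfsg.Out POm) = 2 * f := by
    have e := Subgroup.card_eq_card_quotient_mul_card_subgroup (Cfsg.Inn POm)
    rw [card_inn hQ hn, card_aut_minus hab hj 2 f hF, hcardO] at e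
    haveI : Finite (MulAut POm) := Finite.of_injective (fun e : MulAut POm => (e : POm → POm)) DFunLike.coe_injective
    have hpos : 0 < Nat.card POm := Nat.card_pos
    exact Nat.eq_of_mul_eq_mul_right hpos (by rw [← e]; ring)
  obtain ⟨φ, hφ, hord, -⟩ := exists_frob 2 f hF
  obtain ⟨g, hg, hgv⟩ := exists_frob_two (j := j) hab φ hφ
  obtain ⟨o, ho⟩ : ∃ o, o = orderOf (QuotientGroup.mk (semi g φ hg) : Cfsg.Out POm) := ⟨_, rfl⟩
  obtain ⟨Φ, -, hker, hΦ⟩ := exists_fieldHom hQ hn (hD_minus hab hj) (exists_field_minus hab 2 f hF)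
  have hinner : ∀ β ∈ Cfsg.Inn POm, Φ β = 1 := by
    rintro _ ⟨x, rfl⟩
    obtain ⟨A, -, e⟩ := inn_eq x
    rw [e, hΦ]
  have hfo : f ∣ o := by
    rw [← hord]
    refine orderOf_dvd_of_pow_eq_one ?_
    have e : ((semi g φ hg) ^ o : MulAut POm) ∈ Cfsg.Inn POm := by
      rw [← QuotientGroup.eq_one_iff, QuotientGroup.mk_pow, ho, pow_orderOf_eq_one]
    rw [← hΦ g φ hg, ← map_pow]
    exact hinner _ e
  have hof : o ∣ 2 * f := by
    rw [ho, ← hout]
    exact orderOf_dvd_natCard _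
  have hne : o ≠ f := by
    intro e
    have hmem : ((semi g φ hg) ^ f : MulAut POm) ∈ Cfsg.Inn POm := by
      rw [← QuotientGroup.eq_one_iff, QuotientGroup.mk_pow, ← e, ho, pow_orderOf_eq_one]
    obtain ⟨G, hG, e1, e2⟩ := semi_iterate hg f
    rw [e1] at hmem
    obtain ⟨x, hx⟩ := hmem
    obtain ⟨A, -, eA⟩ := inn_eq x
    rw [eA] at hx
    obtain ⟨eτ, α, hα⟩ := semi_eq_semi hQ hn hG _ hx.symm
    have hGv : ∀ v, mv G v = Cfsg.reflectionMatrix Qm (Pi.single (Sum.inr 0) 1) *ᵥ v := fun v => by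
      have := (e2 v).trans (frob_pow hab f hf hF hφ hgv v)
      rw [eτ] at this
      exact this
    have hGiso : G ∈ Cfsg.isometryGroup F Qm := by
      obtain ⟨r, hr, -⟩ := Cfsg.Agent.Orth.exists_reflection (Cfsg.Agent.Orth.qMinus F j a b)
        (v := Pi.single (Sum.inr 0) (1 : F)) (by
          rw [Cfsg.Agent.Orth.coe_qMinus]; simp [Cfsg.quadFormMinus, Pi.single_apply])
      refine mem_isometry.2 fun v => ?_
      have hr' : mv (r : GL Jv F) v = Cfsg.reflectionMatrix Qm (Pi.single (Sum.inr 0) 1) *ᵥ v := by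
        show ((r : GL Jv F) : Matrix Jv Jv F) *ᵥ v = _
        rw [hr, Cfsg.Agent.Orth.coe_qMinus]
      have h3 := mem_isometry.1 r.2 v
      rw [hr', Cfsg.Agent.Orth.coe_qMinus] at h3
      rw [hGv]
      exact h3
    have hα1 : α = 1 := by
      obtain ⟨v₀, hv₀⟩ : ∃ v₀ : Jv → F, Qm v₀ = 1 := ⟨Pi.single (Sum.inr 0) 1,
        by simp [Cfsg.quadFormMinus, Pi.single_apply]⟩
      have h3 := mem_isometry.1 hGiso v₀
      rw [hα, mv_mul, scal_mv, Transvec.Orth.q_smul hQ,
        mem_isometry.1 (A : Cfsg.isometryGroup F Qm).2 v₀, hv₀, mul_one] at h3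
      refine Units.ext ((CharTwo.add_eq_zero.1 (?_ : (α : F) + 1 = 0)).trans rfl)
      refine pow_eq_zero_iff two_ne_zero |>.1 ?_
      rw [CharTwo.add_sq, h3, one_pow, CharTwo.add_self_eq_zero]
    rw [hα1, scal, map_one, one_mul] at hα
    obtain ⟨χ, hk, -, hrefl⟩ := Cfsg.Agent.Orth.exists_matrix_spinor (Cfsg.Agent.Orth.qMinus F j a b) hq
      (by omega) (Or.inr (by omega))
    have hGc : G ∈ Cfsg.isometryGroup F (⇑(Cfsg.Agent.Orth.qMinus F j a b)) := by
      rw [Cfsg.Agent.Orth.coe_qMinus]; exact hGiso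
    have hval : χ ⟨G, hGc⟩ = Cfsg.Agent.Orth.reflVal (Cfsg.Agent.Orth.qMinus F j a b) (Pi.single (Sum.inr 0) 1) := by
      refine hrefl _ _ (by rw [Cfsg.Agent.Orth.coe_qMinus]; simp [Cfsg.quadFormMinus, Pi.single_apply]) ?_
      show (G : Matrix Jv Jv F) = _
      rw [Cfsg.Agent.Orth.coe_qMinus]
      exact Matrix.ext_iff_mulVec.2 hGv
    have hΩ : (⟨G, hGiso⟩ : Cfsg.isometryGroup F Qm) ∈ Cfsg.Omega F Qm := by
      rw [show (⟨G, hGiso⟩ : Cfsg.isometryGroup F Qm) = A.1 from Subtype.ext hα]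
      exact A.2
    have hone : χ ⟨G, hGc⟩ = 1 := by
      rw [← MonoidHom.mem_ker, hk]
      exact mem_omega_congr (Cfsg.Agent.Orth.coe_qMinus (F := F) j a b) hGc hGiso hΩ
    rw [hone] at hval
    exact zero_ne_one (α := ZMod 2) (Multiplicative.ofAdd.injective (congrArg Prod.fst hval))
  have ho2 : o = 2 * f := by
    obtain ⟨c, hc⟩ := hfo
    have hc2 : c ∣ 2 := by
      rw [hc, mul_comm 2] at hof
      exact Nat.dvd_of_mul_dvd_mul_left (by omega) hof
    rcases (Nat.dvd_prime Nat.prime_two).1 hc2 with rfl | rfl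
    · exact absurd (by omega) hne
    · omega
  exact ⟨isCyclic_of_orderOf_eq_card _ (by rw [← ho, ho2, hout]), hout⟩

end Cfsg.Agent.AutPOmega
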