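import Cfsg.Agent.Lib.AutPOmega.Forms
import Cfsg.Agent.Lib.AutPSL.Outer

/-!
Semisimilarities of `PΩ`: equality, inverses and the inner automorphisms.
-/

set_option autoImplicit false

namespace Cfsg.Agent.AutPOmega

open Matrix Cfsg.Agent.Transvec Cfsg.Agent.Transvec.Orth

variable {ι : Type} [Fintype ι] [DecidableEq ι] {F : Type*} [Field F] {Q : (ι → F) → F}

local notation "Vι" => ι → F
local notation "Om" => Cfsg.Omega F Q
local notation "POm" => Cfsg.POmega F Q
local notation "π" => QuotientGroup.mk' (Subgroup.center (Cfsg.Omega F Q))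

/-- The scalar matrices. -/
abbrev scal (a : Fˣ) : GL ι F := Matrix.GeneralLinearGroup.scalar ι a

theorem scal_mv (a : Fˣ) (x : Vι) : mv (scal a : GL ι F) x = (a : F) • x := by
  show Matrix.scalar ι (a : F) *ᵥ x = _
  rw [Matrix.scalar_apply, ← Matrix.smul_one_eq_diagonal, Matrix.smul_mulVec, Matrix.one_mulVec]

theorem eq_scal {g : GL ι F} {a : Fˣ} (h : ∀ x, mv g x = (a : F) • x) : g = scal a :=
  ext_mv fun x => by rw [h, scal_mv]

theorem mapGL_scal (τ : F ≃+* F) (a : Fˣ) :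
    mapGL τ (scal a : GL ι F) = scal (Units.map τ.toMonoidHom a) := by
  refine Units.ext ?_
  show (Matrix.scalar ι (a : F)).map τ = Matrix.scalar ι (τ (a : F))
  simp only [Matrix.scalar_apply]
  exact Matrix.diagonal_map (map_zero τ)

theorem mapGL_one (g : GL ι F) : mapGL 1 g = g := Units.ext (Matrix.map_id _)

theorem scal_mul_comm (a : Fˣ) (g : GL ι F) : scal a * g = g * scal a :=
  ext_mv fun x => by rw [mv_mul, mv_mul, scal_mv, scal_mv, mv_smul]

theorem det_scal (a : Fˣ) :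
    Matrix.GeneralLinearGroup.det (scal a : GL ι F) = a ^ Fintype.card ι := by
  refine Units.ext ?_
  show (Matrix.scalar ι (a : F)).det = _
  rw [Matrix.scalar_apply, Matrix.det_diagonal]
  simp

theorem isPair_inv {g : GL ι F} {τ : F ≃+* F} (hg : Cfsg.IsSemisimilarityPair Q g τ) :
    Cfsg.IsSemisimilarityPair Q (mapGL τ⁻¹ g⁻¹) τ⁻¹ := by
  obtain ⟨c, hc⟩ := hg
  refine ⟨Units.map (τ⁻¹ : F ≃+* F).toMonoidHom c⁻¹, fun v => ?_⟩
  obtain ⟨y, rfl⟩ := sm_surj g τ v
  have e : sm (mapGL τ⁻¹ g⁻¹) τ⁻¹ (sm g τ y) = y := by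
    rw [sm_comp, ← map_mul, inv_mul_cancel, map_one, inv_mul_cancel]
    funext i
    simp [sm, mv]
  show Q (sm (mapGL τ⁻¹ g⁻¹) τ⁻¹ (sm g τ y)) = τ.symm ((c⁻¹ : Fˣ) : F) * τ.symm (Q (sm g τ y))
  rw [e, show Q (sm g τ y) = (c : F) * τ (Q y) from hc y, ← map_mul, ← mul_assoc, Units.inv_mul,
    one_mul, τ.symm_apply_apply]

variable [Finite F]

theorem semi_congr {g g' : GL ι F} {τ τ' : F ≃+* F} (hg : Cfsg.IsSemisimilarityPair Q g τ)
    (hg' : Cfsg.IsSemisimilarityPair Q g' τ') (e : g = g') (e' : τ = τ') :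
    semi g τ hg = semi g' τ' hg' := by
  subst e e'
  rfl

theorem semi_scal (a : Fˣ) (h : Cfsg.IsSemisimilarityPair Q (scal a) 1) :
    semi (scal a) 1 h = 1 := MulEquiv.ext fun x => by
  induction x using QuotientGroup.induction_on with
  | _ s =>
    show semi _ _ h (π s) = π s
    rw [semi_mk]
    refine congrArg π (ext_act fun x => ?_)
    obtain ⟨y, rfl⟩ := sm_surj (scal a : GL ι F) 1 x
    rw [act_conjOm]
    show mv (scal a) (act s y) = act s (mv (scal a) y)
    rw [scal_mv, scal_mv, act_smul]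

theorem semi_one' (h : Cfsg.IsSemisimilarityPair Q (1 : GL ι F) 1) : semi 1 1 h = 1 :=
  (semi_congr h ⟨1, fun v => by simp [Matrix.GeneralLinearGroup.scalar]⟩
    (map_one (Matrix.GeneralLinearGroup.scalar ι)).symm rfl).trans (semi_scal 1 _)

/-- Isometries act on `PΩ`. -/
noncomputable def conjHom (S : Subgroup (GL ι F)) (hS : S ≤ Cfsg.isometryGroup F Q) : S →* MulAut POm :=
  MonoidHom.mk' (fun g => semi (g : GL ι F) 1 (isPair_iso (hS g.2))) fun g g' => by
    rw [semi_mul]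
    exact semi_congr _ _ (by rw [mapGL_one]; rfl) (one_mul 1).symm

theorem conjHom_apply (S : Subgroup (GL ι F)) (hS : S ≤ Cfsg.isometryGroup F Q) (g : S) :
    conjHom S hS g = semi (g : GL ι F) 1 (isPair_iso (hS g.2)) := rfl

theorem inn_eq (x : POm) : ∃ A : Om, x = π A ∧
    (MulAut.conj x : MulAut POm) = semi (gl A) 1 (isPair_iso (A : Cfsg.isometryGroup F Q).2) := by
  obtain ⟨A, rfl⟩ := QuotientGroup.mk'_surjective _ x
  exact ⟨A, rfl, inner_eq_semi A⟩

variable (hQ : Geo.IsNondegenerateQuadraticForm Q) (h7 : 7 ≤ Fintype.card ι)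
include hQ h7

theorem semi_eq_semi {g g' : GL ι F} {τ τ' : F ≃+* F} (hg : Cfsg.IsSemisimilarityPair Q g τ)
    (hg' : Cfsg.IsSemisimilarityPair Q g' τ') (e : semi g τ hg = semi g' τ' hg') :
    τ = τ' ∧ ∃ a : Fˣ, g = scal a * g' := by
  obtain ⟨p, hp⟩ := CharP.exists F
  haveI : Fact p.Prime := ⟨CharP.char_is_prime F p⟩
  have h0 : semi _ _ (isPair_inv hg') * semi g' τ' hg' = 1 := by
    rw [semi_mul]
    exact (semi_congr _ ⟨1, fun v => by simp⟩
      (by rw [← map_mul, inv_mul_cancel, map_one]) (inv_mul_cancel τ')).trans (semi_one' _)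
  rw [← e, semi_mul] at h0
  obtain ⟨h1, a, ha0, ha⟩ := semi_eq_one_imp hQ h7 p _ h0
  obtain rfl : τ' = τ := inv_mul_eq_one.1 h1
  rw [← map_mul] at ha
  refine ⟨rfl, Units.map τ'.toMonoidHom (Units.mk0 a ha0), ?_⟩
  have h2 : mapGL τ'⁻¹ (g'⁻¹ * g) = scal (Units.mk0 a ha0) := eq_scal ha
  have h3 := congrArg (mapGL τ') h2
  rw [← mapGL_comp, mul_inv_cancel, mapGL_one, mapGL_scal, inv_mul_eq_iff_eq_mul] at h3
  rw [h3, scal_mul_comm]

/-- Conjugation is faithful. -/
theorem conj_injective : Function.Injective (MulAut.conj : POm →* MulAut POm) := by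
  refine (injective_iff_map_eq_one _).2 fun x hx => ?_
  obtain ⟨p, hp⟩ := CharP.exists F
  haveI : Fact p.Prime := ⟨CharP.char_is_prime F p⟩
  obtain ⟨A, rfl, e⟩ := inn_eq x
  rw [e] at hx
  obtain ⟨-, a, -, ha⟩ := semi_eq_one_imp hQ h7 p _ hx
  exact (QuotientGroup.eq_one_iff A).2 ((mem_center_iff hQ h7 A).2 ⟨a, ha⟩)

theorem card_inn : Nat.card (Cfsg.Inn POm) = Nat.card POm :=
  (Nat.card_congr (MonoidHom.ofInjective (conj_injective hQ h7)).toEquiv).symm

end Cfsg.Agent.AutPOmega
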