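import Cfsg.Agent.Lib.AutPOmega.Minus
import Cfsg.Agent.Lib.Orthogonal.PlusFamilies

/-!
The two parity classes of maximal totally singular subspaces of a hyperbolic space and the similarities
preserving them.
-/

set_option autoImplicit false

namespace Cfsg.Agent.AutPOmega

open Matrix Module QuadraticMap
open Cfsg.Agent.Orth (IsMaxSing)
open Cfsg.Agent.Transvec (mv)

variable {ι : Type} [Fintype ι] [DecidableEq ι] {F : Type*} [Field F]

/-- The same parity class, for subspaces of dimension `m`. -/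
def Same (m : ℕ) (U W : Submodule F (ι → F)) : Prop := Even (m - finrank F ↥(U ⊓ W))

/-- A hyperbolic space of dimension `2m`. -/
structure Hyperbolic (q : QuadraticForm F (ι → F)) (m : ℕ) : Prop where
  nondeg : (polarBilin q).Nondegenerate
  card : Fintype.card ι = 2 * m
  exists_max : ∃ U, IsMaxSing q m U

variable {q : QuadraticForm F (ι → F)} {m : ℕ} (hH : Hyperbolic q m)
include hH

theorem Hyperbolic.finrank_eq : finrank F (ι → F) = 2 * m := by
  rw [Module.finrank_fintype_fun_eq_card, hH.card]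

omit hH in
theorem same_refl {U : Submodule F (ι → F)} (hU : IsMaxSing q m U) : Same m U U := by
  rw [Same, inf_idem, hU.1, Nat.sub_self]; exact Even.zero

/-- Being in the same class is an equivalence with at most two classes. -/
theorem same_trans {U W X : Submodule F (ι → F)} (hU : IsMaxSing q m U) (hW : IsMaxSing q m W)
    (hX : IsMaxSing q m X) : Same m U X ↔ (Same m U W ↔ Same m W X) := by
  have h := Cfsg.Agent.Orth.max_singular_parity hH.nondeg hH.finrank_eq hU hW hX
  simp only [Nat.even_add] at h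
  simp only [Same]
  tauto

omit hH in
theorem same_comm {U W : Submodule F (ι → F)} : Same m U W ↔ Same m W U := by
  rw [Same, Same, inf_comm]

theorem sing_finrank_le {U : Submodule F (ι → F)} (hU : ∀ w ∈ U, q w = 0) : finrank F U ≤ m := by
  have h1 := Cfsg.Agent.Orth.finrank_perp_eq hH.nondeg U
  have h2 : finrank F U ≤ finrank F ↥(Cfsg.Agent.Orth.perp q U) :=
    Submodule.finrank_mono fun x hx b hb => Cfsg.Agent.Orth.b_eq_zero_of_singular hU hb hx
  have h3 := hH.finrank_eq
  omega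

theorem isMax_iff [Finite F] (U : Submodule F (ι → F)) :
    Cfsg.IsMaxTotallySingular (⇑q) U ↔ IsMaxSing q m U := by
  constructor
  · rintro ⟨hU, hmax⟩
    refine ⟨?_, hU⟩
    obtain ⟨U₀, hU₀⟩ := hH.exists_max
    have hle := sing_finrank_le hH hU
    obtain ⟨j, hj⟩ : ∃ j : U →ₗ[F] U₀, Function.Injective j := by
      let b := Module.finBasis F U
      let b₀ := Module.finBasis F U₀
      have hli : LinearIndependent F fun i => b₀ (Fin.castLE (hU₀.1.symm ▸ hle) i) :=
        b₀.linearIndependent.comp _ (Fin.castLE_injective _)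
      refine ⟨b.constr F fun i => b₀ (Fin.castLE (hU₀.1.symm ▸ hle) i),
        (injective_iff_map_eq_zero _).2 fun x hx => ?_⟩
      simp only [Module.Basis.constr_apply_fintype] at hx
      exact b.equivFun.map_eq_zero_iff.1 (funext (Fintype.linearIndependent_iff.1 hli _ hx))
    obtain ⟨j', hj', hjK⟩ : ∃ j' : U →ₗ[F] (ι → F), Function.Injective j' ∧ ∀ x, j' x ∈ U₀ :=
      ⟨U₀.subtype.comp j, Subtype.val_injective.comp hj, fun x => (j x).2⟩
    let φ := LinearEquiv.ofInjective j' hj'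
    obtain ⟨g, hg, hgφ⟩ := Cfsg.Agent.Orth.witt_pair hH.nondeg φ fun x => by
      rw [hU _ x.2]
      exact hU₀.2 _ (hjK x)
    have hUW : U ≤ U₀.map g.symm.toLinearMap := fun x hx =>
      ⟨j' ⟨x, hx⟩, hjK _, by
        show g.symm (j' ⟨x, hx⟩) = x
        rw [show j' ⟨x, hx⟩ = (φ ⟨x, hx⟩ : ι → F) from rfl, ← hgφ ⟨x, hx⟩, g.symm_apply_apply]⟩
    have h := hmax (U₀.map g.symm.toLinearMap) (fun w hw => by
      obtain ⟨y, hy, rfl⟩ := hw
      show q (g.symm y) = 0
      rw [← hg (g.symm y), g.apply_symm_apply]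
      exact hU₀.2 y hy) hUW
    rw [← h, LinearEquiv.finrank_map_eq, hU₀.1]
  · intro hU
    refine ⟨hU.2, fun W hW hle => (Submodule.eq_of_le_of_finrank_le hle ?_).symm⟩
    rw [hU.1]
    exact sing_finrank_le hH hW

omit hH in
theorem image_eq (g : GL ι F) (U : Submodule F (ι → F)) :
    (Cfsg.imageSubmodule (g : Matrix ι ι F) U : Set (ι → F)) = mv g '' U := by
  ext x; simp [Cfsg.imageSubmodule, mv, Matrix.toLin'_apply]

omit hH in
theorem image_mul (g h : GL ι F) (U : Submodule F (ι → F)) :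
    Cfsg.imageSubmodule ((g * h : GL ι F) : Matrix ι ι F) U =
      Cfsg.imageSubmodule (g : Matrix ι ι F) (Cfsg.imageSubmodule (h : Matrix ι ι F) U) := by
  rw [Cfsg.imageSubmodule, Cfsg.imageSubmodule, Cfsg.imageSubmodule, ← Submodule.map_comp, Units.val_mul,
    Matrix.toLin'_mul]

omit hH in
theorem toLin_injective (g : GL ι F) : Function.Injective (Matrix.toLin' (g : Matrix ι ι F)) :=
  fun x y e => Cfsg.Agent.Transvec.mv_inj g (by simpa [Cfsg.Agent.Transvec.mv, Matrix.toLin'_apply] using e)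

omit hH in
theorem finrank_image (g : GL ι F) (U : Submodule F (ι → F)) :
    finrank F ↥(Cfsg.imageSubmodule (g : Matrix ι ι F) U) = finrank F U :=
  (Submodule.equivMapOfInjective _ (toLin_injective g) U).finrank_eq.symm

omit hH in
theorem image_same (g : GL ι F) (U W : Submodule F (ι → F)) :
    Same m (Cfsg.imageSubmodule (g : Matrix ι ι F) U) (Cfsg.imageSubmodule (g : Matrix ι ι F) W) ↔
      Same m U W := by
  rw [Same, Same, Cfsg.imageSubmodule, Cfsg.imageSubmodule, ← Submodule.map_inf _ (toLin_injective g)]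
  exact iff_of_eq (congrArg (fun k => Even (m - k)) (finrank_image g (U ⊓ W)))

omit hH in
theorem image_isMax {g : GL ι F} (hg : Cfsg.IsSemisimilarityPair (⇑q) g 1) {U : Submodule F (ι → F)}
    (hU : IsMaxSing q m U) : IsMaxSing q m (Cfsg.imageSubmodule (g : Matrix ι ι F) U) := by
  refine ⟨(finrank_image g U).trans hU.1, fun w hw => ?_⟩
  obtain ⟨y, hy, rfl⟩ := hw
  obtain ⟨c, hc⟩ := hg
  have := hc y
  simp only [RingAut.one_apply, hU.2 y hy, mul_zero] at this
  exact this

/-- One maximal totally singular subspace decides. -/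
theorem pres_iff [Finite F] {g : GL ι F} (hg : Cfsg.IsSemisimilarityPair (⇑q) g 1)
    {U₀ : Submodule F (ι → F)} (hU₀ : IsMaxSing q m U₀) :
    Cfsg.PreservesSingularClasses (⇑q) (g : Matrix ι ι F) ↔
      Same m U₀ (Cfsg.imageSubmodule (g : Matrix ι ι F) U₀) := by
  constructor
  · intro h
    have := h U₀ ((isMax_iff hH U₀).2 hU₀)
    rwa [Cfsg.SameParityClass, hU₀.1] at this
  · intro h U hU
    rw [isMax_iff hH] at hU
    rw [Cfsg.SameParityClass, hU.1]
    show Same m U _
    rw [same_trans hH hU hU₀ (image_isMax hg hU),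
      same_trans hH hU₀ (image_isMax hg hU₀) (image_isMax hg hU), image_same, same_comm (U := U₀) (W := U)]
    exact ⟨fun e => iff_of_true h e, fun e => e.1 h⟩

theorem pres_mul [Finite F] {g h : GL ι F} (hg : Cfsg.IsSemisimilarityPair (⇑q) g 1)
    (hh : Cfsg.IsSemisimilarityPair (⇑q) h 1) :
    Cfsg.PreservesSingularClasses (⇑q) ((g * h : GL ι F) : Matrix ι ι F) ↔
      (Cfsg.PreservesSingularClasses (⇑q) (g : Matrix ι ι F) ↔
        Cfsg.PreservesSingularClasses (⇑q) (h : Matrix ι ι F)) := by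
  obtain ⟨U₀, hU₀⟩ := hH.exists_max
  have hgh : Cfsg.IsSemisimilarityPair (⇑q) (g * h) 1 := by
    have := isPair_comp hg hh
    simpa [mapGL_one] using this
  rw [pres_iff hH hgh hU₀, pres_iff hH hg hU₀, pres_iff hH hh hU₀, image_mul,
    same_trans hH hU₀ (image_isMax hg hU₀) (image_isMax hg (image_isMax hh hU₀)), image_same]

theorem pres_one [Finite F] : Cfsg.PreservesSingularClasses (⇑q) ((1 : GL ι F) : Matrix ι ι F) := by
  obtain ⟨U₀, hU₀⟩ := hH.exists_max
  rw [pres_iff hH ⟨1, fun v => by simp⟩ hU₀]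
  rw [Cfsg.imageSubmodule, Units.val_one, Matrix.toLin'_one, Submodule.map_id]
  exact same_refl hU₀

theorem pres_scal [Finite F] (a : Fˣ) :
    Cfsg.PreservesSingularClasses (⇑q) ((scal a : GL ι F) : Matrix ι ι F) := by
  obtain ⟨U₀, hU₀⟩ := hH.exists_max
  have hp : Cfsg.IsSemisimilarityPair (⇑q) (scal a : GL ι F) 1 := ⟨a ^ 2, fun v => by
    show q (mv (scal a) v) = _
    rw [scal_mv, QuadraticMap.map_smul, smul_eq_mul, Units.val_pow_eq_pow_val, _root_.sq, RingAut.one_apply]⟩
  rw [pres_iff hH hp hU₀]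
  have e : Cfsg.imageSubmodule ((scal a : GL ι F) : Matrix ι ι F) U₀ = U₀ := by
    refine Submodule.eq_of_le_of_finrank_eq ?_ (finrank_image _ _)
    rintro _ ⟨y, hy, rfl⟩
    show mv (scal a) y ∈ U₀
    rw [scal_mv]
    exact U₀.smul_mem _ hy
  rw [e]
  exact same_refl hU₀

theorem pres_inv [Finite F] {g : GL ι F} (hg : Cfsg.IsSemisimilarityPair (⇑q) g 1) :
    Cfsg.PreservesSingularClasses (⇑q) ((g⁻¹ : GL ι F) : Matrix ι ι F) ↔
      Cfsg.PreservesSingularClasses (⇑q) (g : Matrix ι ι F) := by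
  have hgi : Cfsg.IsSemisimilarityPair (⇑q) g⁻¹ 1 := by
    have := isPair_inv hg
    simpa [mapGL_one] using this
  have h := pres_mul hH hg hgi
  rw [mul_inv_cancel] at h
  have h1 := h.1 (pres_one hH)
  tauto

/-- A reflection interchanges the classes. -/
theorem not_pres_refl [Finite F] {v : ι → F} (hv : q v ≠ 0) {r : GL ι F}
    (hr : (r : Matrix ι ι F) = Cfsg.reflectionMatrix (⇑q) v) :
    Cfsg.IsSemisimilarityPair (⇑q) r 1 ∧
      ¬ Cfsg.PreservesSingularClasses (⇑q) (r : Matrix ι ι F) := by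
  obtain ⟨r', hr', -⟩ := Cfsg.Agent.Orth.exists_reflection q hv
  have hrg : r = (r' : GL ι F) := Units.ext (hr.trans hr'.symm)
  have hp : Cfsg.IsSemisimilarityPair (⇑q) r 1 := hrg ▸ isPair_iso r'.2
  refine ⟨hp, fun hpres => ?_⟩
  obtain ⟨U₀, hU₀⟩ := hH.exists_max
  rw [pres_iff hH hp hU₀] at hpres
  have hperp := hU₀.perp_eq hH.nondeg hH.finrank_eq
  have hvU : v ∉ U₀ := fun h => hv (hU₀.2 v h)
  obtain ⟨L, hL⟩ : ∃ L : U₀ →ₗ[F] F, ∀ x : U₀, L x = polar q x v :=
    ⟨((polarBilin q).flip v).comp U₀.subtype, fun x => rfl⟩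
  have hsurj : LinearMap.range L = ⊤ := by
    rcases Ideal.eq_bot_or_top (LinearMap.range L) with h | h
    · exfalso
      refine hvU (hperp ▸ ?_)
      intro b hb
      have hb' : L ⟨b, hb⟩ ∈ LinearMap.range L := ⟨_, rfl⟩
      rw [h, Submodule.mem_bot, hL] at hb'
      exact hb'
    · exact h
  have hrange := L.finrank_range_add_finrank_ker
  rw [hsurj, finrank_top, Module.finrank_self, hU₀.1] at hrange
  have hinf : U₀ ⊓ Cfsg.imageSubmodule (r : Matrix ι ι F) U₀ = (LinearMap.ker L).map U₀.subtype := by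
    ext x
    constructor
    · rintro ⟨hx, y, hy, hyx⟩
      rw [Matrix.toLin'_apply, hr, Cfsg.Agent.Orth.reflectionMatrix_mulVec] at hyx
      have h0 : polar q y v = 0 := by
        by_contra hne
        refine hvU ((U₀.smul_mem_iff (div_ne_zero hne hv)).1 ?_)
        have := U₀.sub_mem hy hx
        rwa [← hyx, sub_sub_cancel] at this
      refine ⟨⟨y, hy⟩, (hL _).trans h0, ?_⟩
      rw [h0, zero_div, zero_smul, sub_zero] at hyx
      exact hyx
    · rintro ⟨⟨y, hy⟩, hyL, rfl⟩
      refine ⟨hy, y, hy, ?_⟩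
      rw [Matrix.toLin'_apply, hr, Cfsg.Agent.Orth.reflectionMatrix_mulVec,
        show polar q y v = 0 from (hL _).symm.trans hyL, zero_div, zero_smul, sub_zero]
      rfl
  rw [Same, hinf, Submodule.finrank_map_subtype_eq] at hpres
  have : m - finrank F ↥(LinearMap.ker L) = 1 := by omega
  rw [this] at hpres
  exact Nat.not_even_one hpres

/-- Elements of `Ω` preserve the classes. -/
theorem pres_omega [Finite F] (s : Cfsg.Omega F (⇑q)) :
    Cfsg.PreservesSingularClasses (⇑q)
      (((s : Cfsg.isometryGroup F (⇑q)) : GL ι F) : Matrix ι ι F) := by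
  let P : Subgroup (Cfsg.isometryGroup F (⇑q)) :=
    { carrier := {g | Cfsg.PreservesSingularClasses (⇑q) ((g : GL ι F) : Matrix ι ι F)}
      one_mem' := pres_one hH
      mul_mem' := fun {a b} ha hb => (pres_mul hH (isPair_iso a.2) (isPair_iso b.2)).2 (iff_of_true ha hb)
      inv_mem' := fun {a} ha => (pres_inv hH (isPair_iso a.2)).2 ha }
  have h : Cfsg.Omega F (⇑q) ≤ P := by
    show commutator _ ≤ P
    rw [commutator_def, Subgroup.commutator_le]
    intro a _ b _
    show Cfsg.PreservesSingularClasses (⇑q) ((a * b * a⁻¹ * b⁻¹ : Cfsg.isometryGroup F (⇑q)) : GL ι F).1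
    have e1 := pres_mul hH (isPair_iso a.2) (isPair_iso b.2)
    have e2 := pres_mul hH (isPair_iso (a * b).2) (isPair_iso (a⁻¹).2)
    have e3 := pres_mul hH (isPair_iso (a * b * a⁻¹).2) (isPair_iso (b⁻¹).2)
    have e4 := pres_inv hH (isPair_iso a.2)
    have e5 := pres_inv hH (isPair_iso b.2)
    simp only [Subgroup.coe_mul, Subgroup.coe_inv] at e1 e2 e3 e4 e5 ⊢
    rw [e3, e2, e1, e4, e5]
    by_cases ha : Cfsg.PreservesSingularClasses (⇑q) ((a : GL ι F) : Matrix ι ι F) <;>
      by_cases hb : Cfsg.PreservesSingularClasses (⇑q) ((b : GL ι F) : Matrix ι ι F) <;> simp [ha, hb]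
  exact h s.2

/-- Transport along a semisimilarity of hyperbolic spaces. -/
theorem pres_transfer [Finite F] {κ : Type} [Fintype κ] [DecidableEq κ] {K : Type*} [Field K] [Finite K]
    {q' : QuadraticForm K (κ → K)} (hH' : Hyperbolic q' m) (e : F ≃+* K) (f : (ι → F) ≃+ (κ → K))
    (hsmul : ∀ (t : F) v, f (t • v) = e t • f v) (hq : ∃ c : K, ∀ v, q' (f v) = c * e (q v))
    {g : GL ι F} {g' : GL κ K} (hg : Cfsg.IsSemisimilarityPair (⇑q) g 1)
    (hg' : Cfsg.IsSemisimilarityPair (⇑q') g' 1) (h : ∀ v, f (mv g v) = mv g' (f v)) :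
    Cfsg.PreservesSingularClasses (⇑q) (g : Matrix ι ι F) ↔
      Cfsg.PreservesSingularClasses (⇑q') (g' : Matrix κ κ K) := by
  let push : Submodule F (ι → F) → Submodule K (κ → K) := fun U =>
    { carrier := f '' U
      add_mem' := by
        rintro _ _ ⟨x, hx, rfl⟩ ⟨y, hy, rfl⟩
        exact ⟨x + y, U.add_mem hx hy, map_add f x y⟩
      zero_mem' := ⟨0, U.zero_mem, map_zero f⟩
      smul_mem' := by
        rintro t _ ⟨x, hx, rfl⟩
        exact ⟨e.symm t • x, U.smul_mem _ hx, by rw [hsmul, e.apply_symm_apply]⟩ }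
  have hcard : ∀ U, finrank K ↥(push U) = finrank F U := fun U => by
    have h1 : Nat.card ↥(push U) = Nat.card U := Nat.card_image_of_injective f.injective (U : Set (ι → F))
    rw [Module.natCard_eq_pow_finrank (K := K) (V := ↥(push U)), Module.natCard_eq_pow_finrank (K := F) (V := U),
      ← Nat.card_congr e.toEquiv] at h1
    exact Nat.pow_right_injective Finite.one_lt_card h1
  obtain ⟨U₀, hU₀⟩ := hH.exists_max
  have hmax : IsMaxSing q' m (push U₀) := by
    refine ⟨(hcard U₀).trans hU₀.1, ?_⟩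
    rintro _ ⟨y, hy, rfl⟩
    obtain ⟨c, hc⟩ := hq
    rw [hc, hU₀.2 y hy, map_zero, mul_zero]
  rw [pres_iff hH hg hU₀, pres_iff hH' hg' hmax, Same, Same]
  have e2 : push U₀ ⊓ Cfsg.imageSubmodule (g' : Matrix κ κ K) (push U₀) =
      push (U₀ ⊓ Cfsg.imageSubmodule (g : Matrix ι ι F) U₀) := by
    refine SetLike.coe_injective ?_
    rw [Submodule.coe_inf, image_eq]
    show f '' U₀ ∩ mv g' '' (f '' U₀) = f '' _
    rw [Submodule.coe_inf, image_eq, Set.image_inter f.injective, Set.image_image, Set.image_image]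
    simp only [h]
  rw [e2, hcard]

omit hH

end Cfsg.Agent.AutPOmega
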