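import Cfsg.Agent.Lib.AutPOmega.RootQ

/-!
Automorphisms of `PΩ` permute the radicals of the singular points.
-/

set_option autoImplicit false

namespace Cfsg.Agent.AutPOmega

open Matrix Cfsg.Agent.Transvec Cfsg.Agent.Transvec.Orth

variable {ι : Type} [Fintype ι] [DecidableEq ι] {F : Type*} [Field F] {Q : (ι → F) → F}

local notation "Vι" => ι → F
local notation "Om" => Cfsg.Omega F Q
local notation "POm" => Cfsg.POmega F Q
local notation "π" => QuotientGroup.mk' (Subgroup.center (Cfsg.Omega F Q))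

/-- The elements moving vectors only inside `U` and fixing its orthogonal. -/
def sgp (Q : (ι → F) → F) (U : Submodule F Vι) : Subgroup (Cfsg.Omega F Q) where
  carrier := {s | (∀ z, act s z - z ∈ U) ∧ ∀ z, (∀ u ∈ U, pol Q z u = 0) → act s z = z}
  one_mem' := ⟨fun z => by rw [act_one, sub_self]; exact zero_mem _, fun z _ => act_one z⟩
  mul_mem' := by
    rintro s t ⟨hs, hs'⟩ ⟨ht, ht'⟩
    refine ⟨fun z => ?_, fun z hz => by rw [act_mul, ht' z hz, hs' z hz]⟩
    rw [act_mul, show act s (act t z) - z = (act s (act t z) - act t z) + (act t z - z) by abel]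
    exact add_mem (hs _) (ht _)
  inv_mem' := by
    rintro s ⟨hs, hs'⟩
    refine ⟨fun z => ?_, fun z hz => ?_⟩
    · have := neg_mem (hs (act s⁻¹ z))
      rwa [act_act_inv, neg_sub] at this
    · conv_lhs => rw [← hs' z hz]
      exact act_inv_act s z

/-- The relation on points induced by an automorphism. -/
def Rel (β : MulAut (Cfsg.POmega F Q)) (c d : Vι) : Prop := (radQ Q c).map β.toMonoidHom = radQ Q d

theorem radQ_act (t : Om) (c : Vι) :
    radQ Q (act t c) = (radQ Q c).map (MulAut.conj (π t)).toMonoidHom := by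
  ext x
  simp only [radQ, Subgroup.mem_map]
  constructor
  · rintro ⟨s, hs, rfl⟩
    have h1 := rad_conj t⁻¹ hs
    rw [act_inv_act, inv_inv] at h1
    exact ⟨π (t⁻¹ * s * t), ⟨_, h1, rfl⟩,
      show π t * π (t⁻¹ * s * t) * (π t)⁻¹ = π s by rw [map_mul, map_mul, map_inv]; group⟩
  · rintro ⟨-, ⟨s, hs, rfl⟩, rfl⟩
    exact ⟨t * s * t⁻¹, rad_conj t hs, show π (t * s * t⁻¹) = π t * π s * (π t)⁻¹ by
      rw [map_mul, map_mul, map_inv]⟩

theorem rel_comp {β γ : MulAut POm} {c d e : Vι} (h1 : Rel β c d) (h2 : Rel γ d e) :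
    Rel (γ * β) c e := by
  rw [Rel, show (γ * β).toMonoidHom = γ.toMonoidHom.comp β.toMonoidHom from rfl, ← Subgroup.map_map]
  rw [Rel] at h1 h2
  rw [h1, h2]

theorem rel_one (c : Vι) : Rel (1 : MulAut POm) c c := Subgroup.map_id _

theorem rel_symm {β : MulAut POm} {c d : Vι} (h1 : Rel β c d) : Rel β⁻¹ d c := by
  rw [Rel] at h1 ⊢
  rw [← h1, map_inv_map]

theorem rel_compat {β : MulAut POm} {c d : Vι} (h1 : Rel β c d) {s t : Om} (e : β (π s) = π t) :
    Rel β (act s c) (act t d) := by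
  rw [Rel] at h1 ⊢
  rw [radQ_act, radQ_act, ← h1, Subgroup.map_map, Subgroup.map_map]
  congr 1
  ext x
  show β (π s * x * (π s)⁻¹) = π t * β x * (π t)⁻¹
  rw [map_mul, map_mul, map_inv, e]

variable (hQ : Geo.IsNondegenerateQuadraticForm Q)
include hQ

theorem radQ_smul {a : F} (ha : a ≠ 0) (c : Vι) : radQ Q (a • c) = radQ Q c := by
  rw [radQ, radQ, rad_smul hQ ha]

theorem rel_smul {β : MulAut POm} {c d : Vι} (h1 : Rel β c d) {a b : F} (ha : a ≠ 0) (hb : b ≠ 0) :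
    Rel β (a • c) (b • d) := by
  rw [Rel] at h1 ⊢
  rw [radQ_smul hQ ha, radQ_smul hQ hb, h1]

theorem root_le_sgp [Finite F] (h7 : 7 ≤ Fintype.card ι) {U : Submodule F Vι} {u v : Vι}
    (h : Line Q u v) (hu : u ∈ U) (hv : v ∈ U) : root Q u v ≤ sgp Q U := by
  intro s hs
  obtain ⟨r, hr⟩ := (mem_root_iff' hQ h7 h).1 hs
  refine ⟨fun z => ?_, fun z hz => ?_⟩
  · rw [hr, add_sub_cancel_left]
    exact U.smul_mem _ (U.sub_mem (U.smul_mem _ hv) (U.smul_mem _ hu))
  · rw [hr, hz u hu, hz v hv]; simp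

/-- A totally singular space of dimension four supports at most `q ^ 6` such elements. -/
theorem card_sgp_le [Finite F] (u : Fin 4 → Vι) (hli : LinearIndependent F u)
    (hsing : ∀ x ∈ Submodule.span F (Set.range u), Q x = 0) :
    Nat.card (sgp Q (Submodule.span F (Set.range u))) ≤ Nat.card F ^ 6 := by
  obtain ⟨U, hU⟩ : ∃ U, U = Submodule.span F (Set.range u) := ⟨_, rfl⟩
  rw [← hU] at hsing ⊢
  have huU : ∀ i, u i ∈ U := fun i => hU ▸ Submodule.subset_span ⟨i, rfl⟩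
  have hw : ∀ i, ∃ w, ∀ j, pol Q w (u j) = if i = j then 1 else 0 := fun i => by
    obtain ⟨φ, hφ, hφ'⟩ := exists_dual (W := Submodule.span F (u '' {j | j ≠ i})) (u := u i)
      (hli.notMem_span_image (by simp))
    obtain ⟨z, -, hz⟩ := Orth.exists_rep hQ (nondeg_top hQ) φ
    refine ⟨z, fun j => ?_⟩
    rw [Orth.pol_comm, ← hz _ Submodule.mem_top]
    by_cases hij : i = j
    · rw [if_pos hij, ← hij, hφ']
    · rw [if_neg hij, hφ _ (Submodule.subset_span ⟨j, Ne.symm hij, rfl⟩)]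
  choose w hw using hw
  have hzero : ∀ d ∈ U, (∀ j, pol Q d (w j) = 0) → d = 0 := by
    intro d hd h
    rw [hU] at hd
    obtain ⟨c, rfl⟩ := (Submodule.mem_span_range_iff_exists_fun F).1 hd
    have hc : ∀ j, c j = 0 := fun j => by
      have := h j
      rw [show pol Q (∑ i, c i • u i) (w j) = ∑ i, c i * pol Q (w j) (u i) by
        rw [← formQ_apply hQ, map_sum]
        simp only [map_smul, smul_eq_mul, formQ_apply, Orth.pol_comm (w j)]] at this
      simpa [hw] using this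
    simp [hc]
  let I := {q : Fin 4 × Fin 4 // q.1 < q.2}
  let F' : sgp Q U → I → F := fun s q => pol Q (act (s : Om) (w q.1.1) - w q.1.1) (w q.1.2)
  have hI : Nat.card (I → F) = Nat.card F ^ 6 := by
    rw [Nat.card_fun, show Nat.card I = 6 by rw [Nat.card_eq_fintype_card]; decide]
  rw [← hI]
  refine Nat.card_le_card_of_injective F' fun s t e => Subtype.ext (ext_act fun z => ?_)
  have hskew : ∀ (s : sgp Q U) (i j : Fin 4), pol Q (act (s : Om) (w i) - w i) (w j) +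
      pol Q (act (s : Om) (w j) - w j) (w i) = 0 ∧ pol Q (act (s : Om) (w i) - w i) (w i) = 0 := by
    intro s i j
    obtain ⟨di, hdi⟩ : ∃ di, di = act (s : Om) (w i) - w i := ⟨_, rfl⟩
    obtain ⟨dj, hdj⟩ : ∃ dj, dj = act (s : Om) (w j) - w j := ⟨_, rfl⟩
    have hi : di ∈ U := hdi ▸ s.2.1 _
    have hj : dj ∈ U := hdj ▸ s.2.1 _
    have hij : pol Q di dj = 0 := by
      have := hsing _ (U.add_mem hi hj)
      rwa [Orth.q_add hQ, hsing _ hi, hsing _ hj, zero_add, zero_add] at this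
    have e1 := act_pol (s : Om) (w i) (w j)
    rw [show act (s : Om) (w i) = w i + di by rw [hdi]; abel,
      show act (s : Om) (w j) = w j + dj by rw [hdj]; abel,
      pol_add_left hQ, pol_add_right hQ, pol_add_right hQ, hij, Orth.pol_comm (w i) dj] at e1
    have e2 := act_q (Q := Q) (s : Om) (w i)
    rw [show act (s : Om) (w i) = w i + di by rw [hdi]; abel, Orth.q_add hQ, hsing _ hi,
      Orth.pol_comm] at e2
    rw [← hdi, ← hdj]
    exact ⟨by linear_combination e1, by linear_combination e2⟩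
  have hval : ∀ i j, pol Q (act (s : Om) (w i) - w i) (w j) =
      pol Q (act (t : Om) (w i) - w i) (w j) := by
    intro i j
    rcases lt_trichotomy i j with h | h | h
    · exact congrFun e ⟨(i, j), h⟩
    · rw [← h, (hskew s i i).2, (hskew t i i).2]
    · have := congrFun e ⟨(j, i), h⟩
      simp only [F'] at this
      linear_combination (hskew s i j).1 - (hskew t i j).1 - this
  have hwe : ∀ i, act (s : Om) (w i) = act (t : Om) (w i) := fun i => by
    refine sub_eq_zero.1 (hzero _ ?_ fun j => ?_)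
    · rw [show act (s : Om) (w i) - act (t : Om) (w i) =
        (act (s : Om) (w i) - w i) - (act (t : Om) (w i) - w i) by abel]
      exact U.sub_mem (s.2.1 _) (t.2.1 _)
    · rw [show act (s : Om) (w i) - act (t : Om) (w i) =
        (act (s : Om) (w i) - w i) - (act (t : Om) (w i) - w i) by abel, pol_sub_left hQ, hval,
        sub_self]
  obtain ⟨y, hy⟩ : ∃ y, y = z - ∑ i, pol Q z (u i) • w i := ⟨_, rfl⟩
  have hy0 : ∀ x ∈ U, pol Q y x = 0 := by
    intro x hx
    rw [hU] at hx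
    induction hx using Submodule.span_induction with
    | mem x hx =>
      obtain ⟨j, rfl⟩ := hx
      rw [hy, pol_sub_left hQ, show pol Q (∑ i, pol Q z (u i) • w i) (u j) =
        ∑ i, pol Q z (u i) * pol Q (w i) (u j) by
          rw [← formQ_apply hQ, map_sum]
          simp only [map_smul, smul_eq_mul, formQ_apply]]
      simp [hw]
    | zero => exact pol_zero_right hQ _
    | add a b _ _ ha hb => rw [pol_add_right hQ, ha, hb, add_zero]
    | smul c a _ ha => rw [pol_smul_right hQ, ha, mul_zero]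
  have hsum : ∀ s' : Om, act s' (∑ i, pol Q z (u i) • w i) = ∑ i, pol Q z (u i) • act s' (w i) :=
    fun s' => by
      show AddMonoidHom.mk' (fun x => act s' x) (act_add s') _ = _
      rw [map_sum]
      simp [act_smul]
  rw [show z = y + ∑ i, pol Q z (u i) • w i by rw [hy]; abel, act_add, act_add, s.2.2 _ hy0,
    t.2.2 _ hy0, hsum, hsum]
  simp [hwe]

variable [Finite F] (h7 : 7 ≤ Fintype.card ι) (p : ℕ) [Fact p.Prime] [CharP F p]
include h7 p

theorem rad_mk_inj {c d : Vι} (hc0 : c ≠ 0) (hc : Q c = 0) (hd0 : d ≠ 0) (hd : Q d = 0) {s t : Om}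
    (hs : s ∈ rad Q c) (ht : t ∈ rad Q d) (e : π s = π t) : s = t :=
  eq_of_mk_eq hQ h7 p (rad_pow' hQ h7 p hc0 hc hs) (rad_pow' hQ h7 p hd0 hd ht) e

theorem card_radQ {e f : Vι} (hp : Pair Q e f) :
    Nat.card (radQ Q e) = Nat.card F ^ Module.finrank F (perp hQ e f) := by
  have h5 := h5' hQ h7
  have he0 := Pair.ne_zero hQ hp
  rw [← Module.natCard_eq_pow_finrank]
  choose s hs hS hw hf using fun x : perp hQ e f => exists_wt hQ h5 hp x.2
  refine (Nat.card_eq_of_bijective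
    (fun x : perp hQ e f => (⟨π (s x), Subgroup.mem_map_of_mem _ (hs x)⟩ : radQ Q e)) ⟨?_, ?_⟩).symm
  · intro x y e1
    have e2 := rad_mk_inj hQ h7 p he0 hp.1 he0 hp.1 (hs x) (hs y) (congrArg Subtype.val e1)
    exact Subtype.ext (by rw [← hw x, ← hw y, e2])
  · rintro ⟨_, t, ht, rfl⟩
    exact ⟨⟨_, wt_mem hQ hp t⟩, Subtype.ext (congrArg π (wt_inj hQ h5 hp (hs _) ht (hw _)))⟩

/-- Uniqueness of the image point. -/
theorem rel_unique {β : MulAut POm} {c d d' : Vι} (hd0 : d ≠ 0) (hd : Q d = 0) (hd0' : d' ≠ 0)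
    (hd' : Q d' = 0) (h1 : Rel β c d) (h2 : Rel β c d') : ∃ a : F, a ≠ 0 ∧ d' = a • d := by
  obtain ⟨f, hf⟩ := exists_pair hQ (h5' hQ h7) hd0 hd
  obtain ⟨a, ha⟩ := fixed_rad hQ h7 hf (x := d') fun s hs => by
    obtain ⟨t, ht, e⟩ : π s ∈ radQ Q d' := (h1.symm.trans h2) ▸ Subgroup.mem_map_of_mem _ hs
    rw [← rad_mk_inj hQ h7 p hd0' hd' hd0 hd ht hs e]
    exact ht.1
  exact ⟨a, fun e => hd0' (by rw [ha, e, zero_smul]), ha⟩

/-- Orthogonality of points in terms of the radicals. -/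
theorem orth_iff {c d : Vι} (hc0 : c ≠ 0) (hc : Q c = 0) (hd0 : d ≠ 0) (hd : Q d = 0) :
    pol Q c d = 0 ↔ radQ Q c ⊓ radQ Q d ≠ ⊥ := by
  have h5 := h5' hQ h7
  constructor
  · intro h
    obtain ⟨w, hcw, hwd⟩ : ∃ w, Line Q c w ∧ root Q c w ≤ rad Q d := by
      by_cases hdep : ∃ k : F, d = k • c
      · obtain ⟨k, hk⟩ := hdep
        obtain ⟨f, hf⟩ := exists_pair hQ h5 hc0 hc
        obtain ⟨w, hw, hw0, hwq⟩ := exists_singular hQ (X := perp hQ c f)
          (by have := finrank_perp hQ hf; omega)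
        refine ⟨w, Line.of_frame hQ hf hw hwq hw0, ?_⟩
        rw [hk, rad_smul hQ (fun e => hd0 (by rw [hk, e, zero_smul]))]
        exact inf_le_left
      · refine ⟨d, ⟨hc, hd, h, fun a b e => ?_⟩, inf_le_right⟩
        by_cases hb : b = 0
        · rw [hb, zero_smul, add_zero, smul_eq_zero, or_iff_left hc0] at e
          exact ⟨e, hb⟩
        · refine absurd ⟨-a / b, ?_⟩ hdep
          have e1 : b • d = (-a) • c := by linear_combination (norm := module) e
          rw [div_eq_inv_mul, mul_smul, ← e1, inv_smul_smul₀ hb]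
    obtain ⟨s, hs⟩ := exists_tr hQ h7 hcw 1
    have hsr := isTr_mem_root hQ hcw hs
    intro hbot
    have h1 : π s ∈ (⊥ : Subgroup POm) :=
      hbot ▸ ⟨Subgroup.mem_map_of_mem _ hsr.1, Subgroup.mem_map_of_mem _ (hwd hsr)⟩
    have h2 := rad_mk_inj hQ h7 p hc0 hc hc0 hc hsr.1 (one_mem _) (by rw [map_one]; exact h1)
    obtain ⟨z, hz1, hz2⟩ := exists_dual_pair hQ hcw
    have e1 := hs z
    rw [h2, act_one, hz1, hz2, one_smul, one_smul, zero_smul, sub_zero, left_eq_add] at e1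
    exact hcw.right_ne_zero e1
  · intro h
    by_contra hcd
    refine h ((Subgroup.eq_bot_iff_forall _).2 ?_)
    rintro _ ⟨⟨s, hs, rfl⟩, t, ht, e⟩
    have hst := rad_mk_inj hQ h7 p hd0 hd hc0 hc ht hs e
    subst hst
    obtain ⟨f, hf⟩ : ∃ f, f = (pol Q c d)⁻¹ • d := ⟨_, rfl⟩
    have hp : Pair Q c f := ⟨hc, hf ▸ q_smul_sing hQ hd _,
      by rw [hf, pol_smul_right hQ, inv_mul_cancel₀ hcd]⟩
    have hw : wt c f t = 0 := by
      rw [wt, hf, act_smul, ht.1, ← hf, proj_f hQ hp]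
    rw [wt_inj hQ h5 hp hs (one_mem _) (by rw [hw, wt_one hQ hp]), map_one]

variable (hD : 9 ≤ Fintype.card ι ∨
  ∀ U : Submodule F (ι → F), (∀ x ∈ U, Q x = 0) → Module.finrank F U ≤ 3)
include hD

/-- Automorphisms permute the radicals. -/
theorem exists_rel (β : MulAut POm) {e : Vι} (he0 : e ≠ 0) (he : Q e = 0) :
    ∃ d, d ≠ 0 ∧ Q d = 0 ∧ Rel β e d := by
  have h5 := h5' hQ h7
  obtain ⟨f, hp⟩ := exists_pair hQ h5 he0 he
  obtain ⟨a, b, hab, ha, hb⟩ := exists_perp_pair hQ h7 hp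
  have hL1 := Line.of_frame hQ hp ha hab.1 (Pair.ne_zero hQ hab)
  have hL2 := Line.of_frame hQ hp hb hab.2.1 (Pair.ne_zero hQ hab.symm)
  have hH := map_hgrp hQ h7 p β ((root Q e a).map π) ((root Q e b).map π)
  rw [hgrp_meet hQ h7 p hp ha hb hab] at hH
  obtain ⟨u, v, h1, hA⟩ := isRootQ_map hQ h7 p β ⟨e, a, hL1, rfl⟩
  obtain ⟨x, y, h2, hB⟩ := isRootQ_map hQ h7 p β ⟨e, b, hL2, rfl⟩
  rw [hA, hB] at hH
  have hnadj : ¬ Adj Q ((root Q u v).map π) ((root Q x y).map π) := fun h =>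
    not_adj hQ h7 p hp ha hb hab (adj_of_map hQ h7 p β (by rw [hA, hB]; exact h))
  obtain ⟨s, hs⟩ := exists_tr hQ h7 h1 1
  obtain ⟨t, ht⟩ := exists_tr hQ h7 h2 1
  have hsr := isTr_mem_root hQ h1 hs
  have htr := isTr_mem_root hQ h2 ht
  have hc : Commute s t := by
    obtain ⟨_, ⟨s', hs', rfl⟩, e1⟩ := hA.symm ▸ Subgroup.mem_map_of_mem π hsr
    obtain ⟨_, ⟨t', ht', rfl⟩, e2⟩ := hB.symm ▸ Subgroup.mem_map_of_mem π htr
    refine commute_of_mk hQ h7 p (rad_pow' hQ h7 p h2.left_ne_zero h2.1 htr.1) ?_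
    rw [← e1, ← e2]
    exact ((rad_commute hQ h5 hp hs'.1 ht'.1).map π).map _
  rcases meet_or_perp hQ h1 h2 one_ne_zero one_ne_zero hs ht hc with
    ⟨z, hz0, hz1, hz2⟩ | ⟨p1, p2, p3, p4⟩
  · have hzq := inL_sing hQ h1 hz1
    refine ⟨z, hz0, hzq, ?_⟩
    obtain ⟨a₁, -, hla, hra⟩ := h1.exists_basis hQ h7 hz1 hz0
    obtain ⟨b₁, -, hlb, hrb⟩ := h2.exists_basis hQ h7 hz2 hz0
    rw [← hra, ← hrb] at hH hnadj
    obtain ⟨g, hg⟩ := exists_pair hQ h5 hz0 hzq
    have hnorm : ∀ a₁, Line Q z a₁ → ∃ a₂, a₂ ∈ perp hQ z g ∧ Q a₂ = 0 ∧ a₂ ≠ 0 ∧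
        root Q z a₂ = root Q z a₁ := by
      intro a₁ hl
      obtain ⟨a₂, h2'⟩ : ∃ a₂, a₂ = proj Q z g a₁ := ⟨_, rfl⟩
      have e0 : a₂ = (-pol Q a₁ g) • z + (1 : F) • a₁ := by
        rw [h2', proj, Orth.pol_comm a₁ z, hl.2.2.1]
        module
      have hind : ∀ k l : F, k • z + l • a₂ = 0 → k = 0 ∧ l = 0 := fun k l e1 => by
        rw [e0] at e1
        obtain ⟨e2, e3⟩ := hl.2.2.2 (k + l * (-pol Q a₁ g)) l
          (by linear_combination (norm := module) e1)
        exact ⟨by simpa [e3] using e2, e3⟩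
      have hin : InL z a₁ a₂ := ⟨_, _, e0⟩
      exact ⟨a₂, h2' ▸ proj_mem hQ hg a₁, inL_sing hQ hl hin,
        fun e1 => one_ne_zero (hind 0 1 (by rw [e1]; simp)).2,
        root_basis hQ h7 hl (inL_left z a₁) hin hind⟩
    obtain ⟨a₂, ha₂, ha₂q, ha₂0, hra₂⟩ := hnorm a₁ hla
    obtain ⟨b₂, hb₂, hb₂q, hb₂0, hrb₂⟩ := hnorm b₁ hlb
    rw [← hra₂, ← hrb₂] at hH hnadj
    have hpol : pol Q a₂ b₂ ≠ 0 := fun e0 =>
      hnadj (adj_of_meet hQ h7 p hg ha₂ hb₂ ha₂q hb₂q e0 ha₂0 hb₂0)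
    obtain ⟨k, hk⟩ : ∃ k, k = (pol Q a₂ b₂)⁻¹ := ⟨_, rfl⟩
    have hk0 : k ≠ 0 := hk ▸ inv_ne_zero hpol
    have hp2 : Pair Q a₂ (k • b₂) :=
      ⟨ha₂q, q_smul_sing hQ hb₂q _, by rw [pol_smul_right hQ, hk, inv_mul_cancel₀ hpol]⟩
    have hrk : root Q z (k • b₂) = root Q z b₂ := by
      rw [root, root, rad_smul hQ hk0]
    rw [← hrk, hgrp_meet hQ h7 p hg ha₂ (Submodule.smul_mem _ _ hb₂) hp2] at hH
    exact hH
  · -- orthogonal disjoint lines are impossible
    by_cases hm : ∃ z, z ≠ 0 ∧ InL u v z ∧ InL x y z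
    · obtain ⟨z, hz0, hz1, hz2⟩ := hm
      obtain ⟨a₁, -, hla, hra⟩ := h1.exists_basis hQ h7 hz1 hz0
      obtain ⟨b₁, hb₁, hlb, hrb⟩ := h2.exists_basis hQ h7 hz2 hz0
      exfalso
      rw [← hra, ← hrb] at hnadj
      obtain ⟨g, hg, hga⟩ := hla.frame hQ
      obtain ⟨b₂, hb₂'⟩ : ∃ b₂, b₂ = proj Q z g b₁ := ⟨_, rfl⟩
      have e0 : b₂ = (-pol Q b₁ g) • z + (1 : F) • b₁ := by
        rw [hb₂', proj, Orth.pol_comm b₁ z, hlb.2.2.1]
        module
      have hind : ∀ k l : F, k • z + l • b₂ = 0 → k = 0 ∧ l = 0 := fun k l e1 => by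
        rw [e0] at e1
        obtain ⟨e2, e3⟩ := hlb.2.2.2 (k + l * (-pol Q b₁ g)) l
          (by linear_combination (norm := module) e1)
        exact ⟨by simpa [e3] using e2, e3⟩
      have hin : InL z b₁ b₂ := ⟨_, _, e0⟩
      rw [← root_basis hQ h7 hlb (inL_left z b₁) hin hind] at hnadj
      refine hnadj (adj_of_meet hQ h7 p hg hga (hb₂' ▸ proj_mem hQ hg b₁) hla.2.1
        (inL_sing hQ hlb hin) ?_ hla.right_ne_zero
        (fun e1 => one_ne_zero (hind 0 1 (by rw [e1]; simp)).2))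
      have ha₁ : InL u v a₁ := by
        obtain ⟨w, hw, hlw, hrw⟩ := h1.exists_basis hQ h7 hz1 hz0
        obtain ⟨s', hs'⟩ := exists_tr hQ h7 hla 1
        obtain ⟨r', hr'⟩ := (mem_root_iff' hQ h7 h1).1 (hra ▸ isTr_mem_root hQ hla hs')
        obtain ⟨z', hz1', hz2'⟩ := exists_dual_pair hQ hla
        refine ⟨-(r' * pol Q z' v), r' * pol Q z' u, ?_⟩
        have e1 := (hs' z').symm.trans (hr' z')
        rw [hz1', hz2'] at e1
        linear_combination (norm := module) e1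
      have hcross : ∀ c d, InL u v c → InL x y d → pol Q c d = 0 := by
        rintro _ _ ⟨α, α', rfl⟩ ⟨γ, γ', rfl⟩
        simp only [pol_add_left hQ, pol_add_right hQ, pol_smul_left hQ, pol_smul_right hQ,
          Orth.pol_comm u x, Orth.pol_comm u y, Orth.pol_comm v x, Orth.pol_comm v y, p1, p2, p3, p4]
        ring
      exact hcross _ _ ha₁ (e0 ▸ (hz2.smul _).add (hb₁.smul _))
    push Not at hm
    exfalso
    obtain ⟨U, hU⟩ : ∃ U, U = Submodule.span F (Set.range ![u, v, x, y]) := ⟨_, rfl⟩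
    have hmem : u ∈ U ∧ v ∈ U ∧ x ∈ U ∧ y ∈ U :=
      ⟨hU ▸ Submodule.subset_span ⟨0, rfl⟩, hU ▸ Submodule.subset_span ⟨1, rfl⟩,
        hU ▸ Submodule.subset_span ⟨2, rfl⟩, hU ▸ Submodule.subset_span ⟨3, rfl⟩⟩
    have hli : LinearIndependent F ![u, v, x, y] := by
      rw [Fintype.linearIndependent_iff]
      intro g hg
      simp only [Fin.sum_univ_four] at hg
      change g 0 • u + g 1 • v + g 2 • x + g 3 • y = 0 at hg
      by_cases hz : g 0 • u + g 1 • v = 0
      · obtain ⟨g0, g1⟩ := h1.2.2.2 _ _ hz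
        rw [hz, zero_add] at hg
        obtain ⟨g2, g3⟩ := h2.2.2.2 _ _ hg
        intro i; fin_cases i <;> assumption
      · exact absurd ⟨-(g 2), -(g 3), by linear_combination (norm := module) hg⟩
          (hm _ hz ⟨_, _, rfl⟩)
    have hsing : ∀ w ∈ U, Q w = 0 := by
      intro w hw
      rw [hU] at hw
      obtain ⟨c, rfl⟩ := (Submodule.mem_span_range_iff_exists_fun F).1 hw
      simp only [Fin.sum_univ_four]
      show Q (c 0 • u + c 1 • v + c 2 • x + c 3 • y) = 0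
      rw [show c 0 • u + c 1 • v + c 2 • x + c 3 • y = (c 0 • u + c 1 • v) + (c 2 • x + c 3 • y) by abel,
        Orth.q_add hQ, inL_sing hQ h1 ⟨_, _, rfl⟩, inL_sing hQ h2 ⟨_, _, rfl⟩]
      simp only [pol_add_left hQ, pol_add_right hQ, pol_smul_left hQ, pol_smul_right hQ,
        Orth.pol_comm u x, Orth.pol_comm u y, Orth.pol_comm v x, Orth.pol_comm v y, p1, p2, p3, p4]
      ring
    rcases hD with h9 | hW
    swap
    · have := hW U hsing
      rw [hU, finrank_span_eq_card hli, Fintype.card_fin] at this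
      omega
    have hle : (radQ Q e).map β.toMonoidHom ≤ (sgp Q U).map π := by
      rw [hH]
      refine sup_le (sup_le (Subgroup.map_mono (root_le_sgp hQ h7 h1 hmem.1 hmem.2.1))
        (Subgroup.map_mono (root_le_sgp hQ h7 h2 hmem.2.2.1 hmem.2.2.2))) (sSup_le ?_)
      rintro _ ⟨⟨u', v', h3, rfl⟩, hC1, hC2⟩
      obtain ⟨z₁, hz1, hz1', hz1''⟩ := adj_meet hQ h7 p h3 h1 hC1
      obtain ⟨z₂, hz2, hz2', hz2''⟩ := adj_meet hQ h7 p h3 h2 hC2
      have hind : ∀ k l : F, k • z₁ + l • z₂ = 0 → k = 0 ∧ l = 0 := by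
        intro k l e1
        by_cases hk : k = 0
        · rw [hk, zero_smul, zero_add, smul_eq_zero, or_iff_left hz2] at e1
          exact ⟨hk, e1⟩
        · refine absurd ?_ (hm (k • z₁) (smul_ne_zero hk hz1) (hz1''.smul k))
          rw [show k • z₁ = (-l) • z₂ by linear_combination (norm := module) e1]
          exact hz2''.smul _
      have hinU : ∀ w, InL u' v' w → w ∈ U := fun w hw => by
        obtain ⟨c, d, rfl⟩ := h3.inL_trans hz1' hz2' hind hw
        obtain ⟨α, α', rfl⟩ := hz1''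
        obtain ⟨γ, γ', rfl⟩ := hz2''
        exact U.add_mem (U.smul_mem _ (U.add_mem (U.smul_mem _ hmem.1) (U.smul_mem _ hmem.2.1)))
          (U.smul_mem _ (U.add_mem (U.smul_mem _ hmem.2.2.1) (U.smul_mem _ hmem.2.2.2)))
      exact Subgroup.map_mono
        (root_le_sgp hQ h7 h3 (hinU _ (inL_left _ _)) (hinU _ (inL_right _ _)))
    have hcard : Nat.card F ^ Module.finrank F (perp hQ e f) ≤ Nat.card F ^ 6 := by
      calc Nat.card F ^ Module.finrank F (perp hQ e f)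
          = Nat.card ((radQ Q e).map β.toMonoidHom) := by
            rw [← card_radQ hQ h7 p hp, Subgroup.card_map_of_injective (f := β.toMonoidHom) β.injective]
        _ ≤ Nat.card ((sgp Q U).map π) := Nat.card_mono (Set.toFinite _) hle
        _ ≤ Nat.card (sgp Q U) := Nat.le_of_dvd Nat.card_pos (Subgroup.card_map_dvd _ _)
        _ ≤ _ := by rw [hU] at hsing ⊢; exact card_sgp_le hQ _ hli hsing
    have h2' := finrank_perp hQ hp
    have := (Nat.pow_le_pow_iff_right (Finite.one_lt_card (α := F))).1 hcard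
    omega

end Cfsg.Agent.AutPOmega
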