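import Cfsg.Agent.Lib.AutPOmega.Lines

/-!
Root groups of `PΩ`: they are permuted by automorphisms, and adjacency recovers the radicals of the points.
-/

set_option autoImplicit false

namespace Cfsg.Agent.AutPOmega

open Matrix Cfsg.Agent.Transvec Cfsg.Agent.Transvec.Orth

variable {ι : Type} [Fintype ι] [DecidableEq ι] {F : Type*} [Field F] {Q : (ι → F) → F}

local notation "Vι" => ι → F
local notation "Om" => Cfsg.Omega F Q
local notation "POm" => Cfsg.POmega F Q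
local notation "π" => QuotientGroup.mk' (Subgroup.center (Cfsg.Omega F Q))

/-- A root group of the quotient. -/
def IsRootQ (Q : (ι → F) → F) (A : Subgroup (Cfsg.POmega F Q)) : Prop :=
  ∃ u v, Line Q u v ∧ A = (root Q u v).map (QuotientGroup.mk' (Subgroup.center (Cfsg.Omega F Q)))

/-- Adjacency of root groups. -/
def Adj (Q : (ι → F) → F) (A B : Subgroup (Cfsg.POmega F Q)) : Prop :=
  ∀ a ∈ A, ∀ b ∈ B, Commute a b ∧ ∃ C, IsRootQ Q C ∧ a * b ∈ C

/-- The group generated by two root groups and the root groups adjacent to both. -/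
def Hgrp (Q : (ι → F) → F) (A B : Subgroup (Cfsg.POmega F Q)) : Subgroup (Cfsg.POmega F Q) :=
  A ⊔ B ⊔ sSup {C | IsRootQ Q C ∧ Adj Q C A ∧ Adj Q C B}

/-- The radical of a point in the quotient. -/
def radQ (Q : (ι → F) → F) (e : Vι) : Subgroup (Cfsg.POmega F Q) :=
  (rad Q e).map (QuotientGroup.mk' (Subgroup.center (Cfsg.Omega F Q)))

theorem map_root_conj {u v : Vι} (t : Om) :
    ((root Q u v).map π).map (MulAut.conj (π t)).toMonoidHom = (root Q (act t u) (act t v)).map π := by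
  ext x
  simp only [Subgroup.mem_map]
  constructor
  · rintro ⟨-, ⟨s, hs, rfl⟩, rfl⟩
    exact ⟨t * s * t⁻¹, root_conj t hs, show π (t * s * t⁻¹) = π t * π s * (π t)⁻¹ by
      rw [map_mul, map_mul, map_inv]⟩
  · rintro ⟨s, hs, rfl⟩
    have h1 := root_conj t⁻¹ hs
    rw [act_inv_act, act_inv_act, inv_inv] at h1
    exact ⟨π (t⁻¹ * s * t), ⟨_, h1, rfl⟩,
      show π t * π (t⁻¹ * s * t) * (π t)⁻¹ = π s by
        rw [map_mul, map_mul, map_inv]; group⟩

theorem map_inf_centralizer {G : Type*} [Group G] (γ : MulAut G) (S : Subgroup G) :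
    (S ⊓ Subgroup.centralizer (S : Set G)).map γ.toMonoidHom =
      S.map γ.toMonoidHom ⊓ Subgroup.centralizer ((S.map γ.toMonoidHom : Subgroup G) : Set G) := by
  ext x
  constructor
  · rintro ⟨y, ⟨hy, hy'⟩, rfl⟩
    refine ⟨⟨y, hy, rfl⟩, Subgroup.mem_centralizer_iff.2 ?_⟩
    rintro _ ⟨z, hz, rfl⟩
    rw [← map_mul, ← map_mul, Subgroup.mem_centralizer_iff.1 hy' z hz]
  · rintro ⟨⟨y, hy, rfl⟩, h⟩
    refine ⟨y, ⟨hy, Subgroup.mem_centralizer_iff.2 fun z hz => γ.injective ?_⟩, rfl⟩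
    have := Subgroup.mem_centralizer_iff.1 h _ (Subgroup.mem_map_of_mem γ.toMonoidHom hz)
    rwa [← map_mul, ← map_mul] at this

theorem sylow_conj {G : Type*} [Group G] [Finite G] {p : ℕ} [Fact p.Prime] (S S' : Sylow p G) :
    ∃ g : G, (S' : Subgroup G) = (S : Subgroup G).map (MulAut.conj g).toMonoidHom := by
  obtain ⟨g, hg⟩ := MulAction.exists_smul_eq G S S'
  exact ⟨g, by rw [← hg]; rfl⟩

variable (hQ : Geo.IsNondegenerateQuadraticForm Q) [Finite F] (h7 : 7 ≤ Fintype.card ι)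
  (p : ℕ) [Fact p.Prime] [CharP F p]
include hQ h7 p

theorem isRootQ_map (β : MulAut POm) {A : Subgroup POm} (hA : IsRootQ Q A) :
    IsRootQ Q (A.map β.toMonoidHom) := by
  obtain ⟨u, v, hl, rfl⟩ := hA
  obtain ⟨f, hp, hv⟩ := hl.frame hQ
  obtain ⟨S, hS⟩ := exists_sylow hQ h7 p hp hv hl.2.1 hl.right_ne_zero
  obtain ⟨g, hg⟩ := sylow_conj S (S.mapSurjective (f := β.toMonoidHom) β.surjective)
  replace hg : (S : Subgroup POm).map β.toMonoidHom = _ := hg
  obtain ⟨t, rfl⟩ := QuotientGroup.mk'_surjective _ g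
  refine ⟨act t u, act t v, hl.act t, ?_⟩
  rw [← hS, map_inf_centralizer, hg, ← map_inf_centralizer, hS, map_root_conj]

theorem adj_map (β : MulAut POm) {A B : Subgroup POm} (h : Adj Q A B) :
    Adj Q (A.map β.toMonoidHom) (B.map β.toMonoidHom) := by
  rintro _ ⟨a, ha, rfl⟩ _ ⟨b, hb, rfl⟩
  obtain ⟨hc, C, hC, hab⟩ := h a ha b hb
  exact ⟨hc.map _, _, isRootQ_map hQ h7 p β hC, by
    rw [← map_mul]; exact Subgroup.mem_map_of_mem _ hab⟩

omit hQ h7 p [Finite F] [Fact (Nat.Prime p)] [CharP F p] in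
theorem map_inv_map (β : MulAut POm) (A : Subgroup POm) :
    (A.map β.toMonoidHom).map β⁻¹.toMonoidHom = A := by
  rw [Subgroup.map_map]
  convert Subgroup.map_id A
  ext x
  exact β.symm_apply_apply x

theorem adj_of_map (β : MulAut POm) {A B : Subgroup POm}
    (h : Adj Q (A.map β.toMonoidHom) (B.map β.toMonoidHom)) : Adj Q A B := by
  have := adj_map hQ h7 p β⁻¹ h
  rwa [map_inv_map, map_inv_map] at this

theorem map_hgrp_le (β : MulAut POm) (A B : Subgroup POm) :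
    (Hgrp Q A B).map β.toMonoidHom ≤ Hgrp Q (A.map β.toMonoidHom) (B.map β.toMonoidHom) := by
  rw [Subgroup.map_le_iff_le_comap, Hgrp]
  refine sup_le (sup_le ?_ ?_) (sSup_le fun C hC => ?_) <;> rw [← Subgroup.map_le_iff_le_comap]
  · exact le_sup_left.trans le_sup_left
  · exact le_sup_right.trans le_sup_left
  · refine le_trans (le_sSup ?_) le_sup_right
    exact ⟨isRootQ_map hQ h7 p β hC.1, adj_map hQ h7 p β hC.2.1, adj_map hQ h7 p β hC.2.2⟩

theorem map_hgrp (β : MulAut POm) (A B : Subgroup POm) :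
    (Hgrp Q A B).map β.toMonoidHom = Hgrp Q (A.map β.toMonoidHom) (B.map β.toMonoidHom) := by
  refine le_antisymm (map_hgrp_le hQ h7 p β A B) fun x hx => ?_
  have h1 := map_hgrp_le hQ h7 p β⁻¹ (A.map β.toMonoidHom) (B.map β.toMonoidHom)
    (Subgroup.mem_map_of_mem β⁻¹.toMonoidHom hx)
  rw [map_inv_map, map_inv_map] at h1
  exact ⟨_, h1, β.apply_symm_apply x⟩

/-- Adjacent root groups come from lines which meet. -/
theorem adj_meet {u v x y : Vι} (h1 : Line Q u v) (h2 : Line Q x y)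
    (h : Adj Q ((root Q u v).map π) ((root Q x y).map π)) :
    ∃ z, z ≠ 0 ∧ InL u v z ∧ InL x y z := by
  obtain ⟨s, hs⟩ := exists_tr hQ h7 h1 1
  obtain ⟨t, ht⟩ := exists_tr hQ h7 h2 1
  have hsr := isTr_mem_root hQ h1 hs
  have htr := isTr_mem_root hQ h2 ht
  obtain ⟨hc, C, ⟨u', v', h3, rfl⟩, hmem⟩ :=
    h _ (Subgroup.mem_map_of_mem _ hsr) _ (Subgroup.mem_map_of_mem _ htr)
  have hsp := rad_pow' hQ h7 p h1.left_ne_zero h1.1 hsr.1
  have htp := rad_pow' hQ h7 p h2.left_ne_zero h2.1 htr.1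
  have hc' : Commute s t := commute_of_mk hQ h7 p htp hc
  rcases meet_or_perp hQ h1 h2 one_ne_zero one_ne_zero hs ht hc' with hm | ⟨p1, p2, p3, p4⟩
  · exact hm
  by_contra hm
  push Not at hm
  obtain ⟨w, hw, e⟩ := hmem
  rw [← map_mul] at e
  have hwst : w = s * t := eq_of_mk_eq hQ h7 p (rad_pow' hQ h7 p h3.left_ne_zero h3.1 hw.1)
    (show (s * t) ^ p ^ 1 = 1 by rw [hc'.mul_pow, hsp, htp, one_mul]) e
  obtain ⟨k, hk⟩ := (mem_root_iff' hQ h7 h3).1 hw
  have hform : ∀ z, InL u' v' ((pol Q z u • v - pol Q z v • u) + (pol Q z x • y - pol Q z y • x)) := by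
    intro z
    have e1 := hk z
    rw [hwst, act_mul, ht z, one_smul, hs, one_smul, pol_add_left hQ, pol_add_left hQ,
      pol_sub_left hQ, pol_sub_left hQ, pol_smul_left hQ, pol_smul_left hQ, pol_smul_left hQ,
      pol_smul_left hQ, p1, p2, p3, p4] at e1
    exact ⟨-(k * pol Q z v'), k * pol Q z u', by linear_combination (norm := module) e1⟩
  -- vectors of the first line
  have hin : ∀ a b : Vι, InL u v a → InL u v b → (∀ k l : F, k • a + l • b = 0 → k = 0 ∧ l = 0) →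
      (∀ z, pol Q z a = 0 → pol Q z x = 0 → pol Q z y = 0 → InL u' v' (pol Q z b • a)) →
      InL u' v' a := by
    intro a b ha hb hind hz
    obtain ⟨φ, hφ, hφ'⟩ := exists_dual (W := Submodule.span F ({a, x, y} : Set Vι)) (u := b) fun hmb => by
      obtain ⟨c, z, hz', e⟩ := Submodule.mem_span_insert.1 hmb
      obtain ⟨d, d', e'⟩ := Submodule.mem_span_pair.1 hz'
      refine hm z (fun e0 => ?_) ?_ ⟨d, d', e'.symm⟩
      · rw [e0, add_zero] at e
        exact one_ne_zero (hind (-c) 1 (by rw [e]; module)).2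
      · rw [show z = b + (-c) • a by rw [e]; module]
        exact hb.add (ha.smul _)
    obtain ⟨z, -, hz'⟩ := Orth.exists_rep hQ (nondeg_top hQ) φ
    have hpol : ∀ t, pol Q z t = φ t := fun t => by rw [hz' t Submodule.mem_top, Orth.pol_comm]
    have := hz z (by rw [hpol, hφ _ (Submodule.subset_span (by simp))])
      (by rw [hpol, hφ _ (Submodule.subset_span (by simp))])
      (by rw [hpol, hφ _ (Submodule.subset_span (by simp))])
    rwa [hpol, hφ', one_smul] at this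
  have hu : InL u' v' u := hin u v (inL_left u v) (inL_right u v) h1.2.2.2 fun z e1 e2 e3 => by
    have := (hform z).smul (-1)
    rw [e1, e2, e3] at this
    simpa using this
  have hv : InL u' v' v := hin v u (inL_right u v) (inL_left u v) h1.symm.2.2.2 fun z e1 e2 e3 => by
    have := hform z
    rw [e1, e2, e3] at this
    simpa using this
  have hux : InL u' v' x := by
    obtain ⟨φ, hφ, hφ'⟩ := exists_dual (W := Submodule.span F ({x, u, v} : Set Vι)) (u := y) fun hmy => by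
      obtain ⟨c, z, hz', e⟩ := Submodule.mem_span_insert.1 hmy
      obtain ⟨d, d', e'⟩ := Submodule.mem_span_pair.1 hz'
      refine hm z (fun e0 => ?_) ⟨d, d', e'.symm⟩ ?_
      · rw [e0, add_zero] at e
        exact one_ne_zero (h2.2.2.2 (-c) 1 (by rw [e]; module)).2
      · rw [show z = y + (-c) • x by rw [e]; module]
        exact (inL_right x y).add ((inL_left x y).smul _)
    obtain ⟨z, -, hz'⟩ := Orth.exists_rep hQ (nondeg_top hQ) φ
    have hpol : ∀ t, pol Q z t = φ t := fun t => by rw [hz' t Submodule.mem_top, Orth.pol_comm]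
    have := (hform z).smul (-1)
    rw [hpol u, hpol v, hpol x, hpol y, hφ', hφ _ (Submodule.subset_span (by simp)),
      hφ _ (Submodule.subset_span (by simp)), hφ _ (Submodule.subset_span (by simp))] at this
    simpa using this
  exact hm x h2.left_ne_zero (h3.inL_trans hu hv h1.2.2.2 hux) (inL_left x y)

/-- Lines through a point with orthogonal second vectors give adjacent groups. -/
theorem adj_of_meet {e f a b : Vι} (hp : Pair Q e f) (ha : a ∈ perp hQ e f) (hb : b ∈ perp hQ e f)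
    (haq : Q a = 0) (hbq : Q b = 0) (hab : pol Q a b = 0) (ha0 : a ≠ 0) (hb0 : b ≠ 0) :
    Adj Q ((root Q e a).map π) ((root Q e b).map π) := by
  have h5 := h5' hQ h7
  rintro _ ⟨s, hs, rfl⟩ _ ⟨t, ht, rfl⟩
  refine ⟨(rad_commute hQ h5 hp hs.1 ht.1).map _, ?_⟩
  obtain ⟨-, r, hr⟩ := (mem_root_iff hQ h5 hp ha haq ha0).1 hs
  obtain ⟨-, r', hr'⟩ := (mem_root_iff hQ h5 hp hb hbq hb0).1 ht
  have hst : s * t ∈ rad Q e := mul_mem hs.1 ht.1
  have hw : wt e f (s * t) = r • a + r' • b := by rw [wt_mul hQ h5 hp hs.1 ht.1, hr, hr']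
  by_cases h0 : r • a + r' • b = 0
  · rw [h0, ← wt_one hQ hp] at hw
    rw [← map_mul, wt_inj hQ h5 hp hst (one_mem _) hw, map_one]
    exact ⟨_, ⟨_, _, Line.of_frame hQ hp ha haq ha0, rfl⟩, one_mem _⟩
  have hm : r • a + r' • b ∈ perp hQ e f :=
    add_mem (Submodule.smul_mem _ _ ha) (Submodule.smul_mem _ _ hb)
  have hq : Q (r • a + r' • b) = 0 := by
    rw [Orth.q_add hQ, q_smul_sing hQ haq, q_smul_sing hQ hbq, pol_smul_left hQ, pol_smul_right hQ, hab]
    ring
  refine ⟨_, ⟨_, _, Line.of_frame hQ hp hm hq h0, rfl⟩, ?_⟩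
  rw [← map_mul]
  exact Subgroup.mem_map_of_mem _
    ((mem_root_iff hQ h5 hp hm hq h0).2 ⟨hst, 1, by rw [hw, one_smul]⟩)

/-- Lines through a point with second vectors forming a pair give groups which are not adjacent. -/
theorem not_adj {e f a b : Vι} (hp : Pair Q e f) (ha : a ∈ perp hQ e f) (hb : b ∈ perp hQ e f)
    (hab : Pair Q a b) : ¬ Adj Q ((root Q e a).map π) ((root Q e b).map π) := by
  intro h
  have h5 := h5' hQ h7
  have he0 := Pair.ne_zero hQ hp
  obtain ⟨s, hs, -, hsw, -⟩ := exists_wt hQ h5 hp ha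
  obtain ⟨t, ht, -, htw, -⟩ := exists_wt hQ h5 hp hb
  have hsr := (mem_root_iff hQ h5 hp ha hab.1 (Pair.ne_zero hQ hab)).2 ⟨hs, 1, by rw [hsw, one_smul]⟩
  have htr := (mem_root_iff hQ h5 hp hb hab.2.1 (Pair.ne_zero hQ hab.symm)).2
    ⟨ht, 1, by rw [htw, one_smul]⟩
  obtain ⟨-, C, ⟨u', v', h3, rfl⟩, w, hw, e1⟩ :=
    h _ (Subgroup.mem_map_of_mem _ hsr) _ (Subgroup.mem_map_of_mem _ htr)
  rw [← map_mul] at e1
  have hwst : w = s * t := eq_of_mk_eq hQ h7 p (rad_pow' hQ h7 p h3.left_ne_zero h3.1 hw.1)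
    (rad_pow' hQ h7 p he0 hp.1 (mul_mem hs ht)) e1
  obtain ⟨k, hk⟩ := (mem_root_iff' hQ h7 h3).1 hw
  obtain ⟨-, hf⟩ := isSiegel_wt hQ h5 hp (mul_mem hs ht)
  rw [wt_mul hQ h5 hp hs ht, hsw, htw, ← hwst, hk f] at hf
  have hq : Q ((-Q (a + b)) • e + (a + b)) = 0 := by
    refine inL_sing hQ h3 ⟨-(k * pol Q f v'), k * pol Q f u', ?_⟩
    linear_combination (norm := module) -hf
  rw [Orth.q_add hQ, q_smul_sing hQ hp.1, pol_smul_left hQ, pol_add_right hQ, perp_mem_pol hQ ha,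
    perp_mem_pol hQ hb, Orth.q_add hQ a b, hab.1, hab.2.1, hab.2.2] at hq
  simp at hq

/-- The group generated around two non-adjacent lines through a point. -/
theorem hgrp_meet {e f a b : Vι} (hp : Pair Q e f) (ha : a ∈ perp hQ e f) (hb : b ∈ perp hQ e f)
    (hab : Pair Q a b) : Hgrp Q ((root Q e a).map π) ((root Q e b).map π) = radQ Q e := by
  have h5 := h5' hQ h7
  have ha0 := Pair.ne_zero hQ hab
  have hb0 := Pair.ne_zero hQ hab.symm
  have hL1 := Line.of_frame hQ hp ha hab.1 ha0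
  have hL2 := Line.of_frame hQ hp hb hab.2.1 hb0
  refine le_antisymm (sup_le (sup_le (Subgroup.map_mono inf_le_left) (Subgroup.map_mono inf_le_left))
    (sSup_le ?_)) ?_
  · rintro _ ⟨⟨u, v, h3, rfl⟩, hA, hB⟩
    obtain ⟨z₁, hz1, hz1', α, α', rfl⟩ := adj_meet hQ h7 p h3 hL1 hA
    obtain ⟨z₂, hz2, hz2', γ, γ', rfl⟩ := adj_meet hQ h7 p h3 hL2 hB
    have h0 := inL_orth hQ h3 hz1' hz2'
    simp only [pol_add_left hQ, pol_add_right hQ, pol_smul_left hQ, pol_smul_right hQ,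
      pol_self_sing hQ hp.1, perp_mem_pol hQ hb, hab.2.2, Orth.pol_comm a e, perp_mem_pol hQ ha,
      mul_zero, add_zero, zero_add, mul_one, mul_eq_zero] at h0
    refine Subgroup.map_mono (root_le_rad hQ h7 h3 ?_ (Pair.ne_zero hQ hp))
    rcases h0 with rfl | rfl
    · rw [zero_smul, add_zero] at hz1 hz1'
      have hα : α ≠ 0 := fun e0 => hz1 (by rw [e0, zero_smul])
      simpa [smul_smul, inv_mul_cancel₀ hα] using hz1'.smul α⁻¹
    · rw [zero_smul, add_zero] at hz2 hz2'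
      have hγ : γ ≠ 0 := fun e0 => hz2 (by rw [e0, zero_smul])
      simpa [smul_smul, inv_mul_cancel₀ hγ] using hz2'.smul γ⁻¹
  obtain ⟨H, hH⟩ : ∃ H, H = Hgrp Q ((root Q e a).map π) ((root Q e b).map π) := ⟨_, rfl⟩
  let P : Vι → Prop := fun x => x ∈ perp hQ e f ∧ ∀ (r : F) (s : Om), s ∈ rad Q e →
    wt e f s = r • x → π s ∈ H
  have hAH : ((root Q e a).map π) ≤ H := hH ▸ le_sup_left.trans le_sup_left
  have hBH : ((root Q e b).map π) ≤ H := hH ▸ le_sup_right.trans le_sup_left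
  have hPa : P a := ⟨ha, fun r s hs hw => hAH (Subgroup.mem_map_of_mem _
    ((mem_root_iff hQ h5 hp ha hab.1 ha0).2 ⟨hs, r, hw⟩))⟩
  have hPb : P b := ⟨hb, fun r s hs hw => hBH (Subgroup.mem_map_of_mem _
    ((mem_root_iff hQ h5 hp hb hab.2.1 hb0).2 ⟨hs, r, hw⟩))⟩
  have hPadd : ∀ x y, P x → P y → P (x + y) := by
    rintro x y ⟨hx, hx'⟩ ⟨hy, hy'⟩
    refine ⟨add_mem hx hy, fun r s hs hw => ?_⟩
    obtain ⟨t, ht, -, htw, -⟩ := exists_wt hQ h5 hp (Submodule.smul_mem _ r hx)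
    obtain ⟨u, hu, -, huw, -⟩ := exists_wt hQ h5 hp (Submodule.smul_mem _ r hy)
    have e1 : s = t * u := wt_inj hQ h5 hp hs (mul_mem ht hu)
      (by rw [wt_mul hQ h5 hp ht hu, hw, htw, huw, smul_add])
    rw [e1, map_mul]
    exact mul_mem (hx' r t ht htw) (hy' r u hu huw)
  have hPsmul : ∀ (c : F) x, P x → P (c • x) := fun c x hx =>
    ⟨Submodule.smul_mem _ c hx.1, fun r s hs hw => hx.2 (r * c) s hs (by rw [hw, smul_smul])⟩
  have hPzero : P 0 := ⟨zero_mem _, fun r s hs hw => by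
    rw [wt_inj hQ h5 hp hs (one_mem _) (by rw [hw, smul_zero, wt_one hQ hp]), map_one]
    exact one_mem _⟩
  have hW : ∀ x ∈ perp hQ e f ⊓ perp hQ a b, Q x = 0 → P x := by
    intro x hx hxq
    rcases eq_or_ne x 0 with rfl | hx0
    · exact hPzero
    have hC : ((root Q e x).map π) ∈ {C | IsRootQ Q C ∧ Adj Q C ((root Q e a).map π) ∧
        Adj Q C ((root Q e b).map π)} :=
      ⟨⟨e, x, Line.of_frame hQ hp hx.1 hxq hx0, rfl⟩,
        adj_of_meet hQ h7 p hp hx.1 ha hxq hab.1 hx.2.1 hx0 ha0,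
        adj_of_meet hQ h7 p hp hx.1 hb hxq hab.2.1 hx.2.2 hx0 hb0⟩
    refine ⟨hx.1, fun r s hs hw => ?_⟩
    rw [hH]
    exact Subgroup.mem_sup_right (Subgroup.mem_sSup_of_mem hC
      (Subgroup.mem_map_of_mem _ ((mem_root_iff hQ h5 hp hx.1 hxq hx0).2 ⟨hs, r, hw⟩)))
  obtain ⟨hn2, hr2⟩ := nondeg_pair hQ hab.1 hab.2.1 hab.2.2
  have hsub : Submodule.span F ({a, b} : Set Vι) ≤ perp hQ e f :=
    Submodule.span_le.2 (by rintro _ (rfl | rfl); exacts [ha, hb])
  have hZ := nondeg_inf_orth hQ hn2 (perp_nondeg' hQ hp) hsub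
  have hd := finrank_inf_orth_add hQ hn2 hsub
  rw [← perp_eq hQ] at hZ hd
  have h2 := finrank_perp hQ hp
  obtain ⟨a', ha', ha'0, ha'q⟩ := exists_singular hQ (X := perp hQ e f ⊓ perp hQ a b) (by omega)
  obtain ⟨b', hb', hb'q, hab'⟩ := Orth.exists_partner hQ hZ ha' ha'0 ha'q
  have hall : ∀ x ∈ perp hQ e f, P x := by
    intro x hx
    have hproj : proj Q a b x ∈ perp hQ e f ⊓ perp hQ a b :=
      ⟨sub_mem (sub_mem hx (Submodule.smul_mem _ _ ha)) (Submodule.smul_mem _ _ hb),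
        proj_mem hQ hab x⟩
    have h1 : P (proj Q a b x) := by
      have hspan := span_singular hQ (show Pair Q a' b' from ⟨ha'q, hb'q, hab'⟩) ha' hb' hproj
      refine Submodule.span_induction ?_ hPzero ?_ ?_ hspan
      · exact fun y hy => hW y hy.1 hy.2
      · exact fun y z _ _ hy hz => hPadd y z hy hz
      · exact fun c y _ hy => hPsmul c y hy
    rw [decomp hQ a b x]
    exact hPadd _ _ (hPadd _ _ (hPsmul _ _ hPa) (hPsmul _ _ hPb)) h1
  rintro _ ⟨s, hs, rfl⟩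
  rw [← hH]
  exact (hall _ (wt_mem hQ hp s)).2 1 s hs (one_smul F _).symm

end Cfsg.Agent.AutPOmega
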