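import Cfsg.Agent.Lib.AutPOmega.Frame

/-!
Scalars, lifting of `p`-subgroups and the centres of the Sylow subgroups of `PΩ`: the root groups.
-/

set_option autoImplicit false

namespace Cfsg.Agent.AutPOmega

open Matrix Cfsg.Agent.Transvec Cfsg.Agent.Transvec.Orth

variable {ι : Type} [Fintype ι] [DecidableEq ι] {F : Type*} [Field F] {Q : (ι → F) → F}

local notation "Vι" => ι → F
local notation "Om" => Cfsg.Omega F Q
local notation "POm" => Cfsg.POmega F Q
local notation "π" => QuotientGroup.mk' (Subgroup.center (Cfsg.Omega F Q))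

variable (hQ : Geo.IsNondegenerateQuadraticForm Q)
include hQ

theorem exists_perp_pair [Finite F] (h7 : 7 ≤ Fintype.card ι) {e f : Vι} (hp : Pair Q e f) :
    ∃ a b, Pair Q a b ∧ a ∈ perp hQ e f ∧ b ∈ perp hQ e f := by
  have h3 := finrank_perp hQ hp
  obtain ⟨a, ha, ha0, haq⟩ := exists_singular hQ (X := perp hQ e f) (by omega)
  obtain ⟨b, hb, hbq, hab⟩ := Orth.exists_partner hQ (perp_nondeg' hQ hp) ha ha0 haq
  exact ⟨a, b, ⟨haq, hbq, hab⟩, ha, hb⟩

/-- A subspace containing a hyperbolic pair is spanned by its singular vectors. -/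
theorem span_singular {X : Submodule F Vι} {a b : Vι} (hp : Pair Q a b) (ha : a ∈ X) (hb : b ∈ X)
    {x : Vι} (hx : x ∈ X) : x ∈ Submodule.span F {v | v ∈ X ∧ Q v = 0} := by
  obtain ⟨S, hS⟩ : ∃ S, S = Submodule.span F {v | v ∈ X ∧ Q v = 0} := ⟨_, rfl⟩
  rw [← hS]
  have hmem : ∀ v ∈ X, Q v = 0 → v ∈ S := fun v h1 h2 => hS ▸ Submodule.subset_span ⟨h1, h2⟩
  have haS := hmem a ha hp.1
  have hbS := hmem b hb hp.2.1
  obtain ⟨w, hw⟩ : ∃ w, w = proj Q a b x := ⟨_, rfl⟩
  have hwX : w ∈ X := hw ▸ X.sub_mem (X.sub_mem hx (X.smul_mem _ ha)) (X.smul_mem _ hb)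
  have hwm : w ∈ perp hQ a b := hw ▸ proj_mem hQ hp x
  have hz : w + a + (-Q w) • b ∈ S := hmem _ (X.add_mem (X.add_mem hwX ha) (X.smul_mem _ hb)) (by
    rw [Orth.q_add hQ, Orth.q_add hQ, q_smul_sing hQ hp.2.1, hp.1, pol_add_left hQ, pol_smul_right hQ,
      pol_smul_right hQ, hwm.1, hwm.2, hp.2.2]
    ring)
  have hwS : w ∈ S := by
    have e : w = (w + a + (-Q w) • b) - a - (-Q w) • b := by abel
    rw [e]
    exact S.sub_mem (S.sub_mem hz haS) (S.smul_mem (-Q w) hbS)
  rw [decomp hQ a b x, ← hw]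
  exact S.add_mem (S.add_mem (S.smul_mem _ haS) (S.smul_mem _ hbS)) hwS

variable [Finite F] (h7 : 7 ≤ Fintype.card ι)
include h7

/-- An additive map sending each singular vector to a multiple of itself has one multiplier. -/
theorem exists_scalar (ψ : Vι → Vι) (hadd : ∀ x y, ψ (x + y) = ψ x + ψ y)
    (hline : ∀ x, x ≠ 0 → Q x = 0 → ∃ a : F, ψ x = a • x) :
    ∃ c : F, ∀ x, Q x = 0 → ψ x = c • x := by
  have h0 : ψ 0 = 0 := by simpa using hadd 0 0
  choose! a ha using hline
  have horth : ∀ x y, x ≠ 0 → y ≠ 0 → Q x = 0 → Q y = 0 → pol Q x y = 0 → (∀ k : F, y ≠ k • x) →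
      a x = a y := by
    intro x y hx0 hy0 hx hy hxy hind
    have hxy0 : x + y ≠ 0 := fun e => hind (-1) (by rw [neg_one_smul]; exact eq_neg_of_add_eq_zero_right e)
    have e := hadd x y
    rw [ha _ hxy0 (by rw [Orth.q_add hQ, hx, hy, hxy]; ring), ha x hx0 hx, ha y hy0 hy, smul_add] at e
    have e2 : (a (x + y) - a x) • x = (a y - a (x + y)) • y := by
      linear_combination (norm := module) e
    by_cases hab : a y - a (x + y) = 0
    · rw [hab, zero_smul, smul_eq_zero, or_iff_left hx0, sub_eq_zero] at e2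
      rw [← e2, sub_eq_zero.1 hab]
    · exact absurd (by rw [mul_smul, e2, inv_smul_smul₀ hab] :
        y = ((a y - a (x + y))⁻¹ * (a (x + y) - a x)) • x) (hind _)
  have hall : ∀ x y, x ≠ 0 → y ≠ 0 → Q x = 0 → Q y = 0 → a x = a y := by
    intro x y hx0 hy0 hx hy
    obtain ⟨f, hf, z, hz, hz0, hzq, hzy⟩ : ∃ f, Pair Q x f ∧ ∃ z ∈ perp hQ x f, z ≠ 0 ∧ Q z = 0 ∧
        pol Q y z = 0 := by
      obtain ⟨f, hf⟩ := exists_pair hQ (by omega) hx0 hx
      have hd := finrank_perp hQ hf
      obtain ⟨z, hz, hz0, hzq⟩ := exists_singular hQ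
        (X := perp hQ x f ⊓ LinearMap.ker (formQ hQ y)) (by
          have h1 := Submodule.finrank_sup_add_finrank_inf_eq (perp hQ x f) (LinearMap.ker (formQ hQ y))
          have h2 := LinearMap.finrank_range_add_finrank_ker (formQ hQ y)
          have h4 := Submodule.finrank_le (LinearMap.range (formQ hQ y))
          have h5 := Submodule.finrank_le (perp hQ x f ⊔ LinearMap.ker (formQ hQ y))
          rw [Module.finrank_self] at h4
          rw [Module.finrank_pi] at h2 h5
          omega)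
      exact ⟨f, hf, z, hz.1, hz0, hzq, by
        rw [Orth.pol_comm]; exact LinearMap.mem_ker.1 hz.2⟩
    have hzx : ∀ k : F, z ≠ k • x := fun k e => by
      have := hz.2
      rw [e, pol_smul_left hQ, hf.2.2, mul_one] at this
      rw [this, zero_smul] at e
      exact hz0 e
    rw [horth x z hx0 hz0 hx hzq (by rw [Orth.pol_comm]; exact hz.1) hzx]
    by_cases hdep : ∃ k : F, z = k • y
    · obtain ⟨k, hk⟩ := hdep
      have hyx : pol Q x y = 0 := by
        have h1 := hz.1
        have hk0 : k ≠ 0 := fun e => hz0 (by rw [hk, e, zero_smul])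
        rw [hk, pol_smul_left hQ, mul_eq_zero, or_iff_right hk0] at h1
        rw [Orth.pol_comm]; exact h1
      have hyk : ∀ l : F, y ≠ l • x := fun l e => hzx (k * l) (by rw [hk, e, smul_smul])
      rw [← horth x z hx0 hz0 hx hzq (by rw [Orth.pol_comm]; exact hz.1) hzx]
      exact horth x y hx0 hy0 hx hy hyx hyk
    · push Not at hdep
      exact (horth y z hy0 hz0 hy hzq hzy hdep).symm
  by_cases hne : ∃ x, x ≠ 0 ∧ Q x = 0
  · obtain ⟨x₀, hx₀, hx₀q⟩ := hne
    refine ⟨a x₀, fun x hx => ?_⟩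
    rcases eq_or_ne x 0 with rfl | hx0
    · rw [h0, smul_zero]
    rw [ha x hx0 hx, hall x x₀ hx0 hx₀ hx hx₀q]
  · push Not at hne
    refine ⟨0, fun x hx => ?_⟩
    by_cases hx0 : x = 0
    · rw [hx0, h0, smul_zero]
    · exact absurd hx (hne x hx0)

omit [Finite F] in
theorem h5' : 5 ≤ Fintype.card ι := by omega

theorem exists_sing : ∃ e f : Vι, Pair Q e f := by
  obtain ⟨e, -, he0, he⟩ := exists_singular hQ (X := (⊤ : Submodule F Vι))
    (by rw [finrank_top, Module.finrank_pi]; omega)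
  obtain ⟨f, hf⟩ := exists_pair hQ (by omega) he0 he
  exact ⟨e, f, hf⟩

/-- A scalar agreement on singular vectors holds everywhere. -/
theorem eq_of_singular {φ ψ : Vι →ₗ[F] Vι} (h : ∀ x, Q x = 0 → φ x = ψ x) : φ = ψ := by
  obtain ⟨e, f, hp⟩ := exists_sing hQ h7
  refine LinearMap.ext fun x => ?_
  have hx := span_singular hQ hp (X := ⊤) Submodule.mem_top Submodule.mem_top (x := x) Submodule.mem_top
  exact LinearMap.eqOn_span (fun v hv => h v hv.2) hx

theorem scalar_of_line (s : Om) (hline : ∀ x, x ≠ 0 → Q x = 0 → ∃ a : F, act s x = a • x) :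
    ∃ c : F, ∀ x, act s x = c • x := by
  obtain ⟨c, hc⟩ := exists_scalar hQ h7 (fun x => act s x) (act_add s) hline
  refine ⟨c, fun x => ?_⟩
  exact LinearMap.congr_fun (eq_of_singular hQ h7 (φ := mvLin (gl s)) (ψ := c • LinearMap.id)
    (fun v hv => by simpa [mvLin, act, mv] using hc v hv)) x

/-- The fixed vectors of a radical. -/
theorem fixed_rad {e f : Vι} (hp : Pair Q e f) {x : Vι} (hx : ∀ s ∈ rad Q e, act s x = x) :
    ∃ a : F, x = a • e := by
  have h5 := h5' hQ h7
  obtain ⟨a, b, hab, ha, hb⟩ := exists_perp_pair hQ h7 hp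
  have key : ∀ v ∈ perp hQ e f,
      pol Q x e • v - (pol Q x v + Q v * pol Q x e) • e = 0 := by
    intro v hv
    obtain ⟨s, hs, hS, -, -⟩ := exists_wt hQ h5 hp hv
    have := hx s hs
    rw [show act s x = mv (gl s) x from rfl, hS] at this
    rwa [add_sub_assoc, add_eq_left] at this
  have hxe : pol Q x e = 0 := by
    have e1 := congrArg (fun z => pol Q z b) (key a ha)
    simp only [pol_sub_left hQ, pol_smul_left hQ, pol_zero_left hQ, hab.2.2,
      perp_mem_pol hQ hb] at e1
    linear_combination e1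
  have hP : proj Q e f x = 0 := perp_nondeg hQ hp (proj_mem hQ hp x) fun v hv => by
    have e1 := key v hv
    rw [hxe, mul_zero, add_zero, zero_smul, zero_sub, neg_eq_zero, smul_eq_zero,
      or_iff_left (Pair.ne_zero hQ hp)] at e1
    rw [pol_decomp hQ hp x v, hxe, hv.1, hv.2, proj_of_mem hQ hv] at e1
    linear_combination e1
  refine ⟨pol Q x f, ?_⟩
  conv_lhs => rw [decomp hQ e f x, hxe, hP, zero_smul, add_zero, add_zero]

theorem mem_center_iff (s : Om) :
    s ∈ Subgroup.center Om ↔ ∃ c : F, ∀ x, act s x = c • x := by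
  constructor
  · intro hs
    refine scalar_of_line hQ h7 s fun x hx0 hx => ?_
    obtain ⟨f, hf⟩ := exists_pair hQ (h5' hQ h7) hx0 hx
    refine fixed_rad hQ h7 hf fun t ht => ?_
    rw [← act_mul, Subgroup.mem_center_iff.1 hs t, act_mul, ht.1]
  · rintro ⟨c, hc⟩
    exact Subgroup.mem_center_iff.2 fun t => ext_act fun x => by
      rw [act_mul, act_mul, hc, hc, act_smul]

omit h7 [Finite F] hQ in
theorem act_pow_scalar {s : Om} {c : F} (hc : ∀ x, act s x = c • x) (k : ℕ) (x : Vι) :
    act (s ^ k) x = c ^ k • x := by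
  induction k with
  | zero => rw [pow_zero, act_one, pow_zero, one_smul]
  | succ k ih => rw [pow_succ', act_mul, ih, hc, smul_smul, mul_comm, pow_succ]

variable (p : ℕ) [Fact p.Prime] [CharP F p]
include p

theorem eq_one_of_central {z : Om} (hz : z ∈ Subgroup.center Om) {T : ℕ} (hpow : z ^ p ^ T = 1) :
    z = 1 := by
  obtain ⟨c, hc⟩ := (mem_center_iff hQ h7 z).1 hz
  refine ext_act fun x => ?_
  rcases eq_or_ne x 0 with rfl | hx
  · rw [act_zero, act_zero]
  have h1 := act_pow_scalar hc (p ^ T) x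
  rw [hpow, act_one] at h1
  have h2 : c ^ p ^ T = 1 := smul_left_injective F hx (by simpa using h1.symm)
  have hc1 : c = 1 := sub_eq_zero.1 (eq_zero_of_pow_eq_zero
    (show (c - 1) ^ p ^ T = 0 by rw [sub_pow_char_pow, h2, one_pow, sub_self]))
  rw [hc, hc1, one_smul, act_one]

/-- `p`-elements with the same class are equal. -/
theorem eq_of_mk_eq {u v : Om} {a b : ℕ} (hu : u ^ p ^ a = 1)
    (hv : v ^ p ^ b = 1) (e : π u = π v) : u = v := by
  have hz : u⁻¹ * v ∈ Subgroup.center Om := QuotientGroup.eq.1 e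
  have hcomm : u * (u⁻¹ * v) = u⁻¹ * v * u := Subgroup.mem_center_iff.1 hz u
  have h1 : Commute u v := by
    show u * v = v * u
    calc u * v = u * (u * (u⁻¹ * v)) := by group
      _ = u * (u⁻¹ * v * u) := by rw [hcomm]
      _ = v * u := by group
  refine inv_mul_eq_one.1 (eq_one_of_central hQ h7 p hz (T := a + b) ?_)
  rw [h1.inv_left.mul_pow, inv_pow, pow_add, pow_mul, hu, one_pow, inv_one, one_mul, mul_comm, pow_mul,
    hv, one_pow]

theorem commute_of_mk {u t : Om} {k : ℕ} (hu : u ^ p ^ k = 1) (e : Commute (π t) (π u)) :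
    Commute t u := by
  have h1 : π (t * u * t⁻¹) = π u := by rw [map_mul, map_mul, map_inv, e.eq, mul_inv_cancel_right]
  exact mul_inv_eq_iff_eq_mul.1 (eq_of_mk_eq hQ h7 p
    (show (t * u * t⁻¹) ^ p ^ k = 1 by rw [conj_pow, hu, mul_one, mul_inv_cancel]) hu h1)

omit [CharP F p] hQ h7 in
/-- `p`-subgroups of the quotient lift. -/
theorem exists_lift (H : Subgroup POm) (hH : IsPGroup p H) :
    ∃ K : Subgroup Om, IsPGroup p K ∧ K.map π = H := by
  obtain ⟨C', hC⟩ : ∃ C' : Subgroup Om, C' = H.comap π := ⟨_, rfl⟩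
  have hle : ∀ x : C', π (x : Om) ∈ H := fun x => Subgroup.mem_comap.1 (by rw [← hC]; exact x.2)
  let f : C' →* H := ((π).comp C'.subtype).codRestrict H hle
  have hf : Function.Surjective f := by
    rintro ⟨y, hy⟩
    obtain ⟨x, rfl⟩ := QuotientGroup.mk'_surjective (Subgroup.center Om) y
    exact ⟨⟨x, hC ▸ Subgroup.mem_comap.2 hy⟩, rfl⟩
  obtain ⟨P⟩ : Nonempty (Sylow p C') := Sylow.nonempty
  have hidx : ((P : Subgroup C').map f).index = 1 := by
    have h1 : ¬ p ∣ ((P : Subgroup C').map f).index := fun hd =>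
      P.not_dvd_index (hd.trans ((P : Subgroup C').index_map_dvd hf))
    obtain ⟨k, hk⟩ := hH.index ((P : Subgroup C').map f)
    rcases k with _ | k
    · simpa using hk
    · exact absurd (hk ▸ dvd_pow_self p k.succ_ne_zero) h1
  rw [Subgroup.index_eq_one] at hidx
  refine ⟨(P : Subgroup C').map C'.subtype, P.isPGroup'.map _, ?_⟩
  rw [Subgroup.map_map]
  have hcomp : (π).comp C'.subtype = H.subtype.comp f := rfl
  rw [hcomp, ← Subgroup.map_map, hidx, ← MonoidHom.range_eq_map, Subgroup.range_subtype]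

theorem rad_pow' {e : Vι} (he0 : e ≠ 0) (he : Q e = 0) {s : Om} (hs : s ∈ rad Q e) :
    s ^ p ^ 1 = 1 := by
  obtain ⟨f, hf⟩ := exists_pair hQ (h5' hQ h7) he0 he
  rw [pow_one]
  exact rad_pow hQ (h5' hQ h7) hf p hs

set_option synthInstance.maxHeartbeats 200000 in
set_option maxHeartbeats 1000000 in
/-- The centre of a suitable Sylow subgroup is a root group. -/
theorem exists_sylow {e f v : Vι} (hp : Pair Q e f) (hv : v ∈ perp hQ e f) (hvq : Q v = 0) (hv0 : v ≠ 0) :
    ∃ S : Sylow p POm, (S : Subgroup POm) ⊓ Subgroup.centralizer ((S : Subgroup POm) : Set POm) =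
      (root Q e v).map π := by
  have h5 := h5' hQ h7
  have he0 := Pair.ne_zero hQ hp
  let st : Subgroup Om :=
    { carrier := {s | act s e = e}
      one_mem' := act_one e
      mul_mem' := fun {a b} (ha : act a e = e) (hb : act b e = e) =>
        show act (a * b) e = e by rw [act_mul, hb, ha]
      inv_mem' := fun {a} (ha : act a e = e) => show act a⁻¹ e = e by
        conv_lhs => rw [← ha]
        exact act_inv_act a e }
  obtain ⟨N, hN⟩ : ∃ N, N = rad Q v ⊓ st := ⟨_, rfl⟩
  have hpgrp : IsPGroup p (N ⊔ rad Q e : Subgroup Om) := by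
    refine IsPGroup.to_sup_of_normal_right' (fun s => ⟨1, Subtype.ext ?_⟩) (fun s => ⟨1, Subtype.ext ?_⟩) ?_
    · exact rad_pow' hQ h7 p hv0 hvq (hN.le s.2).1
    · exact rad_pow' hQ h7 p he0 hp.1 s.2
    · intro s hs
      have hse : act s e = e := (hN.le hs).2
      refine Subgroup.mem_normalizer_iff.2 fun u => ⟨fun hu => ?_, fun hu => ?_⟩
      · have := rad_conj s hu
        rwa [hse] at this
      · have h1 := rad_conj s⁻¹ hu
        rw [show act s⁻¹ e = e from st.inv_mem hse] at h1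
        simpa [mul_assoc] using h1
  obtain ⟨S, hS⟩ := (hpgrp.map π).exists_le_sylow
  obtain ⟨K, hK, hKS⟩ := exists_lift p (S : Subgroup POm) S.isPGroup'
  have hmemK : ∀ u : Om, u ∈ N ⊔ rad Q e → u ∈ K := fun u hu => by
    obtain ⟨t, ht, e1⟩ := hKS.symm ▸ hS (Subgroup.mem_map_of_mem π hu)
    obtain ⟨T, hT⟩ := hK ⟨t, ht⟩
    obtain ⟨T', hT'⟩ := hpgrp ⟨u, hu⟩
    have e2 := eq_of_mk_eq hQ h7 p (congrArg Subtype.val hT) (congrArg Subtype.val hT') e1
    exact (show t = u from e2) ▸ ht
  -- the point of `e` is fixed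
  have hKe : ∀ k ∈ K, act k e = e := by
    haveI : Nonempty ι := Fintype.card_pos_iff.1 (by omega)
    letI : MulAction K Vι :=
      { smul := fun k x => act (k : Om) x
        one_smul := fun x => act_one x
        mul_smul := fun k k' x => act_mul _ _ x }
    obtain ⟨w, hw, hw0⟩ : ∃ w : Vι, (∀ k : K, k • w = w) ∧ w ≠ 0 := by
      obtain ⟨x, hx⟩ := exists_ne (0 : Vι)
      have hdvd : p ∣ Nat.card Vι := by
        have e1 : addOrderOf x = p := addOrderOf_eq_prime
          (by rw [← Nat.cast_smul_eq_nsmul F, CharP.cast_eq_zero, zero_smul]) hx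
        exact e1 ▸ addOrderOf_dvd_natCard x
      obtain ⟨y, hy, hne⟩ := hK.exists_fixed_point_of_prime_dvd_card_of_fixed_point Vι hdvd
        (a := (0 : Vι)) (fun k => act_zero _)
      exact ⟨y, fun k => hy k, hne.symm⟩
    obtain ⟨a, ha⟩ := fixed_rad hQ h7 hp (x := w) fun s hs =>
      hw ⟨s, hmemK s (Subgroup.mem_sup_right hs)⟩
    have ha0 : a ≠ 0 := fun e1 => hw0 (by rw [ha, e1, zero_smul])
    intro k hk
    have h1 : act k w = w := hw ⟨k, hk⟩
    rw [ha, act_smul] at h1
    exact smul_right_injective _ ha0 h1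
  have hprojact : ∀ k : Om, act k e = e → ∀ x, pol Q x e = 0 →
      proj Q e f (act k (proj Q e f x)) = proj Q e f (act k x) := by
    intro k hk x hx
    conv_rhs => rw [decomp hQ e f x, hx, zero_smul, add_zero, act_add, act_smul, hk, proj_add hQ,
      proj_smul hQ, proj_e hQ hp, smul_zero, zero_add]
  -- the line of `e` and `v` is fixed
  have hfixW : ∀ x ∈ perp hQ e f, (∀ k ∈ K, proj Q e f (act k x) = x) → ∃ r : F, x = r • v := by
    intro x hx hfix
    obtain ⟨b, hb, hbq, hvb⟩ := Orth.exists_partner hQ (perp_nondeg' hQ hp) hv hv0 hvq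
    have hvp : Pair Q v b := ⟨hvq, hbq, hvb⟩
    have key : ∀ y ∈ perp hQ v b, y ∈ perp hQ e f →
        pol Q x v • y - (pol Q x y + Q y * pol Q x v) • v = 0 := by
      intro y hy hy'
      obtain ⟨s, hs, hS, -, -⟩ := exists_wt hQ h5 hvp hy
      have hse : act s e = e := isSiegel_fix hQ hS (perp_mem_pol hQ hv) (perp_mem_pol hQ hy')
      have hsf : act s f = f := isSiegel_fix hQ hS (by rw [Orth.pol_comm]; exact hv.2)
        (by rw [Orth.pol_comm]; exact hy'.2)
      have hm : act s x ∈ perp hQ e f :=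
        ⟨by rw [← hse, act_pol, hx.1], by rw [← hsf, act_pol, hx.2]⟩
      have h1 := hfix s (hmemK s (Subgroup.mem_sup_left (hN ▸ ⟨hs, hse⟩)))
      rw [proj_of_mem hQ hm, show act s x = mv (gl s) x from rfl, hS, add_sub_assoc, add_eq_left] at h1
      exact h1
    obtain ⟨hn2, hr2⟩ := nondeg_pair hQ hvq hbq hvb
    have hsub : Submodule.span F ({v, b} : Set Vι) ≤ perp hQ e f :=
      Submodule.span_le.2 (by rintro _ (rfl | rfl); exacts [hv, hb])
    have hZ := nondeg_inf_orth hQ hn2 (perp_nondeg' hQ hp) hsub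
    rw [← perp_eq hQ] at hZ
    have hxv : pol Q x v = 0 := by
      obtain ⟨y, hy, hy0⟩ : ∃ y ∈ perp hQ e f ⊓ perp hQ v b, y ≠ 0 := by
        refine (Submodule.ne_bot_iff _).1 fun h => ?_
        have h1 := finrank_inf_orth_add hQ hn2 hsub
        have h2 := finrank_perp hQ hp
        rw [hr2, ← perp_eq hQ, h, finrank_bot] at h1
        omega
      obtain ⟨z, hz, hzy⟩ : ∃ z ∈ perp hQ e f ⊓ perp hQ v b, pol Q y z ≠ 0 := by
        by_contra! hall
        exact hy0 (hZ y hy fun z hz => by rw [Orth.pol_comm]; exact hall z hz)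
      have e1 := congrArg (fun w => pol Q w z) (key y hy.2 hy.1)
      simp only [pol_sub_left hQ, pol_smul_left hQ, pol_zero_left hQ, perp_mem_pol hQ hz.2,
        mul_zero, sub_zero] at e1
      exact (mul_eq_zero.1 e1).resolve_right hzy
    have hP : proj Q v b x = 0 := by
      refine hZ _ ⟨sub_mem (sub_mem hx (Submodule.smul_mem _ _ hv)) (Submodule.smul_mem _ _ hb),
        proj_mem hQ hvp x⟩ fun y hy => ?_
      have e1 := key y hy.2 hy.1
      rw [hxv, mul_zero, add_zero, zero_smul, zero_sub, neg_eq_zero, smul_eq_zero,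
        or_iff_left hv0] at e1
      rw [pol_decomp hQ hvp x y, hxv, hy.2.1, hy.2.2, proj_of_mem hQ hy.2] at e1
      rw [Orth.pol_comm]
      linear_combination e1
    refine ⟨pol Q x b, ?_⟩
    conv_lhs => rw [decomp hQ v b x, hxv, hP, zero_smul, add_zero, add_zero]
  have hr : ∀ k ∈ K, proj Q e f (act k v) = v := by
    haveI : Nonempty ι := Fintype.card_pos_iff.1 (by omega)
    letI : MulAction K (perp hQ e f) :=
      { smul := fun k x => ⟨proj Q e f (act (k : Om) x), proj_mem hQ hp _⟩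
        one_smul := fun x => Subtype.ext (by
          show proj Q e f (act (1 : Om) x) = x
          rw [act_one, proj_of_mem hQ x.2])
        mul_smul := fun k k' x => Subtype.ext (by
          show proj Q e f (act ((k * k' : K) : Om) x) = proj Q e f (act (k : Om) (proj Q e f (act (k' : Om) x)))
          rw [Subgroup.coe_mul, act_mul, hprojact _ (hKe k k.2)]
          have e1 := act_pol (k' : Om) (x : Vι) e
          rw [hKe k' k'.2] at e1
          rw [e1, (show (x : Vι) ∈ perp hQ e f from x.2).1]) }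
    obtain ⟨w, hw, hw0⟩ : ∃ w : perp hQ e f, (∀ k : K, k • w = w) ∧ w ≠ 0 := by
      have hdvd : p ∣ Nat.card (perp hQ e f) := by
        have e1 : addOrderOf (⟨v, hv⟩ : perp hQ e f) = p := addOrderOf_eq_prime
          (by rw [← Nat.cast_smul_eq_nsmul F, CharP.cast_eq_zero, zero_smul])
          (fun e1 => hv0 (congrArg Subtype.val e1))
        exact e1 ▸ addOrderOf_dvd_natCard _
      obtain ⟨y, hy, hne⟩ := hK.exists_fixed_point_of_prime_dvd_card_of_fixed_point (perp hQ e f) hdvd
        (a := (0 : perp hQ e f)) (fun k => Subtype.ext (by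
          show proj Q e f (act (k : Om) 0) = 0
          rw [act_zero]; simp [proj, pol_zero_left hQ]))
      exact ⟨y, fun k => hy k, hne.symm⟩
    obtain ⟨a, ha⟩ := hfixW w w.2 fun k hk => congrArg Subtype.val (hw ⟨k, hk⟩)
    have ha0 : a ≠ 0 := fun e1 => hw0 (Subtype.ext (by rw [ha, e1, zero_smul]; rfl))
    intro k hk
    have h1 : proj Q e f (act k (w : Vι)) = w := congrArg Subtype.val (hw ⟨k, hk⟩)
    rw [ha, act_smul, proj_smul hQ] at h1
    exact smul_right_injective _ ha0 h1
  refine ⟨S, le_antisymm ?_ ?_⟩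
  · rintro z ⟨hzS, hzC⟩
    obtain ⟨z, hz, rfl⟩ := hKS.symm ▸ hzS
    have hcomm : ∀ u ∈ K, Commute z u := fun u hu => by
      obtain ⟨T, hT⟩ := hK ⟨u, hu⟩
      exact commute_of_mk hQ h7 p (congrArg Subtype.val hT)
        (Subgroup.mem_centralizer_iff.1 hzC _ (hKS ▸ Subgroup.mem_map_of_mem π hu)).symm
    have hze := hKe z hz
    obtain ⟨u, hu, huf, -⟩ := exists_point hQ h5 hp (y := act z f) (by rw [act_q (Q := Q), hp.2.1])
      (by
        conv_lhs => rw [← hze]
        rw [act_pol, Orth.pol_comm, hp.2.2])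
    obtain ⟨l, rfl⟩ : ∃ l, z = u * l := ⟨u⁻¹ * z, (mul_inv_cancel_left _ _).symm⟩
    have hle : act l e = e := act_inj u (by rw [← act_mul, hze, hu.1])
    have hlf : act l f = f := act_inj u (by rw [← act_mul, huf])
    have hlW : ∀ x ∈ perp hQ e f, act l x = x := fun x hx => by
      obtain ⟨w, hw, hS', hwt, -⟩ := exists_wt hQ h5 hp hx
      have hc := (hcomm w (hmemK w (Subgroup.mem_sup_right hw))).eq
      have hwu := (rad_commute hQ h5 hp hu hw).eq
      have hconj : l * w * l⁻¹ = w := by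
        have : u * (l * w * l⁻¹) = u * w := by
          calc u * (l * w * l⁻¹) = u * l * w * l⁻¹ := by group
            _ = w * (u * l) * l⁻¹ := by rw [hc]
            _ = w * u := by group
            _ = u * w := hwu.symm
        exact mul_left_cancel this
      have hli : act l⁻¹ f = f := by
        conv_lhs => rw [← hlf]
        exact act_inv_act l f
      have e1 := congrArg (fun g => proj Q e f (act g f)) hconj
      simp only [act_mul, hli] at e1
      have hm : act l x ∈ perp hQ e f :=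
        ⟨by rw [← hle, act_pol, hx.1], by rw [← hlf, act_pol, hx.2]⟩
      have e2 : act w f = (-Q x) • e + (1 : F) • f + x := by
        rw [(isSiegel_wt hQ h5 hp hw).2, hwt]
      rw [e2, act_add, act_add, act_smul, act_smul, hle, hlf] at e1
      rwa [(coord hQ hp hm rfl).2.2, (coord hQ hp hx rfl).2.2] at e1
    have hl1 : l = 1 := ext_act fun x => by
      rw [act_one]
      conv_lhs => rw [decomp hQ e f x, act_add, act_add, act_smul, act_smul, hle, hlf,
        hlW _ (proj_mem hQ hp x)]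
      exact (decomp hQ e f x).symm
    subst hl1
    rw [mul_one] at hcomm ⊢
    refine ⟨u, (mem_root_iff hQ h5 hp hv hvq hv0).2 ⟨hu, ?_⟩, rfl⟩
    refine hfixW _ (wt_mem hQ hp u) fun k hk => ?_
    have hc := (hcomm k hk).eq
    have hke := hKe k hk
    obtain ⟨x, hx⟩ : ∃ x, x = wt e f u := ⟨_, rfl⟩
    -- the weight is fixed
    have e1 := congrArg (fun g => proj Q e f (act g f)) hc.symm
    simp only [act_mul] at e1
    have hkf : pol Q (act k f) e = 1 := by
      conv_lhs => rw [← hke]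
      rw [act_pol, Orth.pol_comm, hp.2.2]
    rw [(isSiegel_wt hQ h5 hp hu).2, act_add, act_add, act_smul, act_smul, hke, one_smul,
      proj_add hQ, proj_add hQ, proj_smul hQ, proj_e hQ hp, smul_zero, zero_add,
      show act u (act k f) = mv (gl u) (act k f) from rfl, (isSiegel_wt hQ h5 hp hu).1, hkf,
      one_smul] at e1
    rw [sub_eq_add_neg, ← neg_smul, proj_add hQ, proj_add hQ, proj_smul hQ, proj_e hQ hp, smul_zero,
      add_zero, proj_of_mem hQ (wt_mem hQ hp u), add_right_inj] at e1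
    exact e1
  · rintro _ ⟨s, hs, rfl⟩
    have hsK : s ∈ K := hmemK s (Subgroup.mem_sup_right hs.1)
    refine ⟨hKS ▸ Subgroup.mem_map_of_mem π hsK, Subgroup.mem_centralizer_iff.2 fun y hy => ?_⟩
    obtain ⟨k, hk, rfl⟩ := hKS.symm ▸ hy
    rw [← map_mul, ← map_mul]
    congr 1
    obtain ⟨hs', a, ha⟩ := (mem_root_iff hQ h5 hp hv hvq hv0).1 hs
    refine mul_inv_eq_iff_eq_mul.1 (wt_inj hQ h5 hp (e := e) (f := f) ?_ hs' ?_)
    · have := rad_conj k hs'
      rwa [hKe k hk] at this
    · have hki := hKe k⁻¹ (inv_mem hk)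
      have hkf : pol Q (act k⁻¹ f) e = 1 := by
        conv_lhs => rw [← hki]
        rw [act_pol, Orth.pol_comm, hp.2.2]
      rw [wt, act_mul, act_mul, show act s (act k⁻¹ f) = mv (gl s) (act k⁻¹ f) from rfl,
        (isSiegel_wt hQ h5 hp hs').1, hkf, one_smul, sub_eq_add_neg, ← neg_smul, act_add, act_add,
        act_act_inv, act_smul, hKe k hk, proj_add hQ, proj_add hQ, proj_smul hQ, proj_e hQ hp,
        smul_zero, add_zero, proj_f hQ hp, zero_add, ha, act_smul, proj_smul hQ, hr k hk]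

end Cfsg.Agent.AutPOmega
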