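import Cfsg.Agent.Lib.AutPOmega.Points

/-!
The automorphisms of `PΩ` given by semisimilarities.
-/

set_option autoImplicit false

namespace Cfsg.Agent.AutPOmega

open Matrix Cfsg.Agent.Transvec Cfsg.Agent.Transvec.Orth

variable {ι : Type} [Fintype ι] [DecidableEq ι] {F : Type*} [Field F] {Q : (ι → F) → F}

local notation "Vι" => ι → F
local notation "Om" => Cfsg.Omega F Q
local notation "POm" => Cfsg.POmega F Q
local notation "π" => QuotientGroup.mk' (Subgroup.center (Cfsg.Omega F Q))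

/-- The semilinear map of a matrix and a field automorphism. -/
def sm (g : GL ι F) (τ : F ≃+* F) (x : Vι) : Vι := mv g (τ ∘ x)

theorem sm_add (g : GL ι F) (τ : F ≃+* F) (x y : Vι) : sm g τ (x + y) = sm g τ x + sm g τ y := by
  rw [sm, sm, sm, ← mv_add]
  congr 1
  funext i
  simp

theorem sm_smul (g : GL ι F) (τ : F ≃+* F) (c : F) (x : Vι) : sm g τ (c • x) = τ c • sm g τ x := by
  rw [sm, sm, ← mv_smul]
  congr 1
  funext i
  simp

theorem sm_zero (g : GL ι F) (τ : F ≃+* F) : sm g τ (0 : Vι) = 0 := by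
  rw [← zero_smul F (0 : Vι), sm_smul, map_zero, zero_smul, zero_smul]

theorem sm_inj (g : GL ι F) (τ : F ≃+* F) {x y : Vι} (e : sm g τ x = sm g τ y) : x = y :=
  funext fun i => τ.injective (congrFun (mv_inj g e) i)

theorem sm_surj (g : GL ι F) (τ : F ≃+* F) (x : Vι) : ∃ y, sm g τ y = x :=
  ⟨τ.symm ∘ mv g⁻¹ x, by
    rw [sm, ← Function.comp_assoc, show ⇑τ ∘ ⇑τ.symm = id from funext τ.apply_symm_apply,
      Function.id_comp, mv_mv_inv]⟩

/-- Entrywise action of a field automorphism. -/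
def mapGL (τ : F ≃+* F) : GL ι F →* GL ι F := Matrix.GeneralLinearGroup.map τ.toRingHom

theorem mv_mapGL (τ : F ≃+* F) (M : GL ι F) (x : Vι) : mv (mapGL τ M) (τ ∘ x) = τ ∘ mv M x :=
  funext fun i => (RingHom.map_mulVec τ.toRingHom (M : Matrix ι ι F) x i).symm

/-- Semilinear conjugation. -/
def conjGL (g : GL ι F) (τ : F ≃+* F) : GL ι F →* GL ι F :=
  (MulAut.conj g).toMonoidHom.comp (mapGL τ)

theorem mv_conjGL (g : GL ι F) (τ : F ≃+* F) (M : GL ι F) (x : Vι) :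
    mv (conjGL g τ M) (sm g τ x) = sm g τ (mv M x) := by
  show mv (g * mapGL τ M * g⁻¹) (mv g (τ ∘ x)) = mv g (τ ∘ mv M x)
  rw [mv_mul, mv_inv_mv, mv_mul, mv_mapGL]

theorem conjGL_mem {g : GL ι F} {τ : F ≃+* F} (hg : Cfsg.IsSemisimilarityPair Q g τ) {M : GL ι F}
    (hM : M ∈ Cfsg.isometryGroup F Q) : conjGL g τ M ∈ Cfsg.isometryGroup F Q := by
  obtain ⟨c, hc⟩ := hg
  refine mem_isometry.2 fun z => ?_
  obtain ⟨y, rfl⟩ := sm_surj g τ z
  rw [mv_conjGL]
  exact (hc _).trans (by rw [mem_isometry.1 hM]; exact (hc _).symm)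

/-- Semilinear conjugation of isometries. -/
def conjIso (g : GL ι F) (τ : F ≃+* F) (hg : Cfsg.IsSemisimilarityPair Q g τ) :
    Cfsg.isometryGroup F Q →* Cfsg.isometryGroup F Q :=
  ((conjGL g τ).comp (Cfsg.isometryGroup F Q).subtype).codRestrict _ fun M => conjGL_mem hg M.2

theorem conjIso_mem (g : GL ι F) (τ : F ≃+* F) (hg : Cfsg.IsSemisimilarityPair Q g τ)
    {s : Cfsg.isometryGroup F Q} (hs : s ∈ Om) : conjIso g τ hg s ∈ Om := by
  have h : (commutator (Cfsg.isometryGroup F Q)).map (conjIso g τ hg) ≤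
      commutator (Cfsg.isometryGroup F Q) := by
    rw [commutator, Subgroup.map_commutator]
    exact Subgroup.commutator_mono le_top le_top
  exact h (Subgroup.mem_map_of_mem _ hs)

/-- Semilinear conjugation of `Ω`. -/
def conjOm (g : GL ι F) (τ : F ≃+* F) (hg : Cfsg.IsSemisimilarityPair Q g τ) : Om →* Om :=
  ((conjIso g τ hg).comp (Cfsg.Omega F Q).subtype).codRestrict _ fun s => conjIso_mem g τ hg s.2

theorem act_conjOm {g : GL ι F} {τ : F ≃+* F} (hg : Cfsg.IsSemisimilarityPair Q g τ) (s : Om) (x : Vι) :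
    act (conjOm g τ hg s) (sm g τ x) = sm g τ (act s x) := mv_conjGL g τ (gl s) x

theorem conjOm_injective {g : GL ι F} {τ : F ≃+* F} (hg : Cfsg.IsSemisimilarityPair Q g τ) :
    Function.Injective (conjOm g τ hg) := fun s t e =>
  ext_act fun x => sm_inj g τ (by rw [← act_conjOm hg, ← act_conjOm hg, e])

variable [Finite F]

theorem conjOm_bijective {g : GL ι F} {τ : F ≃+* F} (hg : Cfsg.IsSemisimilarityPair Q g τ) :
    Function.Bijective (conjOm g τ hg) :=
  Finite.injective_iff_bijective.1 (conjOm_injective hg)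

/-- Semilinear conjugation as an automorphism of `Ω`. -/
noncomputable def omAut (g : GL ι F) (τ : F ≃+* F) (hg : Cfsg.IsSemisimilarityPair Q g τ) : MulAut Om :=
  MulEquiv.ofBijective (conjOm g τ hg) (conjOm_bijective hg)

/-- The automorphism of `PΩ` of a semisimilarity. -/
noncomputable def semi (g : GL ι F) (τ : F ≃+* F) (hg : Cfsg.IsSemisimilarityPair Q g τ) : MulAut POm :=
  QuotientGroup.congr _ _ (omAut g τ hg)
    (Subgroup.characteristic_iff_map_eq.1 inferInstance (omAut g τ hg))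

theorem semi_mk {g : GL ι F} {τ : F ≃+* F} (hg : Cfsg.IsSemisimilarityPair Q g τ) (s : Om) :
    semi g τ hg (π s) = π (conjOm g τ hg s) := rfl

theorem induced_semi {g : GL ι F} {τ : F ≃+* F} (hg : Cfsg.IsSemisimilarityPair Q g τ) :
    Cfsg.IsInducedBySemilinearPOmega Q g τ (semi g τ hg) := by
  intro s s' hs
  exact congrArg π (Subtype.ext (Subtype.ext (Units.ext hs.symm)))

theorem semi_eq_of_induced {g : GL ι F} {τ : F ≃+* F} (hg : Cfsg.IsSemisimilarityPair Q g τ)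
    {β : MulAut POm} (hβ : Cfsg.IsInducedBySemilinearPOmega Q g τ β) : β = semi g τ hg :=
  MulEquiv.ext fun x => by
    induction x using QuotientGroup.induction_on with
    | _ s => exact hβ s (conjOm g τ hg s) rfl

theorem semi_mem_gamma {g : GL ι F} {τ : F ≃+* F} (hg : Cfsg.IsSemisimilarityPair Q g τ) :
    semi g τ hg ∈ Cfsg.gammaPOmega F Q :=
  Subgroup.subset_closure ⟨g, τ, hg, induced_semi hg⟩

omit [Finite F] in
theorem conjOm_mem_rad {g : GL ι F} {τ : F ≃+* F} (hg : Cfsg.IsSemisimilarityPair Q g τ) {c : Vι}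
    {s : Om} (hs : s ∈ rad Q c) (hpol : ∀ x y, pol Q (sm g τ x) (sm g τ y) = 0 → pol Q x y = 0) :
    conjOm g τ hg s ∈ rad Q (sm g τ c) := by
  refine ⟨by rw [act_conjOm, hs.1], fun w hw => ?_⟩
  obtain ⟨y, rfl⟩ := sm_surj g τ w
  obtain ⟨l, hl⟩ := hs.2 y (hpol y c hw)
  exact ⟨τ l, by rw [act_conjOm, hl, sm_add, sm_smul]⟩

variable (hQ : Geo.IsNondegenerateQuadraticForm Q)

omit [Finite F] in
/-- A semilinear map multiplying the form comes from a semisimilarity pair. -/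
theorem exists_sm_eq (τ : F ≃+* F) {c : F} (hc : c ≠ 0) (Φ : Vι → Vι)
    (hadd : ∀ x y, Φ (x + y) = Φ x + Φ y) (hsmul : ∀ (a : F) x, Φ (a • x) = τ a • Φ x)
    (hpres : ∀ x, Q (Φ x) = c * τ (Q x)) (hQ : Geo.IsNondegenerateQuadraticForm Q) :
    ∃ g : GL ι F, Cfsg.IsSemisimilarityPair Q g τ ∧ ∀ x, sm g τ x = Φ x := by
  obtain ⟨M, hM⟩ : ∃ M : Matrix ι ι F, M = Matrix.of fun r j => Φ (Pi.single j 1) r := ⟨_, rfl⟩
  have hMx : ∀ x, M *ᵥ (τ ∘ x) = Φ x := fun x => by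
    conv_rhs => rw [pi_eq_sum_univ' x, show Φ = ⇑(AddMonoidHom.mk' Φ hadd) from rfl, map_sum]
    simp only [AddMonoidHom.mk'_apply, hsmul]
    funext r
    rw [Finset.sum_apply, Matrix.mulVec, dotProduct]
    refine Finset.sum_congr rfl fun j _ => ?_
    rw [hM, Matrix.of_apply, Pi.smul_apply, smul_eq_mul, mul_comm]
    rfl
  have hpol : ∀ x y, pol Q (Φ x) (Φ y) = c * τ (pol Q x y) := fun x y => by
    simp only [pol, QuadraticMap.polar, ← hadd, hpres, map_sub, mul_sub]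
  have hinj : ∀ x, Φ x = 0 → x = 0 := fun x e => nondeg_top hQ x Submodule.mem_top fun w _ => by
    have h1 := hpol w x
    rw [e, pol_zero_right hQ, eq_comm, mul_eq_zero, or_iff_right hc, map_eq_zero] at h1
    exact h1
  have hu : IsUnit M := Matrix.mulVec_injective_iff_isUnit.1 fun x y e => by
    obtain ⟨x', rfl⟩ : ∃ x', x = τ ∘ x' := ⟨τ.symm ∘ x, funext fun i => (τ.apply_symm_apply _).symm⟩
    obtain ⟨y', rfl⟩ : ∃ y', y = τ ∘ y' := ⟨τ.symm ∘ y, funext fun i => (τ.apply_symm_apply _).symm⟩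
    rw [hMx, hMx] at e
    have h0 : Φ (x' - y') = 0 := by
      show AddMonoidHom.mk' Φ hadd (x' - y') = 0
      rw [map_sub]
      exact sub_eq_zero.2 e
    rw [sub_eq_zero.1 (hinj _ h0)]
  refine ⟨hu.unit, ⟨Units.mk0 c hc, fun v => ?_⟩, hMx⟩
  show Q (M *ᵥ (τ ∘ v)) = c * τ (Q v)
  rw [hMx, hpres]

include hQ

omit [Finite F] in
theorem pol_sm {g : GL ι F} {τ : F ≃+* F} (hg : Cfsg.IsSemisimilarityPair Q g τ) :
    ∃ c : F, c ≠ 0 ∧ ∀ x y, pol Q (sm g τ x) (sm g τ y) = c * τ (pol Q x y) := by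
  obtain ⟨c, hc⟩ := hg
  refine ⟨c, c.ne_zero, fun x y => ?_⟩
  have hc' : ∀ v, Q (sm g τ v) = (c : F) * τ (Q v) := hc
  simp only [pol, QuadraticMap.polar, ← sm_add, hc', map_sub, mul_sub]

theorem rel_semi {g : GL ι F} {τ : F ≃+* F} (hg : Cfsg.IsSemisimilarityPair Q g τ) (c : Vι) :
    Rel (semi g τ hg) c (sm g τ c) := by
  obtain ⟨k, hk0, hk⟩ := pol_sm hQ hg
  refine le_antisymm ?_ ?_
  · rintro _ ⟨_, ⟨s, hs, rfl⟩, rfl⟩
    refine ⟨conjOm g τ hg s, conjOm_mem_rad hg hs fun x y e => ?_, rfl⟩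
    rwa [hk, mul_eq_zero, or_iff_right hk0, map_eq_zero] at e
  · rintro _ ⟨t, ht, rfl⟩
    obtain ⟨s, rfl⟩ := (conjOm_bijective hg).2 t
    refine ⟨π s, Subgroup.mem_map_of_mem _ ⟨sm_inj g τ (by rw [← act_conjOm hg]; exact ht.1),
      fun w hw => ?_⟩, rfl⟩
    obtain ⟨l, hl⟩ := ht.2 (sm g τ w) (by rw [hk, hw, map_zero, mul_zero])
    refine ⟨τ.symm l, sm_inj g τ ?_⟩
    rw [← act_conjOm hg, hl, sm_add, sm_smul, τ.apply_symm_apply]

end Cfsg.Agent.AutPOmega
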