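import Cfsg.Agent.Lib.AutPOmega.FixedPointFree
import Mathlib.RingTheory.Ideal.Quotient.Operations
import Mathlib.FieldTheory.Finite.Basic

/-!
The commutative algebra of an isometry of odd order prime to the characteristic.
-/

set_option autoImplicit false

universe u v

namespace Cfsg.Agent.AutPOmega

open Module QuadraticMap Polynomial

variable {F : Type u} [Field F] [Fintype F] {V : Type v} [AddCommGroup V] [Module F V] [Module.Finite F V]

/-- The self-adjoint algebra of a semisimple isometry with its skew element. -/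
structure Torus (q : QuadraticForm F V) (G : Module.End F V) (R : Type (max u v)) [CommRing R] [Algebra F R] where
  ψ : R →ₐ[F] Module.End F V
  η : Module.End F V
  a : R
  d : R
  dinv : R
  inj : Function.Injective ψ
  adj : ∀ z u w, polar q (ψ z u) w = polar q u (ψ z w)
  skew : ∀ u w, polar q (η u) w = -polar q u (η w)
  ηcomm : ∀ z u, η (ψ z u) = ψ z (η u)
  Gcomm : ∀ z u, G (ψ z u) = ψ z (G u)
  Gη : ∀ u, G (η u) = η (G u)
  G_eq : ∀ u, (2 : F) • G u = ψ a u + η u
  sq : ∀ u, η (η u) = ψ d u
  idem : d * dinv * d = d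
  fixed : ∀ u, ψ (d * dinv) u = 0 ↔ G u = u

/-- The algebra exists. -/
theorem exists_torus (q : QuadraticForm F V) (h2 : (2 : F) ≠ 0) {G : Module.End F V} {r : ℕ} (hr : r.Prime)
    (hro : Odd r) (hGr : G ^ r = 1) (hcop : r.Coprime (Fintype.card F)) (hiso : ∀ u, q (G u) = q u) :
    ∃ (R : Type (max u v)) (_ : CommRing R) (_ : Algebra F R) (_ : Finite R) (_ : IsReduced R),
      Nonempty (Torus q G R) := by
  obtain ⟨Gi, hGi⟩ : ∃ Gi, Gi = G ^ (r - 1) := ⟨_, rfl⟩
  have hr1 : r - 1 + 1 = r := Nat.succ_pred_eq_of_pos hr.pos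
  have hG1 : G * Gi = 1 := by rw [hGi, ← pow_succ', hr1, hGr]
  have hG2 : Gi * G = 1 := by rw [hGi, ← pow_succ, hr1, hGr]
  have hpolG : ∀ u w, polar q (G u) (G w) = polar q u w := fun u w => by
    simp only [polar, ← map_add, hiso]
  have hadjG : ∀ u w, polar q (G u) w = polar q u (Gi w) := fun u w => by
    rw [← hpolG u (Gi w), ← Module.End.mul_apply, hG1, Module.End.one_apply]
  have hadjGi : ∀ u w, polar q (Gi u) w = polar q u (G w) := fun u w => by
    rw [← hpolG (Gi u) w, ← Module.End.mul_apply, hG1, Module.End.one_apply]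
  obtain ⟨A, hA⟩ : ∃ A, A = G + Gi := ⟨_, rfl⟩
  let φ : Polynomial F →ₐ[F] Module.End F V := Polynomial.aeval A
  refine ⟨ULift.{v} (Polynomial F ⧸ RingHom.ker φ), ?_⟩
  haveI : Finite V := Module.finite_of_finite F
  haveI : Finite (Module.End F V) := Finite.of_injective (fun T => (T : V → V)) DFunLike.coe_injective
  let ψ : ULift.{v} (Polynomial F ⧸ RingHom.ker φ) →ₐ[F] Module.End F V :=
    (Ideal.kerLiftAlg φ).comp (ULift.algEquiv (R := F)).toAlgHom
  have hinj : Function.Injective ψ := (Ideal.kerLiftAlg_injective φ).comp ULift.down_injective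
  have hform : ∀ z, ∃ P : Polynomial F, ψ z = Polynomial.aeval A P := fun z => by
    obtain ⟨P, hP⟩ := Ideal.Quotient.mk_surjective z.down
    refine ⟨P, ?_⟩
    show Ideal.kerLiftAlg φ z.down = _
    rw [← hP, Ideal.kerLiftAlg_mk]
  have hmk : ∀ P : Polynomial F, ψ ⟨Ideal.Quotient.mk _ P⟩ = Polynomial.aeval A P := fun P =>
    Ideal.kerLiftAlg_mk φ P
  haveI hfin : Finite (ULift.{v} (Polynomial F ⧸ RingHom.ker φ)) := Finite.of_injective ψ hinj
  obtain ⟨C, hC⟩ : ∃ C : Polynomial F, C = Polynomial.X + Polynomial.X ^ (r - 1) := ⟨_, rfl⟩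
  have hAC : A = Polynomial.aeval G C := by rw [hC, hA, hGi]; simp
  obtain ⟨Q, hQ, hQ2, hQ1⟩ : ∃ Q : ℕ, (∀ P : Polynomial F, (Polynomial.aeval G P) ^ Q = Polynomial.aeval G P) ∧
      2 ≤ Q ∧ G ^ Q = G := by
    obtain ⟨i, hi⟩ : ∃ i, i = r - 1 := ⟨_, rfl⟩
    have hQ1 : G ^ (Fintype.card F ^ i) = G := by
      have h1 : Fintype.card F ^ i % r = 1 := by
        have := Nat.ModEq.pow_totient (Nat.coprime_comm.1 hcop : (Fintype.card F).Coprime r)
        rw [Nat.totient_prime hr, ← hi] at this
        rw [this, Nat.mod_eq_of_lt hr.one_lt]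
      rw [← Nat.mod_add_div (Fintype.card F ^ i) r, h1, pow_add, pow_mul, hGr, one_pow, mul_one, pow_one]
    refine ⟨Fintype.card F ^ i, fun P => ?_, ?_, hQ1⟩
    · have key : ∀ k : ℕ, ∀ P : Polynomial F, Polynomial.expand F (Fintype.card F ^ k) P =
          P ^ (Fintype.card F ^ k) := fun k => by
        induction k with
        | zero => intro P; simp
        | succ k ih =>
          intro P
          rw [pow_succ, Polynomial.expand_mul, FiniteField.expand_card, map_pow, ih, ← pow_mul]
      rw [← map_pow, ← key, Polynomial.expand_aeval, hQ1]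
    · have h2q := Fintype.one_lt_card (α := F)
      calc 2 ≤ Fintype.card F := h2q
        _ ≤ Fintype.card F ^ i := Nat.le_self_pow (by have := hr.two_le; omega) _
  have hQz : ∀ z : ULift.{v} (Polynomial F ⧸ RingHom.ker φ), z ^ Q = z := fun z => hinj (by
    obtain ⟨P, hP⟩ := hform z
    rw [map_pow, hP, hAC, ← Polynomial.aeval_comp, hQ])
  haveI hred : IsReduced (ULift.{v} (Polynomial F ⧸ RingHom.ker φ)) := ⟨fun z ⟨n, hn⟩ => by
    have hk : ∀ k : ℕ, z ^ (Q ^ k) = z := fun k => by
      induction k with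
      | zero => simp
      | succ k ih => rw [pow_succ, pow_mul, ih, hQz]
    rw [← hk n]
    exact pow_eq_zero_of_le (Nat.lt_pow_self hQ2).le hn⟩
  refine ⟨inferInstance, inferInstance, hfin, hred, ?_⟩
  obtain ⟨η, hη⟩ : ∃ η, η = G - Gi := ⟨_, rfl⟩
  have hGA : G * A = A * G := by rw [hA, mul_add, add_mul, hG1, hG2]
  have hGiA : Gi * A = A * Gi := by rw [hA, mul_add, add_mul, hG1, hG2]
  have hcommP : ∀ (T : Module.End F V), T * A = A * T → ∀ P : Polynomial F,
      T * Polynomial.aeval A P = Polynomial.aeval A P * T := fun T hT P => by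
    induction P using Polynomial.induction_on' with
    | add P P' hP hP' => rw [map_add, mul_add, add_mul, hP, hP']
    | monomial n c =>
      rw [Polynomial.aeval_monomial, Algebra.algebraMap_eq_smul_one, smul_one_mul, mul_smul_comm, smul_mul_assoc]
      exact congrArg (c • ·) ((show Commute T A from hT).pow_right n).eq
  obtain ⟨a, ha⟩ : ∃ a, ψ a = A := ⟨⟨Ideal.Quotient.mk _ Polynomial.X⟩, by rw [hmk, Polynomial.aeval_X]⟩
  obtain ⟨d, hd⟩ : ∃ d, d = a * a - 4 := ⟨_, rfl⟩
  have hψd : η * η = ψ d := by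
    rw [hd, map_sub, map_mul, ha, show ψ (4 : ULift.{v} (Polynomial F ⧸ RingHom.ker φ)) = 4 from map_ofNat ψ 4,
      hη, hA]
    simp only [mul_add, add_mul, mul_sub, sub_mul, hG1, hG2]
    rw [show (4 : Module.End F V) = 1 + 1 + 1 + 1 by norm_num]
    abel
  obtain ⟨dinv, hdi⟩ : ∃ di, di = d ^ (Q - 2) := ⟨_, rfl⟩
  have hid : d * dinv * d = d := by
    rw [hdi, ← pow_succ', ← pow_succ, show Q - 2 + 1 + 1 = Q by omega, hQz]
  refine ⟨{ ψ := ψ, η := η, a := a, d := d, dinv := dinv, inj := hinj, adj := ?_, skew := ?_, ηcomm := ?_,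
            Gcomm := ?_, Gη := ?_, G_eq := ?_, sq := ?_, idem := hid, fixed := ?_ }⟩
  · intro z u w
    obtain ⟨P, hP⟩ := hform z
    rw [hP]
    clear hP
    induction P using Polynomial.induction_on' generalizing u w with
    | add P P' hP hP' =>
      rw [map_add, LinearMap.add_apply, LinearMap.add_apply, polar_add_left, polar_add_right, hP, hP']
    | monomial n c =>
      rw [Polynomial.aeval_monomial, Algebra.algebraMap_eq_smul_one, smul_one_mul, LinearMap.smul_apply,
        LinearMap.smul_apply, polar_smul_left, polar_smul_right]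
      congr 1
      clear c
      induction n generalizing u w with
      | zero => simp
      | succ n ih =>
        conv_lhs => rw [pow_succ, Module.End.mul_apply, ih, hA, LinearMap.add_apply, polar_add_left, hadjG, hadjGi]
        rw [pow_succ', Module.End.mul_apply, hA, LinearMap.add_apply, polar_add_right, add_comm]
  · intro u w
    rw [hη, LinearMap.sub_apply, LinearMap.sub_apply, polar_sub_left, hadjG, hadjGi, polar_sub_right]
    ring
  · intro z u
    obtain ⟨P, hP⟩ := hform z
    rw [hP, ← Module.End.mul_apply, ← Module.End.mul_apply,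
      hcommP η (by rw [hη, sub_mul, mul_sub, hGA, hGiA]) P]
  · intro z u
    obtain ⟨P, hP⟩ := hform z
    rw [hP, ← Module.End.mul_apply, ← Module.End.mul_apply, hcommP G hGA P]
  · intro u
    rw [← Module.End.mul_apply, ← Module.End.mul_apply, hη, mul_sub, sub_mul, hG1, hG2]
  · intro u
    rw [ha, hη, hA, LinearMap.add_apply, LinearMap.sub_apply, two_smul]
    abel
  · intro u
    rw [← Module.End.mul_apply, hψd]
  · intro u
    constructor
    · intro hu
      have hdu : ψ d u = 0 := by rw [← hid, mul_comm, map_mul, Module.End.mul_apply, hu, map_zero]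
      have hηQ : η ^ Q = η := by
        have : η = Polynomial.aeval G ((Polynomial.X - Polynomial.X ^ (r - 1) : Polynomial F)) := by rw [hη, hGi]; simp
        rw [this, hQ]
      have hηu : η u = 0 := by
        rw [← hηQ, show Q = Q - 2 + 2 by omega, pow_add, pow_two, Module.End.mul_apply, hψd, hdu, map_zero]
      rw [hη, LinearMap.sub_apply, sub_eq_zero] at hηu
      have h2u : G (G u) = u := by
        rw [hηu, ← Module.End.mul_apply, hG1, Module.End.one_apply]
      have key : ∀ j : ℕ, (G ^ (2 * j)) u = u := fun j => by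
        induction j with
        | zero => simp
        | succ j ih => rw [mul_add, mul_one, pow_add, pow_two, Module.End.mul_apply, Module.End.mul_apply, h2u, ih]
      obtain ⟨j, hj⟩ := hro
      have := LinearMap.congr_fun hGr u
      rw [hj, pow_succ', Module.End.mul_apply, key, Module.End.one_apply] at this
      exact this
    · intro hu
      have hk : ∀ k : ℕ, (G ^ k) u = u := fun k => by
        induction k with
        | zero => simp
        | succ k ih => rw [pow_succ', Module.End.mul_apply, ih, hu]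
      have hηu : η u = 0 := by rw [hη, LinearMap.sub_apply, hGi, hk, hu, sub_self]
      rw [mul_comm, map_mul, Module.End.mul_apply, ← hψd, Module.End.mul_apply, hηu, map_zero, map_zero]

variable {q : QuadraticForm F V} {G : Module.End F V} {R : Type (max u v)} [CommRing R] [Algebra F R]
  [Finite R] [IsReduced R] (T : Torus q G R)

/-- The idempotent of the moved space. -/
def Torus.e : R := T.d * T.dinv

omit [Fintype F] [Module.Finite F V] [Finite R] [IsReduced R] in
theorem Torus.e_mul_e : T.e * T.e = T.e := by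
  rw [Torus.e]
  linear_combination T.dinv * T.idem

/-- Every self-adjoint element is a norm on the moved space. -/
theorem Torus.exists_norm (h2 : (2 : F) ≠ 0) (κ : R) :
    ∃ x y : R, T.e * (x * x - T.d * (y * y)) = T.e * κ := by
  haveI := Fintype.ofFinite R
  have hsol : ∀ I : MaximalSpectrum R, ∃ x y : R ⧸ I.asIdeal,
      Ideal.Quotient.mk I.asIdeal T.e * (x * x - Ideal.Quotient.mk I.asIdeal T.d * (y * y)) =
        Ideal.Quotient.mk I.asIdeal (T.e * κ) := by
    intro I
    haveI := I.isMaximal
    letI := Ideal.Quotient.field I.asIdeal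
    haveI : Finite (R ⧸ I.asIdeal) := Finite.of_surjective _ Ideal.Quotient.mk_surjective
    by_cases hd : Ideal.Quotient.mk I.asIdeal T.d = 0
    · exact ⟨0, 0, by rw [map_mul, Torus.e, map_mul, hd]; ring⟩
    · have h2K : (2 : R ⧸ I.asIdeal) ≠ 0 := by
        rw [← map_ofNat (algebraMap F (R ⧸ I.asIdeal)) 2]
        exact (map_ne_zero (algebraMap F (R ⧸ I.asIdeal))).2 h2
      obtain ⟨x, y, hxy⟩ := Cfsg.Agent.Orth.exists_sum_sq h2K one_ne_zero (neg_ne_zero.2 hd)
        (Ideal.Quotient.mk I.asIdeal κ)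
      refine ⟨x, y, ?_⟩
      rw [map_mul _ T.e κ]
      linear_combination (Ideal.Quotient.mk I.asIdeal T.e) * hxy
  choose x y hxy using hsol
  obtain ⟨X, hX⟩ := (IsArtinianRing.equivPi R).surjective x
  obtain ⟨Y, hY⟩ := (IsArtinianRing.equivPi R).surjective y
  refine ⟨X, Y, (IsArtinianRing.equivPi R).injective (funext fun I => ?_)⟩
  have hXI : Ideal.Quotient.mk I.asIdeal X = x I := by rw [← hX]; rfl
  have hYI : Ideal.Quotient.mk I.asIdeal Y = y I := by rw [← hY]; rfl
  rw [IsArtinianRing.equivPi_apply, IsArtinianRing.equivPi_apply]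
  show Ideal.Quotient.mk I.asIdeal _ = Ideal.Quotient.mk I.asIdeal _
  rw [← hxy I, map_mul, map_sub, map_mul, map_mul, map_mul, hXI, hYI]

end Cfsg.Agent.AutPOmega
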