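import Cfsg.Agent.Lib.AutPOmega.SemisimpleSim
import Cfsg.Agent.Lib.AutPOmega.GraphSplitCount

/-!
Fusion of semisimple classes of odd prime order.
-/

set_option autoImplicit false

universe u

namespace Cfsg.Agent.AutPOmega

open Matrix Module QuadraticMap
open Cfsg.Agent.Orth (SpinVal SqCls sqc reflVal)
open Cfsg.Agent.Transvec (mv mv_mul mv_inj mv_inv_mv mv_mv_inv ext_mv)
open Cfsg.Agent.Transvec.Orth (mem_isometry)

variable {ι : Type} [Fintype ι] [DecidableEq ι] {F : Type u} [Field F] [Fintype F]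
  {q : QuadraticForm F (ι → F)} {P : GL ι F → Prop}

set_option quotPrecheck false in
local notation "POm" => Cfsg.POmega F (⇑q)
set_option quotPrecheck false in
local notation "GOg" => Cfsg.Geo.quadSimilarityGroup (F := F) (⇑q)
set_option quotPrecheck false in
local notation "HDet" k:arg => (∀ c : Fˣ, ∃ g₀ : GL ι F, (∀ v, q (mv g₀ v) = (c : F) * q v) ∧ P g₀ ∧
  (g₀ : Matrix ι ι F).det = (c : F) ^ k)

/-- Classes coincide once each element is a product with a centralising one. -/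
theorem conj_iff_of_cover {X : Type*} [Group X] {H K : Subgroup X} (hKH : K ≤ H) {x : X}
    (hcov : ∀ h ∈ H, ∃ k ∈ K, ∃ c, c * x = x * c ∧ h = k * c) (y : X) :
    Cfsg.IsConjUnder K x y ↔ Cfsg.IsConjUnder H x y := by
  constructor
  · rintro ⟨k, hk, rfl⟩
    exact ⟨k, hKH hk, rfl⟩
  · rintro ⟨h, hh, rfl⟩
    obtain ⟨k, hk, c, hc, rfl⟩ := hcov h hh
    exact ⟨k, hk, by rw [_root_.mul_inv_rev, mul_assoc k c x, hc]; group⟩

theorem eq_one_of_pow_odd {A : Type*} [Group A] {y : A} {r : ℕ} (hro : Odd r) (h4 : y ^ 4 = 1)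
    (hr : y ^ r = 1) : y = 1 := by
  have h : orderOf y ∣ Nat.gcd 4 r := Nat.dvd_gcd (orderOf_dvd_of_pow_eq_one h4) (orderOf_dvd_of_pow_eq_one hr)
  rw [show Nat.gcd 4 r = 1 from Nat.Coprime.mul_left (m := 2) (n := 2) hro.coprime_two_left hro.coprime_two_left,
    Nat.dvd_one] at h
  exact orderOf_eq_one_iff.1 h

/-- The fusion theorem. -/
theorem EvenType.semisimple_fusion (hE : EvenType q P) {k : ℕ} (hn : Fintype.card ι = 2 * k) (hdet : HDet k)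
    {I : Subgroup (MulAut POm)}
    (hI : ∀ β, β ∈ I ↔ ∃ (g : GL ι F) (hg : Cfsg.IsSemisimilarityPair (⇑q) g 1), P g ∧ β = semi g 1 hg)
    {x : MulAut POm} (hx : x ∈ Cfsg.pgoAut F (⇑q)) {r : ℕ} (hr : r.Prime) (hro : Odd r)
    (hcop : r.Coprime (Fintype.card F)) (hxr : orderOf x = r) :
    (∀ y, (Cfsg.IsConjUnder (Cfsg.Inn POm) x y ↔ Cfsg.IsConjUnder I x y) ∧
      (Cfsg.IsConjUnder (Cfsg.psoAut F (⇑q)) x y ↔ Cfsg.IsConjUnder I x y)) ∧
    ∀ y, Cfsg.IsConjUnder (Cfsg.poAut F (⇑q)) x y ↔ Cfsg.IsConjUnder (Cfsg.pgoAut F (⇑q)) x y := by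
  classical
  have hxp : x ^ r = 1 := hxr ▸ pow_orderOf_eq_one x
  have hxI : x ∈ Cfsg.Inn POm := by
    by_cases hneg : ∃ g : Cfsg.isometryGroup F (⇑q), g ∈ Cfsg.Omega F (⇑q) ∧ ((g : GL ι F) : Matrix ι ι F) = -1
    · obtain ⟨φ, -, hφ⟩ := hE.pgo_quot_two hneg
      have h1 : φ ⟨x, hx⟩ = 1 := eq_one_of_pow_odd hro (by generalize φ ⟨x, hx⟩ = y; revert y; decide)
        (by rw [← map_pow, show (⟨x, hx⟩ : ↥(Cfsg.pgoAut F (⇑q))) ^ r = 1 from Subtype.ext hxp, map_one])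
      have h2 : (⟨x, hx⟩ : ↥(Cfsg.pgoAut F (⇑q))) ∈ φ.ker := h1
      rw [hφ] at h2
      exact h2
    · obtain ⟨φ, -, hφ⟩ := hE.pgo_quot_one hneg
      have h1 : φ ⟨x, hx⟩ = 1 := eq_one_of_pow_odd hro (by generalize φ ⟨x, hx⟩ = y; revert y; decide)
        (by rw [← map_pow, show (⟨x, hx⟩ : ↥(Cfsg.pgoAut F (⇑q))) ^ r = 1 from Subtype.ext hxp, map_one])
      have h2 : (⟨x, hx⟩ : ↥(Cfsg.pgoAut F (⇑q))) ∈ φ.ker := h1
      rw [hφ] at h2
      exact h2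
  obtain ⟨g, G, hGc, hg, hgr, hne, hxG⟩ : ∃ (g : GL ι F) (G : GOg), (G : GL ι F) = g ∧
      g ∈ Cfsg.isometryGroup F (⇑q) ∧ g ^ r = 1 ∧ g ≠ 1 ∧ x = conjGO G := by
    obtain ⟨z, rfl⟩ := hxI
    obtain ⟨A, rfl, e⟩ := inn_eq z
    rw [e] at hxp ⊢
    obtain ⟨G₀, hG₀⟩ : ∃ G₀ : GOg, (G₀ : GL ι F) = gl A := ⟨⟨gl A, go_of_pair (isPair_iso A.1.2)⟩, rfl⟩
    have e0 : semi (gl A) 1 (isPair_iso A.1.2) = conjGO G₀ := semi_congr _ _ hG₀.symm rfl
    rw [e0] at hxp ⊢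
    rw [← map_pow, conjGO_apply] at hxp
    obtain ⟨-, a, ha⟩ := semi_eq_semi hE.geo hE.seven _ _
      (hxp.trans (semi_one' (⟨1, fun v => by simp⟩ : Cfsg.IsSemisimilarityPair (⇑q) (1 : GL ι F) 1)).symm)
    rw [mul_one, Subgroup.coe_pow, hG₀] at ha
    obtain ⟨v, hv⟩ := hE.exists_value_one
    have haa : a * a = 1 := by
      have h := mem_isometry.1 (pow_mem A.1.2 r : gl A ^ r ∈ Cfsg.isometryGroup F (⇑q)) v
      rw [ha, scal_mv, QuadraticMap.map_smul, smul_eq_mul, hv, mul_one] at h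
      exact Units.ext (by simpa using h)
    obtain ⟨S, hS⟩ : ∃ S : GOg, (S : GL ι F) = scal a := ⟨⟨scal a, scal_mem_go hE.geo hE.seven a⟩, rfl⟩
    have hSiso : (scal a : GL ι F) ∈ Cfsg.isometryGroup F (⇑q) := mem_isometry.2 fun w => by
      rw [scal_mv, QuadraticMap.map_smul, smul_eq_mul, ← Units.val_mul, haa, Units.val_one, one_mul]
    have hS1 : conjGO S = 1 := (semi_congr _ (isPair_scal a) hS rfl).trans (semi_scal a _)
    refine ⟨_, S * G₀, rfl, ?_, ?_, fun h1 => ?_, by rw [map_mul, hS1, one_mul]⟩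
    · rw [Subgroup.coe_mul, hS, hG₀]; exact mul_mem hSiso A.1.2
    · rw [Subgroup.coe_mul, hS, hG₀, (show Commute (scal a : GL ι F) (gl A) from scal_mul_comm a _).mul_pow, ha,
        ← map_pow, ← map_mul]
      obtain ⟨j, rfl⟩ := hro
      rw [pow_succ, pow_mul, pow_two, haa, one_pow, one_mul, haa, map_one]
    · have : conjGO (S * G₀) = 1 := by rw [show S * G₀ = 1 from Subtype.ext h1, map_one]
      rw [map_mul, hS1, one_mul] at this
      rw [← e0, ← e] at this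
      rw [this, orderOf_one] at hxr
      exact hr.one_lt.ne hxr
  obtain ⟨χ, hker, -, hrefl, hPar, -⟩ := hE.exists_spin
  obtain ⟨Gl, hGl⟩ : ∃ Gl : Module.End F (ι → F), ∀ v, Gl v = mv g v :=
    ⟨Matrix.toLin' (g : Matrix ι ι F), fun v => Matrix.toLin'_apply _ _⟩
  obtain ⟨R, _, _, _, _, ⟨T⟩⟩ := exists_torus q hE.two hr hro (G := Gl) (by
      refine LinearMap.ext fun v => ?_
      have : ∀ j : ℕ, (Gl ^ j) v = mv (g ^ j) v := fun j => by
        induction j with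
        | zero => simp [mv]
        | succ j ih => rw [pow_succ', pow_succ', Module.End.mul_apply, ih, hGl, mv_mul]
      rw [this, hgr, Cfsg.Agent.Transvec.mv_one, Module.End.one_apply])
    hcop (fun v => by rw [hGl, mem_isometry.1 hg])
  obtain ⟨y, hy1, hy2, hyc⟩ := T.exists_rot hE.nondeg hE.two hrefl
    (fun e => hne (ext_mv fun v => by rw [← hGl, e, Cfsg.Agent.Transvec.mv_one]; rfl))
  obtain ⟨c₀, hc₀⟩ := FiniteField.exists_nonsquare (F := F) (fun h => hE.two (by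
    haveI := ringChar.of_eq h; exact CharTwo.two_eq_zero))
  have hc0 : c₀ ≠ 0 := fun e => hc₀ (e ▸ IsSquare.zero)
  obtain ⟨h, hh, hhP, hhc⟩ := hE.exists_sim_comm hn hdet hg hr hro hgr hcop (Units.mk0 c₀ hc0)
  obtain ⟨Y, hY⟩ : ∃ Y : GOg, (Y : GL ι F) = y := ⟨⟨(y : GL ι F), go_of_pair (isPair_iso y.2)⟩, rfl⟩
  obtain ⟨H, hH⟩ : ∃ H : GOg, (H : GL ι F) = h := ⟨⟨h, Units.mk0 c₀ hc0, hh⟩, rfl⟩
  have hYx : conjGO Y * x = x * conjGO Y := by
    rw [hxG, ← map_mul, ← map_mul]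
    refine congrArg conjGO (Subtype.ext (ext_mv fun v => ?_))
    rw [Subgroup.coe_mul, Subgroup.coe_mul, hY, hGc, mv_mul, mv_mul, ← hGl, ← hGl]
    exact (hyc v).symm
  have hHx : conjGO H * x = x * conjGO H := by
    rw [hxG, ← map_mul, ← map_mul]
    refine congrArg conjGO (Subtype.ext ?_)
    rw [Subgroup.coe_mul, Subgroup.coe_mul, hH, hGc, hhc]
  have hYpso : conjGO Y ∈ Cfsg.psoAut F (⇑q) := (hE.conj_mem_pso Y).2
    ⟨⟨1, fun v => by rw [hY, mem_isometry.1 y.2]; simp⟩, hY ▸ (hPar y).1 hy1⟩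
  have hsqU : ∀ u : GOg, (∃ a : Fˣ, ∀ v, q (mv (u : GL ι F) v) = (a : F) * a * q v) ∨
      (∃ a : Fˣ, ∀ v, q (mv ((u * H⁻¹ : GOg) : GL ι F) v) = (a : F) * a * q v) := by
    intro u
    obtain ⟨μ, hμ⟩ := u.2
    by_cases hs : IsSquare (μ : F)
    · obtain ⟨s, hs⟩ := hs
      exact Or.inl ⟨Units.mk0 s (fun e => μ.ne_zero (by rw [hs, e, mul_zero])), fun v => by
        rw [Units.val_mk0, ← hs]; exact hμ v⟩
    · have hch : ringChar F ≠ 2 := fun h => hE.two (by haveI := ringChar.of_eq h; exact CharTwo.two_eq_zero)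
      obtain ⟨s, hs'⟩ : IsSquare ((μ : F) / c₀) := by
        rw [FiniteField.isSquare_iff hch (div_ne_zero μ.ne_zero hc0), div_pow,
          (FiniteField.pow_dichotomy hch μ.ne_zero).resolve_left
            fun e => hs ((FiniteField.isSquare_iff hch μ.ne_zero).2 e),
          (FiniteField.pow_dichotomy hch hc0).resolve_left
            fun e => hc₀ ((FiniteField.isSquare_iff hch hc0).2 e), div_self (neg_ne_zero.2 one_ne_zero)]
      refine Or.inr ⟨Units.mk0 s (fun e => (div_ne_zero μ.ne_zero hc0) (by rw [hs', e, mul_zero])), fun v => ?_⟩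
      obtain ⟨w, rfl⟩ : ∃ w, mv h w = v := ⟨mv h⁻¹ v, mv_mv_inv h v⟩
      rw [Subgroup.coe_mul, Subgroup.coe_inv, hH, mv_mul, mv_inv_mv, Units.val_mk0, ← hs',
        show q (mv (u : GL ι F) w) = (μ : F) * q w from hμ w, hh, Units.val_mk0]
      field_simp
  have hpso_cover : ∀ β ∈ Cfsg.psoAut F (⇑q), β ∈ Cfsg.Inn POm ∨ β * (conjGO Y)⁻¹ ∈ Cfsg.Inn POm := by
    intro β hβ
    by_cases hneg : ∃ g : Cfsg.isometryGroup F (⇑q), g ∈ Cfsg.Omega F (⇑q) ∧ ((g : GL ι F) : Matrix ι ι F) = -1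
    · by_cases h1 : β ∈ Cfsg.Inn POm
      · exact Or.inl h1
      have hYn : conjGO Y ∉ Cfsg.Inn POm := fun h => hy2 ((hE.mem_inn_of_neg hneg hker y).1
        (by rwa [show semi (y : GL ι F) 1 (isPair_iso y.2) = conjGO Y from semi_congr _ _ hY.symm rfl]))
      exact Or.inr ((Subgroup.mul_mem_iff_of_index_two
        (H := (Cfsg.Inn POm).subgroupOf (Cfsg.psoAut F (⇑q))) (hE.relIndex_pso.1 hneg)
        (a := ⟨β, hβ⟩) (b := ⟨(conjGO Y)⁻¹, inv_mem hYpso⟩)).2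
        (iff_of_false h1 fun h => hYn ((Subgroup.inv_mem_iff _).1 h)))
    · exact Or.inl (hE.pso_eq_inn hneg ▸ hβ)
  have hconj : ∀ u : GOg, P (u : GL ι F) → ∃ β ∈ Cfsg.psoAut F (⇑q), ∃ c, c * x = x * c ∧ conjGO u = β * c := by
    intro u hu
    rcases hsqU u with hs | hs
    · exact ⟨conjGO u, (hE.conj_mem_pso u).2 ⟨hs, hu⟩, 1, by rw [one_mul, mul_one], (mul_one _).symm⟩
    · refine ⟨conjGO (u * H⁻¹), (hE.conj_mem_pso _).2 ⟨hs, ?_⟩, conjGO H, hHx, by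
        rw [← map_mul, inv_mul_cancel_right]⟩
      rw [Subgroup.coe_mul, hE.p_mul _ _ (pair_go u) (pair_go H⁻¹)]
      refine iff_of_true hu ?_
      have h1 := hE.p_mul (H : GL ι F) ((H⁻¹ : GOg) : GL ι F) (pair_go H) (pair_go H⁻¹)
      rw [show (H : GL ι F) * ((H⁻¹ : GOg) : GL ι F) = 1 from mul_inv_cancel _, iff_true_left hE.p_one] at h1
      exact h1.1 (hH ▸ hhP)
  have hcovI : ∀ β ∈ I, ∃ t ∈ Cfsg.Inn POm, ∃ c, c * x = x * c ∧ β = t * c := by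
    intro β hβ
    obtain ⟨u, hu, hPu, rfl⟩ := (hI β).1 hβ
    obtain ⟨β', hβ', c, hc, e⟩ := hconj ⟨u, go_of_pair hu⟩ hPu
    change semi u 1 hu = β' * c at e
    rcases hpso_cover β' hβ' with h1 | h1
    · exact ⟨β', h1, c, hc, e⟩
    · refine ⟨_, h1, conjGO Y * c, ?_, by rw [e, ← mul_assoc, inv_mul_cancel_right]⟩
      rw [mul_assoc, hc, ← mul_assoc, hYx, mul_assoc]
  have hpsoI : Cfsg.psoAut F (⇑q) ≤ I := fun β hβ => by
    have hle : Cfsg.psoAut F (⇑q) ≤ (conjGO (Q := ⇑q)).range := by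
      rw [Cfsg.psoAut, Cfsg.autSubgroupOf, Subgroup.closure_le]
      rintro β ⟨g, hg, hi⟩
      exact ⟨⟨g, go_of_pair (isPair_iso hg.1)⟩, (semi_eq_of_induced _ hi).symm⟩
    obtain ⟨u, rfl⟩ := hle hβ
    exact (hI _).2 ⟨(u : GL ι F), pair_go u, ((hE.conj_mem_pso u).1 hβ).2, rfl⟩
  refine ⟨fun z => ⟨conj_iff_of_cover (hE.inn_le_pso.trans hpsoI) hcovI z, conj_iff_of_cover hpsoI
    (fun β hβ => by
      obtain ⟨t, ht, c, hc, e⟩ := hcovI β hβ
      exact ⟨t, hE.inn_le_pso ht, c, hc, e⟩) z⟩, conj_iff_of_cover ?_ ?_⟩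
  · rw [Cfsg.poAut, Cfsg.autSubgroupOf, Subgroup.closure_le]
    rintro β ⟨g', hg', hi⟩
    exact Subgroup.subset_closure ⟨g', go_of_pair (isPair_iso hg'), hi⟩
  · intro β hβ
    rw [hE.pgo_range] at hβ
    obtain ⟨u, rfl⟩ := hβ
    have hpo : ∀ w : GOg, (∃ a : Fˣ, ∀ v, q (mv (w : GL ι F) v) = (a : F) * a * q v) →
        conjGO w ∈ Cfsg.poAut F (⇑q) := by
      rintro w ⟨a, ha⟩
      have hiso : scal a⁻¹ * (w : GL ι F) ∈ Cfsg.isometryGroup F (⇑q) := mem_isometry.2 fun z => by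
        rw [mv_mul, scal_mv, QuadraticMap.map_smul, smul_eq_mul, ha, Units.val_inv_eq_inv_val]
        field_simp
      have e : conjGO w = semi (scal a⁻¹ * (w : GL ι F)) 1 (isPair_iso hiso) := by
        rw [← semi_mul_one (isPair_scal a⁻¹) (pair_go w), semi_scal, one_mul]
        rfl
      rw [e]
      exact Subgroup.subset_closure ⟨_, hiso, induced_semi _⟩
    rcases hsqU u with hs | hs
    · exact ⟨conjGO u, hpo u hs, 1, by rw [one_mul, mul_one], (mul_one _).symm⟩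
    · exact ⟨conjGO (u * H⁻¹), hpo _ hs, conjGO H, hHx, by rw [← map_mul, inv_mul_cancel_right]⟩

/-- The fusion theorem for a form presented as a function. -/
theorem EvenType.semisimple_fusion_of (hE : EvenType q P) {k : ℕ} (hn : Fintype.card ι = 2 * k) (hdet : HDet k)
    {Q : (ι → F) → F} (hQ : ⇑q = Q) {I : Subgroup (MulAut (Cfsg.POmega F Q))}
    (hI : ∀ β, β ∈ I ↔ ∃ (g : GL ι F) (hg : Cfsg.IsSemisimilarityPair Q g 1), P g ∧ β = semi g 1 hg)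
    {x : MulAut (Cfsg.POmega F Q)} (hx : x ∈ Cfsg.pgoAut F Q) {r : ℕ} (hr : r.Prime) (hro : Odd r)
    (hcop : r.Coprime (Fintype.card F)) (hxr : orderOf x = r) :
    (∀ y, (Cfsg.IsConjUnder (Cfsg.Inn (Cfsg.POmega F Q)) x y ↔ Cfsg.IsConjUnder I x y) ∧
      (Cfsg.IsConjUnder (Cfsg.psoAut F Q) x y ↔ Cfsg.IsConjUnder I x y)) ∧
    ∀ y, Cfsg.IsConjUnder (Cfsg.poAut F Q) x y ↔ Cfsg.IsConjUnder (Cfsg.pgoAut F Q) x y := by
  subst hQ
  exact hE.semisimple_fusion hn hdet hI hx hr hro hcop hxr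

theorem coprime_card_of_ne {F : Type*} [Field F] [Fintype F] {p r : ℕ} [Fact p.Prime] [CharP F p] (hr : r.Prime)
    (hrp : r ≠ p) : r.Coprime (Fintype.card F) := by
  obtain ⟨n, -, hn⟩ := FiniteField.card F p
  rw [hn]
  exact ((Nat.coprime_primes hr Fact.out).2 hrp).pow_right _

end Cfsg.Agent.AutPOmega
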