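import Cfsg.Agent.Lib.AutPOmega.SemisimpleAlg
import Mathlib.FieldTheory.Finite.GaloisField

/-!
A special isometry of non-trivial spinor norm commuting with an isometry of odd prime order.
-/

set_option autoImplicit false

universe u v

namespace Cfsg.Agent.AutPOmega

open Matrix Module QuadraticMap
open Cfsg.Agent.Orth (SpinVal SqCls sqc reflVal)
open Cfsg.Agent.Transvec (mv mv_mul mv_inj mv_inv_mv mv_mv_inv ext_mv)

variable {ι : Type} [Fintype ι] [DecidableEq ι] {F : Type u} [Field F] [Fintype F]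

/-- The product of the reflections of an orthogonal family. -/
theorem exists_orth_refl (q : QuadraticForm F (ι → F)) (h2 : (2 : F) ≠ 0)
    {χ : Cfsg.isometryGroup F (⇑q) →* SpinVal F}
    (hrefl : ∀ (g : Cfsg.isometryGroup F (⇑q)) (v : ι → F), q v ≠ 0 →
      ((g : GL ι F) : Matrix ι ι F) = Cfsg.reflectionMatrix (⇑q) v → χ g = reflVal q v) :
    ∀ (n : ℕ) (b : Fin n → (ι → F)), (∀ i j, i ≠ j → polar q (b i) (b j) = 0) → (∀ i, q (b i) ≠ 0) →
    ∃ E : Cfsg.isometryGroup F (⇑q),
      χ E = ((Multiplicative.ofAdd (1 : ZMod 2)) ^ n, sqc F (∏ i, q (b i))) ∧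
      (∀ i, mv (E : GL ι F) (b i) = -b i) ∧
      ∀ u, (∀ i, polar q (b i) u = 0) → mv (E : GL ι F) u = u := by
  intro n
  induction n with
  | zero =>
    intro b _ _
    refine ⟨1, ?_, fun i => i.elim0, fun u _ => ?_⟩
    · rw [map_one, Finset.univ_eq_empty, Finset.prod_empty, pow_zero, Cfsg.Agent.Orth.sqc_one]
      rfl
    · rw [Subgroup.coe_one, Cfsg.Agent.Transvec.mv_one]
  | succ n ih =>
    intro b horth hne
    obtain ⟨E, hE, hEb, hEfix⟩ := ih (fun i => b i.castSucc)
      (fun i j h => horth _ _ fun e => h (Fin.castSucc_injective _ e)) fun i => hne _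
    obtain ⟨r, hr, -⟩ := Cfsg.Agent.Orth.exists_reflection q (hne (Fin.last n))
    have hrv : ∀ x, mv (r : GL ι F) x = x - (polar q x (b (Fin.last n)) / q (b (Fin.last n))) • b (Fin.last n) :=
      fun x => by
        show ((r : GL ι F) : Matrix ι ι F) *ᵥ x = _
        rw [hr, Cfsg.Agent.Orth.reflectionMatrix_mulVec]
    refine ⟨E * r, ?_, fun i => ?_, fun u hu => ?_⟩
    · rw [map_mul, hE, hrefl r _ (hne _) hr, Fin.prod_univ_castSucc]
      refine Prod.ext (pow_succ _ n).symm ?_
      show sqc F _ * sqc F _ = _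
      rw [Cfsg.Agent.Orth.sqc_mul (Finset.prod_ne_zero_iff.2 fun i _ => hne _) (hne _)]
    · rw [Subgroup.coe_mul, mv_mul, hrv]
      induction i using Fin.lastCases with
      | last =>
        rw [polar_self, nsmul_eq_mul, Nat.cast_ofNat, mul_div_assoc, div_self (hne _), mul_one, two_smul,
          show b (Fin.last n) - (b (Fin.last n) + b (Fin.last n)) = (-1 : F) • b (Fin.last n) by simp,
          Cfsg.Agent.Transvec.mv_smul,
          hEfix _ fun i => horth _ _ (Fin.castSucc_lt_last i).ne, neg_one_smul]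
      | cast i => rw [horth _ _ (Fin.castSucc_lt_last i).ne, zero_div, zero_smul, sub_zero, hEb i]
    · rw [Subgroup.coe_mul, mv_mul, hrv, polar_comm, hu, zero_div, zero_smul, sub_zero, hEfix u fun i => hu _]

variable {q : QuadraticForm F (ι → F)}

/-- The data of a line over a field component. -/
theorem exists_line_refl (h2 : (2 : F) ≠ 0) {χ : Cfsg.isometryGroup F (⇑q) →* SpinVal F}
    (hrefl : ∀ (g : Cfsg.isometryGroup F (⇑q)) (v : ι → F), q v ≠ 0 →
      ((g : GL ι F) : Matrix ι ι F) = Cfsg.reflectionMatrix (⇑q) v → χ g = reflVal q v)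
    {G : Module.End F (ι → F)} {R : Type u} [CommRing R] [Algebra F R] (T : Torus q G R)
    {K : Type u} [Field K] [Algebra F K] [Module.Finite F K] (u : ι → F) (L : K →ₗ[F] (ι → F))
    (π : R →ₐ[F] K) (hπ : Function.Surjective π) (hL : ∀ z, L (π z) = T.ψ z u)
    (hB : (LinearMap.BilinForm.comp (polarBilin q) L L).Nondegenerate) :
    ∃ (b : Basis (Fin (finrank F K)) F K) (E : Cfsg.isometryGroup F (⇑q)),
      (∀ i, q (L (b i)) ≠ 0) ∧ (∀ i j, i ≠ j → polar q (L (b i)) (L (b j)) = 0) ∧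
      χ E = ((Multiplicative.ofAdd (1 : ZMod 2)) ^ finrank F K, sqc F (∏ i, q (L (b i)))) ∧
      (∀ z, mv (E : GL ι F) (T.ψ z u) = -T.ψ z u) ∧
      ∀ w, (∀ z, polar q (T.ψ z u) w = 0) → mv (E : GL ι F) w = w := by
  haveI : Invertible (2 : F) := invertibleOfNonzero h2
  obtain ⟨b, hb⟩ := LinearMap.BilinForm.exists_orthogonal_basis (K := F)
    (B := LinearMap.BilinForm.comp (polarBilin q) L L) ⟨fun x y => by
      show polar q (L x) (L y) = polar q (L y) (L x)
      exact polar_comm _ _ _⟩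
  have horth : ∀ i j, i ≠ j → polar q (L (b i)) (L (b j)) = 0 := fun i j h => hb h
  have hne : ∀ i, q (L (b i)) ≠ 0 := fun i e => by
    refine b.ne_zero i (hB.1 (b i) fun y => ?_)
    have : (LinearMap.BilinForm.comp (polarBilin q) L L) (b i) = 0 := b.ext fun j => by
      show polar q (L (b i)) (L (b j)) = 0
      rcases eq_or_ne i j with rfl | h
      · rw [polar_self, e, smul_zero]
      · exact horth i j h
    rw [this, LinearMap.zero_apply]
  obtain ⟨E, hE, hEb, hEfix⟩ := exists_orth_refl q h2 hrefl _ (fun i => L (b i)) horth hne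
  refine ⟨b, E, hne, horth, hE, fun z => ?_, fun w hw => hEfix w fun i => ?_⟩
  · have key : (Matrix.toLin' ((E : GL ι F) : Matrix ι ι F)).comp L = -L := b.ext fun i => by
      simp only [LinearMap.comp_apply, Matrix.toLin'_apply, LinearMap.neg_apply]
      exact hEb i
    rw [← hL]
    have := LinearMap.congr_fun key (π z)
    simpa only [LinearMap.comp_apply, Matrix.toLin'_apply, LinearMap.neg_apply] using this
  · obtain ⟨z, hz⟩ := hπ (b i)
    rw [← hz, hL]
    exact hw z

/-- The plane of a vector over the self-adjoint algebra. -/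
def Torus.plane {G : Module.End F (ι → F)} {R : Type u} [CommRing R] [Algebra F R] (T : Torus q G R) (u : ι → F) :
    Submodule F (ι → F) :=
  LinearMap.range (T.ψ.toLinearMap.flip u) ⊔ LinearMap.range (T.η.comp (T.ψ.toLinearMap.flip u))

theorem Torus.mem_plane {G : Module.End F (ι → F)} {R : Type u} [CommRing R] [Algebra F R] (T : Torus q G R)
    {u w : ι → F} : w ∈ T.plane u ↔ ∃ s t, T.ψ s u + T.η (T.ψ t u) = w := by
  rw [Torus.plane, Submodule.mem_sup]
  constructor
  · rintro ⟨_, ⟨s, rfl⟩, _, ⟨t, rfl⟩, rfl⟩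
    exact ⟨s, t, rfl⟩
  · rintro ⟨s, t, rfl⟩
    exact ⟨_, ⟨s, rfl⟩, _, ⟨t, rfl⟩, rfl⟩

/-- The reflection of a line anticommutes with the skew element on the plane. -/
theorem Torus.line_refl_plane (h2 : (2 : F) ≠ 0) {G : Module.End F (ι → F)} {R : Type u} [CommRing R]
    [Algebra F R] (T : Torus q G R) {u : ι → F} {E : GL ι F} (h1 : ∀ z, mv E (T.ψ z u) = -T.ψ z u)
    (h0 : ∀ w, (∀ z, polar q (T.ψ z u) w = 0) → mv E w = w) {p : ι → F} (hp : p ∈ T.plane u) :
    mv E (T.η p) = -T.η (mv E p) ∧ ∀ z, mv E (T.ψ z p) = T.ψ z (mv E p) := by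
  have hη : ∀ t, mv E (T.η (T.ψ t u)) = T.η (T.ψ t u) := fun t => h0 _ fun z => by
    have key : ∀ z, polar q u (T.η (T.ψ z u)) = 0 := fun z => by
      have h := T.skew u (T.ψ z u)
      rw [← T.adj, ← T.ηcomm, polar_comm] at h
      exact mul_left_cancel₀ h2 (by linear_combination h)
    rw [T.adj, ← T.ηcomm, ← Module.End.mul_apply (T.ψ z), ← map_mul]
    exact key _
  obtain ⟨s, t, rfl⟩ := T.mem_plane.1 hp
  constructor
  · rw [map_add, T.sq, ← Module.End.mul_apply (T.ψ T.d), ← map_mul, Cfsg.Agent.Transvec.mv_add, hη, h1,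
      Cfsg.Agent.Transvec.mv_add, h1, hη, map_add, map_neg, T.sq, ← Module.End.mul_apply (T.ψ T.d), ← map_mul]
    abel
  · intro z
    rw [map_add, ← T.ηcomm, ← Module.End.mul_apply (T.ψ z), ← Module.End.mul_apply (T.ψ z), ← map_mul, ← map_mul,
      Cfsg.Agent.Transvec.mv_add, h1, hη, Cfsg.Agent.Transvec.mv_add, h1, hη, map_add, map_neg, ← T.ηcomm,
      ← Module.End.mul_apply (T.ψ z), ← Module.End.mul_apply (T.ψ z), ← map_mul, ← map_mul]

/-- A commuting special isometry of non-trivial spinor norm, trivial on the fixed space. -/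
theorem Torus.exists_rot_fix (hq : (polarBilin q).Nondegenerate) (h2 : (2 : F) ≠ 0)
    {χ : Cfsg.isometryGroup F (⇑q) →* SpinVal F}
    (hrefl : ∀ (g : Cfsg.isometryGroup F (⇑q)) (v : ι → F), q v ≠ 0 →
      ((g : GL ι F) : Matrix ι ι F) = Cfsg.reflectionMatrix (⇑q) v → χ g = reflVal q v)
    {G : Module.End F (ι → F)} {R : Type u} [CommRing R] [Algebra F R] [Finite R] [IsReduced R]
    (T : Torus q G R) (hne : G ≠ 1) :
    ∃ h : Cfsg.isometryGroup F (⇑q), (χ h).1 = 1 ∧ χ h ≠ 1 ∧
      (∀ u, G u = u → mv (h : GL ι F) u = u) ∧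
      ∀ u, G (mv (h : GL ι F) u) = mv (h : GL ι F) (G u) := by
  classical
  obtain ⟨I, hI⟩ : ∃ I : MaximalSpectrum R, Ideal.Quotient.mk I.asIdeal T.d ≠ 0 := by
    by_contra hcon
    push Not at hcon
    have h0 : T.d = 0 := (IsArtinianRing.equivPi R).injective (funext fun I => by
      rw [IsArtinianRing.equivPi_apply, map_zero]; exact hcon I)
    refine hne (LinearMap.ext fun u => (T.fixed u).1 ?_)
    rw [h0, zero_mul, map_zero, LinearMap.zero_apply]
  haveI := I.isMaximal
  letI := Ideal.Quotient.field I.asIdeal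
  haveI : Finite (R ⧸ I.asIdeal) := Finite.of_surjective _ Ideal.Quotient.mk_surjective
  haveI : Module.Finite F (R ⧸ I.asIdeal) := Module.Finite.of_finite
  let π : R →ₐ[F] (R ⧸ I.asIdeal) := Ideal.Quotient.mkₐ F I.asIdeal
  have hπ : Function.Surjective π := Ideal.Quotient.mk_surjective
  obtain ⟨eI, heI⟩ := (IsArtinianRing.equivPi R).surjective
    (Pi.single I 1 : ∀ J : MaximalSpectrum R, R ⧸ J.asIdeal)
  have heI1 : π eI = 1 := by
    have := congrFun heI I
    rw [IsArtinianRing.equivPi_apply, Pi.single_eq_same] at this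
    exact this
  have hkill : ∀ z, π z = 0 → z * eI = 0 := fun z hz => (IsArtinianRing.equivPi R).injective (funext fun J => by
    rw [IsArtinianRing.equivPi_apply, map_zero]
    show Ideal.Quotient.mk J.asIdeal (z * eI) = 0
    rw [map_mul]
    have hJ := congrFun heI J
    rw [IsArtinianRing.equivPi_apply] at hJ
    rcases eq_or_ne J I with rfl | h
    · rw [show Ideal.Quotient.mk J.asIdeal z = 0 from hz, zero_mul]
    · rw [Pi.single_eq_of_ne h] at hJ
      rw [show Ideal.Quotient.mk J.asIdeal eI = 0 from hJ, mul_zero])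
  have hpe : π (1 - eI) = 0 := by rw [map_sub, map_one, heI1, sub_self]
  have hee : eI * eI = eI := by
    have := hkill _ hpe
    rw [sub_mul, one_mul, sub_eq_zero] at this
    exact this.symm
  obtain ⟨v, hvU, hv⟩ : ∃ v, T.ψ eI v = v ∧ q v ≠ 0 := by
    by_contra hcon
    push Not at hcon
    have hall : ∀ u, q (T.ψ eI u) = 0 := fun u => hcon _ (by rw [← Module.End.mul_apply, ← map_mul, hee])
    have hzero : ∀ u w, polar q u (T.ψ eI w) = 0 := fun u w => by
      have : polar q (T.ψ eI u) (T.ψ eI w) = 0 := by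
        simp only [polar, ← map_add, hall, sub_zero]
      rwa [T.adj, ← Module.End.mul_apply, ← map_mul, hee] at this
    have he0 : eI = 0 := T.inj (LinearMap.ext fun w => by
      rw [map_zero, LinearMap.zero_apply]
      exact hq.1 _ fun u => by
        show polar q (T.ψ eI w) u = 0
        rw [polar_comm]; exact hzero u w)
    rw [he0, map_zero] at heI1
    exact zero_ne_one heI1
  have hwd : ∀ z z', π z = π z' → T.ψ z v = T.ψ z' v := fun z z' h => by
    rw [← sub_eq_zero, ← LinearMap.sub_apply, ← map_sub, ← hvU, ← Module.End.mul_apply, ← map_mul,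
      hkill _ (by rw [map_sub, h, sub_self]), map_zero, LinearMap.zero_apply]
  have hker : ∀ z, T.ψ z v = 0 → π z = 0 := fun z hz => by
    by_contra h
    obtain ⟨z', hz'⟩ := hπ (π z)⁻¹
    have e : T.ψ (z' * z) v = T.ψ 1 v := hwd _ _ (by rw [map_mul, map_one, hz', inv_mul_cancel₀ h])
    rw [map_mul, Module.End.mul_apply, hz, map_zero, map_one, Module.End.one_apply] at e
    exact hv (by rw [← e, QuadraticMap.map_zero])
  obtain ⟨Lv, hLv⟩ : ∃ L : (R ⧸ I.asIdeal) →ₗ[F] (ι → F), ∀ z, L (π z) = T.ψ z v := by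
    choose sec hsec using hπ
    refine ⟨{ toFun := fun k => T.ψ (sec k) v, map_add' := fun k l => ?_, map_smul' := fun c k => ?_ },
      fun z => hwd _ _ (hsec _)⟩
    · rw [← LinearMap.add_apply, ← map_add]
      exact hwd _ _ (by rw [hsec, map_add, hsec, hsec])
    · rw [RingHom.id_apply, ← LinearMap.smul_apply, ← map_smul]
      exact hwd _ _ (by rw [hsec, map_smul, hsec])
  have hnd : (LinearMap.BilinForm.comp (polarBilin q) Lv Lv).Nondegenerate := by
    have key : ∀ k, (∀ l, polar q (Lv k) (Lv l) = 0) → k = 0 := fun k hk => by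
      obtain ⟨z, rfl⟩ := hπ k
      by_contra h
      obtain ⟨z', hz'⟩ := hπ (π z)⁻¹
      have e := hk (π z')
      rw [hLv, hLv, T.adj, ← Module.End.mul_apply, ← map_mul] at e
      rw [hwd (z * z') 1 (by rw [map_mul, map_one, hz', mul_inv_cancel₀ h]), map_one, Module.End.one_apply,
        polar_self, nsmul_eq_mul, Nat.cast_ofNat] at e
      exact hv ((mul_eq_zero.1 e).resolve_left h2)
    exact ⟨fun k hk => key k hk, fun k hk => key k fun l => by rw [polar_comm]; exact hk l⟩
  obtain ⟨c₀, hc₀⟩ := FiniteField.exists_nonsquare (F := F) (fun h => h2 (by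
    haveI := ringChar.of_eq h; exact CharTwo.two_eq_zero))
  have hc0 : c₀ ≠ 0 := fun e => hc₀ (e ▸ IsSquare.zero)
  obtain ⟨κ, hκ⟩ := FiniteField.norm_surjective F (R ⧸ I.asIdeal) c₀
  have hκ0 : κ ≠ 0 := fun e => hc0 (by rw [← hκ, e, Algebra.norm_zero])
  obtain ⟨kz, hkz⟩ := hπ κ
  obtain ⟨x, y, hxy⟩ := T.exists_norm h2 kz
  have hπe : π T.e = 1 := by
    have h := congrArg π T.idem
    rw [map_mul] at h
    have hd : π T.d ≠ 0 := hI
    exact mul_right_cancel₀ hd (h.trans (one_mul _).symm)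
  have hxy' : π (x * x - T.d * (y * y)) = κ := by
    have h := congrArg π hxy
    rwa [map_mul, map_mul _ T.e kz, hπe, one_mul, one_mul, hkz] at h
  obtain ⟨w, hw⟩ : ∃ w, w = T.ψ x v + T.η (T.ψ y v) := ⟨_, rfl⟩
  obtain ⟨Lw, hLw⟩ : ∃ L : (R ⧸ I.asIdeal) →ₗ[F] (ι → F), ∀ z, L (π z) = T.ψ z w :=
    ⟨Lv.comp (LinearMap.mulRight F (π x)) + T.η.comp (Lv.comp (LinearMap.mulRight F (π y))), fun z => by
      rw [LinearMap.add_apply, LinearMap.comp_apply, LinearMap.comp_apply, LinearMap.comp_apply,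
        LinearMap.mulRight_apply, LinearMap.mulRight_apply, ← map_mul, ← map_mul, hLv, hLv, hw, map_add,
        ← T.ηcomm, ← Module.End.mul_apply (T.ψ z), ← Module.End.mul_apply (T.ψ z), ← map_mul, ← map_mul]⟩
  have hBw : ∀ k l, polar q (Lw k) (Lw l) = polar q (Lv k) (Lv (κ * l)) := fun k l => by
    obtain ⟨s, rfl⟩ := hπ k
    obtain ⟨t, rfl⟩ := hπ l
    have hsk : ∀ s t : R, polar q (T.ψ s v) (T.η (T.ψ t v)) = 0 := fun s t => by
      have h := T.skew v (T.ψ (s * t) v)
      rw [← T.adj, ← T.ηcomm, polar_comm] at h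
      rw [T.adj, ← T.ηcomm, ← Module.End.mul_apply (T.ψ s), ← map_mul]
      exact mul_left_cancel₀ h2 (by linear_combination h)
    rw [hLw, hLw, hw, map_add, map_add, ← T.ηcomm, ← T.ηcomm]
    simp only [← Module.End.mul_apply, ← map_mul]
    simp only [Module.End.mul_apply]
    rw [polar_add_left, polar_add_right, polar_add_right, hsk, polar_comm _ (T.η _) (T.ψ _ v), hsk, T.skew,
      T.sq, ← hxy', ← map_mul, hLv, hLv, add_zero, zero_add, T.adj, T.adj, T.adj, ← Module.End.mul_apply,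
      ← map_mul, ← Module.End.mul_apply, ← map_mul, ← Module.End.mul_apply, ← map_mul, ← Module.End.mul_apply,
      ← map_mul, ← sub_eq_add_neg, ← polar_sub_right, ← LinearMap.sub_apply, ← map_sub]
    congr 3
    ring
  have hndw : (LinearMap.BilinForm.comp (polarBilin q) Lw Lw).Nondegenerate := by
    refine ⟨fun k hk => hnd.1 k fun l => ?_, fun k hk => ?_⟩
    · have := hk (κ⁻¹ * l)
      change polar q (Lw k) (Lw (κ⁻¹ * l)) = 0 at this
      rwa [hBw, mul_inv_cancel_left₀ hκ0] at this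
    · refine hnd.1 k fun l => ?_
      have := hk (κ⁻¹ * l)
      change polar q (Lw (κ⁻¹ * l)) (Lw k) = 0 at this
      rw [polar_comm, hBw, mul_inv_cancel_left₀ hκ0] at this
      exact this
  obtain ⟨bv, Ev, hnev, horv, hχv, hEv1, hEv0⟩ := exists_line_refl h2 hrefl T v Lv π hπ hLv hnd
  obtain ⟨bw, Ew, hnew, horw, hχw, hEw1, hEw0⟩ := exists_line_refl h2 hrefl T w Lw π hπ hLw hndw
  have hdet : ∃ D : F, ∏ i, q (Lw (bw i)) = D * D * c₀ * ∏ i, q (Lv (bv i)) := by
    obtain ⟨Bv, hBv⟩ : ∃ B, B = LinearMap.BilinForm.comp (polarBilin q) Lv Lv := ⟨_, rfl⟩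
    have hdiag : ∀ (L : (R ⧸ I.asIdeal) →ₗ[F] (ι → F)) (b : Basis (Fin (finrank F (R ⧸ I.asIdeal))) F (R ⧸ I.asIdeal)),
        (∀ i j, i ≠ j → polar q (L (b i)) (L (b j)) = 0) →
        (LinearMap.BilinForm.toMatrix b (LinearMap.BilinForm.comp (polarBilin q) L L)).det =
          2 ^ finrank F (R ⧸ I.asIdeal) * ∏ i, q (L (b i)) := fun L b hb => by
      rw [show LinearMap.BilinForm.toMatrix b (LinearMap.BilinForm.comp (polarBilin q) L L) =
          Matrix.diagonal fun i => (2 : F) * q (L (b i)) by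
        ext i j
        rw [LinearMap.BilinForm.toMatrix_apply]
        show polar q (L (b i)) (L (b j)) = _
        rcases eq_or_ne i j with rfl | h
        · rw [Matrix.diagonal_apply_eq, polar_self, nsmul_eq_mul, Nat.cast_ofNat]
        · rw [Matrix.diagonal_apply_ne _ h, hb i j h], Matrix.det_diagonal, Finset.prod_mul_distrib,
        Finset.prod_const, Finset.card_univ, Fintype.card_fin]
    have e : LinearMap.BilinForm.comp (polarBilin q) Lw Lw =
        Bv.comp LinearMap.id (LinearMap.mulLeft F κ) := LinearMap.ext fun k => LinearMap.ext fun l => by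
      rw [hBv]; exact hBw k l
    have h1 := hdiag Lw bw horw
    rw [e, LinearMap.BilinForm.toMatrix_comp bv bw, Matrix.det_mul, Matrix.det_mul, Matrix.det_transpose,
      hBv, hdiag Lv bv horv] at h1
    obtain ⟨P, hP⟩ : ∃ P, P = (LinearMap.toMatrix bw bv (LinearMap.id : (R ⧸ I.asIdeal) →ₗ[F] R ⧸ I.asIdeal)).det :=
      ⟨_, rfl⟩
    have hM : (LinearMap.toMatrix bw bv (LinearMap.mulLeft F κ)).det = c₀ * P := by
      rw [← LinearMap.comp_id (LinearMap.mulLeft F κ), LinearMap.toMatrix_comp bw bv bv, Matrix.det_mul, ← hP,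
        LinearMap.det_toMatrix, ← hκ, Algebra.norm_apply]
      rfl
    rw [← hP, hM] at h1
    refine ⟨P, mul_left_cancel₀ (pow_ne_zero (finrank F (R ⧸ I.asIdeal)) h2) ?_⟩
    linear_combination -h1
  refine ⟨Ew * Ev, ?_, ?_, ?_, fun u => ?_⟩
  · rw [map_mul, hχw, hχv, Prod.fst_mul, ← mul_pow, show Multiplicative.ofAdd (1 : ZMod 2) *
      Multiplicative.ofAdd 1 = 1 by decide, one_pow]
  · intro e
    have e2 := congrArg Prod.snd e
    rw [map_mul, hχw, hχv, Prod.snd_mul, Prod.snd_one] at e2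
    obtain ⟨D, hD⟩ := hdet
    have hpv : ∏ i, q (Lv (bv i)) ≠ 0 := Finset.prod_ne_zero_iff.2 fun i _ => hnev i
    have hpw : ∏ i, q (Lw (bw i)) ≠ 0 := Finset.prod_ne_zero_iff.2 fun i _ => hnew i
    change sqc F (∏ i, q (Lw (bw i))) * sqc F (∏ i, q (Lv (bv i))) = 1 at e2
    rw [← Cfsg.Agent.Orth.sqc_mul hpw hpv, Cfsg.Agent.Orth.sqc_eq_one_iff (mul_ne_zero hpw hpv), hD] at e2
    obtain ⟨s, hs⟩ := e2
    have hD0 : D ≠ 0 := fun h => hpw (by rw [hD, h]; ring)
    refine hc₀ ⟨s / (D * ∏ i, q (Lv (bv i))), ?_⟩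
    field_simp
    linear_combination hs
  · intro u hu
    have he0 : T.ψ T.e u = 0 := (T.fixed u).2 hu
    have hev : T.ψ T.e v = v := by
      rw [hwd T.e 1 (by rw [hπe, map_one]), map_one, Module.End.one_apply]
    have hψe : ∀ t, T.ψ (T.e * t) v = T.ψ t v := fun t => by
      rw [mul_comm, map_mul, Module.End.mul_apply, hev]
    have hperp : ∀ s t : R, polar q (T.ψ s v + T.η (T.ψ t v)) u = 0 := fun s t => by
      rw [polar_add_left, T.skew, ← hψe s, ← hψe t, T.adj, T.adj]
      simp only [← Module.End.mul_apply (T.ψ _) T.η]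
      rw [mul_comm T.e s, map_mul, Module.End.mul_apply, he0, map_zero, QuadraticMap.polar_zero_right,
        mul_comm T.e t, map_mul, Module.End.mul_apply, Module.End.mul_apply, ← T.ηcomm, he0, map_zero, map_zero,
        QuadraticMap.polar_zero_right, neg_zero, add_zero]
    rw [Subgroup.coe_mul, mv_mul, hEv0 u fun z => ?_, hEw0 u fun z => ?_]
    · have := hperp (z * x) (z * y)
      rwa [hw, map_add, ← T.ηcomm, ← Module.End.mul_apply (T.ψ z), ← Module.End.mul_apply (T.ψ z), ← map_mul,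
        ← map_mul]
    · have := hperp z 0
      rwa [map_zero, LinearMap.zero_apply, map_zero, add_zero] at this
  · have hP : T.plane w = T.plane v := by
      refine le_antisymm (fun p hp => ?_) (fun p hp => ?_)
      · obtain ⟨s, t, rfl⟩ := T.mem_plane.1 hp
        refine T.mem_plane.2 ⟨s * x + T.d * (t * y), s * y + t * x, ?_⟩
        simp only [hw, map_add, map_mul, LinearMap.add_apply, Module.End.mul_apply, ← T.ηcomm, T.sq]
        abel
      · obtain ⟨s, t, rfl⟩ := T.mem_plane.1 hp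
        obtain ⟨k, hk⟩ := hπ κ⁻¹
        have hv' : T.ψ (k * x) w - T.η (T.ψ (k * y) w) = v := by
          have : T.ψ (k * (x * x) - T.d * (k * (y * y))) v = T.ψ 1 v :=
            hwd _ _ (by rw [show k * (x * x) - T.d * (k * (y * y)) = k * (x * x - T.d * (y * y)) by ring,
              map_mul, hxy', hk, inv_mul_cancel₀ hκ0, map_one])
          rw [map_one, Module.End.one_apply] at this
          conv_rhs => rw [← this]
          simp only [hw, map_add, map_mul, map_sub, LinearMap.sub_apply, Module.End.mul_apply, ← T.ηcomm, T.sq]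
          rw [← Module.End.mul_apply (T.ψ y) (T.ψ x), ← Module.End.mul_apply (T.ψ x) (T.ψ y), ← map_mul, ← map_mul,
            mul_comm y x]
          abel
        refine T.mem_plane.2 ⟨s * (k * x) - T.d * (t * (k * y)), t * (k * x) - s * (k * y), ?_⟩
        conv_rhs => rw [← hv']
        simp only [map_add, map_mul, map_sub, LinearMap.sub_apply, Module.End.mul_apply, ← T.ηcomm, T.sq]
        abel
    have hdisj : Disjoint (T.plane v) (Cfsg.Agent.Orth.perp q (T.plane v)) := by
      rw [Submodule.disjoint_def]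
      intro p hp hp'
      rw [Cfsg.Agent.Orth.mem_perp] at hp'
      obtain ⟨s, t, rfl⟩ := T.mem_plane.1 hp
      have hsk : ∀ s t : R, polar q (T.ψ s v) (T.η (T.ψ t v)) = 0 := fun s t => by
        have h := T.skew v (T.ψ (s * t) v)
        rw [← T.adj, ← T.ηcomm, polar_comm] at h
        rw [T.adj, ← T.ηcomm, ← Module.End.mul_apply (T.ψ s), ← map_mul]
        exact mul_left_cancel₀ h2 (by linear_combination h)
      have hs : π s = 0 := hnd.2 _ fun l => by
        obtain ⟨z, rfl⟩ := hπ l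
        have h := hp' _ (T.mem_plane.2 ⟨z, 0, by rw [map_zero, LinearMap.zero_apply, map_zero, add_zero]⟩)
        rw [polar_add_right, hsk, add_zero] at h
        show polar q (Lv (π z)) (Lv (π s)) = 0
        rw [hLv, hLv]; exact h
      have ht : π t = 0 := by
        have hd : π T.d ≠ 0 := hI
        refine (mul_eq_zero.1 (hnd.2 (π T.d * π t) fun l => ?_)).resolve_left hd
        obtain ⟨z, rfl⟩ := hπ l
        have h := hp' _ (T.mem_plane.2 ⟨0, z, by rw [map_zero, LinearMap.zero_apply, zero_add]⟩)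
        rw [polar_add_right, polar_comm, hsk, zero_add, T.skew, neg_eq_zero, T.sq] at h
        show polar q (Lv (π z)) (Lv (π T.d * π t)) = 0
        rw [← map_mul, hLv, hLv, map_mul, Module.End.mul_apply]; exact h
      rw [hwd s 0 (by rw [hs, map_zero]), hwd t 0 (by rw [ht, map_zero]), map_zero, LinearMap.zero_apply, map_zero,
        add_zero]
    have hsup : T.plane v ⊔ Cfsg.Agent.Orth.perp q (T.plane v) = ⊤ := by
      refine Submodule.eq_top_of_disjoint _ _ ?_ hdisj
      rw [← Cfsg.Agent.Orth.finrank_perp_eq hq (T.plane v), add_comm]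
    have hψstab : ∀ z, ∀ p ∈ T.plane v, T.ψ z p ∈ T.plane v := fun z p hp => by
      obtain ⟨s, t, rfl⟩ := T.mem_plane.1 hp
      exact T.mem_plane.2 ⟨z * s, z * t, by simp only [map_add, map_mul, Module.End.mul_apply, ← T.ηcomm]⟩
    have hηstab : ∀ p ∈ T.plane v, T.η p ∈ T.plane v := fun p hp => by
      obtain ⟨s, t, rfl⟩ := T.mem_plane.1 hp
      exact T.mem_plane.2 ⟨T.d * t, s, by
        simp only [map_add, map_mul, Module.End.mul_apply, T.sq]; abel⟩
    have hEvP : ∀ p ∈ T.plane v, mv (Ev : GL ι F) p ∈ T.plane v := fun p hp => by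
      obtain ⟨s, t, rfl⟩ := T.mem_plane.1 hp
      have hη := (T.line_refl_plane h2 hEv1 hEv0 (T.mem_plane.2 ⟨t, 0, by
        rw [map_zero, LinearMap.zero_apply, map_zero, add_zero]⟩ : T.ψ t v ∈ T.plane v)).1
      rw [Cfsg.Agent.Transvec.mv_add, hη, hEv1, hEv1, map_neg, neg_neg]
      exact T.mem_plane.2 ⟨-s, t, by rw [map_neg, LinearMap.neg_apply]⟩
    have hfix : ∀ o ∈ Cfsg.Agent.Orth.perp q (T.plane v), mv ((Ew * Ev : Cfsg.isometryGroup F (⇑q)) : GL ι F) o = o := by
      intro o ho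
      rw [Cfsg.Agent.Orth.mem_perp] at ho
      rw [Subgroup.coe_mul, mv_mul, hEv0 o fun z => ho _ (T.mem_plane.2 ⟨z, 0, by
        rw [map_zero, LinearMap.zero_apply, map_zero, add_zero]⟩),
        hEw0 o fun z => ho _ (hP.le (T.mem_plane.2 ⟨z, 0, by
        rw [map_zero, LinearMap.zero_apply, map_zero, add_zero]⟩))]
    obtain ⟨p, hp, o, ho, rfl⟩ := Submodule.mem_sup.1 (hsup.symm.le (Submodule.mem_top : u ∈ ⊤))
    have hψo : T.ψ T.a o ∈ Cfsg.Agent.Orth.perp q (T.plane v) := by
      rw [Cfsg.Agent.Orth.mem_perp] at ho ⊢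
      intro b hb
      rw [← T.adj]
      exact ho _ (hψstab _ b hb)
    have hηo : T.η o ∈ Cfsg.Agent.Orth.perp q (T.plane v) := by
      rw [Cfsg.Agent.Orth.mem_perp] at ho ⊢
      intro b hb
      have := T.skew b o
      rw [ho _ (hηstab b hb)] at this
      linear_combination this
    have hGmv : ∀ u, (2 : F) • G u = T.ψ T.a u + T.η u := T.G_eq
    refine smul_right_injective _ h2 ?_
    show (2 : F) • G _ = (2 : F) • _
    rw [hGmv, ← Cfsg.Agent.Transvec.mv_smul, hGmv, map_add, map_add, Cfsg.Agent.Transvec.mv_add,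
      Cfsg.Agent.Transvec.mv_add, Cfsg.Agent.Transvec.mv_add, Cfsg.Agent.Transvec.mv_add, hfix o ho, hfix _ hψo,
      hfix _ hηo, map_add, map_add]
    have hv1 := T.line_refl_plane h2 hEv1 hEv0 hp
    have hw1 := T.line_refl_plane h2 hEw1 hEw0 (hP.symm.le (hEvP p hp))
    simp only [Subgroup.coe_mul, mv_mul]
    rw [hv1.1, hv1.2 T.a, hw1.2 T.a, show -T.η (mv (Ev : GL ι F) p) = (-1 : F) • T.η (mv (Ev : GL ι F) p) by simp,
      Cfsg.Agent.Transvec.mv_smul, hw1.1]
    simp

/-- A commuting special isometry of non-trivial spinor norm. -/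
theorem Torus.exists_rot (hq : (polarBilin q).Nondegenerate) (h2 : (2 : F) ≠ 0)
    {χ : Cfsg.isometryGroup F (⇑q) →* SpinVal F}
    (hrefl : ∀ (g : Cfsg.isometryGroup F (⇑q)) (v : ι → F), q v ≠ 0 →
      ((g : GL ι F) : Matrix ι ι F) = Cfsg.reflectionMatrix (⇑q) v → χ g = reflVal q v)
    {G : Module.End F (ι → F)} {R : Type u} [CommRing R] [Algebra F R] [Finite R] [IsReduced R]
    (T : Torus q G R) (hne : G ≠ 1) :
    ∃ h : Cfsg.isometryGroup F (⇑q), (χ h).1 = 1 ∧ χ h ≠ 1 ∧ ∀ u, G (mv (h : GL ι F) u) = mv (h : GL ι F) (G u) :=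
  let ⟨h, h1, h2', _, h3⟩ := T.exists_rot_fix hq h2 hrefl hne
  ⟨h, h1, h2', h3⟩

end Cfsg.Agent.AutPOmega
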