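import Cfsg.Agent.Lib.AutPOmega.SemisimpleRot
import Cfsg.Agent.Lib.AutPOmega.GraphSplit

/-!
Similarities commuting with an isometry of odd prime order.
-/

set_option autoImplicit false

universe u

namespace Cfsg.Agent.AutPOmega

open Matrix Module QuadraticMap
open Cfsg.Agent.Transvec (mv mv_mul mv_inj mv_inv_mv mv_mv_inv ext_mv)
open Cfsg.Agent.Transvec.Orth (mem_isometry)

variable {ι : Type} [Fintype ι] [DecidableEq ι] {F : Type u} [Field F] [Fintype F]
  {q : QuadraticForm F (ι → F)}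

/-- A similarity commuting with a fixed-point-free isometry of odd order has the proper determinant. -/
theorem det_sim_of_free (hq : (polarBilin q).Nondegenerate) (h2 : (2 : F) ≠ 0) {g h : GL ι F} {c : Fˣ}
    (hg : ∀ v, q (mv g v) = q v) {r : ℕ} (hr : Odd r) (hgr : g ^ r = 1) (hfree : ∀ v, mv g v = v → v = 0)
    (hh : ∀ v, q (mv h v) = (c : F) * q v) (hcomm : g * h = h * g) {k : ℕ} (hn : Fintype.card ι = 2 * k) :
    (h : Matrix ι ι F).det = (c : F) ^ k := by
  classical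
  haveI : Invertible (2 : F) := invertibleOfNonzero h2
  obtain ⟨K, _, _, hK, hfin⟩ := exists_quad_ext (F := F)
  letI := Fintype.ofFinite K
  haveI : FiniteDimensional F K := Module.finite_of_finrank_eq_succ hK
  have h2K : (2 : K) ≠ 0 := by
    rw [← map_ofNat (algebraMap F K) 2]
    exact (map_ne_zero (algebraMap F K)).2 h2
  obtain ⟨s, hs⟩ : IsSquare (algebraMap F K (c : F)) := by
    have hch : ringChar K ≠ 2 := fun e => h2K (by haveI := ringChar.of_eq e; exact CharTwo.two_eq_zero)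
    rw [FiniteField.isSquare_iff hch ((map_ne_zero _).2 c.ne_zero), Module.card_eq_pow_finrank (K := F) (V := K),
      hK, ← map_pow]
    obtain ⟨j, hj⟩ : Odd (Fintype.card F) :=
      Nat.odd_iff.2 (FiniteField.odd_card_of_char_ne_two fun e => h2 (by
        haveI := ringChar.of_eq e; exact CharTwo.two_eq_zero))
    rw [show Fintype.card F ^ 2 / 2 = (Fintype.card F - 1) * (j + 1) by
      rw [hj, show (2 * j + 1) ^ 2 = 2 * (2 * j * (j + 1)) + 1 by ring, Nat.add_sub_cancel]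
      omega, pow_mul, FiniteField.pow_card_sub_one_eq_one _ c.ne_zero, one_pow, map_one]
  have hs0 : s ≠ 0 := fun e => c.ne_zero ((map_eq_zero (algebraMap F K)).1 (by rw [hs, e, mul_zero]))
  obtain ⟨J, hJ⟩ : ∃ J : Matrix ι ι F, J = LinearMap.BilinForm.toMatrix (Pi.basisFun F ι) (polarBilin q) :=
    ⟨_, rfl⟩
  have hJ0 : J.det ≠ 0 := hJ ▸ (LinearMap.BilinForm.nondegenerate_iff_det_ne_zero _).1 hq
  have hmat : ∀ (M : GL ι F) (t : F), (∀ v, q (mv M v) = t * q v) →
      (M : Matrix ι ι F)ᵀ * J * (M : Matrix ι ι F) = t • J := fun M t hM => by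
    have e : LinearMap.BilinForm.comp (polarBilin q) (Matrix.toLin' (M : Matrix ι ι F))
        (Matrix.toLin' (M : Matrix ι ι F)) = t • (polarBilin q : LinearMap.BilinForm F (ι → F)) :=
      LinearMap.ext fun u => LinearMap.ext fun w => by
        show polar q (mv M u) (mv M w) = t * polar q u w
        simp only [polar, ← Cfsg.Agent.Transvec.mv_add, hM]; ring
    have h := congrArg (LinearMap.BilinForm.toMatrix (Pi.basisFun F ι)) e
    rw [LinearMap.BilinForm.toMatrix_comp (Pi.basisFun F ι) (Pi.basisFun F ι), map_smul, ← hJ] at h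
    have hM' : LinearMap.toMatrix (Pi.basisFun F ι) (Pi.basisFun F ι) (Matrix.toLin' (M : Matrix ι ι F)) =
        (M : Matrix ι ι F) := by
      rw [← Matrix.toLin_eq_toLin', LinearMap.toMatrix_toLin]
    rwa [hM'] at h
  obtain ⟨f, hf⟩ : ∃ f : Matrix ι ι F →+* Matrix ι ι K, f = (algebraMap F K).mapMatrix := ⟨_, rfl⟩
  have hft : ∀ M, f Mᵀ = (f M)ᵀ := fun M => by rw [hf]; exact Matrix.transpose_map
  have hfs : ∀ (t : F) M, f (t • M) = algebraMap F K t • f M := fun t M => by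
    rw [hf]; ext i j; simp [Matrix.smul_apply]
  have hfd : ∀ M, (f M).det = algebraMap F K M.det := fun M => by rw [hf, RingHom.map_det]
  obtain ⟨B, hB⟩ : ∃ B : LinearMap.BilinForm K (ι → K), B = Matrix.toBilin' (f J) := ⟨_, rfl⟩
  have hBn : B.Nondegenerate :=
    hB ▸ LinearMap.BilinForm.nondegenerate_toBilin'_of_det_ne_zero' _ (by
      rw [hfd]; exact (map_ne_zero (algebraMap F K)).2 hJ0)
  have hiso : ∀ M : Matrix ι ι K, Mᵀ * f J * M = f J →
      ∀ u w, B (Matrix.toLin' M u) (Matrix.toLin' M w) = B u w := fun M hM u w => by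
    rw [hB, Matrix.toBilin'_apply', Matrix.toBilin'_apply', Matrix.toLin'_apply, Matrix.toLin'_apply,
      Matrix.mulVec_mulVec, Matrix.dotProduct_mulVec, Matrix.vecMul_mulVec, ← Matrix.mul_assoc, hM,
      Matrix.dotProduct_mulVec]
  have hGiso := hiso (f (g : Matrix ι ι F)) (by
    rw [← hft, ← map_mul, ← map_mul, hmat g 1 (fun v => by rw [hg, one_mul]), one_smul])
  have hYiso := hiso (s⁻¹ • f (h : Matrix ι ι F)) (by
    rw [Matrix.transpose_smul, Matrix.smul_mul, Matrix.smul_mul, Matrix.mul_smul, ← hft, ← map_mul, ← map_mul,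
      hmat h _ hh, hfs, smul_smul, smul_smul, hs]
    rw [show s⁻¹ * s⁻¹ * (s * s) = 1 by field_simp, one_smul])
  have hone := det_eq_one_of_comm (B := B) h2K hBn hGiso hYiso (fun v => by
      rw [Matrix.toLin'_apply, Matrix.toLin'_apply, Matrix.toLin'_apply, Matrix.toLin'_apply,
        Matrix.mulVec_mulVec, Matrix.mulVec_mulVec, Matrix.mul_smul, Matrix.smul_mul, ← map_mul, ← map_mul,
        ← Units.val_mul, ← Units.val_mul, hcomm]) hr
    (by
      rw [← Matrix.toLin'_pow, ← map_pow, ← Units.val_pow_eq_pow_val, hgr, Units.val_one, map_one,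
        Matrix.toLin'_one]
      rfl)
    (fun v hv => by
      rw [Matrix.toLin'_apply] at hv
      have hd : ((g : Matrix ι ι F) - 1).det ≠ 0 := fun e => by
        obtain ⟨u, hu0, hu⟩ := Matrix.exists_mulVec_eq_zero_iff.2 e
        rw [Matrix.sub_mulVec, Matrix.one_mulVec, sub_eq_zero] at hu
        exact hu0 (hfree u hu)
      by_contra hv0
      refine (map_ne_zero (algebraMap F K)).2 hd ?_
      rw [← hfd, map_sub, map_one]
      exact Matrix.exists_mulVec_eq_zero_iff.1 ⟨v, hv0, by rw [Matrix.sub_mulVec, Matrix.one_mulVec, hv, sub_self]⟩)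
  rw [LinearMap.det_toLin', Matrix.det_smul, hfd, hn, inv_pow, inv_mul_eq_one₀ (pow_ne_zero _ hs0), pow_mul,
    pow_two, ← hs, ← map_pow] at hone
  exact ((algebraMap F K).injective hone).symm

variable {P : GL ι F → Prop}

set_option quotPrecheck false in
local notation "HDet" k:arg => (∀ c : Fˣ, ∃ g₀ : GL ι F, (∀ v, q (mv g₀ v) = (c : F) * q v) ∧ P g₀ ∧
  (g₀ : Matrix ι ι F).det = (c : F) ^ k)

/-- A class-preserving similarity of given multiplier commuting with an element of odd prime order. -/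
theorem EvenType.exists_sim_comm (hE : EvenType q P) {k : ℕ} (hn : Fintype.card ι = 2 * k) (hdet : HDet k)
    {g : GL ι F} (hg : g ∈ Cfsg.isometryGroup F (⇑q)) {r : ℕ} (hr : r.Prime) (hro : Odd r) (hgr : g ^ r = 1)
    (hcop : r.Coprime (Fintype.card F)) (c : Fˣ) :
    ∃ h : GL ι F, (∀ v, q (mv h v) = (c : F) * q v) ∧ P h ∧ g * h = h * g := by
  have hgq : ∀ v, q (mv g v) = q v := mem_isometry.1 hg
  obtain ⟨G, hG⟩ : ∃ G : Module.End F (ι → F), G = Matrix.toLin' (g : Matrix ι ι F) := ⟨_, rfl⟩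
  have hGv : ∀ v, G v = mv g v := fun v => by rw [hG]; exact Matrix.toLin'_apply _ _
  obtain ⟨R, _, _, _, _, ⟨T⟩⟩ := exists_torus q hE.two hr hro (G := G) (by
    rw [hG, ← Matrix.toLin'_pow, ← Units.val_pow_eq_pow_val, hgr, Units.val_one, Matrix.toLin'_one]; rfl)
    hcop (fun v => by rw [hGv, hgq])
  obtain ⟨x, y, hxy⟩ := T.exists_norm hE.two (algebraMap F R (c : F))
  obtain ⟨H, hH⟩ : ∃ H : Module.End F (ι → F), H = T.ψ (T.e * x) + T.η * T.ψ (T.e * y) := ⟨_, rfl⟩
  have hH' : ∀ u, H u = T.ψ (T.e * x) u + T.η (T.ψ (T.e * y) u) := fun u => by rw [hH]; rfl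
  have hHpol : ∀ u w, polar q (H u) (H w) = (c : F) * polar q u (T.ψ T.e w) := by
    intro u w
    have hsk : ∀ s t : R, ∀ u w, polar q (T.η (T.ψ s u)) (T.ψ t w) = -polar q u (T.η (T.ψ (s * t) w)) :=
      fun s t u w => by
        rw [T.skew, T.adj, ← T.ηcomm, ← Module.End.mul_apply (T.ψ s), ← map_mul]
    have hsk' : ∀ s t : R, ∀ u w, polar q (T.ψ s u) (T.η (T.ψ t w)) = polar q u (T.η (T.ψ (s * t) w)) :=
      fun s t u w => by rw [T.adj, ← T.ηcomm, ← Module.End.mul_apply (T.ψ s), ← map_mul]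
    have hηη : ∀ s t : R, ∀ u w, polar q (T.η (T.ψ s u)) (T.η (T.ψ t w)) = -polar q u (T.ψ (s * T.d * t) w) :=
      fun s t u w => by
        rw [T.skew, T.sq, T.adj, ← Module.End.mul_apply (T.ψ T.d), ← map_mul, ← Module.End.mul_apply (T.ψ s),
          ← map_mul, mul_assoc]
    rw [hH', hH', polar_add_left, polar_add_right, polar_add_right, hsk, hsk', hηη, T.adj,
      ← Module.End.mul_apply (T.ψ (T.e * x)), ← map_mul, mul_comm (T.e * y) (T.e * x)]
    have e : T.e * x * (T.e * x) - T.e * y * T.d * (T.e * y) = algebraMap F R (c : F) * T.e := by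
      linear_combination hxy + (x * x - T.d * (y * y)) * T.e_mul_e
    rw [show ∀ a b d : F, a + b + (-b + -d) = a - d by intros; ring, ← polar_sub_right, ← LinearMap.sub_apply,
      ← map_sub, e, map_mul, AlgHom.commutes, Module.End.mul_apply, Module.algebraMap_end_apply, polar_smul_right,
      smul_eq_mul]
  obtain ⟨W, hW⟩ : ∃ W, W = LinearMap.range (T.ψ T.e) := ⟨_, rfl⟩
  have hWe : ∀ u ∈ W, T.ψ T.e u = u := fun u hu => by
    rw [hW] at hu
    obtain ⟨z, rfl⟩ := hu
    rw [← Module.End.mul_apply, ← map_mul, T.e_mul_e]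
  have heH : ∀ u, T.ψ T.e (H u) = H u := fun u => by
    rw [hH', map_add, ← T.ηcomm, ← Module.End.mul_apply, ← map_mul, ← mul_assoc, T.e_mul_e,
      ← Module.End.mul_apply (T.ψ T.e), ← map_mul, ← mul_assoc, T.e_mul_e]
  have hHinj : ∀ u ∈ W, H u = 0 → u = 0 := fun u hu h0 => hE.nondeg.1 u fun w => by
    have e := hHpol u w
    rw [h0, polar_zero_left, ← T.adj, hWe u hu] at e
    exact (mul_eq_zero.1 e.symm).resolve_left c.ne_zero
  have hGH : ∀ u, G (H u) = H (G u) := fun u => by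
    rw [hH', hH', map_add, T.Gcomm, T.Gη, T.Gcomm]
  have hG0 : ∀ u, T.ψ T.e u = 0 → G u = u := fun u hu => (T.fixed u).1 hu
  obtain ⟨g₀, hg₀, -⟩ := hdet c
  let φ : W →ₗ[F] (ι → F) := (Matrix.toLin' ((g₀⁻¹ : GL ι F) : Matrix ι ι F)).comp (H.comp W.subtype)
  have hφi : Function.Injective φ := (injective_iff_map_eq_zero φ).2 fun u hu => by
    refine Subtype.ext (hHinj _ u.2 (mv_inj g₀⁻¹ ?_))
    rw [show mv (g₀⁻¹) (0 : ι → F) = 0 by simp [mv]]
    have : mv g₀⁻¹ (H u) = φ u := (Matrix.toLin'_apply _ _).symm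
    rw [this, hu]
  have hφq : ∀ u : W, q (φ u) = q (u : ι → F) := fun u => by
    have h1 : mv g₀ (φ u) = H u := by
      rw [show φ u = mv g₀⁻¹ (H u) from Matrix.toLin'_apply _ _, mv_mv_inv]
    have h3 := congrArg q h1
    rw [hg₀] at h3
    have h4 := hHpol (u : ι → F) (u : ι → F)
    rw [hWe _ u.2, polar_self, polar_self, nsmul_eq_mul, nsmul_eq_mul, ← h3, Nat.cast_ofNat] at h4
    exact mul_left_cancel₀ c.ne_zero (mul_left_cancel₀ hE.two (by linear_combination h4))
  obtain ⟨e, -, he, heφ⟩ := Cfsg.Agent.Orth.witt hE.nondeg Cfsg.Agent.Orth.full_oGroup W φ hφi hφq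
  obtain ⟨y', hy'⟩ := exists_mv_of_equiv e
  obtain ⟨h, hh⟩ : ∃ h, h = g₀ * y' := ⟨_, rfl⟩
  have hhq : ∀ v, q (mv h v) = (c : F) * q v := fun v => by rw [hh, mv_mul, hg₀, hy', he]
  have hhW : ∀ u ∈ W, mv h u = H u := fun u hu => by
    rw [hh, mv_mul, hy', show e u = φ ⟨u, hu⟩ from heφ ⟨u, hu⟩,
      show φ ⟨u, hu⟩ = mv g₀⁻¹ (H u) from Matrix.toLin'_apply _ _, mv_mv_inv]
  have hh0 : ∀ v, T.ψ T.e v = 0 → T.ψ T.e (mv h v) = 0 := by
    intro v hv
    have hWsurj : ∀ w ∈ W, ∃ u ∈ W, mv h u = w := by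
      intro w hw
      let L : W →ₗ[F] W := (H.comp W.subtype).codRestrict W fun u => by
        exact hW.symm.le ⟨H u, heH u⟩
      have hLi : Function.Injective L := (injective_iff_map_eq_zero L).2 fun u hu =>
        Subtype.ext (hHinj _ u.2 (congrArg Subtype.val hu))
      obtain ⟨u, hu⟩ := (LinearMap.injective_iff_surjective.1 hLi) ⟨w, hw⟩
      exact ⟨u, u.2, (hhW _ u.2).trans (congrArg Subtype.val hu)⟩
    refine hE.nondeg.1 _ fun z => ?_
    show polar q (T.ψ T.e (mv h v)) z = 0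
    rw [T.adj]
    obtain ⟨u, hu, huw⟩ := hWsurj (T.ψ T.e z) (hW ▸ ⟨z, rfl⟩)
    rw [← huw]
    have hpol : polar q (mv h v) (mv h u) = (c : F) * polar q v u := by
      simp only [polar, ← Cfsg.Agent.Transvec.mv_add, hhq]; ring
    rw [hpol, ← hWe u hu, ← T.adj, hv, polar_zero_left, mul_zero]
  have hcomm : g * h = h * g := ext_mv fun v => by
    rw [mv_mul, mv_mul, ← hGv, ← hGv]
    obtain ⟨u, hu, w, hw, rfl⟩ : ∃ u ∈ W, ∃ w, T.ψ T.e w = 0 ∧ u + w = v :=
      ⟨T.ψ T.e v, hW ▸ ⟨v, rfl⟩, v - T.ψ T.e v, by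
        rw [map_sub, ← Module.End.mul_apply, ← map_mul, T.e_mul_e, sub_self], add_sub_cancel _ _⟩
    have hGu : G u ∈ W := by rw [hW]; exact ⟨G u, by rw [← T.Gcomm, hWe u hu]⟩
    rw [Cfsg.Agent.Transvec.mv_add, map_add, map_add, Cfsg.Agent.Transvec.mv_add, hhW u hu, hhW _ hGu, hGH,
      hG0 w hw, hG0 _ (hh0 w hw)]
  by_cases hP : P h
  · exact ⟨h, hhq, hP, hcomm⟩
  by_cases hfree : ∀ v, mv g v = v → v = 0
  · exfalso
    have h1 := det_sim_of_free hE.nondeg hE.two hgq hro hgr hfree hhq hcomm hn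
    rw [hE.det_not_pres hdet hhq hP] at h1
    exact hE.two (mul_left_cancel₀ (pow_ne_zero k c.ne_zero) (by linear_combination -h1))
  · push Not at hfree
    obtain ⟨v, hv, hv0⟩ := hfree
    obtain ⟨w, hwf, hw⟩ : ∃ w, mv g w = w ∧ q w ≠ 0 := by
      by_contra hcon
      push Not at hcon
      refine hv0 (hE.nondeg.1 v fun z => ?_)
      show polar q v z = 0
      obtain ⟨z₀, hz₀⟩ : ∃ z₀, z₀ = z - T.ψ T.e z := ⟨_, rfl⟩
      have hz0 : mv g z₀ = z₀ := by
        rw [← hGv]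
        refine hG0 _ ?_
        rw [hz₀, map_sub, ← Module.End.mul_apply, ← map_mul, T.e_mul_e, sub_self]
      have hve : T.ψ T.e v = 0 := (T.fixed v).2 (by rw [hGv, hv])
      have hsplit : polar q v z = polar q v z₀ := by
        rw [hz₀, polar_sub_right, ← T.adj, hve, polar_zero_left, sub_zero]
      rw [hsplit, polar, hcon _ (by rw [Cfsg.Agent.Transvec.mv_add, hv, hz0]), hcon _ hv, hcon _ hz0, sub_zero,
        sub_zero]
    obtain ⟨rw', hrw, -⟩ := Cfsg.Agent.Orth.exists_reflection q hw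
    have hc : g * (rw' : GL ι F) = (rw' : GL ι F) * g :=
      mul_inv_eq_iff_eq_mul.1 (refl_comm q one_ne_zero (fun u => by rw [hgq, one_mul]) rw' rw' w hrw
        (by rw [hwf]; exact hrw))
    refine ⟨h * (rw' : GL ι F), fun u => by rw [mv_mul, hhq, mem_isometry.1 rw'.2], ?_, ?_⟩
    · rw [hE.p_mul _ _ ⟨c, fun v => hhq v⟩ (isPair_iso rw'.2)]
      exact iff_of_false hP (hE.p_refl w _ hw hrw)
    · rw [← mul_assoc, hcomm, mul_assoc, hc, mul_assoc]

end Cfsg.Agent.AutPOmega
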