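import Cfsg.Agent.Lib.AutPOmega.EvenFinal
import Mathlib.LinearAlgebra.Matrix.Transvection

/-!
The spinor invariant on products of reflections, on monomial tori and on the Levi subgroup of a pair of
complementary totally singular subspaces.
-/

set_option autoImplicit false

namespace Cfsg.Agent.AutPOmega

open Matrix QuadraticMap
open Cfsg.Agent.Orth (SpinVal SqCls sqc reflVal qPlus qMinus qOdd)
open Cfsg.Agent.Transvec (mv mv_mul mv_inj mv_inv_mv mv_mv_inv ext_mv)
open Cfsg.Agent.Transvec.Orth (mem_isometry)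

section

variable {F : Type*} [Field F]

theorem sqc_list_prod (l : List F) (hl : ∀ x ∈ l, x ≠ 0) : sqc F l.prod = (l.map (sqc F)).prod := by
  induction l with
  | nil => simp [Cfsg.Agent.Orth.sqc_one]
  | cons x l ih =>
    rw [List.prod_cons, List.map_cons, List.prod_cons, Cfsg.Agent.Orth.sqc_mul (hl x (by simp))
      (List.prod_ne_zero fun h => hl 0 (List.mem_cons_of_mem _ h) rfl),
      ih fun y hy => hl y (List.mem_cons_of_mem _ hy)]

theorem sqc_prod {κ : Type*} (s : Finset κ) (f : κ → F) (hf : ∀ i ∈ s, f i ≠ 0) :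
    sqc F (∏ i ∈ s, f i) = ∏ i ∈ s, sqc F (f i) := by
  classical
  induction s using Finset.induction_on with
  | empty => simp [Cfsg.Agent.Orth.sqc_one]
  | insert a s ha ih =>
    rw [Finset.prod_insert ha, Finset.prod_insert ha, Cfsg.Agent.Orth.sqc_mul (hf a (Finset.mem_insert_self a s))
      (Finset.prod_ne_zero_iff.2 fun i hi => hf i (Finset.mem_insert_of_mem hi)),
      ih fun i hi => hf i (Finset.mem_insert_of_mem hi)]

theorem ofAdd_one_pow (n : ℕ) : (Multiplicative.ofAdd (1 : ZMod 2)) ^ n = 1 ↔ Even n := by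
  rw [← ofAdd_nsmul, ofAdd_eq_one, nsmul_one, ZMod.natCast_eq_zero_iff_even]

theorem spinVal_eq_one {n : ℕ} {c : F} (hc : c ≠ 0) :
    ((Multiplicative.ofAdd (1 : ZMod 2)) ^ n, sqc F c) = (1 : SpinVal F) ↔ Even n ∧ IsSquare c := by
  rw [Prod.mk_eq_one, ofAdd_one_pow, Cfsg.Agent.Orth.sqc_eq_one_iff hc]

theorem sqc_char_two [Finite F] (h2 : (2 : F) = 0) (c : F) : sqc F c = 1 := by
  haveI : Subsingleton (SqCls F) :=
    (Nat.card_eq_one_iff_unique.1 (Cfsg.Agent.Orth.card_sqCls_le.2.2 h2)).1
  exact Subsingleton.elim _ _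

end

variable {ι : Type} [Fintype ι] [DecidableEq ι] {F : Type*} [Field F] (q : QuadraticForm F (ι → F))

/-- The value on a product of reflections. -/
theorem spin_list {χ : Cfsg.isometryGroup F (⇑q) →* SpinVal F}
    (hrefl : ∀ (g : Cfsg.isometryGroup F (⇑q)) (v : ι → F), q v ≠ 0 →
      ((g : GL ι F) : Matrix ι ι F) = Cfsg.reflectionMatrix (⇑q) v → χ g = reflVal q v) :
    ∀ (vs : List (ι → F)), (∀ v ∈ vs, q v ≠ 0) → ∀ g : Cfsg.isometryGroup F (⇑q),
      ((g : GL ι F) : Matrix ι ι F) = (vs.map (fun v => Cfsg.reflectionMatrix (⇑q) v)).prod →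
      χ g = ((Multiplicative.ofAdd (1 : ZMod 2)) ^ vs.length, sqc F (vs.map (fun v => q v)).prod) := by
  intro vs
  induction vs with
  | nil =>
    intro _ g hg
    rw [show g = 1 from Subtype.ext (Units.ext hg), map_one, List.map_nil, List.prod_nil,
      Cfsg.Agent.Orth.sqc_one, List.length_nil, pow_zero]
    rfl
  | cons v vs ih =>
    intro hvs g hg
    have hv := hvs v (by simp)
    obtain ⟨r, hr, -⟩ := Cfsg.Agent.Orth.exists_reflection q hv
    have hg' : (((r⁻¹ * g : Cfsg.isometryGroup F (⇑q)) : GL ι F) : Matrix ι ι F) =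
        (vs.map (fun v => Cfsg.reflectionMatrix (⇑q) v)).prod := by
      rw [Subgroup.coe_mul, Units.val_mul, hg, List.map_cons, List.prod_cons, ← hr, ← mul_assoc, ← Units.val_mul,
        Subgroup.coe_inv, inv_mul_cancel, Units.val_one, one_mul]
    have h := ih (fun w hw => hvs w (List.mem_cons_of_mem _ hw)) _ hg'
    rw [map_mul, map_inv, hrefl r v hv hr] at h
    rw [show χ g = reflVal q v * _ from
      (mul_inv_cancel_left (reflVal q v) (χ g)).symm.trans (congrArg (reflVal q v * ·) h), List.map_cons, List.prod_cons, List.length_cons, pow_succ',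
      Cfsg.Agent.Orth.sqc_mul hv (List.prod_ne_zero fun hm => by
        obtain ⟨w, hw, hw'⟩ := List.mem_map.1 hm
        exact hvs w (List.mem_cons_of_mem _ hw) hw')]
    rfl

/-- The value on a diagonal element on hyperbolic planes. -/
theorem spin_torus {m : ℕ} {χ : Cfsg.isometryGroup F (⇑q) →* SpinVal F}
    (hrefl : ∀ (g : Cfsg.isometryGroup F (⇑q)) (v : ι → F), q v ≠ 0 →
      ((g : GL ι F) : Matrix ι ι F) = Cfsg.reflectionMatrix (⇑q) v → χ g = reflVal q v)
    (xi yi : Fin m → ι) (hxy : ∀ i j, xi i ≠ yi j) (hx : Function.Injective xi) (hy : Function.Injective yi)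
    (hval : ∀ i (s : F), q (Pi.single (xi i) 1 + Pi.single (yi i) s) = s)
    (hpol : ∀ z i (s : F), polar q z (Pi.single (xi i) 1 + Pi.single (yi i) s) = z (yi i) + s * z (xi i))
    (T : (Fin m → Fˣ) →* Cfsg.isometryGroup F (⇑q))
    (hTx : ∀ d z i, mv (T d : GL ι F) z (xi i) = d i * z (xi i))
    (hTy : ∀ d z i, mv (T d : GL ι F) z (yi i) = ((d i)⁻¹ : Fˣ) * z (yi i))
    (hTo : ∀ d z j, (∀ i, j ≠ xi i ∧ j ≠ yi i) → mv (T d : GL ι F) z j = z j) (d : Fin m → Fˣ) :
    χ (T d) = (1, sqc F (∏ i, (d i : F))) := by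
  have h1 : ∀ i, χ (T (Pi.mulSingle i (d i))) = ((1 : Multiplicative (ZMod 2)), sqc F (d i : F)) := by
    intro i
    obtain ⟨c, hcd⟩ : ∃ c, c = d i := ⟨_, rfl⟩
    rw [← hcd]
    obtain ⟨r₁, e₁, -⟩ := Cfsg.Agent.Orth.exists_reflection q (v := Pi.single (xi i) 1 + Pi.single (yi i) (-1))
      (by rw [hval]; exact neg_ne_zero.2 one_ne_zero)
    obtain ⟨r₂, e₂, -⟩ := Cfsg.Agent.Orth.exists_reflection q (v := Pi.single (xi i) 1 + Pi.single (yi i) (-(c : F)))
      (by rw [hval]; exact neg_ne_zero.2 c.ne_zero)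
    have hr : ∀ (r : Cfsg.isometryGroup F (⇑q)) (s : F),
        ((r : GL ι F) : Matrix ι ι F) = Cfsg.reflectionMatrix (⇑q) (Pi.single (xi i) 1 + Pi.single (yi i) s) →
        ∀ z, mv (r : GL ι F) z = z - ((z (yi i) + s * z (xi i)) / s) • (Pi.single (xi i) 1 + Pi.single (yi i) s) :=
      fun r s hr z => by
        show ((r : GL ι F) : Matrix ι ι F) *ᵥ z = _
        rw [hr, Cfsg.Agent.Orth.reflectionMatrix_mulVec, hpol, hval]
    have e : T (Pi.mulSingle i c) = r₁ * r₂ := Subtype.ext (ext_mv fun z => by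
      rw [Subgroup.coe_mul, mv_mul, hr r₁ _ e₁, hr r₂ _ e₂]
      have hc := c.ne_zero
      have hne := hxy i i
      funext j
      by_cases hjx : j = xi i
      · subst hjx
        rw [hTx, Pi.mulSingle_eq_same]
        simp [hne, hne.symm]
        field_simp
        ring
      by_cases hjy : j = yi i
      · subst hjy
        rw [hTy, Pi.mulSingle_eq_same, Units.val_inv_eq_inv_val]
        simp [hne, hne.symm]
        field_simp
        ring
      have hz : mv (T (Pi.mulSingle i c) : GL ι F) z j = z j := by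
        by_cases hk : ∃ k, j = xi k
        · obtain ⟨k, rfl⟩ := hk
          rw [hTx, Pi.mulSingle_eq_of_ne (fun e => hjx (by rw [e])), Units.val_one, one_mul]
        by_cases hk' : ∃ k, j = yi k
        · obtain ⟨k, rfl⟩ := hk'
          rw [hTy, Pi.mulSingle_eq_of_ne (fun e => hjy (by rw [e])), inv_one, Units.val_one, one_mul]
        exact hTo _ _ _ fun k => ⟨fun e => hk ⟨k, e⟩, fun e => hk' ⟨k, e⟩⟩
      rw [hz]
      simp [hjx, hjy])
    rw [e, map_mul, hrefl r₁ _ (by rw [hval]; exact neg_ne_zero.2 one_ne_zero) e₁,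
      hrefl r₂ _ (by rw [hval]; exact neg_ne_zero.2 c.ne_zero) e₂]
    refine Prod.ext (by show Multiplicative.ofAdd (1 : ZMod 2) * Multiplicative.ofAdd 1 = 1; decide) ?_
    show sqc F (q _) * sqc F (q _) = sqc F (c : F)
    rw [hval, hval, ← Cfsg.Agent.Orth.sqc_mul (neg_ne_zero.2 one_ne_zero) (neg_ne_zero.2 c.ne_zero), neg_mul_neg,
      one_mul]
  rw [← MonoidHom.comp_apply]
  conv_lhs => rw [← Finset.univ_prod_mulSingle d, map_prod]
  simp only [MonoidHom.comp_apply, h1]
  rw [sqc_prod _ _ fun i _ => (d i).ne_zero]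
  refine Prod.ext ?_ ?_
  · simp [Prod.fst_prod]
  · simp [Prod.snd_prod]

omit q in
/-- A homomorphism on a general linear group into the value group is read off on diagonal matrices. -/
theorem gl_hom_eq [Fintype F] {m : ℕ} (h : Fintype.card F ≠ 2 ∨ m ≠ 2) {X : Type*} [CommGroup X]
    (f g : GL (Fin m) F →* X)
    (hd : ∀ (d : Fin m → Fˣ) (D : GL (Fin m) F), (D : Matrix (Fin m) (Fin m) F) = Matrix.diagonal (fun i => (d i : F)) →
      f D = g D) : f = g := by
  classical
  have hcomm : ∀ (φ : GL (Fin m) F →* X) (A B : GL (Fin m) F), φ (A * B * A⁻¹ * B⁻¹) = 1 := fun φ A B => by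
    rw [map_mul, map_mul, map_mul, map_inv, map_inv, mul_inv_cancel_comm, mul_inv_cancel]
  have htE : ∀ (i j : Fin m), i ≠ j → ∀ (c : F), ∀ E : GL (Fin m) F,
      (E : Matrix (Fin m) (Fin m) F) = Matrix.transvection i j c → ∀ φ : GL (Fin m) F →* X, φ E = 1 := by
    intro i j hij c E hE φ
    by_cases h3 : Fintype.card F = 2
    · have hm : m ≠ 2 := h.resolve_left (fun e => e h3)
      obtain ⟨k, hki, hkj⟩ : ∃ k : Fin m, k ≠ i ∧ k ≠ j := by
        by_contra hcon
        push Not at hcon
        have hsub : (Finset.univ : Finset (Fin m)) ⊆ {i, j} := fun k _ => by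
          by_cases hk : k = i
          · simp [hk]
          · simp [hcon k hk]
        have h1 := Finset.card_le_card hsub
        rw [Finset.card_univ, Fintype.card_fin, Finset.card_pair hij] at h1
        have h2 : 2 ≤ m := by
          have := Finset.card_le_univ ({i, j} : Finset (Fin m))
          rwa [Finset.card_pair hij, Fintype.card_fin] at this
        omega
      let A : GL (Fin m) F := ⟨Matrix.transvection i k c, Matrix.transvection i k (-c),
        by rw [Matrix.transvection_mul_transvection_same _ _ hki.symm, add_neg_cancel, Matrix.transvection_zero],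
        by rw [Matrix.transvection_mul_transvection_same _ _ hki.symm, neg_add_cancel, Matrix.transvection_zero]⟩
      let B : GL (Fin m) F := ⟨Matrix.transvection k j 1, Matrix.transvection k j (-1),
        by rw [Matrix.transvection_mul_transvection_same _ _ hkj, add_neg_cancel, Matrix.transvection_zero],
        by rw [Matrix.transvection_mul_transvection_same _ _ hkj, neg_add_cancel, Matrix.transvection_zero]⟩
      have e : E = A * B * A⁻¹ * B⁻¹ := Units.ext (by
        rw [hE, Units.val_mul, Units.val_mul, Units.val_mul]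
        show _ = Matrix.transvection i k c * Matrix.transvection k j 1 * Matrix.transvection i k (-c) *
          Matrix.transvection k j (-1)
        have hn : ∀ (a b : Fin m) (x : F), Matrix.single a b (-x) = -Matrix.single a b x := fun a b x => by
          ext x' y'
          simp only [Matrix.neg_apply, Matrix.single_apply]
          split_ifs <;> simp
        simp [Matrix.transvection, Matrix.add_mul, Matrix.mul_add, Matrix.single_mul_single_same,
          Matrix.single_mul_single_of_ne, hij, hij.symm, hki, hki.symm, hkj, hkj.symm, hn]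
        abel)
      rw [e]; exact hcomm φ A B
    · obtain ⟨u, hu0, hu1⟩ : ∃ u : F, u ≠ 0 ∧ u ≠ 1 := by
        by_contra hcon
        push Not at hcon
        refine h3 ?_
        have hsub : (Finset.univ : Finset F) ⊆ {0, 1} := fun u _ => by
          by_cases hu : u = 0
          · simp [hu]
          · simp [hcon u hu]
        have h1 := Finset.card_le_card hsub
        rw [Finset.card_univ, Finset.card_pair zero_ne_one] at h1
        have := Fintype.one_lt_card (α := F)
        omega
      obtain ⟨v, hv⟩ : ∃ v, v = c / (u - 1) := ⟨_, rfl⟩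
      let A : GL (Fin m) F := Matrix.GeneralLinearGroup.mkOfDetNeZero
        (Matrix.diagonal (fun l : Fin m => if l = i then u else 1)) (by
          rw [Matrix.det_diagonal, Finset.prod_ite_eq']; simpa using hu0)
      let B : GL (Fin m) F := ⟨Matrix.transvection i j v, Matrix.transvection i j (-v),
        by rw [Matrix.transvection_mul_transvection_same _ _ hij, add_neg_cancel, Matrix.transvection_zero],
        by rw [Matrix.transvection_mul_transvection_same _ _ hij, neg_add_cancel, Matrix.transvection_zero]⟩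
      let B' : GL (Fin m) F := ⟨Matrix.transvection i j (u * v), Matrix.transvection i j (-(u * v)),
        by rw [Matrix.transvection_mul_transvection_same _ _ hij, add_neg_cancel, Matrix.transvection_zero],
        by rw [Matrix.transvection_mul_transvection_same _ _ hij, neg_add_cancel, Matrix.transvection_zero]⟩
      have e1 : A * B = B' * A := Units.ext (by
        rw [Units.val_mul, Units.val_mul]
        show Matrix.diagonal _ * Matrix.transvection i j v = Matrix.transvection i j (u * v) * Matrix.diagonal _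
        ext x y
        simp only [Matrix.diagonal_mul, Matrix.mul_diagonal, Matrix.transvection, Matrix.add_apply,
          Matrix.one_apply, Matrix.single_apply]
        rcases eq_or_ne x y with rfl | hxy'
        · rcases eq_or_ne x i with rfl | hxi
          · simp [hij, hij.symm]
          · simp [hxi, Ne.symm hxi]
        · rcases eq_or_ne x i with rfl | hxi
          · rcases eq_or_ne y j with rfl | hyj
            · simp [hxy', Ne.symm hxy']
            · simp [hxy', Ne.symm hxy', Ne.symm hyj]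
          · simp [hxy', Ne.symm hxy', Ne.symm hxi])
      have e : E = A * B * A⁻¹ * B⁻¹ := by
        rw [e1, mul_inv_cancel_right]
        refine Units.ext ?_
        rw [hE, Units.val_mul]
        show _ = Matrix.transvection i j (u * v) * Matrix.transvection i j (-v)
        rw [Matrix.transvection_mul_transvection_same _ _ hij, hv]
        congr 1
        have hu1' : u - 1 ≠ 0 := sub_ne_zero.2 hu1
        field_simp
        ring
      rw [e]; exact hcomm φ A B
  refine MonoidHom.ext fun M => ?_
  have key := Matrix.diagonal_transvection_induction_of_det_ne_zero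
    (fun N => ∀ (hN : N.det ≠ 0), f (Matrix.GeneralLinearGroup.mkOfDetNeZero N hN) =
      g (Matrix.GeneralLinearGroup.mkOfDetNeZero N hN)) (M : Matrix (Fin m) (Fin m) F)
    (by simpa using (Matrix.GeneralLinearGroup.det M).ne_zero) (fun D _ hN => by
      have hD : ∀ i, D i ≠ 0 := fun i e => hN (by rw [Matrix.det_diagonal]; exact Finset.prod_eq_zero (Finset.mem_univ i) e)
      exact hd (fun i => Units.mk0 (D i) (hD i)) _ rfl)
    (fun t hN => by rw [htE t.i t.j t.hij t.c _ rfl f, htE t.i t.j t.hij t.c _ rfl g])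
    (fun A B hA hB ihA ihB hN => by
      have e : Matrix.GeneralLinearGroup.mkOfDetNeZero (A * B) hN =
          Matrix.GeneralLinearGroup.mkOfDetNeZero A hA * Matrix.GeneralLinearGroup.mkOfDetNeZero B hB :=
        Units.ext rfl
      rw [e, map_mul, map_mul, ihA hA, ihB hB])
  have hM := key (by simpa using (Matrix.GeneralLinearGroup.det M).ne_zero)
  rwa [show Matrix.GeneralLinearGroup.mkOfDetNeZero (M : Matrix (Fin m) (Fin m) F) _ = M from Units.ext rfl] at hM

/-- The Levi subgroup of the plus form and the values on it. -/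
theorem exists_levi {m : ℕ} : ∃ L : GL (Fin m) F →* Cfsg.isometryGroup F (⇑(qPlus F m)),
    (∀ A : GL (Fin m) F, ((L A : GL (Fin m ⊕ Fin m) F) : Matrix (Fin m ⊕ Fin m) (Fin m ⊕ Fin m) F) =
      Matrix.fromBlocks (A : Matrix (Fin m) (Fin m) F) 0 0 ((A : Matrix (Fin m) (Fin m) F)⁻¹).transpose) ∧
    ∀ [Fintype F], (Fintype.card F ≠ 2 ∨ m ≠ 2) →
      ∀ {χ : Cfsg.isometryGroup F (⇑(qPlus F m)) →* SpinVal F},
      (∀ (g : Cfsg.isometryGroup F (⇑(qPlus F m))) (v : Fin m ⊕ Fin m → F), qPlus F m v ≠ 0 →
        ((g : GL (Fin m ⊕ Fin m) F) : Matrix (Fin m ⊕ Fin m) (Fin m ⊕ Fin m) F) =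
          Cfsg.reflectionMatrix (⇑(qPlus F m)) v → χ g = reflVal (qPlus F m) v) →
      ∀ A : GL (Fin m) F, χ (L A) = (1, sqc F (A : Matrix (Fin m) (Fin m) F).det) := by
  classical
  have hinvT : ∀ A : GL (Fin m) F, ((A : Matrix (Fin m) (Fin m) F)⁻¹) =
      ((A⁻¹ : GL (Fin m) F) : Matrix (Fin m) (Fin m) F) := fun A => (Matrix.coe_units_inv A).symm
  let L₀ : GL (Fin m) F → GL (Fin m ⊕ Fin m) F := fun A =>
    ⟨Matrix.fromBlocks (A : Matrix (Fin m) (Fin m) F) 0 0 ((A⁻¹ : GL (Fin m) F) : Matrix (Fin m) (Fin m) F).transpose,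
     Matrix.fromBlocks ((A⁻¹ : GL (Fin m) F) : Matrix (Fin m) (Fin m) F) 0 0 (A : Matrix (Fin m) (Fin m) F).transpose,
     by rw [Matrix.fromBlocks_multiply]; simp [← Matrix.transpose_mul],
     by rw [Matrix.fromBlocks_multiply]; simp [← Matrix.transpose_mul]⟩
  have hmem : ∀ A, L₀ A ∈ Cfsg.isometryGroup F (⇑(qPlus F m)) := fun A => mem_isometry.2 fun z => by
    rw [Cfsg.Agent.Orth.coe_qPlus]
    show Cfsg.quadFormPlus m F (Matrix.fromBlocks _ 0 0 _ *ᵥ z) = _
    rw [Matrix.fromBlocks_mulVec]
    simp only [Matrix.zero_mulVec, add_zero, zero_add, Cfsg.quadFormPlus, Sum.elim_inl, Sum.elim_inr]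
    show ((A : Matrix (Fin m) (Fin m) F) *ᵥ (z ∘ Sum.inl)) ⬝ᵥ
      (((A⁻¹ : GL (Fin m) F) : Matrix (Fin m) (Fin m) F).transpose *ᵥ (z ∘ Sum.inr)) = _
    rw [Matrix.mulVec_transpose, dotProduct_comm, ← Matrix.dotProduct_mulVec, Matrix.mulVec_mulVec,
      ← Units.val_mul, inv_mul_cancel, Units.val_one, Matrix.one_mulVec, dotProduct_comm]
    rfl
  let L : GL (Fin m) F →* Cfsg.isometryGroup F (⇑(qPlus F m)) := MonoidHom.mk' (fun A => ⟨L₀ A, hmem A⟩)
    fun A B => Subtype.ext (Units.ext (by
      show Matrix.fromBlocks _ 0 0 _ = Matrix.fromBlocks _ 0 0 _ * Matrix.fromBlocks _ 0 0 _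
      rw [Matrix.fromBlocks_multiply, _root_.mul_inv_rev, Units.val_mul, Units.val_mul, Matrix.transpose_mul]
      simp))
  refine ⟨L, fun A => by rw [hinvT]; rfl, fun {_} h {χ} hrefl A => ?_⟩
  let D : GL (Fin m) F →* SpinVal F := MonoidHom.mk'
    (fun A => (1, sqc F (A : Matrix (Fin m) (Fin m) F).det)) fun A B => by
      refine Prod.ext (one_mul 1).symm ?_
      show sqc F _ = sqc F _ * sqc F _
      rw [Units.val_mul, Matrix.det_mul, Cfsg.Agent.Orth.sqc_mul]
      · simpa using (Matrix.GeneralLinearGroup.det A).ne_zero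
      · simpa using (Matrix.GeneralLinearGroup.det B).ne_zero
  have key : χ.comp L = D := gl_hom_eq (X := SpinVal F) h _ _ fun d A hA => by
    let T : (Fin m → Fˣ) →* Cfsg.isometryGroup F (⇑(qPlus F m)) := L.comp
      (MonoidHom.mk' (fun d => (⟨Matrix.diagonal (fun i => (d i : F)), Matrix.diagonal (fun i => ((d i)⁻¹ : Fˣ).val),
        by rw [Matrix.diagonal_mul_diagonal]; simp,
        by rw [Matrix.diagonal_mul_diagonal]; simp⟩ : GL (Fin m) F))
        fun d d' => Units.ext (by
          show Matrix.diagonal _ = Matrix.diagonal _ * Matrix.diagonal _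
          rw [Matrix.diagonal_mul_diagonal]; rfl))
    have hT : T d = L A := congrArg L (Units.ext hA.symm)
    show χ (L A) = (1, sqc F (A : Matrix (Fin m) (Fin m) F).det)
    rw [← hT, hA, Matrix.det_diagonal, spin_torus (qPlus F m) hrefl Sum.inl Sum.inr (fun i j => Sum.inl_ne_inr)
      Sum.inl_injective Sum.inr_injective (fun i s => by
        rw [Cfsg.Agent.Orth.coe_qPlus]
        simp [Cfsg.quadFormPlus, Pi.single_apply])
      (fun z i s => by
        simp only [polar, Cfsg.Agent.Orth.coe_qPlus]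
        simp [Cfsg.quadFormPlus, Pi.single_apply, add_mul, mul_add, Finset.sum_add_distrib]
        ring)
      T (fun d z i => by
        show (Matrix.fromBlocks (Matrix.diagonal fun i => (d i : F)) 0 0 _ *ᵥ z) (Sum.inl i) = _
        rw [Matrix.fromBlocks_mulVec]
        simp [Matrix.mulVec_diagonal])
      (fun d z i => by
        show (Matrix.fromBlocks _ 0 0 (Matrix.diagonal fun i => (((d i)⁻¹ : Fˣ) : F)).transpose *ᵥ z) (Sum.inr i) = _
        rw [Matrix.fromBlocks_mulVec, Matrix.diagonal_transpose]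
        simp [Matrix.mulVec_diagonal])
      (fun d z j hj => by rcases j with j | j; exacts [absurd rfl (hj j).1, absurd rfl (hj j).2]) d]
  exact DFunLike.congr_fun key A

end Cfsg.Agent.AutPOmega
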