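import Cfsg.Agent.Lib.AutPOmega.SpinorApps

/-!
Transitivity of Ω on totally singular and on non-degenerate subspaces: Witt's theorem combined with stabilisers
on which the spinor invariant takes all its values.
-/

set_option autoImplicit false

namespace Cfsg.Agent.AutPOmega

open Matrix QuadraticMap Module
open Cfsg.Agent.Orth (SpinVal SqCls sqc reflVal sgn qPlus IsMaxSing)
open Cfsg.Agent.Transvec (mv mv_mul mv_inj mv_inv_mv mv_mv_inv ext_mv)

variable {ι : Type} [Fintype ι] [DecidableEq ι] {F : Type*} [Field F] {q : QuadraticForm F (ι → F)}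

/-- Witt's theorem for the matrix isometry group. -/
theorem exists_iso_map (hQ : (polarBilin q).Nondegenerate) {X Y : Submodule F (ι → F)} (φ : X ≃ₗ[F] Y)
    (hφ : ∀ x : X, q (φ x : ι → F) = q (x : ι → F)) : ∃ g : Cfsg.isometryGroup F (⇑q),
      X.map (Matrix.mulVecLin ((g : GL ι F) : Matrix ι ι F)) = Y ∧ ∀ x : X, mv (g : GL ι F) x = (φ x : ι → F) := by
  obtain ⟨g, hg, hgφ⟩ := Cfsg.Agent.Orth.witt_pair hQ φ hφ
  obtain ⟨g', hg'⟩ : ∃ g', g' = (Cfsg.Agent.Orth.isoEquiv q).symm ⟨g, hg⟩ := ⟨_, rfl⟩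
  have hmv : ∀ x, mv (g' : GL ι F) x = g x := fun x => by
    show ((g' : GL ι F) : Matrix ι ι F) *ᵥ x = _
    rw [← Cfsg.Agent.Orth.isoEquiv_apply, hg', MulEquiv.apply_symm_apply]
  refine ⟨g', ?_, fun x => (hmv x).trans (hgφ x)⟩
  ext y
  constructor
  · rintro ⟨x, hx, rfl⟩
    rw [Matrix.mulVecLin_apply]
    show mv (g' : GL ι F) x ∈ Y
    rw [hmv, hgφ ⟨x, hx⟩]
    exact (φ _).2
  · intro hy
    refine ⟨_, (φ.symm ⟨y, hy⟩).2, ?_⟩
    rw [Matrix.mulVecLin_apply]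
    show mv (g' : GL ι F) _ = y
    rw [hmv, hgφ, φ.apply_symm_apply]

theorem map_eq_self (g : Cfsg.isometryGroup F (⇑q)) {U : Submodule F (ι → F)}
    (h : ∀ u ∈ U, mv (g : GL ι F) u ∈ U) : U.map (Matrix.mulVecLin ((g : GL ι F) : Matrix ι ι F)) = U := by
  refine Submodule.eq_of_le_of_finrank_eq ?_
    (Submodule.equivMapOfInjective _ (fun x y e => mv_inj (g : GL ι F) e) U).finrank_eq.symm
  rintro _ ⟨u, hu, rfl⟩
  exact h u hu

theorem map_mul_iso (g h : Cfsg.isometryGroup F (⇑q)) (U : Submodule F (ι → F)) :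
    U.map (Matrix.mulVecLin (((g * h : Cfsg.isometryGroup F (⇑q)) : GL ι F) : Matrix ι ι F)) =
      (U.map (Matrix.mulVecLin ((h : GL ι F) : Matrix ι ι F))).map
        (Matrix.mulVecLin ((g : GL ι F) : Matrix ι ι F)) := by
  rw [← Submodule.map_comp, Subgroup.coe_mul, Units.val_mul, Matrix.mulVecLin_mul]

theorem exists_map_omega {χ : Cfsg.isometryGroup F (⇑q) →* SpinVal F} (hker : χ.ker = Cfsg.Omega F (⇑q))
    {U W : Submodule F (ι → F)} {g : Cfsg.isometryGroup F (⇑q)}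
    (hgU : U.map (Matrix.mulVecLin ((g : GL ι F) : Matrix ι ι F)) = W)
    {h : Cfsg.isometryGroup F (⇑q)} (hh : ∀ u ∈ U, mv (h : GL ι F) u ∈ U) (hv : χ g * χ h = 1) :
    ∃ g' : Cfsg.isometryGroup F (⇑q), g' ∈ Cfsg.Omega F (⇑q) ∧
      U.map (Matrix.mulVecLin ((g' : GL ι F) : Matrix ι ι F)) = W :=
  ⟨g * h, by rw [← hker, MonoidHom.mem_ker, map_mul, hv], by rw [map_mul_iso, map_eq_self h hh, hgU]⟩

/-- Non-degenerate subspaces. -/
theorem omega_trans_nondeg [Fintype F] (hn : 3 ≤ Fintype.card ι) (h : Fintype.card F ≠ 2 ∨ Fintype.card ι ≠ 4)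
    (hQ : (polarBilin q).Nondegenerate) {U W : Submodule F (ι → F)}
    (hU : ∀ a ∈ U, (∀ b ∈ U, polar q a b = 0) → a = 0) (φ : U ≃ₗ[F] W)
    (hφ : ∀ x : U, q (φ x : ι → F) = q (x : ι → F)) :
    ∃ g' : Cfsg.isometryGroup F (⇑q), g' ∈ Cfsg.Omega F (⇑q) ∧
      U.map (Matrix.mulVecLin ((g' : GL ι F) : Matrix ι ι F)) = W := by
  obtain ⟨χ, hker, -, hrefl⟩ := Cfsg.Agent.Orth.exists_matrix_spinor q hQ (by omega) h
  obtain ⟨g, hgU, -⟩ := exists_iso_map hQ φ hφ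
  have hdim := Cfsg.Agent.Orth.finrank_perp hU
  rw [Module.finrank_fintype_fun_eq_card] at hdim
  have hval : ∀ c : Fˣ, ∃ r : Cfsg.isometryGroup F (⇑q), (∀ u ∈ U, mv (r : GL ι F) u ∈ U) ∧
      χ r = (Multiplicative.ofAdd 1, sqc F (c : F)) := by
    intro c
    obtain ⟨a, hav, haU⟩ : ∃ a, q a = (c : F) ∧ (a ∈ U ∨ a ∈ Cfsg.Agent.Orth.perp q U) := by
      by_cases h2U : 2 ≤ finrank F U
      · obtain ⟨a, ha⟩ := Cfsg.Agent.Orth.exists_value (Cfsg.Agent.Orth.nondeg_restr hU) h2U (c : F)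
        exact ⟨a, ha, Or.inl a.2⟩
      · obtain ⟨a, ha⟩ := Cfsg.Agent.Orth.exists_value
          (Cfsg.Agent.Orth.nondeg_restr (Cfsg.Agent.Orth.perp_nondeg hQ hU))
          (show 2 ≤ finrank F ↥(Cfsg.Agent.Orth.perp q U) by omega) (c : F)
        exact ⟨a, ha, Or.inr a.2⟩
    have ha0 : q a ≠ 0 := by rw [hav]; exact c.ne_zero
    obtain ⟨r, hr, -⟩ := Cfsg.Agent.Orth.exists_reflection q ha0
    refine ⟨r, fun u hu => ?_, by rw [hrefl r a ha0 hr, reflVal, hav]⟩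
    show ((r : GL ι F) : Matrix ι ι F) *ᵥ u ∈ U
    rw [hr, Cfsg.Agent.Orth.reflectionMatrix_mulVec]
    rcases haU with haU | haU
    · exact U.sub_mem hu (U.smul_mem _ haU)
    · rw [haU u hu, zero_div, zero_smul, sub_zero]
      exact hu
  obtain ⟨e, he⟩ : ∃ e, e = (χ g)⁻¹ := ⟨_, rfl⟩
  obtain ⟨c, hc⟩ := QuotientGroup.mk_surjective e.2
  rw [← Cfsg.Agent.Orth.sqc_unit] at hc
  obtain ⟨r, hr, hrv⟩ := hval c
  rcases zmod_two_cases e.1 with h1 | h1
  · obtain ⟨r', hr', hrv'⟩ := hval 1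
    refine exists_map_omega hker hgU (h := r * r') (fun u hu => by rw [Subgroup.coe_mul, mv_mul]; exact hr _ (hr' u hu)) ?_
    rw [map_mul, hrv, hrv', Units.val_one, Cfsg.Agent.Orth.sqc_one, ← inv_inv (χ g), ← he, inv_mul_eq_one]
    refine Prod.ext ?_ ?_
    · rw [h1]; exact (show Multiplicative.ofAdd (1 : ZMod 2) * Multiplicative.ofAdd 1 = 1 by decide).symm
    · show e.2 = sqc F (c : F) * 1
      rw [mul_one, hc]
  · refine exists_map_omega hker hgU hr ?_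
    rw [hrv, ← inv_inv (χ g), ← he, inv_mul_eq_one]
    exact Prod.ext h1 hc.symm

/-- Totally singular subspaces that are not maximal. -/
theorem omega_trans_singular [Fintype F] (h : Fintype.card F ≠ 2 ∨ Fintype.card ι ≠ 4)
    (hQ : (polarBilin q).Nondegenerate) {U W : Submodule F (ι → F)} {k : ℕ} (hk : 2 * k < Fintype.card ι)
    (hU : finrank F U = k) (hW : finrank F W = k) (hU0 : ∀ u ∈ U, q u = 0) (hW0 : ∀ w ∈ W, q w = 0) :
    ∃ g' : Cfsg.isometryGroup F (⇑q), g' ∈ Cfsg.Omega F (⇑q) ∧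
      U.map (Matrix.mulVecLin ((g' : GL ι F) : Matrix ι ι F)) = W := by
  rcases Nat.eq_zero_or_pos k with rfl | hk0
  · refine ⟨1, Subgroup.one_mem _, ?_⟩
    rw [Submodule.finrank_eq_zero.1 hU, Submodule.finrank_eq_zero.1 hW, Submodule.map_bot]
  obtain ⟨χ, hker, -, hrefl⟩ := Cfsg.Agent.Orth.exists_matrix_spinor q hQ (by omega) h
  obtain ⟨g, hgU, -⟩ := exists_iso_map hQ (LinearEquiv.ofFinrankEq U W (hU.trans hW.symm))
    fun x => by rw [hW0 _ (Subtype.coe_prop _), hU0 _ x.2]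
  obtain ⟨e, heU, he0⟩ : ∃ e ∈ U, e ≠ 0 := U.exists_mem_ne_zero_of_ne_bot fun hb => by
    rw [hb, finrank_bot] at hU; omega
  obtain ⟨f, hef, hf⟩ := Cfsg.Agent.Orth.exists_partner hQ he0 (hU0 e heU)
  have hperp := Cfsg.Agent.Orth.finrank_perp_eq hQ U
  rw [Module.finrank_fintype_fun_eq_card, hU] at hperp
  obtain ⟨z, hzU, hz⟩ : ∃ z ∈ Cfsg.Agent.Orth.perp q U, q z ≠ 0 := by
    by_contra hcon
    push Not at hcon
    have := Cfsg.Agent.Orth.finrank_singular_le hQ hcon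
    rw [Module.finrank_fintype_fun_eq_card] at this
    omega
  obtain ⟨rz, hrz, -⟩ := Cfsg.Agent.Orth.exists_reflection q hz
  have hrzU : ∀ u ∈ U, mv (rz : GL ι F) u ∈ U := fun u hu => by
    show ((rz : GL ι F) : Matrix ι ι F) *ᵥ u ∈ U
    rw [hrz, Cfsg.Agent.Orth.reflectionMatrix_mulVec, hzU u hu, zero_div, zero_smul, sub_zero]
    exact hu
  have htor : ∀ c : Fˣ, ∃ r : Cfsg.isometryGroup F (⇑q), (∀ u ∈ U, mv (r : GL ι F) u ∈ U) ∧
      χ r = (1, sqc F (c : F)) := by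
    intro c
    have hqe := hU0 e heU
    have hv1 : ∀ s : F, q (e + s • f) = s := fun s => by
      rw [Cfsg.Agent.Orth.q_add, Cfsg.Agent.Orth.q_smul, Cfsg.Agent.Orth.b_smul_right, hqe, hf, hef]; ring
    obtain ⟨r₁, e₁, -⟩ := Cfsg.Agent.Orth.exists_reflection q (v := e + (1 : F) • f) (by rw [hv1]; exact one_ne_zero)
    obtain ⟨r₂, e₂, -⟩ := Cfsg.Agent.Orth.exists_reflection q (v := e + (c : F) • f) (by rw [hv1]; exact c.ne_zero)
    refine ⟨r₂ * r₁, fun u hu => ?_, ?_⟩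
    · rw [Subgroup.coe_mul, mv_mul]
      show ((r₂ : GL ι F) : Matrix ι ι F) *ᵥ (((r₁ : GL ι F) : Matrix ι ι F) *ᵥ u) ∈ U
      rw [e₁, e₂, Cfsg.Agent.Orth.reflectionMatrix_mulVec, Cfsg.Agent.Orth.reflectionMatrix_mulVec, hv1, hv1]
      have hue : polar q u e = 0 := Cfsg.Agent.Orth.b_eq_zero_of_singular hU0 hu heU
      have hee : polar q e e = 0 := Cfsg.Agent.Orth.b_eq_zero_of_singular hU0 heU heU
      have hff : polar q f f = 0 := by rw [Cfsg.Agent.Orth.b_self, hf, mul_zero]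
      have hfe : polar q f e = 1 := by rw [Cfsg.Agent.Orth.b_comm, hef]
      simp only [one_smul, div_one, Cfsg.Agent.Orth.b_sub_left, Cfsg.Agent.Orth.b_smul_left,
        Cfsg.Agent.Orth.b_add_left, Cfsg.Agent.Orth.b_add_right, Cfsg.Agent.Orth.b_smul_right, hue, hee, hff,
        hfe, hef]
      have hc := c.ne_zero
      rw [show u - (0 + polar q u f) • (e + f) - ((0 - (0 + polar q u f) * (0 + 1) + (c : F) * (polar q u f -
          (0 + polar q u f) * (1 + 0))) / (c : F)) • (e + (c : F) • f) =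
          u + (polar q u f / (c : F) - polar q u f) • e from by
        match_scalars <;> field_simp <;> ring]
      exact U.add_mem hu (U.smul_mem _ heU)
    · rw [map_mul, hrefl r₁ _ (by rw [hv1]; exact one_ne_zero) e₁, hrefl r₂ _ (by rw [hv1]; exact c.ne_zero) e₂]
      refine Prod.ext (show Multiplicative.ofAdd (1 : ZMod 2) * Multiplicative.ofAdd 1 = 1 by decide) ?_
      show sqc F (q _) * sqc F (q _) = _
      rw [hv1, hv1, Cfsg.Agent.Orth.sqc_one, mul_one]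
  obtain ⟨v, hv⟩ : ∃ v, v = (χ g)⁻¹ := ⟨_, rfl⟩
  rcases zmod_two_cases v.1 with h1 | h1
  · obtain ⟨c, hc⟩ := QuotientGroup.mk_surjective v.2
    rw [← Cfsg.Agent.Orth.sqc_unit] at hc
    obtain ⟨r, hr, hrv⟩ := htor c
    refine exists_map_omega hker hgU hr ?_
    rw [hrv, ← inv_inv (χ g), ← hv, inv_mul_eq_one]
    exact Prod.ext h1 hc.symm
  · obtain ⟨c, hc⟩ := QuotientGroup.mk_surjective (v.2 / sqc F (q z))
    rw [← Cfsg.Agent.Orth.sqc_unit] at hc
    obtain ⟨r, hr, hrv⟩ := htor c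
    refine exists_map_omega hker hgU (h := rz * r) (fun u hu => by rw [Subgroup.coe_mul, mv_mul]; exact hrzU _ (hr u hu)) ?_
    rw [map_mul, hrv, hrefl rz z hz hrz, ← inv_inv (χ g), ← hv, inv_mul_eq_one]
    refine Prod.ext (by rw [h1]; exact (mul_one _).symm) ?_
    show v.2 = sqc F (q z) * sqc F (c : F)
    rw [hc]
    exact (mul_div_cancel (sqc F (q z)) v.2).symm

end Cfsg.Agent.AutPOmega
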